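import Mathlib

/-!
# S2156 module `[FIELD]` (helper87): an additive map with `f(t²u) = f(t)² f(u)` is multiplicative
-/

set_option autoImplicit false

namespace Cfsg.Agent.Lib.Helper87.Aut

universe u

variable {F : Type u} [Field F]

/-- MODULE [FIELD] -/
theorem mul_of_sq_rel [Finite F] (f : F → F) (hadd : ∀ a b, f (a + b) = f a + f b) (h1 : f 1 = 1)
    (hsq : ∀ t u : F, t ≠ 0 → f (t ^ 2 * u) = (f t) ^ 2 * f u) : ∀ a b, f (a * b) = f a * f b := by
  have h0 : f 0 = 0 := by
    have := hadd 0 0
    rw [add_zero] at this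
    exact left_eq_add.mp this
  have hsq1 : ∀ t : F, f (t ^ 2) = (f t) ^ 2 := by
    intro t
    by_cases ht : t = 0
    · rw [ht]
      simp [h0]
    · have := hsq t 1 ht
      rwa [mul_one, h1, mul_one] at this
  by_cases h2 : (2 : F) = 0
  · -- characteristic two: every element is a square
    have hchar : ringChar F = 2 := by
      have : CharP F 2 := by
        apply CharTwo.of_one_ne_zero_of_two_eq_zero one_ne_zero h2
      exact ringChar.eq F 2
    intro a b
    obtain ⟨s, hs⟩ := FiniteField.isSquare_of_char_two hchar a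
    by_cases hs0 : s = 0
    · rw [hs, hs0]
      simp [h0]
    · rw [hs, ← pow_two, hsq s b hs0, hsq1]
  · intro a b
    have e1 : f ((a + b) ^ 2) = (f a + f b) ^ 2 := by rw [hsq1, hadd]
    have e2 : (a + b) ^ 2 = a ^ 2 + (a * b + a * b) + b ^ 2 := by ring
    rw [e2, hadd, hadd, hadd, hsq1, hsq1] at e1
    have e3 : (2 : F) * f (a * b) = 2 * (f a * f b) := by
      have : f a ^ 2 + (f (a * b) + f (a * b)) + f b ^ 2 = (f a + f b) ^ 2 := e1
      linear_combination this
    exact mul_left_cancel₀ h2 e3

end Cfsg.Agent.Lib.Helper87.Aut
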