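/-
helper87: core API for `Cfsg.FusionSystem` (restriction, transport, isomorphisms, automorphism groups).
All declarations live in `Cfsg.Agent.Lib.Helper87`.
-/
import Cfsg.Prelude.Def_FusionSystem

set_option autoImplicit false

namespace Cfsg.Agent.Lib.Helper87

open Cfsg Cfsg.FusionSystem

variable {Ω : Type*} [Group Ω] {S : Subgroup Ω}

/-! ### Basic membership facts -/

theorem hom_le (F : FusionSystem S) {P : Subgroup Ω} {φ : P →* Ω} (h : φ ∈ F.Hom P) : P ≤ S :=
  (F.le_of_mem h).1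

theorem hom_map_mem (F : FusionSystem S) {P : Subgroup Ω} {φ : P →* Ω} (h : φ ∈ F.Hom P) (x : P) :
    φ x ∈ S :=
  (F.le_of_mem h).2 x

theorem hom_range_le (F : FusionSystem S) {P : Subgroup Ω} {φ : P →* Ω} (h : φ ∈ F.Hom P) :
    φ.range ≤ S := by
  rintro _ ⟨x, rfl⟩
  exact hom_map_mem F h x

theorem conjHom_apply (P : Subgroup Ω) (g : Ω) (x : P) : conjHom P g x = g * (x : Ω) * g⁻¹ := rfl

theorem conjHom_one (P : Subgroup Ω) : conjHom P 1 = P.subtype := by
  ext x
  simp [conjHom_apply]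

/-- The inclusion of a subgroup of `S` is a map of the system. -/
theorem subtype_mem (F : FusionSystem S) {P : Subgroup Ω} (hP : P ≤ S) : P.subtype ∈ F.Hom P := by
  have h := F.conj_mem (P := P) (g := 1) hP S.one_mem
  rwa [conjHom_one] at h

/-- Restriction of a map of the system to a smaller subgroup. -/
theorem restrict_mem (F : FusionSystem S) {P Q : Subgroup Ω} {φ : P →* Ω} (h : φ ∈ F.Hom P)
    (hQP : Q ≤ P) : φ.comp (Subgroup.inclusion hQP) ∈ F.Hom Q := by
  have hQ : Q ≤ S := hQP.trans (hom_le F h)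
  have := F.comp_mem (subtype_mem F hQ) h (fun x => hQP x.2)
  exact this

/-- Transport: a homomorphism that agrees pointwise with a map of the system on an equal source is a map of
the system. -/
theorem hom_of_eq_on (F : FusionSystem S) {P P' : Subgroup Ω} (hPP' : P = P') {φ : P →* Ω} {φ' : P' →* Ω}
    (hφ : φ ∈ F.Hom P) (heq : ∀ (x : Ω) (hx : x ∈ P) (hx' : x ∈ P'), φ' ⟨x, hx'⟩ = φ ⟨x, hx⟩) :
    φ' ∈ F.Hom P' := by
  subst hPP'
  have : φ' = φ := by
    ext x
    exact heq x.1 x.2 x.2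
  rw [this]
  exact hφ

/-- Restriction, in pointwise form. -/
theorem restrict_mem' (F : FusionSystem S) {P Q : Subgroup Ω} {φ : P →* Ω} (h : φ ∈ F.Hom P)
    (hQP : Q ≤ P) {ψ : Q →* Ω} (heq : ∀ x : Q, ψ x = φ ⟨x.1, hQP x.2⟩) : ψ ∈ F.Hom Q := by
  have : ψ = φ.comp (Subgroup.inclusion hQP) := by
    ext x
    exact heq x
  rw [this]
  exact restrict_mem F h hQP

/-- Composition in pointwise form. -/
theorem comp_mem' (F : FusionSystem S) {P Q : Subgroup Ω} {φ : P →* Ω} {ψ : Q →* Ω}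
    (hφ : φ ∈ F.Hom P) (hψ : ψ ∈ F.Hom Q) (h : ∀ x : P, φ x ∈ Q) {χ : P →* Ω}
    (heq : ∀ x : P, χ x = ψ ⟨φ x, h x⟩) : χ ∈ F.Hom P := by
  have : χ = ψ.comp (φ.codRestrict Q h) := by
    ext x
    exact heq x
  rw [this]
  exact F.comp_mem hφ hψ h

/-! ### Isomorphisms of the system -/

/-- `e : P ≃* Q` is an isomorphism of the system. -/
def IsIso (F : FusionSystem S) {P Q : Subgroup Ω} (e : P ≃* Q) : Prop :=
  Q.subtype.comp e.toMonoidHom ∈ F.Hom P

theorem IsIso.le_left {F : FusionSystem S} {P Q : Subgroup Ω} {e : P ≃* Q} (h : IsIso F e) : P ≤ S :=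
  hom_le F h

theorem IsIso.le_right {F : FusionSystem S} {P Q : Subgroup Ω} {e : P ≃* Q} (h : IsIso F e) : Q ≤ S := by
  intro y hy
  have := hom_map_mem F h (e.symm ⟨y, hy⟩)
  simpa using this

theorem isIso_refl (F : FusionSystem S) {P : Subgroup Ω} (hP : P ≤ S) : IsIso F (MulEquiv.refl P) := by
  have := subtype_mem F hP
  exact this

theorem IsIso.trans {F : FusionSystem S} {P Q R : Subgroup Ω} {e : P ≃* Q} {f : Q ≃* R}
    (he : IsIso F e) (hf : IsIso F f) : IsIso F (e.trans f) := by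
  refine comp_mem' F he hf (fun x => (e x).2) ?_
  intro x
  rfl

theorem range_subtype_comp {P Q : Subgroup Ω} (e : P ≃* Q) : (Q.subtype.comp e.toMonoidHom).range = Q := by
  ext y
  constructor
  · rintro ⟨x, rfl⟩
    exact (e x).2
  · intro hy
    exact ⟨e.symm ⟨y, hy⟩, by simp⟩

theorem IsIso.symm {F : FusionSystem S} {P Q : Subgroup Ω} {e : P ≃* Q} (he : IsIso F e) :
    IsIso F e.symm := by
  obtain ⟨ψ, hψ, hinv⟩ := F.inv_mem he
  refine hom_of_eq_on F (range_subtype_comp e) hψ ?_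
  intro y hy hy'
  have h1 := hinv (e.symm ⟨y, hy'⟩)
  have h2 : (⟨(Q.subtype.comp e.toMonoidHom) (e.symm ⟨y, hy'⟩), ⟨e.symm ⟨y, hy'⟩, rfl⟩⟩ :
      (Q.subtype.comp e.toMonoidHom).range) = ⟨y, hy⟩ := by
    apply Subtype.ext
    simp
  rw [h2] at h1
  rw [h1]
  rfl

/-- Every map of the system is an isomorphism of the system onto its range. -/
theorem isIso_ofInjective (F : FusionSystem S) {P : Subgroup Ω} {φ : P →* Ω} (hφ : φ ∈ F.Hom P) :
    IsIso F (MonoidHom.ofInjective (F.injective_of_mem hφ)) := by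
  have : (φ.range).subtype.comp (MonoidHom.ofInjective (F.injective_of_mem hφ)).toMonoidHom = φ := by
    ext x
    rfl
  unfold IsIso
  rw [this]
  exact hφ

theorem isConj_iff (F : FusionSystem S) {P Q : Subgroup Ω} :
    F.IsConj P Q ↔ ∃ e : P ≃* Q, IsIso F e := by
  constructor
  · rintro ⟨φ, hφ, rfl⟩
    exact ⟨_, isIso_ofInjective F hφ⟩
  · rintro ⟨e, he⟩
    exact ⟨_, he, range_subtype_comp e⟩

theorem isConj_refl (F : FusionSystem S) {P : Subgroup Ω} (hP : P ≤ S) : F.IsConj P P :=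
  (isConj_iff F).2 ⟨_, isIso_refl F hP⟩

theorem IsConj_symm {F : FusionSystem S} {P Q : Subgroup Ω} (h : F.IsConj P Q) : F.IsConj Q P := by
  obtain ⟨e, he⟩ := (isConj_iff F).1 h
  exact (isConj_iff F).2 ⟨_, he.symm⟩

theorem IsConj_trans {F : FusionSystem S} {P Q R : Subgroup Ω} (h : F.IsConj P Q) (h' : F.IsConj Q R) :
    F.IsConj P R := by
  obtain ⟨e, he⟩ := (isConj_iff F).1 h
  obtain ⟨f, hf⟩ := (isConj_iff F).1 h'
  exact (isConj_iff F).2 ⟨_, he.trans hf⟩

theorem IsConj_le_left {F : FusionSystem S} {P Q : Subgroup Ω} (h : F.IsConj P Q) : P ≤ S := by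
  obtain ⟨e, he⟩ := (isConj_iff F).1 h
  exact he.le_left

theorem IsConj_le_right {F : FusionSystem S} {P Q : Subgroup Ω} (h : F.IsConj P Q) : Q ≤ S := by
  obtain ⟨e, he⟩ := (isConj_iff F).1 h
  exact he.le_right

theorem IsConj_card_eq {F : FusionSystem S} {P Q : Subgroup Ω} (h : F.IsConj P Q) :
    Nat.card P = Nat.card Q := by
  obtain ⟨e, -⟩ := (isConj_iff F).1 h
  exact Nat.card_congr e.toEquiv

/-- A map of the system composed (on the left) with an isomorphism of the system out of a subgroup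
containing its image. -/
theorem IsIso.comp_hom {F : FusionSystem S} {P Q R : Subgroup Ω} {f : Q ≃* R} (hf : IsIso F f)
    {φ : P →* Ω} (hφ : φ ∈ F.Hom P) (h : ∀ x : P, φ x ∈ Q) {χ : P →* Ω}
    (heq : ∀ x : P, χ x = (f ⟨φ x, h x⟩ : Ω)) : χ ∈ F.Hom P :=
  comp_mem' F hφ hf h heq

/-- An isomorphism of the system restricted to a subgroup of its source, as a map. -/
theorem IsIso.restrict_hom {F : FusionSystem S} {P Q : Subgroup Ω} {e : P ≃* Q} (he : IsIso F e)
    {P' : Subgroup Ω} (hP' : P' ≤ P) {χ : P' →* Ω} (heq : ∀ x : P', χ x = (e ⟨x.1, hP' x.2⟩ : Ω)) :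
    χ ∈ F.Hom P' :=
  restrict_mem' F he hP' heq

/-! ### The automorphism group `Aut_F(P)` -/

/-- The automorphisms of `P` that are maps of the system, as a subgroup of `Aut(P)` (for `P ≤ S`). -/
def autSub (F : FusionSystem S) (P : Subgroup Ω) (hP : P ≤ S) : Subgroup (MulAut P) where
  carrier := {α | IsIso F (α : P ≃* P)}
  one_mem' := isIso_refl F hP
  mul_mem' := by
    intro a b ha hb
    exact IsIso.trans (e := (b : P ≃* P)) (f := (a : P ≃* P)) hb ha
  inv_mem' := by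
    intro a ha
    exact IsIso.symm (e := (a : P ≃* P)) ha

theorem autGroup_eq_autSub (F : FusionSystem S) (P : Subgroup Ω) (hP : P ≤ S) :
    F.autGroup P = autSub F P hP := by
  unfold FusionSystem.autGroup
  exact Subgroup.closure_eq (autSub F P hP)

theorem mem_autGroup_iff (F : FusionSystem S) {P : Subgroup Ω} (hP : P ≤ S) {α : MulAut P} :
    α ∈ F.autGroup P ↔ IsIso F (α : P ≃* P) := by
  rw [autGroup_eq_autSub F P hP]
  rfl

/-! ### `Aut_K(P)` -/

/-- The automorphisms of `P` induced by conjugation by elements of `K`, as a subgroup. -/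
def autIndSub (K P : Subgroup Ω) : Subgroup (MulAut P) where
  carrier := {α | ∃ g ∈ K, ∀ x : P, ((α x : P) : Ω) = g * (x : Ω) * g⁻¹}
  one_mem' := ⟨1, K.one_mem, fun x => by simp⟩
  mul_mem' := by
    rintro a b ⟨g, hg, hga⟩ ⟨h, hh, hhb⟩
    refine ⟨g * h, K.mul_mem hg hh, fun x => ?_⟩
    rw [MulAut.mul_apply, hga, hhb]
    simp [mul_assoc]
  inv_mem' := by
    rintro a ⟨g, hg, hga⟩
    refine ⟨g⁻¹, K.inv_mem hg, fun x => ?_⟩
    have := hga (a⁻¹ x)
    rw [MulAut.apply_inv_self] at this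
    rw [this]
    simp [mul_assoc]

theorem autInducedBy_eq_autIndSub (K P : Subgroup Ω) : autInducedBy K P = autIndSub K P := by
  unfold autInducedBy
  exact Subgroup.closure_eq (autIndSub K P)

theorem mem_autInducedBy_iff {K P : Subgroup Ω} {α : MulAut P} :
    α ∈ autInducedBy K P ↔ ∃ g ∈ K, ∀ x : P, ((α x : P) : Ω) = g * (x : Ω) * g⁻¹ := by
  rw [autInducedBy_eq_autIndSub]
  rfl

/-- `Aut_S(P) ≤ Aut_F(P)`. -/
theorem autInducedBy_le_autGroup (F : FusionSystem S) {P : Subgroup Ω} (hP : P ≤ S) :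
    autInducedBy S P ≤ F.autGroup P := by
  intro α hα
  obtain ⟨g, hg, hgα⟩ := mem_autInducedBy_iff.1 hα
  rw [mem_autGroup_iff F hP]
  have := F.conj_mem (P := P) (g := g) hP hg
  refine hom_of_eq_on F rfl this ?_
  intro x hx _
  exact hgα ⟨x, hx⟩

end Cfsg.Agent.Lib.Helper87
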