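/-
helper87: saturation layer for `Cfsg.FusionSystem`: Sylow conjugation in `Aut_F(P)`, the extension lemma for fully
automized receptive subgroups, a weak form of Alperin's fusion theorem as an induction principle, and the nilpotency
criterion (all `Aut_F(P)` are `p`-groups implies the system is the inner one).
All declarations live in `Cfsg.Agent.Lib.Helper87`.
-/
import Cfsg.Agent.Lib.Helper87.FusionCore

set_option autoImplicit false

namespace Cfsg.Agent.Lib.Helper87
open Cfsg Cfsg.FusionSystem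
open scoped Pointwise

theorem exists_conj_mem_sylow {G : Type*} [Group G] [Finite G] {p : ℕ} [Fact p.Prime] (R : Sylow p G)
    {H : Subgroup G} (hH : IsPGroup p H) : ∃ c : G, ∀ h ∈ H, c * h * c⁻¹ ∈ R := by
  obtain ⟨Q, hQ⟩ := hH.exists_le_sylow
  obtain ⟨c, hc⟩ := MulAction.exists_smul_eq G Q R
  refine ⟨c, fun h hh => ?_⟩
  rw [← hc]
  have h1 : MulAut.conj c • h ∈ MulAut.conj c • (Q : Subgroup G) :=
    Subgroup.smul_mem_pointwise_smul h (MulAut.conj c) (Q : Subgroup G) (hQ hh)
  have h2 : MulAut.conj c • h = c * h * c⁻¹ := by simp [MulAut.smul_def]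
  rw [h2] at h1
  exact h1

variable {Ω : Type*} [Group Ω] {S : Subgroup Ω}

theorem finite_of_le [Finite S] {P : Subgroup Ω} (hP : P ≤ S) : Finite P :=
  Finite.of_injective (Subgroup.inclusion hP) (Subgroup.inclusion_injective hP)

/-- Transport of `Aut_F` along an isomorphism of the system. -/
theorem congr_mem_autGroup (F : FusionSystem S) {P Q : Subgroup Ω} {e : Q ≃* P} (he : IsIso F e)
    {α : MulAut Q} (hα : α ∈ F.autGroup Q) : MulAut.congr e α ∈ F.autGroup P := by
  rw [mem_autGroup_iff F he.le_right]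
  rw [mem_autGroup_iff F he.le_left] at hα
  exact (he.symm.trans hα).trans he

theorem congr_mem_autGroup_iff (F : FusionSystem S) {P Q : Subgroup Ω} {e : Q ≃* P} (he : IsIso F e)
    {α : MulAut Q} : MulAut.congr e α ∈ F.autGroup P ↔ α ∈ F.autGroup Q := by
  constructor
  · intro h
    have := congr_mem_autGroup F he.symm h
    have h2 : MulAut.congr e.symm (MulAut.congr e α) = α := by
      ext x
      simp [MulAut.congr]
    rwa [h2] at this
  · exact congr_mem_autGroup F he

/-- powers of an automorphism induced by conjugation -/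
theorem conj_pow_apply {P : Subgroup Ω} {α : MulAut P} {g : Ω}
    (h : ∀ x : P, ((α x : P) : Ω) = g * (x : Ω) * g⁻¹) (n : ℕ) (x : P) :
    (((α ^ n) x : P) : Ω) = g ^ n * (x : Ω) * (g ^ n)⁻¹ := by
  induction n generalizing x with
  | zero => simp
  | succ n ih =>
    rw [pow_succ, MulAut.mul_apply, ih, h, pow_succ]
    simp [mul_assoc]

/-- `Aut_S(P)` is a `p`-group when `S` is. -/
theorem autInducedBy_isPGroup {p : ℕ} (hS : IsPGroup p S) (P : Subgroup Ω) :
    IsPGroup p (autInducedBy S P) := by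
  rintro ⟨α, hα⟩
  obtain ⟨g, hg, hgα⟩ := mem_autInducedBy_iff.1 hα
  obtain ⟨k, hk⟩ := hS ⟨g, hg⟩
  refine ⟨k, ?_⟩
  apply Subtype.ext
  show α ^ p ^ k = 1
  ext x
  rw [conj_pow_apply hgα]
  have : g ^ p ^ k = 1 := by
    have := congrArg Subtype.val hk
    simpa using this
  simp [this]

theorem normalizerIn_le (S P : Subgroup Ω) : normalizerIn S P ≤ S := inf_le_left

theorem le_normalizerIn {P : Subgroup Ω} (hP : P ≤ S) : P ≤ normalizerIn S P :=
  le_inf hP Subgroup.le_normalizer

/-- The automorphism of `P` induced by conjugation by `g ∈ N(P)`. -/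
noncomputable def conjAut (P : Subgroup Ω) (g : Ω) (hg : g ∈ Subgroup.normalizer (P : Set Ω)) : MulAut P :=
  Subgroup.normalizerMonoidHom P ⟨g, hg⟩

theorem conjAut_apply (P : Subgroup Ω) (g : Ω) (hg : g ∈ Subgroup.normalizer (P : Set Ω)) (x : P) :
    ((conjAut P g hg x : P) : Ω) = g * (x : Ω) * g⁻¹ := rfl

theorem extender_le (S P : Subgroup Ω) (φ : P →* Ω) : extender S P φ ≤ normalizerIn S P := by
  unfold extender
  rw [Subgroup.closure_le]
  rintro g ⟨hgS, hgN, -⟩
  exact ⟨hgS, hgN⟩

/-- **Extension lemma.** If `P` is fully automized and receptive and `Q` is conjugate to `P` in the system, then some map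
of the system defined on `N_S(Q)` carries `Q` isomorphically onto `P` (and so `N_S(Q)` into `N_S(P)`). -/
theorem exists_extension (F : FusionSystem S) [Finite S] {p : ℕ} [Fact p.Prime] (hS : IsPGroup p S)
    {P Q : Subgroup Ω} (hPa : F.IsFullyAutomized p P) (hPr : F.IsReceptive P) (hQP : F.IsConj Q P) :
    ∃ (ψ : normalizerIn S Q →* Ω) (e : Q ≃* P), ψ ∈ F.Hom (normalizerIn S Q) ∧ IsIso F e ∧
      (∀ (x : Ω) (hx : x ∈ Q) (hx' : x ∈ normalizerIn S Q), ψ ⟨x, hx'⟩ = e ⟨x, hx⟩) := by
  obtain ⟨e₀, he₀⟩ := (isConj_iff F).1 hQP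
  have hQS : Q ≤ S := he₀.le_left
  have hPS : P ≤ S := he₀.le_right
  have : Finite P := finite_of_le hPS
  obtain ⟨-, R, hR⟩ := hPa
  let Φ := (MulAut.congr e₀).toMonoidHom
  let H : Subgroup (F.autGroup P) := ((autInducedBy S Q).map Φ).subgroupOf (F.autGroup P)
  have hH : IsPGroup p H := ((autInducedBy_isPGroup hS Q).map Φ).comap_subtype
  obtain ⟨c, hc⟩ := exists_conj_mem_sylow R hH
  let e : Q ≃* P := e₀.trans (c : MulAut P)
  have he : IsIso F e := he₀.trans ((mem_autGroup_iff F hPS).1 c.2)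
  have key : ∀ g (hg : g ∈ normalizerIn S Q), ∃ h ∈ S, ∀ (x : Q) (hx : g * (x : Ω) * g⁻¹ ∈ Q),
      (e ⟨g * x * g⁻¹, hx⟩ : Ω) = h * e x * h⁻¹ := by
    intro g hg
    let γ : MulAut Q := conjAut Q g hg.2
    have hγ : γ ∈ autInducedBy S Q := mem_autInducedBy_iff.2 ⟨g, hg.1, fun x => rfl⟩
    have hγF : γ ∈ F.autGroup Q := autInducedBy_le_autGroup F hQS hγ
    have h1 : Φ γ ∈ F.autGroup P := congr_mem_autGroup F he₀ hγF
    have h2 : (⟨Φ γ, h1⟩ : F.autGroup P) ∈ H :=
      Subgroup.mem_subgroupOf.2 (Subgroup.mem_map_of_mem _ hγ)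
    have h3 := hc _ h2
    have h4 : (c * ⟨Φ γ, h1⟩ * c⁻¹ : F.autGroup P) ∈ (autInducedBy S P).subgroupOf (F.autGroup P) := by
      rw [← hR]; exact h3
    obtain ⟨h, hh, hhα⟩ := mem_autInducedBy_iff.1 (Subgroup.mem_subgroupOf.1 h4)
    refine ⟨h, hh, fun x hx => ?_⟩
    have h5 := hhα (e x)
    rw [← h5]
    have h6 : ((c * ⟨Φ γ, h1⟩ * c⁻¹ : F.autGroup P) : MulAut P) (e x) = e (γ x) := by
      simp [e, Φ, MulAut.congr]
    rw [h6]
    rfl
  let φ : Q →* Ω := P.subtype.comp e.toMonoidHom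
  have hφ : φ ∈ F.Hom Q := he
  have hφr : φ.range = P := range_subtype_comp e
  have hext : extender S Q φ = normalizerIn S Q := by
    apply le_antisymm (extender_le S Q φ)
    intro g hg
    obtain ⟨h, hh, hk⟩ := key g hg
    exact Subgroup.subset_closure ⟨hg.1, hg.2, h, hh, fun x hx => hk x hx⟩
  obtain ⟨ψ, hψ, hψe⟩ := hPr.2 Q φ hφ hφr
  let ψ' : normalizerIn S Q →* Ω := ψ.comp (MulEquiv.subgroupCongr hext.symm).toMonoidHom
  refine ⟨ψ', e, ?_, he, ?_⟩
  · exact hom_of_eq_on F hext hψ (fun x hx hx' => rfl)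
  · intro x hx hx'
    exact hψe x hx (hext ▸ hx')

/-- Normalizers grow in a finite `p`-group. -/
theorem exists_mem_normalizerIn_not_mem [Finite S] {p : ℕ} [Fact p.Prime] (hS : IsPGroup p S)
    {P : Subgroup Ω} (hP : P ≤ S) (hne : P ≠ S) : ∃ x ∈ normalizerIn S P, x ∉ P := by
  have : Group.IsNilpotent S := hS.isNilpotent
  have hnc : NormalizerCondition S := Group.normalizerCondition_of_isNilpotent
  have hlt : P.subgroupOf S < ⊤ := by
    rw [lt_top_iff_ne_top]
    intro h
    rw [Subgroup.subgroupOf_eq_top] at h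
    exact hne (le_antisymm hP h)
  have h2 := hnc _ hlt
  obtain ⟨x, hxN, hxP⟩ := SetLike.exists_of_lt h2
  rw [Subgroup.mem_normalizer_iff] at hxN
  refine ⟨(x : Ω), ⟨x.2, ?_⟩, fun h => hxP (Subgroup.mem_subgroupOf.2 h)⟩
  show (x : Ω) ∈ Subgroup.normalizer (P : Set Ω)
  rw [Subgroup.mem_normalizer_iff]
  intro n
  by_cases hn : n ∈ S
  · have := hxN ⟨n, hn⟩
    simpa [Subgroup.mem_subgroupOf] using this
  · constructor
    · intro h; exact absurd (hP h) hn
    · intro h
      exfalso
      apply hn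
      have h1 : (x : Ω) * n * (x : Ω)⁻¹ ∈ S := hP h
      have h2 : n = (x : Ω)⁻¹ * ((x : Ω) * n * (x : Ω)⁻¹) * (x : Ω) := by group
      rw [h2]
      exact S.mul_mem (S.mul_mem (S.inv_mem x.2) h1) x.2

theorem card_lt_card_normalizerIn [Finite S] {p : ℕ} [Fact p.Prime] (hS : IsPGroup p S)
    {P : Subgroup Ω} (hP : P ≤ S) (hne : P ≠ S) : Nat.card P < Nat.card (normalizerIn S P) := by
  obtain ⟨x, hxN, hxP⟩ := exists_mem_normalizerIn_not_mem hS hP hne
  have : Finite (normalizerIn S P) := finite_of_le (normalizerIn_le S P)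
  have hle : P ≤ normalizerIn S P := le_normalizerIn hP
  by_contra hlt
  push Not at hlt
  have := Subgroup.eq_of_le_of_card_ge hle hlt
  rw [this] at hxP
  exact hxP hxN

/-- An isomorphism of subgroups that is the restriction of a map of a system is an isomorphism of that system. -/
theorem isIso_of_restrict (E : FusionSystem S) {N P R : Subgroup Ω} {ψ : N →* Ω} (hψ : ψ ∈ E.Hom N)
    (hPN : P ≤ N) (e : P ≃* R) (h : ∀ (x : Ω) (hx : x ∈ P) (hx' : x ∈ N), ψ ⟨x, hx'⟩ = e ⟨x, hx⟩) :
    IsIso E e := by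
  refine restrict_mem' E hψ hPN ?_
  intro x
  exact (h x.1 x.2 (hPN x.2)).symm

/-- **Weak Alperin induction.** Let `E ≤ F` be fusion systems over the finite `p`-group `S`, with `F` saturated.
Suppose that for every fully automized receptive subgroup `R`, *if* every map of `F` defined on a subgroup of order larger
than `|R|` lies in `E`, *then* every element of `Aut_F(R)` lies in `E`. Then `E = F`. -/
theorem alperin_weak (F E : FusionSystem S) [Finite S] {p : ℕ} [Fact p.Prime] (hS : IsPGroup p S)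
    (hF : F.IsSaturated p)
    (hstep : ∀ R : Subgroup Ω, F.IsFullyAutomized p R → F.IsReceptive R →
      (∀ P' : Subgroup Ω, Nat.card R < Nat.card P' → F.Hom P' ⊆ E.Hom P') →
      ∀ α : MulAut R, α ∈ F.autGroup R → IsIso E (α : R ≃* R)) :
    ∀ P : Subgroup Ω, F.Hom P ⊆ E.Hom P := by
  intro P
  induction' hn : Nat.card S - Nat.card P using Nat.strong_induction_on with n ih generalizing P
  intro φ hφ
  have hPS : P ≤ S := hom_le F hφ
  -- the induction hypothesis in usable form
  have IH : ∀ P' : Subgroup Ω, Nat.card P < Nat.card P' → F.Hom P' ⊆ E.Hom P' := by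
    intro P' hlt φ' hφ'
    have hP'S : P' ≤ S := hom_le F hφ'
    have hle : Nat.card P' ≤ Nat.card S := Subgroup.card_le_of_le hP'S
    exact ih (Nat.card S - Nat.card P') (by omega) P' rfl hφ'
  -- the iso onto the range
  obtain ⟨Q, eφ, heφ, hφe⟩ : ∃ (Q : Subgroup Ω) (e : P ≃* Q), IsIso F e ∧ ∀ x : P, φ x = e x :=
    ⟨φ.range, MonoidHom.ofInjective (F.injective_of_mem hφ), isIso_ofInjective F hφ, fun x => rfl⟩
  have hQS : Q ≤ S := heφ.le_right
  have hcardPQ : Nat.card P = Nat.card Q := Nat.card_congr eφ.toEquiv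
  suffices hE : IsIso E eφ by
    refine hom_of_eq_on E rfl hE ?_
    intro x hx _
    exact hφe ⟨x, hx⟩
  -- saturation
  obtain ⟨R, hPR, hRa, hRr⟩ := hF P hPS
  have hQR : F.IsConj Q R := IsConj_trans (IsConj_symm ((isConj_iff F).2 ⟨eφ, heφ⟩)) hPR
  have hcardPR : Nat.card P = Nat.card R := IsConj_card_eq hPR
  obtain ⟨ψP, eP, hψP, heP, hψPe⟩ := exists_extension F hS hRa hRr hPR
  obtain ⟨ψQ, eQ, hψQ, heQ, hψQe⟩ := exists_extension F hS hRa hRr hQR
  -- the automorphism of R
  let α : MulAut R := eP.symm.trans (eφ.trans eQ)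
  have hαF : α ∈ F.autGroup R := by
    rw [mem_autGroup_iff F hRa.1]
    exact heP.symm.trans (heφ.trans heQ)
  have hαE : IsIso E (α : R ≃* R) := by
    refine hstep R hRa hRr ?_ α hαF
    intro P' hlt
    exact IH P' (by omega)
  by_cases hne : P = S
  · -- top case: everything is `S`
    have hRS : S = R := by
      have : Nat.card S ≤ Nat.card R := by rw [← hcardPR, hne]
      exact (Subgroup.eq_of_le_of_card_ge hRa.1 this).symm
    have hQS' : S = Q := by
      have : Nat.card S ≤ Nat.card Q := by rw [← hcardPQ, hne]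
      exact (Subgroup.eq_of_le_of_card_ge hQS this).symm
    have hPS' : S = P := hne.symm
    subst hRS
    subst hQS'
    subst hPS'
    refine hstep S hRa hRr ?_ eφ ((mem_autGroup_iff F le_rfl).2 heφ)
    intro P' hlt
    exact IH P' hlt
  · have hneQ : Q ≠ S := by
      intro h
      apply hne
      have : Nat.card S ≤ Nat.card P := by rw [hcardPQ, h]
      exact Subgroup.eq_of_le_of_card_ge hPS this
    have h1 : ψP ∈ E.Hom (normalizerIn S P) := IH _ (card_lt_card_normalizerIn hS hPS hne) hψP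
    have h2 : ψQ ∈ E.Hom (normalizerIn S Q) :=
      IH _ (by rw [hcardPQ]; exact card_lt_card_normalizerIn hS hQS hneQ) hψQ
    have hePE : IsIso E eP := isIso_of_restrict E h1 (le_normalizerIn hPS) eP hψPe
    have heQE : IsIso E eQ := isIso_of_restrict E h2 (le_normalizerIn hQS) eQ hψQe
    have h3 : IsIso E (eP.trans ((α : R ≃* R).trans eQ.symm)) := hePE.trans (hαE.trans heQE.symm)
    have h4 : eP.trans ((α : R ≃* R).trans eQ.symm) = eφ := by
      ext x
      simp [α]
    rw [h4] at h3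
    exact h3


/-- The inner fusion system is contained in every fusion system over `S`. -/
theorem inner_hom_subset (F : FusionSystem S) (P : Subgroup Ω) :
    (innerFusionSystem S).Hom P ⊆ F.Hom P := by
  rintro φ ⟨hP, g, hg, hφ⟩
  refine hom_of_eq_on F rfl (F.conj_mem (P := P) (g := g) hP hg) ?_
  intro x hx _
  exact hφ ⟨x, hx⟩

/-- In a fully automized subgroup whose `Aut_F` is a `p`-group, every element of `Aut_F` is induced by `S`. -/
theorem autGroup_le_autInducedBy_of_isPGroup (F : FusionSystem S) {p : ℕ} [Fact p.Prime] {R : Subgroup Ω}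
    (hRa : F.IsFullyAutomized p R) (hp : IsPGroup p (F.autGroup R)) :
    F.autGroup R ≤ autInducedBy S R := by
  obtain ⟨-, T, hT⟩ := hRa
  have htop : (T : Subgroup (F.autGroup R)) = ⊤ := by
    have h1 : IsPGroup p (⊤ : Subgroup (F.autGroup R)) := by
      intro x
      obtain ⟨k, hk⟩ := hp x.1
      exact ⟨k, Subtype.ext hk⟩
    exact (T.is_maximal' h1 le_top).symm
  intro α hα
  have : (⟨α, hα⟩ : F.autGroup R) ∈ (T : Subgroup (F.autGroup R)) := by rw [htop]; trivial
  rw [hT] at this
  exact Subgroup.mem_subgroupOf.1 this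

/-- **Frobenius-type criterion.** A saturated fusion system over a finite `p`-group all of whose automorphism groups
`Aut_F(P)` are `p`-groups is the inner fusion system. -/
theorem eq_inner_of_autGroup_isPGroup (F : FusionSystem S) [Finite S] {p : ℕ} [Fact p.Prime] (hS : IsPGroup p S)
    (hF : F.IsSaturated p) (h : ∀ P : Subgroup Ω, P ≤ S → IsPGroup p (F.autGroup P)) :
    ∀ P : Subgroup Ω, F.Hom P = (innerFusionSystem S).Hom P := by
  intro P
  apply Set.Subset.antisymm _ (inner_hom_subset F P)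
  refine alperin_weak F (innerFusionSystem S) hS hF ?_ P
  intro R hRa hRr _ α hα
  have hα' := autGroup_le_autInducedBy_of_isPGroup F hRa (h R hRa.1) hα
  obtain ⟨g, hg, hgα⟩ := mem_autInducedBy_iff.1 hα'
  exact ⟨hRa.1, g, hg, fun x => hgα x⟩

end Cfsg.Agent.Lib.Helper87
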