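/-
helper87: the normalizer fusion system `N_F(Q)` as an honest `FusionSystem (normalizerIn S Q)`.
All declarations live in `Cfsg.Agent.Lib.Helper87`.
-/
import Cfsg.Agent.Lib.Helper87.FusionSat

set_option autoImplicit false

namespace Cfsg.Agent.Lib.Helper87
open Cfsg Cfsg.FusionSystem
open scoped Pointwise

variable {Ω : Type*} [Group Ω] {S : Subgroup Ω}

/-- Elementwise form of `ψ(Q ∩ N) = Q`. -/
theorem map_subgroupOf_eq_iff {N Q : Subgroup Ω} (ψ : N →* Ω) :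
    (Q.subgroupOf N).map ψ = Q ↔
      (∀ x : N, (x : Ω) ∈ Q → ψ x ∈ Q) ∧ ∀ q ∈ Q, ∃ x : N, (x : Ω) ∈ Q ∧ ψ x = q := by
  constructor
  · intro h
    constructor
    · intro x hx
      rw [← h]
      exact ⟨x, Subgroup.mem_subgroupOf.2 hx, rfl⟩
    · intro q hq
      rw [← h] at hq
      obtain ⟨x, hx, rfl⟩ := hq
      exact ⟨x, Subgroup.mem_subgroupOf.1 hx, rfl⟩
  · rintro ⟨h1, h2⟩
    ext y
    constructor
    · rintro ⟨x, hx, rfl⟩
      exact h1 x (Subgroup.mem_subgroupOf.1 hx)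
    · intro hy
      obtain ⟨x, hx, rfl⟩ := h2 y hy
      exact ⟨x, Subgroup.mem_subgroupOf.2 hx, rfl⟩

/-- If a homomorphism on `P ⊔ Q` maps `P` into `A` and `Q` into `A`, it maps `P ⊔ Q` into `A`. -/
theorem map_sup_mem {P Q A : Subgroup Ω} (ψ : ↥(P ⊔ Q) →* Ω)
    (hP : ∀ x : P, ψ (Subgroup.inclusion le_sup_left x) ∈ A)
    (hQ : ∀ x : Q, ψ (Subgroup.inclusion le_sup_right x) ∈ A) (x : ↥(P ⊔ Q)) : ψ x ∈ A := by
  let B : Subgroup Ω := (A.comap ψ).map (P ⊔ Q).subtype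
  have h1 : P ≤ B := fun y hy => ⟨Subgroup.inclusion le_sup_left ⟨y, hy⟩, hP ⟨y, hy⟩, rfl⟩
  have h2 : Q ≤ B := fun y hy => ⟨Subgroup.inclusion le_sup_right ⟨y, hy⟩, hQ ⟨y, hy⟩, rfl⟩
  obtain ⟨y, hy, hyx⟩ := (sup_le h1 h2) x.2
  have : y = x := Subtype.ext hyx
  rw [← this]
  exact hy

/-- The normalizer fusion system `N_F(Q)` over `N_S(Q)`, for `Q ≤ S`. -/
def normalizerSystem (F : FusionSystem S) (Q : Subgroup Ω) (hQS : Q ≤ S) :
    FusionSystem (normalizerIn S Q) where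
  Hom P := F.normalizerHom Q P
  le_of_mem := by
    rintro P φ ⟨-, h1, h2, -⟩
    exact ⟨h1, h2⟩
  injective_of_mem := by
    rintro P φ ⟨h, -⟩
    exact F.injective_of_mem h
  conj_mem := by
    intro P g hP hg
    have hPS : P ≤ S := hP.trans (normalizerIn_le S Q)
    refine ⟨F.conj_mem hPS hg.1, hP, ?_, conjHom (P ⊔ Q) g, F.conj_mem (sup_le hPS hQS) hg.1, ?_, ?_⟩
    · intro x
      exact (normalizerIn S Q).mul_mem ((normalizerIn S Q).mul_mem hg (hP x.2)) ((normalizerIn S Q).inv_mem hg)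
    · intro x
      rfl
    · rw [map_subgroupOf_eq_iff]
      have hgN : g ∈ Subgroup.normalizer (Q : Set Ω) := hg.2
      constructor
      · intro x hx
        exact (Subgroup.mem_normalizer_iff.1 hgN _).1 hx
      · intro q hq
        have hgN' : g⁻¹ ∈ Subgroup.normalizer (Q : Set Ω) := Subgroup.inv_mem _ hgN
        have hq' : g⁻¹ * q * g ∈ Q := by
          have := (Subgroup.mem_normalizer_iff.1 hgN' q).1 hq
          simpa using this
        refine ⟨⟨g⁻¹ * q * g, (le_sup_right : Q ≤ P ⊔ Q) hq'⟩, hq', ?_⟩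
        show g * (g⁻¹ * q * g) * g⁻¹ = q
        group
  comp_mem := by
    rintro P P' φ ψ' ⟨hφ, hPN, hφN, φh, hφh, hφhe, hφhQ⟩ ⟨hψ', hP'N, hψ'N, ψh, hψh, hψhe, hψhQ⟩ h
    rw [map_subgroupOf_eq_iff] at hφhQ hψhQ
    have h' : ∀ x : ↥(P ⊔ Q), φh x ∈ P' ⊔ Q := by
      apply map_sup_mem
      · intro x
        rw [hφhe]
        exact (le_sup_left : P' ≤ P' ⊔ Q) (h x)
      · intro x
        exact (le_sup_right : Q ≤ P' ⊔ Q) (hφhQ.1 _ x.2)
    refine ⟨F.comp_mem hφ hψ' h, hPN, fun x => hψ'N _, ψh.comp (φh.codRestrict (P' ⊔ Q) h'),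
      F.comp_mem hφh hψh h', ?_, ?_⟩
    · intro x
      show ψh ⟨φh (Subgroup.inclusion le_sup_left x), _⟩ = ψ' ⟨φ x, h x⟩
      rw [← hψhe ⟨φ x, h x⟩]
      congr 1
      apply Subtype.ext
      exact hφhe x
    · rw [map_subgroupOf_eq_iff]
      constructor
      · intro x hx
        exact hψhQ.1 _ (hφhQ.1 x hx)
      · intro q hq
        obtain ⟨y, hy, hyq⟩ := hψhQ.2 q hq
        obtain ⟨x, hx, hxy⟩ := hφhQ.2 (y : Ω) hy
        refine ⟨x, hx, ?_⟩
        show ψh ⟨φh x, _⟩ = q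
        rw [← hyq]
        congr 1
        exact Subtype.ext hxy
  inv_mem := by
    rintro P φ ⟨hφ, hPN, hφN, φh, hφh, hφhe, hφhQ⟩
    rw [map_subgroupOf_eq_iff] at hφhQ
    obtain ⟨χ, hχ, hχinv⟩ := F.inv_mem hφh
    have hrange : φh.range = φ.range ⊔ Q := by
      apply le_antisymm
      · rintro _ ⟨x, rfl⟩
        apply map_sup_mem
        · intro y
          rw [hφhe]
          exact (le_sup_left : φ.range ≤ φ.range ⊔ Q) ⟨y, rfl⟩
        · intro y
          exact (le_sup_right : Q ≤ φ.range ⊔ Q) (hφhQ.1 _ y.2)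
      · apply sup_le
        · rintro _ ⟨x, rfl⟩
          exact ⟨Subgroup.inclusion le_sup_left x, hφhe x⟩
        · intro q hq
          obtain ⟨x, -, hx⟩ := hφhQ.2 q hq
          exact ⟨x, hx⟩
    have hle : φ.range ≤ φh.range := by rw [hrange]; exact le_sup_left
    have key : ∀ x : P, χ ⟨φ x, hle ⟨x, rfl⟩⟩ = (x : Ω) := by
      intro x
      have h1 := hχinv (Subgroup.inclusion le_sup_left x)
      have h2 : (⟨φh (Subgroup.inclusion le_sup_left x), ⟨_, rfl⟩⟩ : φh.range) = ⟨φ x, hle ⟨x, rfl⟩⟩ :=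
        Subtype.ext (hφhe x)
      rw [h2] at h1
      exact h1
    refine ⟨χ.comp (Subgroup.inclusion hle), ⟨restrict_mem F hχ hle, ?_, ?_,
      χ.comp (MulEquiv.subgroupCongr hrange.symm).toMonoidHom, ?_, ?_, ?_⟩, ?_⟩
    · rintro _ ⟨x, rfl⟩
      exact hφN x
    · rintro ⟨_, x, rfl⟩
      show χ ⟨φ x, hle ⟨x, rfl⟩⟩ ∈ _
      rw [key x]
      exact hPN x.2
    · exact hom_of_eq_on F hrange hχ (fun x hx hx' => rfl)
    · intro x
      rfl
    · rw [map_subgroupOf_eq_iff]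
      constructor
      · intro x hx
        obtain ⟨y, hy, hyx⟩ := hφhQ.2 (x : Ω) hx
        have : χ ((MulEquiv.subgroupCongr hrange.symm) x) = (y : Ω) := by
          rw [← hχinv y]
          congr 1
          apply Subtype.ext
          exact hyx.symm
        show χ ((MulEquiv.subgroupCongr hrange.symm) x) ∈ Q
        rw [this]
        exact hy
      · intro q hq
        have hq' : q ∈ P ⊔ Q := (le_sup_right : Q ≤ P ⊔ Q) hq
        have hφq : φh ⟨q, hq'⟩ ∈ Q := hφhQ.1 ⟨q, hq'⟩ hq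
        refine ⟨⟨φh ⟨q, hq'⟩, (le_sup_right : Q ≤ φ.range ⊔ Q) hφq⟩, hφq, ?_⟩
        exact hχinv ⟨q, hq'⟩
    · intro x
      exact key x

theorem isNormalizerSystem_normalizerSystem (F : FusionSystem S) (Q : Subgroup Ω) (hQS : Q ≤ S) :
    F.IsNormalizerSystem Q (normalizerSystem F Q hQS) :=
  fun _ => rfl

end Cfsg.Agent.Lib.Helper87
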