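/-
helper87: tools for proving that a subgroup is normal in a saturated fusion system: weak Alperin induction with target
system over an arbitrary subgroup, the stabilizer of a chain of invariant subgroups (a normal `p`-subgroup of `Aut_F(R)`),
extension of automorphisms through normal `p`-subgroups of `Aut_F(R)`.
All declarations live in `Cfsg.Agent.Lib.Helper87`.
-/
import Cfsg.Agent.Lib.Helper87.FusionNormalizer

set_option autoImplicit false

namespace Cfsg.Agent.Lib.Helper87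
open Cfsg Cfsg.FusionSystem
open scoped Pointwise commutatorElement

theorem pow_apply_mul_pow' {P : Type*} [Group P] (β : MulAut P) (x b : P) (hx : β x = x * b) (hb : β b = b) (j : ℕ) :
    (β ^ j) x = x * b ^ j := by
  induction j with
  | zero => simp
  | succ j ih =>
    rw [pow_succ', MulAut.mul_apply, ih, map_mul, map_pow, hx, hb, pow_succ', mul_assoc]

/-- The stabilizer in `𝔄 ≤ Aut(G)` of a descending chain of `𝔄`-invariant subgroups of the finite `p`-group `G`, from `G`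
down to `1`, as a subgroup of `Aut(G)`. -/
def chainStab {G : Type*} [Group G] (𝔄 : Subgroup (MulAut G)) (t : ℕ) (A : ℕ → Subgroup G)
    (hinv : ∀ j ≤ t, ∀ α ∈ 𝔄, ∀ x ∈ A j, α x ∈ A j) :
    Subgroup (MulAut G) where
  carrier := {β | β ∈ 𝔄 ∧ ∀ j < t, ∀ r ∈ A j, r⁻¹ * β r ∈ A (j + 1)}
  one_mem' := ⟨𝔄.one_mem, fun j _ r _ => by simp⟩
  mul_mem' := by
    rintro β γ ⟨hβ, hβ'⟩ ⟨hγ, hγ'⟩
    refine ⟨𝔄.mul_mem hβ hγ, fun j hj r hr => ?_⟩
    have h1 : r⁻¹ * (β * γ) r = (r⁻¹ * β r) * β (r⁻¹ * γ r) := by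
      rw [MulAut.mul_apply, map_mul, map_inv]
      group
    rw [h1]
    exact (A (j + 1)).mul_mem (hβ' j hj r hr) (hinv (j + 1) hj β hβ _ (hγ' j hj r hr))
  inv_mem' := by
    rintro β ⟨hβ, hβ'⟩
    refine ⟨𝔄.inv_mem hβ, fun j hj r hr => ?_⟩
    have hs : β⁻¹ r ∈ A j := hinv j hj.le β⁻¹ (𝔄.inv_mem hβ) r hr
    have h1 : r⁻¹ * β⁻¹ r = ((β⁻¹ r)⁻¹ * β (β⁻¹ r))⁻¹ := by
      rw [MulAut.apply_inv_self]
      group
    rw [h1]
    exact (A (j + 1)).inv_mem (hβ' j hj _ hs)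

theorem mem_chainStab {G : Type*} [Group G] (𝔄 : Subgroup (MulAut G)) (t : ℕ) (A : ℕ → Subgroup G)
    (hinv : ∀ j ≤ t, ∀ α ∈ 𝔄, ∀ x ∈ A j, α x ∈ A j) (β : MulAut G) :
    β ∈ chainStab 𝔄 t A hinv ↔ β ∈ 𝔄 ∧ ∀ j < t, ∀ r ∈ A j, r⁻¹ * β r ∈ A (j + 1) := Iff.rfl

theorem chainStab_le {G : Type*} [Group G] (𝔄 : Subgroup (MulAut G)) (t : ℕ) (A : ℕ → Subgroup G)
    (hinv : ∀ j ≤ t, ∀ α ∈ 𝔄, ∀ x ∈ A j, α x ∈ A j) :
    chainStab 𝔄 t A hinv ≤ 𝔄 := fun _ h => h.1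

theorem chainStab_conj_mem {G : Type*} [Group G] (𝔄 : Subgroup (MulAut G)) (t : ℕ) (A : ℕ → Subgroup G)
    (hinv : ∀ j ≤ t, ∀ α ∈ 𝔄, ∀ x ∈ A j, α x ∈ A j)
    {α β : MulAut G} (hα : α ∈ 𝔄) (hβ : β ∈ chainStab 𝔄 t A hinv) :
    α * β * α⁻¹ ∈ chainStab 𝔄 t A hinv := by
  obtain ⟨hβ1, hβ2⟩ := hβ
  refine ⟨𝔄.mul_mem (𝔄.mul_mem hα hβ1) (𝔄.inv_mem hα), fun j hj r hr => ?_⟩
  have hs : α⁻¹ r ∈ A j := hinv j hj.le α⁻¹ (𝔄.inv_mem hα) r hr
  have h1 : r⁻¹ * (α * β * α⁻¹) r = α ((α⁻¹ r)⁻¹ * β (α⁻¹ r)) := by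
    rw [map_mul, map_inv, MulAut.apply_inv_self]
    rfl
  rw [h1]
  exact hinv (j + 1) hj α hα _ (hβ2 j hj _ hs)

theorem chainStab_isPGroup {G : Type*} [Group G] [Finite G] {p : ℕ} [Fact p.Prime] (hG : IsPGroup p G)
    (𝔄 : Subgroup (MulAut G)) (t : ℕ) (A : ℕ → Subgroup G) (h0 : A 0 = ⊤) (ht : A t = ⊥)
    (hinv : ∀ j ≤ t, ∀ α ∈ 𝔄, ∀ x ∈ A j, α x ∈ A j) :
    IsPGroup p (chainStab 𝔄 t A hinv) := by
  obtain ⟨e, he⟩ := IsPGroup.iff_card.1 hG
  have claim : ∀ j ≤ t, ∃ k : ℕ, ∀ γ ∈ chainStab 𝔄 t A hinv, ∀ r ∈ A (t - j), (γ ^ (p ^ k)) r = r := by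
    intro j
    induction j with
    | zero =>
      intro _
      refine ⟨0, fun γ _ r hr => ?_⟩
      rw [Nat.sub_zero, ht, Subgroup.mem_bot] at hr
      rw [hr, map_one]
    | succ j ih =>
      intro hj
      obtain ⟨k, hk⟩ := ih (by omega)
      refine ⟨k + e, fun γ hγ r hr => ?_⟩
      have hδ : γ ^ (p ^ k) ∈ chainStab 𝔄 t A hinv := Subgroup.pow_mem _ hγ _
      have hidx : t - (j + 1) + 1 = t - j := by omega
      have hb : (r⁻¹ * (γ ^ (p ^ k)) r) ∈ A (t - j) := by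
        have := hδ.2 (t - (j + 1)) (by omega) r hr
        rwa [hidx] at this
      have hfix := hk γ hγ _ hb
      have hxb : (γ ^ (p ^ k)) r = r * (r⁻¹ * (γ ^ (p ^ k)) r) := by group
      have h2 := pow_apply_mul_pow' (γ ^ (p ^ k)) r _ hxb hfix (p ^ e)
      have hb1 : (r⁻¹ * (γ ^ (p ^ k)) r) ^ (p ^ e) = 1 := by
        rw [← he]
        exact pow_card_eq_one'
      rw [hb1, mul_one] at h2
      rw [pow_add, pow_mul]
      exact h2
  obtain ⟨k, hk⟩ := claim t le_rfl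
  rintro ⟨γ, hγ⟩
  refine ⟨k, Subtype.ext ?_⟩
  show γ ^ p ^ k = 1
  ext r
  have := hk γ hγ r (by rw [Nat.sub_self, h0]; trivial)
  rw [this]
  rfl


variable {Ω : Type*} [Group Ω] {S : Subgroup Ω}

/-- **Weak Alperin induction**, for a target system `E` over an arbitrary subgroup `T`. -/
theorem alperin_weak' (F : FusionSystem S) {T : Subgroup Ω} (E : FusionSystem T) [Finite S] {p : ℕ} [Fact p.Prime]
    (hS : IsPGroup p S) (hF : F.IsSaturated p)
    (hstep : ∀ R : Subgroup Ω, F.IsFullyAutomized p R → F.IsReceptive R →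
      (∀ P' : Subgroup Ω, Nat.card R < Nat.card P' → F.Hom P' ⊆ E.Hom P') →
      ∀ α : MulAut R, α ∈ F.autGroup R → IsIso E (α : R ≃* R)) :
    ∀ P : Subgroup Ω, F.Hom P ⊆ E.Hom P := by
  intro P
  induction' hn : Nat.card S - Nat.card P using Nat.strong_induction_on with n ih generalizing P
  intro φ hφ
  have hPS : P ≤ S := hom_le F hφ
  have IH : ∀ P' : Subgroup Ω, Nat.card P < Nat.card P' → F.Hom P' ⊆ E.Hom P' := by
    intro P' hlt φ' hφ'
    have hP'S : P' ≤ S := hom_le F hφ'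
    have hle : Nat.card P' ≤ Nat.card S := Subgroup.card_le_of_le hP'S
    exact ih (Nat.card S - Nat.card P') (by omega) P' rfl hφ'
  obtain ⟨Q, eφ, heφ, hφe⟩ : ∃ (Q : Subgroup Ω) (e : P ≃* Q), IsIso F e ∧ ∀ x : P, φ x = e x :=
    ⟨φ.range, MonoidHom.ofInjective (F.injective_of_mem hφ), isIso_ofInjective F hφ, fun x => rfl⟩
  have hQS : Q ≤ S := heφ.le_right
  have hcardPQ : Nat.card P = Nat.card Q := Nat.card_congr eφ.toEquiv
  suffices hE : IsIso E eφ by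
    refine hom_of_eq_on E rfl hE ?_
    intro x hx _
    exact hφe ⟨x, hx⟩
  obtain ⟨R, hPR, hRa, hRr⟩ := hF P hPS
  have hQR : F.IsConj Q R := IsConj_trans (IsConj_symm ((isConj_iff F).2 ⟨eφ, heφ⟩)) hPR
  have hcardPR : Nat.card P = Nat.card R := IsConj_card_eq hPR
  obtain ⟨ψP, eP, hψP, heP, hψPe⟩ := exists_extension F hS hRa hRr hPR
  obtain ⟨ψQ, eQ, hψQ, heQ, hψQe⟩ := exists_extension F hS hRa hRr hQR
  let α : MulAut R := eP.symm.trans (eφ.trans eQ)
  have hαF : α ∈ F.autGroup R := by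
    rw [mem_autGroup_iff F hRa.1]
    exact heP.symm.trans (heφ.trans heQ)
  have hαE : IsIso E (α : R ≃* R) := by
    refine hstep R hRa hRr ?_ α hαF
    intro P' hlt
    exact IH P' (by omega)
  by_cases hne : P = S
  · have hRS : S = R := by
      have : Nat.card S ≤ Nat.card R := by rw [← hcardPR, hne]
      exact (Subgroup.eq_of_le_of_card_ge hRa.1 this).symm
    have hQS' : S = Q := by
      have : Nat.card S ≤ Nat.card Q := by rw [← hcardPQ, hne]
      exact (Subgroup.eq_of_le_of_card_ge hQS this).symm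
    have hPS' : S = P := hne.symm
    subst hRS
    subst hQS'
    subst hPS'
    refine hstep S hRa hRr ?_ eφ ((mem_autGroup_iff F le_rfl).2 heφ)
    intro P' hlt
    exact IH P' hlt
  · have hneQ : Q ≠ S := by
      intro h
      apply hne
      have : Nat.card S ≤ Nat.card P := by rw [hcardPQ, h]
      exact Subgroup.eq_of_le_of_card_ge hPS this
    have h1 : ψP ∈ E.Hom (normalizerIn S P) := IH _ (card_lt_card_normalizerIn hS hPS hne) hψP
    have h2 : ψQ ∈ E.Hom (normalizerIn S Q) :=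
      IH _ (by rw [hcardPQ]; exact card_lt_card_normalizerIn hS hQS hneQ) hψQ
    have hePE : IsIso E eP := isIso_of_restrict E h1 (le_normalizerIn hPS) eP hψPe
    have heQE : IsIso E eQ := isIso_of_restrict E h2 (le_normalizerIn hQS) eQ hψQe
    have h3 : IsIso E (eP.trans ((α : R ≃* R).trans eQ.symm)) := hePE.trans (hαE.trans heQE.symm)
    have h4 : eP.trans ((α : R ≃* R).trans eQ.symm) = eφ := by
      ext x
      simp [α]
    rw [h4] at h3
    exact h3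

/-- A normal `p`-subgroup of `Aut_F(R)` (given inside `Aut(R)`) lies in `Aut_S(R)` when `R` is fully automized. -/
theorem le_autInducedBy_of_normal_isPGroup (F : FusionSystem S) [Finite S] {p : ℕ} [Fact p.Prime] {R : Subgroup Ω}
    (hRa : F.IsFullyAutomized p R) (K : Subgroup (MulAut R)) (hK : K ≤ F.autGroup R)
    (hKn : ∀ α ∈ F.autGroup R, ∀ β ∈ K, α * β * α⁻¹ ∈ K) (hKp : IsPGroup p K) :
    K ≤ autInducedBy S R := by
  obtain ⟨hRS, T, hT⟩ := hRa
  have hfin : Finite R := finite_of_le hRS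
  have hn : (K.subgroupOf (F.autGroup R)).Normal := by
    constructor
    intro n hn g
    rw [Subgroup.mem_subgroupOf] at hn ⊢
    exact hKn g.1 g.2 n.1 hn
  have hp : IsPGroup p (K.subgroupOf (F.autGroup R)) := hKp.comap_subtype
  have hle := hp.le_sylow_of_normal T
  intro β hβ
  have h1 : (⟨β, hK hβ⟩ : F.autGroup R) ∈ K.subgroupOf (F.autGroup R) := Subgroup.mem_subgroupOf.2 hβ
  have h2 := hle h1
  have h3 : (⟨β, hK hβ⟩ : F.autGroup R) ∈ (T : Subgroup (F.autGroup R)) := h2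
  rw [hT] at h3
  exact Subgroup.mem_subgroupOf.1 h3

/-- **Extension through a normal `p`-subgroup of `Aut_F(R)`.** Let `R` be fully automized and receptive and `K` a normal
`p`-subgroup of `Aut_F(R)`. Every `α ∈ Aut_F(R)` extends to a map of the system defined on a subgroup `X` of `N_S(R)`
containing `R` and every `g ∈ N_S(R)` whose conjugation action on `R` lies in `K`. -/
theorem exists_extension_of_normal_isPGroup (F : FusionSystem S) [Finite S] {p : ℕ} [Fact p.Prime] {R : Subgroup Ω}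
    (hRa : F.IsFullyAutomized p R) (hRr : F.IsReceptive R) (K : Subgroup (MulAut R)) (hK : K ≤ F.autGroup R)
    (hKn : ∀ α ∈ F.autGroup R, ∀ β ∈ K, α * β * α⁻¹ ∈ K) (hKp : IsPGroup p K)
    (α : MulAut R) (hα : α ∈ F.autGroup R) :
    ∃ (X : Subgroup Ω) (ψ : X →* Ω), ψ ∈ F.Hom X ∧ R ≤ X ∧ X ≤ normalizerIn S R ∧
      (∀ (x : Ω) (hx : x ∈ R) (hx' : x ∈ X), ψ ⟨x, hx'⟩ = ((α ⟨x, hx⟩ : R) : Ω)) ∧
      ∀ (g : Ω) (hg : g ∈ normalizerIn S R), conjAut R g hg.2 ∈ K → g ∈ X := by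
  have hRS : R ≤ S := hRa.1
  have hKS := le_autInducedBy_of_normal_isPGroup F hRa K hK hKn hKp
  let φ : R →* Ω := R.subtype.comp (α : R ≃* R).toMonoidHom
  have hφ : φ ∈ F.Hom R := (mem_autGroup_iff F hRS).1 hα
  have hφr : φ.range = R := range_subtype_comp (α : R ≃* R)
  obtain ⟨ψ, hψ, hψe⟩ := hRr.2 R φ hφ hφr
  refine ⟨extender S R φ, ψ, hψ, ?_, extender_le S R φ, ?_, ?_⟩
  · intro g hg
    apply Subgroup.subset_closure
    refine ⟨hRS hg, Subgroup.le_normalizer hg, ((α ⟨g, hg⟩ : R) : Ω), hRS (α ⟨g, hg⟩).2, ?_⟩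
    intro x hx
    have : (⟨g * (x : Ω) * g⁻¹, hx⟩ : R) = ⟨g, hg⟩ * x * ⟨g, hg⟩⁻¹ := Subtype.ext rfl
    show ((α ⟨g * (x : Ω) * g⁻¹, hx⟩ : R) : Ω) = _
    rw [this, map_mul, map_mul, map_inv]
    rfl
  · intro x hx hx'
    exact hψe x hx hx'
  · intro g hg hgK
    have h1 : α * conjAut R g hg.2 * α⁻¹ ∈ K := hKn α hα _ hgK
    obtain ⟨h, hh, hhα⟩ := mem_autInducedBy_iff.1 (hKS h1)
    apply Subgroup.subset_closure
    refine ⟨hg.1, hg.2, h, hh, ?_⟩
    intro x hx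
    have h2 := hhα (α x)
    rw [MulAut.mul_apply, MulAut.mul_apply, MulAut.inv_apply_self] at h2
    show ((α ⟨g * (x : Ω) * g⁻¹, hx⟩ : R) : Ω) = h * ((α x : R) : Ω) * h⁻¹
    rw [← h2]
    rfl


/-- A strongly closed subgroup is normalized by `S`. -/
theorem StronglyClosed_conj_mem {F : FusionSystem S} {Q : Subgroup Ω} (hQ : F.StronglyClosed Q)
    {g : Ω} (hg : g ∈ S) {x : Ω} (hx : x ∈ Q) : g * x * g⁻¹ ∈ Q :=
  hQ.2 Q le_rfl (conjHom Q g) (F.conj_mem hQ.1 hg) ⟨x, hx⟩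

/-- A weakly closed subgroup is normalized by `S`. -/
theorem WeaklyClosed_conj_mem {F : FusionSystem S} {W : Subgroup Ω} (hW : F.WeaklyClosed W)
    {g : Ω} (hg : g ∈ S) {x : Ω} (hx : x ∈ W) : g * x * g⁻¹ ∈ W := by
  have h := hW.2 (conjHom W g) (F.conj_mem hW.1 hg)
  rw [← h]
  exact ⟨⟨x, hx⟩, rfl⟩

/-- If `Q` is normalized by `S` then every subgroup of `S` lies in `N_S(Q)`. -/
theorem le_normalizerIn_of_conj_mem {Q : Subgroup Ω} (hQn : ∀ g ∈ S, ∀ x ∈ Q, g * x * g⁻¹ ∈ Q) :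
    S ≤ normalizerIn S Q := by
  intro g hg
  refine ⟨hg, ?_⟩
  show g ∈ Subgroup.normalizer (Q : Set Ω)
  rw [Subgroup.mem_normalizer_iff]
  intro n
  constructor
  · exact hQn g hg n
  · intro h
    have := hQn g⁻¹ (S.inv_mem hg) _ h
    simpa [mul_assoc] using this

/-- Elements of `Aut_F(R)` preserve `R ∩ Q` for `Q` strongly closed. -/
theorem StronglyClosed_aut_mem {F : FusionSystem S} {Q : Subgroup Ω} (hQ : F.StronglyClosed Q)
    {R : Subgroup Ω} (hRS : R ≤ S) {α : MulAut R} (hα : α ∈ F.autGroup R) {r : R} (hr : (r : Ω) ∈ Q) :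
    ((α r : R) : Ω) ∈ Q := by
  have hiso : IsIso F (α : R ≃* R) := (mem_autGroup_iff F hRS).1 hα
  have hle : R ⊓ Q ≤ R := inf_le_left
  have h1 := restrict_mem F hiso hle
  exact hQ.2 (R ⊓ Q) inf_le_right _ h1 ⟨(r : Ω), ⟨r.2, hr⟩⟩

/-- Elements of `Aut_F(R)` preserve a weakly closed subgroup contained in `R`. -/
theorem WeaklyClosed_aut_mem {F : FusionSystem S} {W : Subgroup Ω} (hW : F.WeaklyClosed W)
    {R : Subgroup Ω} (hRS : R ≤ S) (hWR : W ≤ R) {α : MulAut R} (hα : α ∈ F.autGroup R) {r : R}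
    (hr : (r : Ω) ∈ W) : ((α r : R) : Ω) ∈ W := by
  have hiso : IsIso F (α : R ≃* R) := (mem_autGroup_iff F hRS).1 hα
  have h1 := restrict_mem F hiso hWR
  have h2 := hW.2 _ h1
  rw [← h2]
  exact ⟨⟨(r : Ω), hr⟩, rfl⟩

/-- Product decomposition in `H ⊔ K` when `K` normalizes `H`. -/
theorem exists_mul_of_mem_sup {H K : Subgroup Ω} (hK : ∀ k ∈ K, ∀ h ∈ H, k * h * k⁻¹ ∈ H) {x : Ω}
    (hx : x ∈ H ⊔ K) : ∃ h ∈ H, ∃ k ∈ K, x = h * k := by
  let T : Subgroup Ω :=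
    { carrier := {x | ∃ h ∈ H, ∃ k ∈ K, x = h * k}
      one_mem' := ⟨1, H.one_mem, 1, K.one_mem, by simp⟩
      mul_mem' := by
        rintro _ _ ⟨h, hh, k, hk, rfl⟩ ⟨h', hh', k', hk', rfl⟩
        refine ⟨h * (k * h' * k⁻¹), H.mul_mem hh (hK k hk h' hh'), k * k', K.mul_mem hk hk', ?_⟩
        group
      inv_mem' := by
        rintro _ ⟨h, hh, k, hk, rfl⟩
        refine ⟨k⁻¹ * h⁻¹ * k⁻¹⁻¹, hK k⁻¹ (K.inv_mem hk) h⁻¹ (H.inv_mem hh), k⁻¹, K.inv_mem hk, ?_⟩
        group }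
  have h1 : H ≤ T := fun h hh => ⟨h, hh, 1, K.one_mem, by simp⟩
  have h2 : K ≤ T := fun k hk => ⟨1, H.one_mem, k, hk, by simp⟩
  exact (sup_le h1 h2) hx

/-- If `M ≤ S` is normalized by `S` and not contained in `R ≤ S`, some element of `M` outside `R` normalizes `R`. -/
theorem exists_mem_normalizer_not_mem [Finite S] {p : ℕ} [Fact p.Prime] (hS : IsPGroup p S)
    {M R : Subgroup Ω} (hMS : M ≤ S) (hRS : R ≤ S) (hMn : ∀ g ∈ S, ∀ x ∈ M, g * x * g⁻¹ ∈ M) (hMR : ¬ M ≤ R) :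
    ∃ x ∈ M, x ∈ Subgroup.normalizer (R : Set Ω) ∧ x ∉ R := by
  have hle : M ⊔ R ≤ S := sup_le hMS hRS
  have hfin : Finite ↥(M ⊔ R) := finite_of_le hle
  have hp : IsPGroup p ↥(M ⊔ R) := hS.to_le hle
  have hne : R ≠ M ⊔ R := by
    intro h
    apply hMR
    rw [h]
    exact le_sup_left
  obtain ⟨y, hyN, hyR⟩ := exists_mem_normalizerIn_not_mem hp (le_sup_right : R ≤ M ⊔ R) hne
  obtain ⟨m, hm, r, hr, rfl⟩ := exists_mul_of_mem_sup (fun k hk h hh => hMn k (hRS hk) h hh) hyN.1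
  refine ⟨m, hm, ?_, ?_⟩
  · have h1 : m = (m * r) * r⁻¹ := by group
    rw [h1]
    exact Subgroup.mul_mem _ hyN.2 (Subgroup.inv_mem _ (Subgroup.le_normalizer hr))
  · intro hmR
    exact hyR (R.mul_mem hmR hr)

/-- The chain of subgroups of `R` used in the proof of `isNormal_of_chain`. -/
def chainOf (Q R : Subgroup Ω) (c : ℕ → Subgroup Ω) (i₀ : ℕ) : ℕ → Subgroup R
  | 0 => ⊤
  | 1 => Q.subgroupOf R
  | (k + 2) => (c (i₀ - k)).subgroupOf R

/-- **Normality criterion.** A strongly closed subgroup `Q` with a central series `1 = c₀ ≤ c₁ ≤ ⋯ ≤ cₙ = Q`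
(`[c_{k+1}, Q] ≤ c_k`) whose proper terms are weakly closed is normal in the saturated fusion system `F`. -/
theorem isNormal_of_chain (F : FusionSystem S) [Finite S] {p : ℕ} [Fact p.Prime] (hS : IsPGroup p S)
    (hF : F.IsSaturated p) (Q : Subgroup Ω) (hQ : F.StronglyClosed Q)
    (n : ℕ) (c : ℕ → Subgroup Ω) (hc0 : c 0 = ⊥) (hcn : ∀ k, n ≤ k → c k = Q) (hmono : Monotone c)
    (hcomm : ∀ k < n, ⁅c (k + 1), Q⁆ ≤ c k) (hwc : ∀ k < n, F.WeaklyClosed (c k)) : F.IsNormal Q := by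
  have hQS : Q ≤ S := hQ.1
  have hQn : ∀ g ∈ S, ∀ x ∈ Q, g * x * g⁻¹ ∈ Q := fun g hg x hx => StronglyClosed_conj_mem hQ hg hx
  have hSN : S ≤ normalizerIn S Q := le_normalizerIn_of_conj_mem hQn
  have hcQ : ∀ k, c k ≤ Q := fun k => by
    rw [← hcn (max k n) (le_max_right k n)]
    exact hmono (le_max_left k n)
  have hcn' : ∀ k, ∀ g ∈ S, ∀ x ∈ c k, g * x * g⁻¹ ∈ c k := by
    intro k g hg x hx
    by_cases hk : k < n
    · exact WeaklyClosed_conj_mem (hwc k hk) hg hx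
    · rw [hcn k (not_lt.1 hk)] at hx ⊢
      exact hQn g hg x hx
  have key : ∀ P : Subgroup Ω, F.Hom P ⊆ (normalizerSystem F Q hQS).Hom P := by
    refine alperin_weak' F (normalizerSystem F Q hQS) hS hF ?_
    intro R hRa hRr IH α hα
    have hRS : R ≤ S := hRa.1
    have hφ : R.subtype.comp (α : R ≃* R).toMonoidHom ∈ F.Hom R := (mem_autGroup_iff F hRS).1 hα
    have hαinv : α⁻¹ ∈ F.autGroup R := Subgroup.inv_mem _ hα
    refine ⟨hφ, hRS.trans hSN, fun x => hSN (hRS (α x).2), ?_⟩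
    by_cases hQR : Q ≤ R
    · have hsup : R ⊔ Q = R := sup_eq_left.2 hQR
      refine ⟨(R.subtype.comp (α : R ≃* R).toMonoidHom).comp (MulEquiv.subgroupCongr hsup).toMonoidHom,
        hom_of_eq_on F hsup.symm hφ (fun x hx hx' => rfl), fun x => rfl, ?_⟩
      rw [map_subgroupOf_eq_iff]
      constructor
      · intro x hx
        exact StronglyClosed_aut_mem hQ hRS hα (r := ⟨(x : Ω), hsup.le x.2⟩) hx
      · intro q hq
        have h1 : ((α⁻¹ ⟨q, hQR hq⟩ : R) : Ω) ∈ Q := StronglyClosed_aut_mem hQ hRS hαinv (r := ⟨q, hQR hq⟩) hq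
        refine ⟨⟨((α⁻¹ ⟨q, hQR hq⟩ : R) : Ω), (le_sup_left : R ≤ R ⊔ Q) (α⁻¹ ⟨q, hQR hq⟩).2⟩, h1, ?_⟩
        show ((α (α⁻¹ ⟨q, hQR hq⟩) : R) : Ω) = q
        rw [MulAut.apply_inv_self]
    · -- the hard case
      have hex : ∃ k, ¬ c k ≤ R := ⟨n, by rw [hcn n le_rfl]; exact hQR⟩
      classical
      let k₁ := Nat.find hex
      have hk₁ : ¬ c k₁ ≤ R := Nat.find_spec hex
      have hk₁n : k₁ ≤ n := Nat.find_min' hex (by rw [hcn n le_rfl]; exact hQR)
      have hk₁0 : k₁ ≠ 0 := by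
        intro h
        apply hk₁
        rw [h, hc0]
        exact bot_le
      obtain ⟨i₀, hi₀⟩ : ∃ i₀, k₁ = i₀ + 1 := Nat.exists_eq_succ_of_ne_zero hk₁0
      have hi₀n : i₀ < n := by omega
      have hcR : ∀ k ≤ i₀, c k ≤ R := by
        intro k hk
        by_contra h
        have := Nat.find_min' hex h
        omega
      have hM : ¬ c (i₀ + 1) ≤ R := hi₀ ▸ hk₁
      obtain ⟨x, hxM, hxN, hxR⟩ := exists_mem_normalizer_not_mem hS ((hcQ _).trans hQS) hRS (hcn' _) hM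
      have hxQ : x ∈ Q := hcQ _ hxM
      have hxS : x ∈ S := hQS hxQ
      -- the chain
      have hinv : ∀ j ≤ i₀ + 2, ∀ β ∈ F.autGroup R, ∀ y ∈ chainOf Q R c i₀ j, β y ∈ chainOf Q R c i₀ j := by
        intro j hj β hβ y hy
        match j, hj, hy with
        | 0, _, _ => trivial
        | 1, _, hy => exact Subgroup.mem_subgroupOf.2 (StronglyClosed_aut_mem hQ hRS hβ (Subgroup.mem_subgroupOf.1 hy))
        | (k + 2), hj, hy =>
          have hk : i₀ - k ≤ i₀ := Nat.sub_le _ _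
          exact Subgroup.mem_subgroupOf.2 (WeaklyClosed_aut_mem (hwc _ (by omega)) hRS (hcR _ hk) hβ
            (Subgroup.mem_subgroupOf.1 hy))
      have hRp : IsPGroup p R := hS.to_le hRS
      have hfinR : Finite R := finite_of_le hRS
      let K := chainStab (F.autGroup R) (i₀ + 2) (chainOf Q R c i₀) hinv
      have hKp : IsPGroup p K := by
        refine chainStab_isPGroup hRp _ _ _ rfl ?_ hinv
        show (c (i₀ - i₀)).subgroupOf R = ⊥
        rw [Nat.sub_self, hc0]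
        exact Subgroup.bot_subgroupOf R
      have hKn : ∀ α' ∈ F.autGroup R, ∀ β ∈ K, α' * β * α'⁻¹ ∈ K :=
        fun α' hα' β hβ => chainStab_conj_mem _ _ _ hinv hα' hβ
      have hxNS : x ∈ normalizerIn S R := ⟨hxS, hxN⟩
      have hcx : conjAut R x hxNS.2 ∈ K := by
        refine ⟨autInducedBy_le_autGroup F hRS (mem_autInducedBy_iff.2 ⟨x, hxS, fun y => rfl⟩), ?_⟩
        intro j hj r hr
        have hval : ((r⁻¹ * conjAut R x hxNS.2 r : R) : Ω) = ⁅(r : Ω)⁻¹, x⁆ := by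
          show (r : Ω)⁻¹ * (x * (r : Ω) * x⁻¹) = _
          rw [commutatorElement_def]
          group
        match j, hj, hr with
        | 0, _, _ =>
          apply Subgroup.mem_subgroupOf.2
          rw [hval, commutatorElement_def]
          have h1 : (r : Ω)⁻¹ * x * (r : Ω)⁻¹⁻¹ ∈ Q := hQn _ (S.inv_mem (hRS r.2)) x hxQ
          exact Q.mul_mem h1 (Q.inv_mem hxQ)
        | 1, _, hr =>
          apply Subgroup.mem_subgroupOf.2
          rw [hval]
          have h1 : ⁅(r : Ω)⁻¹, x⁆ ∈ ⁅Q, c (i₀ + 1)⁆ :=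
            Subgroup.commutator_mem_commutator (Q.inv_mem (Subgroup.mem_subgroupOf.1 hr)) hxM
          rw [Subgroup.commutator_comm] at h1
          exact hcomm i₀ hi₀n h1
        | (k + 2), hj, hr =>
          apply Subgroup.mem_subgroupOf.2
          rw [hval]
          have hk : k < i₀ := by omega
          have hidx : i₀ - (k + 1) + 1 = i₀ - k := by omega
          have h1 : ⁅(r : Ω)⁻¹, x⁆ ∈ ⁅c (i₀ - k), Q⁆ :=
            Subgroup.commutator_mem_commutator ((c (i₀ - k)).inv_mem (Subgroup.mem_subgroupOf.1 hr)) hxQ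
          have h2 := hcomm (i₀ - (k + 1)) (by omega)
          rw [hidx] at h2
          exact h2 h1
      obtain ⟨X, ψ, hψ, hRX, hXN, hψα, hXK⟩ :=
        exists_extension_of_normal_isPGroup F hRa hRr K (chainStab_le _ _ _ hinv) hKn hKp α hα
      have hxX : x ∈ X := hXK x hxNS hcx
      have hcard : Nat.card R < Nat.card X := by
        have hfinX : Finite X := finite_of_le (hXN.trans (normalizerIn_le S R))
        by_contra hlt
        push Not at hlt
        have := Subgroup.eq_of_le_of_card_ge hRX hlt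
        rw [this] at hxR
        exact hxR hxX
      obtain ⟨-, -, -, ψh, hψh, hψhe, hψhQ⟩ := IH X hcard hψ
      rw [map_subgroupOf_eq_iff] at hψhQ
      have hle : R ⊔ Q ≤ X ⊔ Q := sup_le_sup_right hRX Q
      refine ⟨ψh.comp (Subgroup.inclusion hle), restrict_mem F hψh hle, ?_, ?_⟩
      · intro r
        have h1 := hψhe ⟨(r : Ω), hRX r.2⟩
        have h2 := hψα (r : Ω) r.2 (hRX r.2)
        exact h1.trans h2
      · rw [map_subgroupOf_eq_iff]
        constructor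
        · intro y hy
          exact hψhQ.1 _ hy
        · intro q hq
          obtain ⟨z, hz, hzq⟩ := hψhQ.2 q hq
          refine ⟨⟨(z : Ω), (le_sup_right : Q ≤ R ⊔ Q) hz⟩, hz, ?_⟩
          rw [← hzq]
          rfl
  refine ⟨hQS, fun P φ hφ => ?_⟩
  obtain ⟨-, -, -, ψ, hψ, h1, h2⟩ := key P hφ
  exact ⟨ψ, hψ, h1, h2⟩

end Cfsg.Agent.Lib.Helper87
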