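/-
helper87: Frattini-type arguments in `Aut_F(R)`: Sylow conjugation inside a normal subgroup, extension of automorphisms of
receptive subgroups, the subsystem of maps preserving a subgroup normalized by `S`.
All declarations live in `Cfsg.Agent.Lib.Helper87`.
-/
import Cfsg.Agent.Lib.Helper87.FusionNormal

set_option autoImplicit false

namespace Cfsg.Agent.Lib.Helper87
open Cfsg Cfsg.FusionSystem
open scoped Pointwise commutatorElement

/-- Sylow conjugation inside a normal subgroup: a `p`-subgroup of the normal subgroup `N` is conjugate, by an element of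
`N`, into the given Sylow `p`-subgroup of the whole group. -/
theorem exists_conj_mem_sylow_of_normal {G : Type*} [Group G] [Finite G] {p : ℕ} [Fact p.Prime]
    (N : Subgroup G) [N.Normal] (T : Sylow p G) {H : Subgroup G} (hH : IsPGroup p H) (hHN : H ≤ N) :
    ∃ n ∈ N, ∀ h ∈ H, n * h * n⁻¹ ∈ T := by
  let I : Subgroup G := (T : Subgroup G) ⊓ N
  have hI : IsPGroup p I := T.isPGroup'.to_le inf_le_left
  have hIN : IsPGroup p (I.subgroupOf N) := hI.comap_subtype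
  obtain ⟨TN, hTN⟩ := hIN.exists_le_sylow
  let Q' : Subgroup G := (TN : Subgroup N).map N.subtype
  have hQ'p : IsPGroup p Q' := TN.isPGroup'.map _
  have hQ'N : Q' ≤ N := Subgroup.map_subtype_le _
  have hIQ' : I ≤ Q' := by
    intro x hx
    have hxN : x ∈ N := hx.2
    exact ⟨⟨x, hxN⟩, hTN (Subgroup.mem_subgroupOf.2 hx), rfl⟩
  obtain ⟨g, hg⟩ := exists_conj_mem_sylow T hQ'p
  have hcard : Nat.card Q' ≤ Nat.card I := by
    let f : Q' → I := fun q => ⟨g * (q : G) * g⁻¹, hg _ q.2,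
      (inferInstance : N.Normal).conj_mem _ (hQ'N q.2) g⟩
    apply Nat.card_le_card_of_injective f
    intro a b hab
    have : g * (a : G) * g⁻¹ = g * (b : G) * g⁻¹ := congrArg Subtype.val hab
    exact Subtype.ext (mul_left_cancel (mul_right_cancel this))
  have hQ'I : I = Q' := Subgroup.eq_of_le_of_card_ge hIQ' hcard
  have hHNp : IsPGroup p (H.subgroupOf N) := hH.comap_subtype
  obtain ⟨n, hn⟩ := exists_conj_mem_sylow TN hHNp
  refine ⟨(n : G), n.2, fun h hh => ?_⟩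
  have h1 : (⟨h, hHN hh⟩ : N) ∈ H.subgroupOf N := Subgroup.mem_subgroupOf.2 hh
  have h2 := hn _ h1
  have h3 : (n : G) * h * (n : G)⁻¹ ∈ Q' := ⟨_, h2, rfl⟩
  rw [← hQ'I] at h3
  exact h3.1


variable {Ω : Type*} [Group Ω] {S : Subgroup Ω}

/-- **Extension of an automorphism of a receptive subgroup.** Every `ν ∈ Aut_F(R)`, `R` receptive, extends to a map of
the system on a subgroup `X` of `N_S(R)` containing `R` and every `g ∈ N_S(R)` with `ν c_g ν⁻¹ ∈ Aut_S(R)`. -/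
theorem exists_extension_aut (F : FusionSystem S) {R : Subgroup Ω} (hRS : R ≤ S) (hRr : F.IsReceptive R)
    (ν : MulAut R) (hν : ν ∈ F.autGroup R) :
    ∃ (X : Subgroup Ω) (ψ : X →* Ω), ψ ∈ F.Hom X ∧ R ≤ X ∧ X ≤ normalizerIn S R ∧
      (∀ (x : Ω) (hx : x ∈ R) (hx' : x ∈ X), ψ ⟨x, hx'⟩ = ((ν ⟨x, hx⟩ : R) : Ω)) ∧
      ∀ (g : Ω) (hg : g ∈ normalizerIn S R), ν * conjAut R g hg.2 * ν⁻¹ ∈ autInducedBy S R → g ∈ X := by
  let φ : R →* Ω := R.subtype.comp (ν : R ≃* R).toMonoidHom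
  have hφ : φ ∈ F.Hom R := (mem_autGroup_iff F hRS).1 hν
  have hφr : φ.range = R := range_subtype_comp (ν : R ≃* R)
  obtain ⟨ψ, hψ, hψe⟩ := hRr.2 R φ hφ hφr
  refine ⟨extender S R φ, ψ, hψ, ?_, extender_le S R φ, ?_, ?_⟩
  · intro g hg
    apply Subgroup.subset_closure
    refine ⟨hRS hg, Subgroup.le_normalizer hg, ((ν ⟨g, hg⟩ : R) : Ω), hRS (ν ⟨g, hg⟩).2, ?_⟩
    intro x hx
    have : (⟨g * (x : Ω) * g⁻¹, hx⟩ : R) = ⟨g, hg⟩ * x * ⟨g, hg⟩⁻¹ := Subtype.ext rfl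
    show ((ν ⟨g * (x : Ω) * g⁻¹, hx⟩ : R) : Ω) = _
    rw [this, map_mul, map_mul, map_inv]
    rfl
  · intro x hx hx'
    exact hψe x hx hx'
  · intro g hg hgK
    obtain ⟨h, hh, hhα⟩ := mem_autInducedBy_iff.1 hgK
    apply Subgroup.subset_closure
    refine ⟨hg.1, hg.2, h, hh, ?_⟩
    intro x hx
    have h2 := hhα (ν x)
    rw [MulAut.mul_apply, MulAut.mul_apply, MulAut.inv_apply_self] at h2
    show ((ν ⟨g * (x : Ω) * g⁻¹, hx⟩ : R) : Ω) = h * ((ν x : R) : Ω) * h⁻¹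
    rw [← h2]
    rfl

/-- **Frattini-type extension.** Let `R` be fully automized and receptive, `D` a subgroup of `Aut_F(R)` normalized by
`Aut_F(R)`, and `g ∈ N_S(R)` with `c_g ∈ D`. Then every `α ∈ Aut_F(R)` can be written `α = δ⁻¹ ν` with `δ ∈ D` and `ν`
extending to a map of the system defined on a subgroup containing `R` and `g`. -/
theorem exists_frattini_extension (F : FusionSystem S) [Finite S] {p : ℕ} [Fact p.Prime] (hS : IsPGroup p S)
    {R : Subgroup Ω} (hRa : F.IsFullyAutomized p R) (hRr : F.IsReceptive R) (D : Subgroup (MulAut R))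
    (hDn : ∀ α ∈ F.autGroup R, ∀ β ∈ D, α * β * α⁻¹ ∈ D)
    (α : MulAut R) (hα : α ∈ F.autGroup R) (g : Ω) (hg : g ∈ normalizerIn S R) (hgD : conjAut R g hg.2 ∈ D) :
    ∃ δ ∈ D, ∃ (X : Subgroup Ω) (ψ : X →* Ω), ψ ∈ F.Hom X ∧ R ≤ X ∧ X ≤ normalizerIn S R ∧ g ∈ X ∧
      (∀ (x : Ω) (hx : x ∈ R) (hx' : x ∈ X), ψ ⟨x, hx'⟩ = (((δ * α) ⟨x, hx⟩ : R) : Ω)) := by
  obtain ⟨hRS, T, hT⟩ := hRa
  have hfin : Finite R := finite_of_le hRS
  have hn : (D.subgroupOf (F.autGroup R)).Normal := by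
    constructor
    intro n hn g
    rw [Subgroup.mem_subgroupOf] at hn ⊢
    exact hDn g.1 g.2 n.1 hn
  let αG : F.autGroup R := ⟨α, hα⟩
  let H : Subgroup (F.autGroup R) :=
    ((autInducedBy S R ⊓ D).subgroupOf (F.autGroup R)).map (MulAut.conj αG).toMonoidHom
  have hHp : IsPGroup p H :=
    (((autInducedBy_isPGroup hS R).to_le inf_le_left).comap_subtype).map _
  have hHN : H ≤ D.subgroupOf (F.autGroup R) := by
    rintro _ ⟨y, hy, rfl⟩
    have hy' : (y : MulAut R) ∈ autInducedBy S R ⊓ D := Subgroup.mem_subgroupOf.1 hy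
    rw [Subgroup.mem_subgroupOf]
    exact hDn α hα y.1 hy'.2
  obtain ⟨n, hnN, hn'⟩ := exists_conj_mem_sylow_of_normal (D.subgroupOf (F.autGroup R)) T hHp hHN
  have hcgS : conjAut R g hg.2 ∈ autInducedBy S R := mem_autInducedBy_iff.2 ⟨g, hg.1, fun x => rfl⟩
  have hcgF : conjAut R g hg.2 ∈ F.autGroup R := autInducedBy_le_autGroup F hRS hcgS
  have hmem : (MulAut.conj αG) ⟨conjAut R g hg.2, hcgF⟩ ∈ H :=
    ⟨⟨conjAut R g hg.2, hcgF⟩, Subgroup.mem_subgroupOf.2 ⟨hcgS, hgD⟩, rfl⟩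
  have h1 := hn' _ hmem
  have h2 : n * (MulAut.conj αG) ⟨conjAut R g hg.2, hcgF⟩ * n⁻¹ ∈ (T : Subgroup (F.autGroup R)) := h1
  rw [hT, Subgroup.mem_subgroupOf] at h2
  have hδD : (n : MulAut R) ∈ D := Subgroup.mem_subgroupOf.1 hnN
  have hνF : (n : MulAut R) * α ∈ F.autGroup R := Subgroup.mul_mem _ n.2 hα
  obtain ⟨X, ψ, hψ, hRX, hXN, hψν, hXg⟩ := exists_extension_aut F hRS hRr ((n : MulAut R) * α) hνF
  refine ⟨(n : MulAut R), hδD, X, ψ, hψ, hRX, hXN, ?_, hψν⟩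
  apply hXg g hg
  have h3 : (n : MulAut R) * α * conjAut R g hg.2 * ((n : MulAut R) * α)⁻¹ =
      ((n * (MulAut.conj αG) ⟨conjAut R g hg.2, hcgF⟩ * n⁻¹ : F.autGroup R) : MulAut R) := by
    simp [αG, MulAut.conj_apply, mul_assoc]
  rw [h3]
  exact h2


/-- The subsystem of `F` of the maps `φ` with `x ∈ U ↔ φ x ∈ U`, for a subgroup `U` whose membership is invariant under
conjugation by `S`. -/
def preserveSystem (F : FusionSystem S) (U : Subgroup Ω) (hU : ∀ g ∈ S, ∀ x, x ∈ U ↔ g * x * g⁻¹ ∈ U) :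
    FusionSystem S where
  Hom P := {φ | φ ∈ F.Hom P ∧ ∀ x : P, (x : Ω) ∈ U ↔ φ x ∈ U}
  le_of_mem h := F.le_of_mem h.1
  injective_of_mem h := F.injective_of_mem h.1
  conj_mem hP hg := ⟨F.conj_mem hP hg, fun x => hU _ hg x⟩
  comp_mem := by
    rintro P Q φ ψ ⟨hφ, hφU⟩ ⟨hψ, hψU⟩ h
    exact ⟨F.comp_mem hφ hψ h, fun x => (hφU x).trans (hψU ⟨φ x, h x⟩)⟩
  inv_mem := by
    rintro P φ ⟨hφ, hφU⟩
    obtain ⟨ψ, hψ, hinv⟩ := F.inv_mem hφ
    refine ⟨ψ, ⟨hψ, ?_⟩, hinv⟩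
    rintro ⟨_, x, rfl⟩
    rw [hinv x]
    exact (hφU x).symm

theorem mem_preserveSystem_hom (F : FusionSystem S) (U : Subgroup Ω)
    (hU : ∀ g ∈ S, ∀ x, x ∈ U ↔ g * x * g⁻¹ ∈ U) {P : Subgroup Ω} {φ : P →* Ω} :
    φ ∈ (preserveSystem F U hU).Hom P ↔ φ ∈ F.Hom P ∧ ∀ x : P, (x : Ω) ∈ U ↔ φ x ∈ U := Iff.rfl

end Cfsg.Agent.Lib.Helper87
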