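/-
helper87, project BHRSU (helper37): BHRSU-[PROPER] in `_of` form.
`SU_n(q)` (`4 ≤ n ≤ 26`) lies in no member of `InUnitaryClassR n F q`, GIVEN the eight properness leaves
[P1] [P2] [P3] [P4] [P7] [P5-ODD] [P5-TWO] [P6] of the sheet as hypotheses (stated exactly as the instances of the
Skel statements at `hF`, `hn`).  The exact sheet statement is `Lib/Helper87/BhrsuProper.lean` (when the leaves are on main).
-/
import Mathlib
import Cfsg.Prelude.Def_GeometricClasses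
import Cfsg.Prelude.Def_ClassicalGeometry
import Cfsg.Agent.Lib.Helper37.BHRSU.Defs

set_option autoImplicit false

namespace Cfsg.Agent.Lib.Helper87.BhrsuProper

open Cfsg Cfsg.Geo Cfsg.Agent.Lib.Helper70.AschU Cfsg.Agent.Lib.Helper37.BHRSU
open scoped MatrixGroups Matrix Kronecker

variable {F : Type*} [Field F] [Fintype F] {n q : ℕ}

omit [Fintype F] in
/-- the standard hermitian form is not identically zero (`n ≥ 1`): `f(e₀, e₀) = 1`. -/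
theorem hermForm_single_self (hn : 1 ≤ n) :
    hermForm n F q (Pi.single (⟨0, hn⟩ : Fin n) (1 : F)) (Pi.single (⟨0, hn⟩ : Fin n) (1 : F)) = 1 := by
  unfold hermForm
  rw [Finset.sum_eq_single (⟨0, hn⟩ : Fin n)]
  · simp
  · intro i _ hi
    simp [Pi.single_eq_of_ne hi]
  · intro h
    exact absurd (Finset.mem_univ _) h

omit [Fintype F] in
/-- a totally singular subspace for the standard hermitian form is proper. -/
theorem ne_top_of_isTotallySingularFor (hn : 1 ≤ n) (W : Submodule F (Fin n → F))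
    (hW : IsTotallySingularFor (hermForm n F q) W) : W ≠ ⊤ := by
  rintro rfl
  have h := hW (Pi.single (⟨0, hn⟩ : Fin n) (1 : F)) Submodule.mem_top
    (Pi.single (⟨0, hn⟩ : Fin n) (1 : F)) Submodule.mem_top
  rw [hermForm_single_self hn] at h
  exact one_ne_zero h

omit [Fintype F] in
/-- a subspace with `2 * finrank W < n` is proper. -/
theorem ne_top_of_two_mul_finrank_lt (hn : 1 ≤ n) (W : Submodule F (Fin n → F))
    (hW : 2 * Module.finrank F W < n) : W ≠ ⊤ := by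
  rintro rfl
  rw [finrank_top, Module.finrank_fin_fun] at hW
  omega

/-- `Fin n ≃ (Fin t → Fin k)` with `3 ≤ k`, `2 ≤ t`, `n ≤ 26` forces `t = 2`. -/
theorem two_of_equiv_fun {k t : ℕ} (hn' : n ≤ 26) (hk : 3 ≤ k) (ht : 2 ≤ t)
    (e : Fin n ≃ (Fin t → Fin k)) : t = 2 := by
  have h := Fintype.card_congr e
  simp only [Fintype.card_fin, Fintype.card_pi, Finset.prod_const, Finset.card_univ] at h
  by_contra hne
  have ht3 : 3 ≤ t := by omega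
  have h1 : 3 ^ 3 ≤ k ^ t :=
    (Nat.pow_le_pow_left hk 3).trans (Nat.pow_le_pow_right (by omega) ht3)
  omega

/-- BHRSU-[PROPER] in `_of` form: the eight properness leaves as hypotheses. -/
theorem not_SUg_le_of_inUnitaryClassR_of (hn : 4 ≤ n) (hn' : n ≤ 26)
    (P1 : ∀ W : Submodule F (Fin n → F), W ≠ ⊥ → W ≠ ⊤ → ¬ SUg n F q ≤ subspaceStabilizer W)
    (P2 : ∀ {t : ℕ} (k : ℕ) (D : Fin t → Submodule F (Fin n → F)), IsMDecomposition k D →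
      ¬ SUg n F q ≤ decompositionStabilizer D)
    (P3 : ∀ r : ℕ, 2 ≤ r → ∀ K : Subalgebra F (Matrix (Fin n) (Fin n) F), IsFieldSubalgebra r K →
      ¬ SUg n F q ≤ subalgebraNormalizer K)
    (P4 : ∀ n₁ n₂ : ℕ, 2 ≤ n₁ → 2 ≤ n₂ → ∀ (e : Fin n ≃ Fin n₁ × Fin n₂) (P : GL (Fin n) F),
      ¬ SUg n F q ≤ tensorProductSubgroup n₁ n₂ e P)
    (P7 : ∀ k : ℕ, 3 ≤ k → ∀ (e : Fin n ≃ (Fin 2 → Fin k)) (P : GL (Fin n) F),
      ¬ SUg n F q ≤ tensorWreathSubgroup k 2 e P)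
    (P5o : ∀ (F₀ : Subfield F) (r : ℕ), r.Prime → Odd r → Fintype.card F = Nat.card F₀ ^ r →
      ∀ P : GL (Fin n) F, ¬ SUg n F q ≤ subfieldSubgroup F₀ P)
    (P5t : ∀ F₀ : Subfield F, Fintype.card F = Nat.card F₀ ^ 2 →
      ∀ P : GL (Fin n) F, ¬ SUg n F q ≤ subfieldSubgroup F₀ P)
    (P6 : ∀ p : ℕ, p.Prime → CharP F p → ∀ r : ℕ, r ≠ p → ∀ R : Subgroup (GL (Fin n) F), IsPGroup r R →
      ActsAbsolutelyIrreducibly (matrixSet R) → ¬ SUg n F q ≤ subgroupNormalizer R)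
    (M : Subgroup (GL (Fin n) F)) (hM : InUnitaryClassR n F q M) : ¬ SUg n F q ≤ M := by
  intro hle
  have hn1 : 1 ≤ n := by omega
  rcases hM with (⟨W, hW, hts, rfl⟩ | ⟨W, hW, -, hlt, rfl⟩ | ⟨t, k, D, hD, rfl⟩ | ⟨k, D, -, hD, -, rfl⟩ |
    ⟨F₀, r, P, hr, hodd, hc, -, rfl⟩ | ⟨F₀, P, -, hc, -, rfl⟩ | ⟨F₀, P, ζ, -, hc, -, -, -, -, rfl⟩ |
    ⟨r, K, hr, -, hK, -, rfl⟩ | ⟨n₁, n₂, e, P, f₁, f₂, h1, h12, -, -, -, rfl⟩ |
    ⟨k, t, e, P, f₁, hk, ht, -, -, -, rfl⟩) |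
    ⟨r, R, p, e, k, hsym, habs, -, hrp, hmin, -, -, rfl⟩
  · exact P1 W hW (ne_top_of_isTotallySingularFor hn1 W hts) (hle.trans inf_le_left)
  · exact P1 W hW (ne_top_of_two_mul_finrank_lt hn1 W hlt) (hle.trans inf_le_left)
  · exact P2 k D hD.decomp (hle.trans inf_le_left)
  · exact P2 k D hD (hle.trans inf_le_left)
  · exact P5o F₀ r hr hodd hc P (hle.trans inf_le_left)
  · exact P5t F₀ hc P (hle.trans inf_le_left)
  · exact P5t F₀ hc P (hle.trans inf_le_left)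
  · exact P3 r hr.two_le K hK (hle.trans inf_le_left)
  · exact P4 n₁ n₂ h1 (by omega) e P (hle.trans inf_le_left)
  · obtain rfl : t = 2 := two_of_equiv_fun hn' hk ht e
    exact P7 k hk e P (hle.trans inf_le_left)
  · exact P6 p hmin.1 hmin.2.1 r hrp R hsym.pGroup habs (hle.trans inf_le_left)

/-- the class-6-free part of BHRSU-[PROPER] in `_of` form (seven leaves as hypotheses). -/
theorem not_SUg_le_of_inUnitaryClassNo6_of (hn : 4 ≤ n) (hn' : n ≤ 26)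
    (P1 : ∀ W : Submodule F (Fin n → F), W ≠ ⊥ → W ≠ ⊤ → ¬ SUg n F q ≤ subspaceStabilizer W)
    (P2 : ∀ {t : ℕ} (k : ℕ) (D : Fin t → Submodule F (Fin n → F)), IsMDecomposition k D →
      ¬ SUg n F q ≤ decompositionStabilizer D)
    (P3 : ∀ r : ℕ, 2 ≤ r → ∀ K : Subalgebra F (Matrix (Fin n) (Fin n) F), IsFieldSubalgebra r K →
      ¬ SUg n F q ≤ subalgebraNormalizer K)
    (P4 : ∀ n₁ n₂ : ℕ, 2 ≤ n₁ → 2 ≤ n₂ → ∀ (e : Fin n ≃ Fin n₁ × Fin n₂) (P : GL (Fin n) F),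
      ¬ SUg n F q ≤ tensorProductSubgroup n₁ n₂ e P)
    (P7 : ∀ k : ℕ, 3 ≤ k → ∀ (e : Fin n ≃ (Fin 2 → Fin k)) (P : GL (Fin n) F),
      ¬ SUg n F q ≤ tensorWreathSubgroup k 2 e P)
    (P5o : ∀ (F₀ : Subfield F) (r : ℕ), r.Prime → Odd r → Fintype.card F = Nat.card F₀ ^ r →
      ∀ P : GL (Fin n) F, ¬ SUg n F q ≤ subfieldSubgroup F₀ P)
    (P5t : ∀ F₀ : Subfield F, Fintype.card F = Nat.card F₀ ^ 2 →
      ∀ P : GL (Fin n) F, ¬ SUg n F q ≤ subfieldSubgroup F₀ P)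
    (M : Subgroup (GL (Fin n) F)) (hM : InUnitaryClassNo6 n F q M) : ¬ SUg n F q ≤ M := by
  intro hle
  have hn1 : 1 ≤ n := by omega
  rcases hM with ⟨W, hW, hts, rfl⟩ | ⟨W, hW, -, hlt, rfl⟩ | ⟨t, k, D, hD, rfl⟩ | ⟨k, D, -, hD, -, rfl⟩ |
    ⟨F₀, r, P, hr, hodd, hc, -, rfl⟩ | ⟨F₀, P, -, hc, -, rfl⟩ | ⟨F₀, P, ζ, -, hc, -, -, -, -, rfl⟩ |
    ⟨r, K, hr, -, hK, -, rfl⟩ | ⟨n₁, n₂, e, P, f₁, f₂, h1, h12, -, -, -, rfl⟩ |
    ⟨k, t, e, P, f₁, hk, ht, -, -, -, rfl⟩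
  · exact P1 W hW (ne_top_of_isTotallySingularFor hn1 W hts) (hle.trans inf_le_left)
  · exact P1 W hW (ne_top_of_two_mul_finrank_lt hn1 W hlt) (hle.trans inf_le_left)
  · exact P2 k D hD.decomp (hle.trans inf_le_left)
  · exact P2 k D hD (hle.trans inf_le_left)
  · exact P5o F₀ r hr hodd hc P (hle.trans inf_le_left)
  · exact P5t F₀ hc P (hle.trans inf_le_left)
  · exact P5t F₀ hc P (hle.trans inf_le_left)
  · exact P3 r hr.two_le K hK (hle.trans inf_le_left)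
  · exact P4 n₁ n₂ h1 (by omega) e P (hle.trans inf_le_left)
  · obtain rfl : t = 2 := two_of_equiv_fun hn' hk ht e
    exact P7 k hk e P (hle.trans inf_le_left)

/-- BHRSU-[PROPER] in `_of` form, most general: the [P6] hypothesis may use everything class 6 provides
(`p` prime, `CharP F p`, `r ≠ p`, `r` prime, `R` an `r`-group of similitudes, absolutely irreducible). -/
theorem not_SUg_le_of_inUnitaryClassR_of_gen (hn : 4 ≤ n) (hn' : n ≤ 26)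
    (P1 : ∀ W : Submodule F (Fin n → F), W ≠ ⊥ → W ≠ ⊤ → ¬ SUg n F q ≤ subspaceStabilizer W)
    (P2 : ∀ {t : ℕ} (k : ℕ) (D : Fin t → Submodule F (Fin n → F)), IsMDecomposition k D →
      ¬ SUg n F q ≤ decompositionStabilizer D)
    (P3 : ∀ r : ℕ, 2 ≤ r → ∀ K : Subalgebra F (Matrix (Fin n) (Fin n) F), IsFieldSubalgebra r K →
      ¬ SUg n F q ≤ subalgebraNormalizer K)
    (P4 : ∀ n₁ n₂ : ℕ, 2 ≤ n₁ → 2 ≤ n₂ → ∀ (e : Fin n ≃ Fin n₁ × Fin n₂) (P : GL (Fin n) F),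
      ¬ SUg n F q ≤ tensorProductSubgroup n₁ n₂ e P)
    (P7 : ∀ k : ℕ, 3 ≤ k → ∀ (e : Fin n ≃ (Fin 2 → Fin k)) (P : GL (Fin n) F),
      ¬ SUg n F q ≤ tensorWreathSubgroup k 2 e P)
    (P5o : ∀ (F₀ : Subfield F) (r : ℕ), r.Prime → Odd r → Fintype.card F = Nat.card F₀ ^ r →
      ∀ P : GL (Fin n) F, ¬ SUg n F q ≤ subfieldSubgroup F₀ P)
    (P5t : ∀ F₀ : Subfield F, Fintype.card F = Nat.card F₀ ^ 2 →
      ∀ P : GL (Fin n) F, ¬ SUg n F q ≤ subfieldSubgroup F₀ P)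
    (P6 : ∀ p : ℕ, p.Prime → CharP F p → ∀ r : ℕ, r ≠ p → r.Prime → ∀ R : Subgroup (GL (Fin n) F),
      IsPGroup r R → R ≤ similarityGroup (hermForm n F q) →
      ActsAbsolutelyIrreducibly (matrixSet R) → ¬ SUg n F q ≤ subgroupNormalizer R)
    (M : Subgroup (GL (Fin n) F)) (hM : InUnitaryClassR n F q M) : ¬ SUg n F q ≤ M := by
  rcases hM with hM | ⟨r, R, p, e, k, hsym, habs, hsim, hrp, hmin, -, -, rfl⟩
  · exact not_SUg_le_of_inUnitaryClassNo6_of hn hn' P1 P2 P3 P4 P7 P5o P5t M hM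
  · intro hle
    exact P6 p hmin.1 hmin.2.1 r hrp hsym.prime R hsym.pGroup hsim habs (hle.trans inf_le_left)

end Cfsg.Agent.Lib.Helper87.BhrsuProper
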