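/-
helper87, project BHRSU (helper37): BHRSU-[PROPER], exact sheet statement.
`SU_n(q)` (`4 ≤ n ≤ 26`) lies in no member of `InUnitaryClassR n F q`: assembly of the leaves
[P1] [P3] (helper65), [P2] (helper81), [P4] [P7] (helper17), [P5-ODD] (helper50), [P5-TWO] (helper34),
[P6] (helper25) and the KIT (helper37) through `Lib/Helper87/BhrsuProperOf.lean`.
-/
import Mathlib
import Cfsg.Prelude.Def_GeometricClasses
import Cfsg.Prelude.Def_ClassicalGeometry
import Cfsg.Agent.Lib.Helper37.BHRSU.Defs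
import Cfsg.Agent.Lib.Helper37.BHRSU.Kit
import Cfsg.Agent.Lib.Helper37.BHRSU.Normal
import Cfsg.Agent.Lib.Helper65.BhrsuP1
import Cfsg.Agent.Lib.Helper65.BhrsuP3
import Cfsg.Agent.Lib.Helper81.BhrsuP2
import Cfsg.Agent.Lib.Helper17.BhrsuP47
import Cfsg.Agent.Lib.Helper50.BhrsuP5Odd
import Cfsg.Agent.Lib.Helper34.BhrsuP5Two
import Cfsg.Agent.Lib.Helper25.BhrsuP6
import Cfsg.Agent.Lib.Helper87.BhrsuProperOf

set_option autoImplicit false

namespace Cfsg.Agent.Lib.Helper37.BHRSU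

open Cfsg Cfsg.Geo Cfsg.Agent.Lib.Helper70.AschU
open scoped MatrixGroups Matrix Kronecker

variable {F : Type*} [Field F] [Fintype F] {n q : ℕ}

/-- BHRSU-[PROPER]  `SU_n(q)`, `4 ≤ n ≤ 26`, lies in no member of a geometric class. -/
theorem not_SUg_le_of_inUnitaryClassR (hF : Fintype.card F = q ^ 2) (hn : 4 ≤ n) (hn' : n ≤ 26)
    (M : Subgroup (GL (Fin n) F)) (hM : InUnitaryClassR n F q M) : ¬ SUg n F q ≤ M :=
  Cfsg.Agent.Lib.Helper87.BhrsuProper.not_SUg_le_of_inUnitaryClassR_of_gen hn hn'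
    (fun W hW hW' => not_SUg_le_subspaceStabilizer hF (by omega) W hW hW')
    (fun k D hD => Cfsg.Agent.Lib.Helper81.BhrsuP2.not_SUg_le_decompositionStabilizer_of
      (fun K h => SUg_le_of_tv hF hn K h) (commutator_SUg hF hn)
      (fun W h1 h2 => not_SUg_le_subspaceStabilizer hF (by omega) W h1 h2) k D hD)
    (fun r hr K hK => not_SUg_le_subalgebraNormalizer hF (by omega) r hr K hK)
    (fun n₁ n₂ h1 h2 e P => not_SUg_le_tensorProductSubgroup hF (by omega) n₁ n₂ h1 h2 e P)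
    (fun k hk e P => not_SUg_le_tensorWreathSubgroup_two hF (by omega) k hk e P)
    (fun F₀ r hr hodd hc P => not_SUg_le_subfieldSubgroup_odd hF (by omega) F₀ r hr hodd hc P)
    (fun F₀ hc P => not_SUg_le_subfieldSubgroup_two hF hn F₀ hc P)
    (fun _ _ _ r _ hr R hR hsim habs =>
      Cfsg.Agent.Lib.Helper25.BhrsuP6.not_SUg_le_subgroupNormalizer_of (by omega)
        (fun N hN hnorm => normal_le_scalars_or_eq hF hn N hN hnorm) (commutator_SUg hF hn)
        (SUg_absIrred hF (by omega)) r hr R hR hsim habs)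
    M hM

end Cfsg.Agent.Lib.Helper37.BHRSU
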