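import Mathlib
import Cfsg.Prelude.Def_GeometricClasses
import Cfsg.Agent.Lib.Helper99.AschDefs
import Cfsg.Agent.Lib.Helper99.AschDefsR

/-!
BHR-[MAXCASES] in `_of` form (helper87, hedge): the generic case list for a maximal subgroup of `SL_n(F)`, `n ≥ 3`,
from the refined main theorem (MAINR), properness (PROPER), `r ∣ n` (C3DIV) and the small-field containments
E1 E2 E3 E5 E8, all taken as hypotheses.
-/

set_option autoImplicit false

namespace Cfsg.Agent.Lib.Helper87.BhrMaxCases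

open Cfsg Cfsg.Geo Cfsg.Agent.Lib.Helper99.Asch
open scoped MatrixGroups Matrix Kronecker

variable {n : ℕ} {F : Type*} [Field F] [Fintype F]

/-- The conclusion of `maximal_cases` (verbatim from the sheet). -/
def MaxCases (n : ℕ) (F : Type*) [Field F] [Fintype F] (H : Subgroup (GL (Fin n) F)) : Prop :=
    (∃ W : Submodule F (Fin n → F), W ≠ ⊥ ∧ W ≠ ⊤ ∧
      H = subspaceStabilizer W ⊓ specialLinear (Fin n) F) ∨
    (∃ (t m : ℕ) (D : Fin t → Submodule F (Fin n → F)), IsMDecomposition m D ∧ t * m = n ∧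
      (m = 1 → 5 ≤ Fintype.card F) ∧ (m = 2 → 3 ≤ Fintype.card F) ∧
      H = decompositionStabilizer D ⊓ specialLinear (Fin n) F) ∨
    (∃ (r : ℕ) (K : Subalgebra F (Matrix (Fin n) (Fin n) F)), r.Prime ∧ r ∣ n ∧ IsFieldSubalgebra r K ∧
      H = subalgebraNormalizer K ⊓ specialLinear (Fin n) F) ∨
    (∃ (n₁ n₂ : ℕ) (e : Fin n ≃ Fin n₁ × Fin n₂) (P : GL (Fin n) F), 2 ≤ n₁ ∧ n₁ < n₂ ∧ n₁ * n₂ = n ∧
      (n₁ = 2 → 3 ≤ Fintype.card F) ∧
      H = tensorProductSubgroup n₁ n₂ e P ⊓ specialLinear (Fin n) F) ∨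
    (∃ (F₀ : Subfield F) (r : ℕ) (P : GL (Fin n) F), r.Prime ∧ Fintype.card F = Nat.card F₀ ^ r ∧
      H = subfieldSubgroup F₀ P ⊓ specialLinear (Fin n) F) ∨
    (∃ (r : ℕ) (R : Subgroup (GL (Fin n) F)) (m : ℕ), IsLinearSymplecticTypeData r R ∧ 1 ≤ m ∧ n = r ^ m ∧
      H = subgroupNormalizer R ⊓ specialLinear (Fin n) F) ∨
    (∃ (m t : ℕ) (e : Fin n ≃ (Fin t → Fin m)) (P : GL (Fin n) F), 3 ≤ m ∧ 2 ≤ t ∧ m ^ t = n ∧
      H = tensorWreathSubgroup m t e P ⊓ specialLinear (Fin n) F) ∨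
    (∃ f : (Fin n → F) → (Fin n → F) → F, IsSymplecticForm f ∧ Even n ∧
      H = similarityGroup f ⊓ specialLinear (Fin n) F) ∨
    (∃ (σ : F ≃+* F) (f : (Fin n → F) → (Fin n → F) → F), IsUnitaryForm σ f ∧
      H = similarityGroup f ⊓ specialLinear (Fin n) F) ∨
    (∃ Q : (Fin n → F) → F, IsNondegenerateQuadraticForm Q ∧ Odd (Fintype.card F) ∧
      H = quadSimilarityGroup Q ⊓ specialLinear (Fin n) F) ∨
    InLinearResidualClass H

section intro
variable {H : Subgroup (GL (Fin n) F)}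

theorem MaxCases.c1 (h : ∃ W : Submodule F (Fin n → F), W ≠ ⊥ ∧ W ≠ ⊤ ∧
      H = subspaceStabilizer W ⊓ specialLinear (Fin n) F) : MaxCases n F H := Or.inl h

theorem MaxCases.c2 (h : ∃ (t m : ℕ) (D : Fin t → Submodule F (Fin n → F)), IsMDecomposition m D ∧ t * m = n ∧
      (m = 1 → 5 ≤ Fintype.card F) ∧ (m = 2 → 3 ≤ Fintype.card F) ∧
      H = decompositionStabilizer D ⊓ specialLinear (Fin n) F) : MaxCases n F H := Or.inr (Or.inl h)

theorem MaxCases.c3 (h : ∃ (r : ℕ) (K : Subalgebra F (Matrix (Fin n) (Fin n) F)), r.Prime ∧ r ∣ n ∧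
      IsFieldSubalgebra r K ∧ H = subalgebraNormalizer K ⊓ specialLinear (Fin n) F) : MaxCases n F H :=
  Or.inr (Or.inr (Or.inl h))

theorem MaxCases.c4 (h : ∃ (n₁ n₂ : ℕ) (e : Fin n ≃ Fin n₁ × Fin n₂) (P : GL (Fin n) F), 2 ≤ n₁ ∧ n₁ < n₂ ∧
      n₁ * n₂ = n ∧ (n₁ = 2 → 3 ≤ Fintype.card F) ∧
      H = tensorProductSubgroup n₁ n₂ e P ⊓ specialLinear (Fin n) F) : MaxCases n F H :=
  Or.inr (Or.inr (Or.inr (Or.inl h)))

theorem MaxCases.c5 (h : ∃ (F₀ : Subfield F) (r : ℕ) (P : GL (Fin n) F), r.Prime ∧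
      Fintype.card F = Nat.card F₀ ^ r ∧ H = subfieldSubgroup F₀ P ⊓ specialLinear (Fin n) F) :
    MaxCases n F H := Or.inr (Or.inr (Or.inr (Or.inr (Or.inl h))))

theorem MaxCases.c6 (h : ∃ (r : ℕ) (R : Subgroup (GL (Fin n) F)) (m : ℕ), IsLinearSymplecticTypeData r R ∧
      1 ≤ m ∧ n = r ^ m ∧ H = subgroupNormalizer R ⊓ specialLinear (Fin n) F) : MaxCases n F H :=
  Or.inr (Or.inr (Or.inr (Or.inr (Or.inr (Or.inl h)))))

theorem MaxCases.c7 (h : ∃ (m t : ℕ) (e : Fin n ≃ (Fin t → Fin m)) (P : GL (Fin n) F), 3 ≤ m ∧ 2 ≤ t ∧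
      m ^ t = n ∧ H = tensorWreathSubgroup m t e P ⊓ specialLinear (Fin n) F) : MaxCases n F H :=
  Or.inr (Or.inr (Or.inr (Or.inr (Or.inr (Or.inr (Or.inl h))))))

theorem MaxCases.c8 (h : ∃ f : (Fin n → F) → (Fin n → F) → F, IsSymplecticForm f ∧ Even n ∧
      H = similarityGroup f ⊓ specialLinear (Fin n) F) : MaxCases n F H :=
  Or.inr (Or.inr (Or.inr (Or.inr (Or.inr (Or.inr (Or.inr (Or.inl h)))))))

theorem MaxCases.c9 (h : ∃ (σ : F ≃+* F) (f : (Fin n → F) → (Fin n → F) → F), IsUnitaryForm σ f ∧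
      H = similarityGroup f ⊓ specialLinear (Fin n) F) : MaxCases n F H :=
  Or.inr (Or.inr (Or.inr (Or.inr (Or.inr (Or.inr (Or.inr (Or.inr (Or.inl h))))))))

theorem MaxCases.c10 (h : ∃ Q : (Fin n → F) → F, IsNondegenerateQuadraticForm Q ∧ Odd (Fintype.card F) ∧
      H = quadSimilarityGroup Q ⊓ specialLinear (Fin n) F) : MaxCases n F H :=
  Or.inr (Or.inr (Or.inr (Or.inr (Or.inr (Or.inr (Or.inr (Or.inr (Or.inr (Or.inl h)))))))))

theorem MaxCases.c11 (h : InLinearResidualClass H) : MaxCases n F H :=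
  Or.inr (Or.inr (Or.inr (Or.inr (Or.inr (Or.inr (Or.inr (Or.inr (Or.inr (Or.inr h)))))))))

end intro

/-! ### Index arithmetic -/

theorem mul_eq_of_isMDecomposition {t m : ℕ} (D : Fin t → Submodule F (Fin n → F))
    (hD : IsMDecomposition m D) : t * m = n := by
  classical
  have hint : DirectSum.IsInternal D :=
    DirectSum.isInternal_submodule_of_iSupIndep_of_iSup_eq_top hD.indep hD.iSup_eq_top
  have h1 : Module.finrank F (Fin n → F) = ∑ i, Module.finrank F (D i) := by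
    have e := LinearEquiv.ofBijective (DirectSum.coeLinearMap D) hint
    rw [← e.finrank_eq, Module.finrank_directSum]
  simp only [hD.finrank_eq, Finset.sum_const, Finset.card_univ, Fintype.card_fin, smul_eq_mul,
    Module.finrank_fintype_fun_eq_card] at h1
  exact h1.symm

theorem mul_eq_of_equiv_prod {n₁ n₂ : ℕ} (e : Fin n ≃ Fin n₁ × Fin n₂) : n₁ * n₂ = n := by
  have := Fintype.card_congr e
  simpa using this.symm

theorem pow_eq_of_equiv_fun {m t : ℕ} (e : Fin n ≃ (Fin t → Fin m)) : m ^ t = n := by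
  have := Fintype.card_congr e
  simpa using this.symm

/-! ### The maximality step -/

/-- A maximal subgroup of `SL` lying in a member `M` of a geometric class equals `M ⊓ SL`. -/
theorem eq_inf_of_le
    (hproper : ∀ M : Subgroup (GL (Fin n) F), InLinearClass n F M → ¬ specialLinear (Fin n) F ≤ M)
    {H : Subgroup (GL (Fin n) F)} (hH : IsMaximalIn (specialLinear (Fin n) F) H)
    {M : Subgroup (GL (Fin n) F)} (hM : InLinearClass n F M) (hle : H ≤ M) :
    H = M ⊓ specialLinear (Fin n) F := by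
  have h1 : H ≤ M ⊓ specialLinear (Fin n) F := le_inf hle hH.1.le
  rcases hH.2 (M ⊓ specialLinear (Fin n) F) h1 inf_le_right with h | h
  · exact h.symm
  · exact absurd (inf_eq_right.1 h) (hproper M hM)

/-! ### The case list -/

/-- BHR-[MAXCASES] with every input as a hypothesis. -/
theorem maxCases_of (hn : 3 ≤ n)
    (hmain : ∀ H : Subgroup (GL (Fin n) F), GeoR H ∨ InLinearResidualClass H)
    (hproper : ∀ M : Subgroup (GL (Fin n) F), InLinearClass n F M → ¬ specialLinear (Fin n) F ≤ M)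
    (hC3 : ∀ (r : ℕ) (K : Subalgebra F (Matrix (Fin n) (Fin n) F)), IsFieldSubalgebra r K → r ∣ n)
    (hE1 : ∀ {t : ℕ} (D : Fin t → Submodule F (Fin n → F)), IsMDecomposition 1 D → Fintype.card F = 2 →
      ∃ W : Submodule F (Fin n → F), W ≠ ⊥ ∧ W ≠ ⊤ ∧ decompositionStabilizer D ≤ subspaceStabilizer W)
    (hE2 : ∀ {t : ℕ} (D : Fin t → Submodule F (Fin n → F)), IsMDecomposition 1 D → Fintype.card F = 3 →
      ∃ Q : (Fin n → F) → F, IsNondegenerateQuadraticForm Q ∧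
        decompositionStabilizer D ≤ quadSimilarityGroup Q)
    (hE3 : ∀ {t : ℕ} (D : Fin t → Submodule F (Fin n → F)), IsMDecomposition 1 D → Fintype.card F = 4 →
      ∃ (σ : F ≃+* F) (f : (Fin n → F) → (Fin n → F) → F), IsUnitaryForm σ f ∧
        decompositionStabilizer D ≤ similarityGroup f)
    (hE5 : ∀ {t : ℕ} (D : Fin t → Submodule F (Fin n → F)), IsMDecomposition 2 D → Fintype.card F = 2 →
      ∃ f : (Fin n → F) → (Fin n → F) → F, IsSymplecticForm f ∧
        decompositionStabilizer D ≤ similarityGroup f)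
    (hE8 : ∀ (n₂ : ℕ), 1 ≤ n₂ → ∀ (e : Fin n ≃ Fin 2 × Fin n₂) (P : GL (Fin n) F), Fintype.card F = 2 →
      ∃ K : Subalgebra F (Matrix (Fin n) (Fin n) F), IsFieldSubalgebra 2 K ∧
        tensorProductSubgroup 2 n₂ e P ≤ subalgebraNormalizer K)
    (H : Subgroup (GL (Fin n) F)) (hH : IsMaximalIn (specialLinear (Fin n) F) H) :
    MaxCases n F H := by
  have hq1 : 1 < Fintype.card F := Fintype.one_lt_card
  rcases hmain H with hgeo | hres
  swap
  · exact MaxCases.c11 hres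
  obtain ⟨M, hMR, hle⟩ := hgeo
  have hMc : InLinearClass n F M := hMR.inLinearClass
  have hHM : H = M ⊓ specialLinear (Fin n) F := eq_inf_of_le hproper hH hMc hle
  rcases hMR with ⟨W, hW, hW', rfl⟩ | ⟨W, U, hW, hWU, -, rfl⟩ | ⟨W, U, hW, hinf, hsup, hlt, rfl⟩ |
    ⟨t, m, D, hD, rfl⟩ | ⟨r, K, hr, hK, rfl⟩ | ⟨n₁, n₂, e, P, h1, h12, rfl⟩ |
    ⟨F₀, r, P, hr, hc, rfl⟩ | ⟨r, R, hR, ⟨m, hm1, hnm⟩, rfl⟩ | ⟨m, t, e, P, hm, ht, rfl⟩ |
    ⟨f, hf, heven, -, rfl⟩ | ⟨σ, f, hf, -, rfl⟩ | ⟨Q, hQ, hodd, -, rfl⟩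
  · -- subspace
    exact MaxCases.c1 ⟨W, hW, hW', hHM⟩
  · -- flag pair: contained in the stabiliser of `W`
    have hW' : W ≠ ⊤ := fun h => by rw [h] at hWU; exact not_top_lt hWU
    have hcl : InLinearClass n F (subspaceStabilizer W) := Or.inl ⟨W, hW, hW', rfl⟩
    exact MaxCases.c1 ⟨W, hW, hW', eq_inf_of_le hproper hH hcl (hle.trans inf_le_left)⟩
  · -- complementary pair
    have hW' : W ≠ ⊤ := by
      intro h
      subst h
      rw [top_inf_eq] at hinf
      subst hinf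
      simp at hlt
    have hcl : InLinearClass n F (subspaceStabilizer W) := Or.inl ⟨W, hW, hW', rfl⟩
    exact MaxCases.c1 ⟨W, hW, hW', eq_inf_of_le hproper hH hcl (hle.trans inf_le_left)⟩
  · -- decomposition
    have htm : t * m = n := mul_eq_of_isMDecomposition D hD
    by_cases hm1 : m = 1
    · subst hm1
      by_cases hq5 : 5 ≤ Fintype.card F
      · exact MaxCases.c2 ⟨t, 1, D, hD, htm, fun _ => hq5, fun h => absurd h (by norm_num), hHM⟩
      · have hq : Fintype.card F = 2 ∨ Fintype.card F = 3 ∨ Fintype.card F = 4 := by omega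
        rcases hq with hq | hq | hq
        · obtain ⟨W, hW, hW', hDW⟩ := hE1 D hD hq
          have hcl : InLinearClass n F (subspaceStabilizer W) := Or.inl ⟨W, hW, hW', rfl⟩
          exact MaxCases.c1 ⟨W, hW, hW', eq_inf_of_le hproper hH hcl (hle.trans hDW)⟩
        · obtain ⟨Q, hQ, hDQ⟩ := hE2 D hD hq
          have hodd : Odd (Fintype.card F) := by rw [hq]; decide
          have hcl : InLinearClass n F (quadSimilarityGroup Q) :=
            Or.inr (Or.inr (Or.inr (Or.inr (Or.inr (Or.inr (Or.inr (Or.inr (Or.inr (Or.inr (Or.inr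
              ⟨Q, hQ, hodd, hn, rfl⟩))))))))))
          exact MaxCases.c10 ⟨Q, hQ, hodd, eq_inf_of_le hproper hH hcl (hle.trans hDQ)⟩
        · obtain ⟨σ, f, hf, hDf⟩ := hE3 D hD hq
          have hcl : InLinearClass n F (similarityGroup f) :=
            Or.inr (Or.inr (Or.inr (Or.inr (Or.inr (Or.inr (Or.inr (Or.inr (Or.inr (Or.inr (Or.inl
              ⟨σ, f, hf, hn, rfl⟩))))))))))
          exact MaxCases.c9 ⟨σ, f, hf, eq_inf_of_le hproper hH hcl (hle.trans hDf)⟩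
    · by_cases hm2 : m = 2
      · subst hm2
        by_cases hq3 : 3 ≤ Fintype.card F
        · exact MaxCases.c2 ⟨t, 2, D, hD, htm, fun h => absurd h (by norm_num), fun _ => hq3, hHM⟩
        · have hq : Fintype.card F = 2 := by omega
          obtain ⟨f, hf, hDf⟩ := hE5 D hD hq
          have ht2 : 2 ≤ t := hD.two_le
          have heven : Even n := ⟨t, by omega⟩
          have hcl : InLinearClass n F (similarityGroup f) :=
            Or.inr (Or.inr (Or.inr (Or.inr (Or.inr (Or.inr (Or.inr (Or.inr (Or.inr (Or.inl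
              ⟨f, hf, heven, by omega, rfl⟩)))))))))
          exact MaxCases.c8 ⟨f, hf, heven, eq_inf_of_le hproper hH hcl (hle.trans hDf)⟩
      · exact MaxCases.c2 ⟨t, m, D, hD, htm, fun h => absurd h hm1, fun h => absurd h hm2, hHM⟩
  · -- extension field
    exact MaxCases.c3 ⟨r, K, hr, hC3 r K hK, hK, hHM⟩
  · -- tensor product
    have hnn : n₁ * n₂ = n := mul_eq_of_equiv_prod e
    by_cases hn1 : n₁ = 2
    · subst hn1
      by_cases hq3 : 3 ≤ Fintype.card F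
      · exact MaxCases.c4 ⟨2, n₂, e, P, h1, h12, hnn, fun _ => hq3, hHM⟩
      · have hq : Fintype.card F = 2 := by omega
        obtain ⟨K, hK, hTK⟩ := hE8 n₂ (by omega) e P hq
        have hcl : InLinearClass n F (subalgebraNormalizer K) :=
          Or.inr (Or.inr (Or.inr (Or.inr (Or.inl ⟨2, K, Nat.prime_two, hK, rfl⟩))))
        exact MaxCases.c3 ⟨2, K, Nat.prime_two, hC3 2 K hK, hK,
          eq_inf_of_le hproper hH hcl (hle.trans hTK)⟩
    · exact MaxCases.c4 ⟨n₁, n₂, e, P, h1, h12, hnn, fun h => absurd h hn1, hHM⟩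
  · -- subfield
    exact MaxCases.c5 ⟨F₀, r, P, hr, hc, hHM⟩
  · -- symplectic type
    exact MaxCases.c6 ⟨r, R, m, hR, hm1, hnm, hHM⟩
  · -- tensor wreath
    exact MaxCases.c7 ⟨m, t, e, P, hm, ht, pow_eq_of_equiv_fun e, hHM⟩
  · exact MaxCases.c8 ⟨f, hf, heven, hHM⟩
  · exact MaxCases.c9 ⟨σ, f, hf, hHM⟩
  · exact MaxCases.c10 ⟨Q, hQ, hodd, hHM⟩

end Cfsg.Agent.Lib.Helper87.BhrMaxCases
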