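/-
helper87: in a saturated fusion system over a finite `p`-group, fully normalized subgroups are fully automized and
receptive, and fully centralized subgroups are receptive (the Roberts–Shpectorov definition of saturation implies the
Broto–Levi–Oliver axioms).
All declarations live in `Cfsg.Agent.Lib.Helper87`.
-/
import Cfsg.Agent.Lib.Helper87.FusionFrattini

set_option autoImplicit false

namespace Cfsg.Agent.Lib.Helper87
open Cfsg Cfsg.FusionSystem
open scoped Pointwise commutatorElement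

variable {Ω : Type*} [Group Ω] {S : Subgroup Ω}

/-- If `ψ`, defined on `N_S(P)`, restricts to the isomorphism `e : P ≃* Q`, then conjugation by `ψ g` on `Q` is the
transport of conjugation by `g` on `P`. -/
theorem map_conj_eq {P Q : Subgroup Ω} (hPS : P ≤ S) (ψ : normalizerIn S P →* Ω) (e : P ≃* Q)
    (hψe : ∀ (x : Ω) (hx : x ∈ P) (hx' : x ∈ normalizerIn S P), ψ ⟨x, hx'⟩ = e ⟨x, hx⟩)
    (g : normalizerIn S P) (x : P) (hx : (g : Ω) * (x : Ω) * (g : Ω)⁻¹ ∈ P) :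
    ψ g * (e x : Ω) * (ψ g)⁻¹ = (e ⟨(g : Ω) * (x : Ω) * (g : Ω)⁻¹, hx⟩ : Ω) := by
  have hle := le_normalizerIn hPS
  have h1 : (e x : Ω) = ψ ⟨(x : Ω), hle x.2⟩ := (hψe (x : Ω) x.2 (hle x.2)).symm
  have h2 : (e ⟨(g : Ω) * (x : Ω) * (g : Ω)⁻¹, hx⟩ : Ω) = ψ ⟨(g : Ω) * (x : Ω) * (g : Ω)⁻¹, hle hx⟩ :=
    (hψe _ hx (hle hx)).symm
  rw [h1, h2, ← map_inv, ← map_mul, ← map_mul]
  rfl

theorem conj_mem_of_mem_normalizerIn {P : Subgroup Ω} {g : Ω} (hg : g ∈ normalizerIn S P) {x : Ω} (hx : x ∈ P) :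
    g * x * g⁻¹ ∈ P :=
  (Subgroup.mem_normalizer_iff.1 hg.2 x).1 hx

/-- `ψ` maps `N_S(P)` into `N_S(Q)`. -/
theorem map_mem_normalizerIn (F : FusionSystem S) {P Q : Subgroup Ω} (hPS : P ≤ S) {ψ : normalizerIn S P →* Ω}
    (hψ : ψ ∈ F.Hom (normalizerIn S P)) (e : P ≃* Q)
    (hψe : ∀ (x : Ω) (hx : x ∈ P) (hx' : x ∈ normalizerIn S P), ψ ⟨x, hx'⟩ = e ⟨x, hx⟩)
    (g : normalizerIn S P) : ψ g ∈ normalizerIn S Q := by
  refine ⟨hom_map_mem F hψ g, ?_⟩
  have key : ∀ (g : normalizerIn S P) (y : Ω), y ∈ Q → ψ g * y * (ψ g)⁻¹ ∈ Q := by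
    intro g y hy
    have h1 : y = (e (e.symm ⟨y, hy⟩) : Ω) := by simp
    have hx := conj_mem_of_mem_normalizerIn g.2 (e.symm ⟨y, hy⟩).2
    rw [h1, map_conj_eq hPS ψ e hψe g _ hx]
    exact (e _).2
  show ψ g ∈ Subgroup.normalizer (Q : Set Ω)
  rw [Subgroup.mem_normalizer_iff]
  intro y
  constructor
  · exact key g y
  · intro h
    have := key g⁻¹ _ h
    rw [map_inv] at this
    simpa [mul_assoc] using this

/-- **Transport of receptivity.** If `Q` is receptive, `ψ` on `N_S(P)` restricts to an isomorphism of the system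
`e : P ≃* Q`, and the image of `ψ` contains `C_S(Q)`, then `P` is receptive. -/
theorem receptive_of_extension (F : FusionSystem S) [Finite S] {P Q : Subgroup Ω} (hQr : F.IsReceptive Q)
    {ψ : normalizerIn S P →* Ω} (hψ : ψ ∈ F.Hom (normalizerIn S P)) (e : P ≃* Q) (he : IsIso F e)
    (hψe : ∀ (x : Ω) (hx : x ∈ P) (hx' : x ∈ normalizerIn S P), ψ ⟨x, hx'⟩ = e ⟨x, hx⟩)
    (hC : ∀ c ∈ centralizerIn S Q, ∃ d : normalizerIn S P, ψ d = c) : F.IsReceptive P := by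
  have hPS : P ≤ S := he.le_left
  have hfinP : Finite P := finite_of_le hPS
  refine ⟨hPS, fun R χ hχ hχr => ?_⟩
  -- `χ` as an isomorphism `R ≃* P`
  let eχ : R ≃* P := (MonoidHom.ofInjective (F.injective_of_mem hχ)).trans (MulEquiv.subgroupCongr hχr)
  have heχ_apply : ∀ x : R, ((eχ x : P) : Ω) = χ x := fun x => rfl
  have heχ : IsIso F eχ := by
    refine hom_of_eq_on F rfl hχ ?_
    intro x hx _
    rfl
  let φ' : R →* Ω := Q.subtype.comp (eχ.trans e).toMonoidHom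
  have hφ' : φ' ∈ F.Hom R := heχ.trans he
  have hφ'r : φ'.range = Q := range_subtype_comp (eχ.trans e)
  have hφ'_apply : ∀ x : R, φ' x = (e (eχ x) : Ω) := fun x => rfl
  obtain ⟨θ, hθ, hθe⟩ := hQr.2 R φ' hφ' hφ'r
  -- generators of the extender of `χ` lie in the extender of `φ'`, with their `θ`-image in the range of `ψ`
  have hgen : ∀ g : Ω, g ∈ S → g ∈ Subgroup.normalizer (R : Set Ω) →
      (∃ h ∈ S, ∀ (x : R) (hx : g * (x : Ω) * g⁻¹ ∈ R), χ ⟨g * x * g⁻¹, hx⟩ = h * χ x * h⁻¹) →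
      ∃ (hg' : g ∈ extender S R φ'), θ ⟨g, hg'⟩ ∈ ψ.range := by
    rintro g hgS hgN ⟨h, hhS, hh⟩
    have hgR : ∀ x : R, g * (x : Ω) * g⁻¹ ∈ R := fun x => (Subgroup.mem_normalizer_iff.1 hgN x).1 x.2
    -- `h` normalizes `P`
    have hhP : ∀ y ∈ P, h * y * h⁻¹ ∈ P := by
      intro y hy
      have hy' : y ∈ χ.range := by rw [hχr]; exact hy
      obtain ⟨x, rfl⟩ := hy'
      rw [← hh x (hgR x), ← hχr]
      exact ⟨_, rfl⟩
    have hhN : h ∈ normalizerIn S P := ⟨hhS, Subgroup.mem_normalizer_fintype hhP⟩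
    have hcond : ∀ (x : R) (hx : g * (x : Ω) * g⁻¹ ∈ R),
        φ' ⟨g * x * g⁻¹, hx⟩ = ψ ⟨h, hhN⟩ * φ' x * (ψ ⟨h, hhN⟩)⁻¹ := by
      intro x hx
      rw [hφ'_apply, hφ'_apply]
      have h1 : h * ((eχ x : P) : Ω) * h⁻¹ ∈ P := hhP _ (eχ x).2
      have h2 := map_conj_eq hPS ψ e hψe ⟨h, hhN⟩ (eχ x) h1
      rw [h2]
      congr 2
      apply Subtype.ext
      show χ ⟨g * x * g⁻¹, hx⟩ = h * χ x * h⁻¹
      exact hh x hx
    have hg' : g ∈ extender S R φ' :=
      Subgroup.subset_closure ⟨hgS, hgN, ψ ⟨h, hhN⟩, hom_map_mem F hψ _, hcond⟩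
    refine ⟨hg', ?_⟩
    -- `(ψ h)⁻¹ θ(g)` centralizes `Q`
    have hRext : ∀ x : R, (x : Ω) ∈ extender S R φ' := by
      intro x
      apply Subgroup.subset_closure
      refine ⟨(hom_le F hχ) x.2, Subgroup.le_normalizer x.2, φ' x,
        hom_map_mem F hφ' x, ?_⟩
      · intro z hz
        have : (⟨(x : Ω) * (z : Ω) * (x : Ω)⁻¹, hz⟩ : R) = x * z * x⁻¹ := Subtype.ext rfl
        rw [this, map_mul, map_mul, map_inv]
    have hθg : θ ⟨g, hg'⟩ ∈ S := hom_map_mem F hθ _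
    have hcent : (ψ ⟨h, hhN⟩)⁻¹ * θ ⟨g, hg'⟩ ∈ centralizerIn S Q := by
      refine ⟨S.mul_mem (S.inv_mem (hom_map_mem F hψ _)) hθg, ?_⟩
      show _ ∈ Subgroup.centralizer (Q : Set Ω)
      rw [Subgroup.mem_centralizer_iff]
      intro y hy
      have hy' : y ∈ φ'.range := by rw [hφ'r]; exact hy
      obtain ⟨x, rfl⟩ := hy'
      have h1 : θ ⟨g, hg'⟩ * φ' x * (θ ⟨g, hg'⟩)⁻¹ = φ' ⟨g * x * g⁻¹, hgR x⟩ := by
        rw [← hθe (x : Ω) x.2 (hRext x), ← hθe _ (hgR x) (hRext ⟨_, hgR x⟩), ← map_inv, ← map_mul, ← map_mul]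
        rfl
      have h2 := hcond x (hgR x)
      rw [← h1] at h2
      -- from `θg φ'x θg⁻¹ = ψh φ'x ψh⁻¹`
      have h3 : φ' x * ((ψ ⟨h, hhN⟩)⁻¹ * θ ⟨g, hg'⟩) =
          (ψ ⟨h, hhN⟩)⁻¹ * (ψ ⟨h, hhN⟩ * φ' x * (ψ ⟨h, hhN⟩)⁻¹) * θ ⟨g, hg'⟩ := by group
      rw [h3, ← h2]
      group
    obtain ⟨d, hd⟩ := hC _ hcent
    refine ⟨⟨h, hhN⟩ * d, ?_⟩
    rw [map_mul, hd]
    group
  -- all of the extender of `χ`
  have hall : ∀ g ∈ extender S R χ, ∃ (hg' : g ∈ extender S R φ'), θ ⟨g, hg'⟩ ∈ ψ.range := by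
    intro g hg
    unfold extender at hg
    induction hg using Subgroup.closure_induction with
    | mem g hg => exact hgen g hg.1 hg.2.1 hg.2.2
    | one => exact ⟨Subgroup.one_mem _, by
        have : (⟨1, Subgroup.one_mem _⟩ : extender S R φ') = 1 := rfl
        rw [this, map_one]
        exact Subgroup.one_mem _⟩
    | mul a b _ _ iha ihb =>
      obtain ⟨ha', ha''⟩ := iha
      obtain ⟨hb', hb''⟩ := ihb
      refine ⟨Subgroup.mul_mem _ ha' hb', ?_⟩
      have : (⟨a * b, Subgroup.mul_mem _ ha' hb'⟩ : extender S R φ') = ⟨a, ha'⟩ * ⟨b, hb'⟩ := rfl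
      rw [this, map_mul]
      exact Subgroup.mul_mem _ ha'' hb''
    | inv a _ iha =>
      obtain ⟨ha', ha''⟩ := iha
      refine ⟨Subgroup.inv_mem _ ha', ?_⟩
      have : (⟨a⁻¹, Subgroup.inv_mem _ ha'⟩ : extender S R φ') = ⟨a, ha'⟩⁻¹ := rfl
      rw [this, map_inv]
      exact Subgroup.inv_mem _ ha''
  have hle : extender S R χ ≤ extender S R φ' := fun g hg => (hall g hg).1
  -- the restriction of `θ` and the inverse of `ψ`
  have hθ' : θ.comp (Subgroup.inclusion hle) ∈ F.Hom (extender S R χ) := restrict_mem F hθ hle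
  obtain ⟨ψinv, hψinv, hψinv_apply⟩ := F.inv_mem hψ
  have hrange : ∀ g : extender S R χ, (θ.comp (Subgroup.inclusion hle)) g ∈ ψ.range := by
    intro g
    exact (hall g.1 g.2).2
  refine ⟨ψinv.comp ((θ.comp (Subgroup.inclusion hle)).codRestrict ψ.range hrange),
    F.comp_mem hθ' hψinv hrange, ?_⟩
  intro x hxR hxN
  have h1 : θ ⟨x, hle hxN⟩ = ψ ⟨χ ⟨x, hxR⟩, le_normalizerIn hPS (eχ ⟨x, hxR⟩).2⟩ := by
    rw [hθe x hxR (hle hxN), hφ'_apply]
    exact (hψe _ (eχ ⟨x, hxR⟩).2 _).symm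
  have h2 := hψinv_apply ⟨χ ⟨x, hxR⟩, le_normalizerIn hPS (eχ ⟨x, hxR⟩).2⟩
  have h3 : ((θ.comp (Subgroup.inclusion hle)).codRestrict ψ.range hrange) ⟨x, hxN⟩ =
      ⟨ψ ⟨χ ⟨x, hxR⟩, le_normalizerIn hPS (eχ ⟨x, hxR⟩).2⟩, ⟨_, rfl⟩⟩ := Subtype.ext h1
  show ψinv (((θ.comp (Subgroup.inclusion hle)).codRestrict ψ.range hrange) ⟨x, hxN⟩) = _
  rw [h3, h2]

theorem centralizerIn_le_normalizerIn (S P : Subgroup Ω) : centralizerIn S P ≤ normalizerIn S P :=
  inf_le_inf_left S (Subgroup.centralizer_le_normalizer _)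

/-- `ψ` maps `C_S(P)` into `C_S(Q)`. -/
theorem map_mem_centralizerIn (F : FusionSystem S) {P Q : Subgroup Ω} (hPS : P ≤ S) {ψ : normalizerIn S P →* Ω}
    (hψ : ψ ∈ F.Hom (normalizerIn S P)) (e : P ≃* Q)
    (hψe : ∀ (x : Ω) (hx : x ∈ P) (hx' : x ∈ normalizerIn S P), ψ ⟨x, hx'⟩ = e ⟨x, hx⟩)
    (g : normalizerIn S P) (hg : (g : Ω) ∈ centralizerIn S P) : ψ g ∈ centralizerIn S Q := by
  refine ⟨hom_map_mem F hψ g, ?_⟩
  show ψ g ∈ Subgroup.centralizer (Q : Set Ω)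
  rw [Subgroup.mem_centralizer_iff]
  intro y hy
  have h1 : y = (e (e.symm ⟨y, hy⟩) : Ω) := by simp
  have hcomm : ∀ x : P, (g : Ω) * (x : Ω) * (g : Ω)⁻¹ = x := by
    intro x
    have := (Subgroup.mem_centralizer_iff.1 hg.2) (x : Ω) x.2
    rw [← this]
    group
  have hx : (g : Ω) * ((e.symm ⟨y, hy⟩ : P) : Ω) * (g : Ω)⁻¹ ∈ P := by
    rw [hcomm]
    exact (e.symm ⟨y, hy⟩).2
  have h2 := map_conj_eq hPS ψ e hψe g (e.symm ⟨y, hy⟩) hx
  have h3 : (⟨(g : Ω) * ((e.symm ⟨y, hy⟩ : P) : Ω) * (g : Ω)⁻¹, hx⟩ : P) = e.symm ⟨y, hy⟩ :=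
    Subtype.ext (hcomm _)
  rw [h3, ← h1] at h2
  calc y * ψ g = (ψ g * y * (ψ g)⁻¹) * ψ g := by rw [h2]
    _ = ψ g * y := by group

/-- In a saturated fusion system over a finite `p`-group, every fully centralized subgroup is receptive. -/
theorem receptive_of_fullyCentralized (F : FusionSystem S) [Finite S] {p : ℕ} [Fact p.Prime] (hS : IsPGroup p S)
    (hF : F.IsSaturated p) {P : Subgroup Ω} (hP : F.IsFullyCentralized P) : F.IsReceptive P := by
  have hPS : P ≤ S := hP.1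
  obtain ⟨Q, hPQ, hQa, hQr⟩ := hF P hPS
  obtain ⟨ψ, e, hψ, he, hψe⟩ := exists_extension F hS hQa hQr hPQ
  refine receptive_of_extension F hQr hψ e he hψe ?_
  have hfinQ : Finite (centralizerIn S Q) := finite_of_le inf_le_left
  let f : centralizerIn S P → centralizerIn S Q := fun c =>
    ⟨ψ ⟨(c : Ω), centralizerIn_le_normalizerIn S P c.2⟩,
      map_mem_centralizerIn F hPS hψ e hψe ⟨(c : Ω), centralizerIn_le_normalizerIn S P c.2⟩ c.2⟩
  have hf : Function.Injective f := by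
    intro a b hab
    have h1 : ψ ⟨(a : Ω), centralizerIn_le_normalizerIn S P a.2⟩ =
        ψ ⟨(b : Ω), centralizerIn_le_normalizerIn S P b.2⟩ := congrArg Subtype.val hab
    have h2 := F.injective_of_mem hψ h1
    exact Subtype.ext (congrArg (fun z : normalizerIn S P => (z : Ω)) h2)
  have hbij := hf.bijective_of_nat_card_le (hP.2 Q hPQ)
  intro c hc
  obtain ⟨d, hd⟩ := hbij.2 ⟨c, hc⟩
  exact ⟨⟨(d : Ω), centralizerIn_le_normalizerIn S P d.2⟩, congrArg Subtype.val hd⟩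

/-- In a saturated fusion system over a finite `p`-group, every fully normalized subgroup is fully automized and
receptive. -/
theorem fullyAutomized_receptive_of_fullyNormalized (F : FusionSystem S) [Finite S] {p : ℕ} [Fact p.Prime]
    (hS : IsPGroup p S) (hF : F.IsSaturated p) {P : Subgroup Ω} (hP : F.IsFullyNormalized P) :
    F.IsFullyAutomized p P ∧ F.IsReceptive P := by
  have hPS : P ≤ S := hP.1
  obtain ⟨Q, hPQ, hQa, hQr⟩ := hF P hPS
  obtain ⟨ψ, e, hψ, he, hψe⟩ := exists_extension F hS hQa hQr hPQ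
  have hQS : Q ≤ S := hQa.1
  have hfinQ : Finite (normalizerIn S Q) := finite_of_le inf_le_left
  let f : normalizerIn S P → normalizerIn S Q := fun g => ⟨ψ g, map_mem_normalizerIn F hPS hψ e hψe g⟩
  have hf : Function.Injective f := by
    intro a b hab
    exact F.injective_of_mem hψ (congrArg Subtype.val hab)
  have hbij := hf.bijective_of_nat_card_le (hP.2 Q hPQ)
  have hsurj : ∀ h ∈ normalizerIn S Q, ∃ g : normalizerIn S P, ψ g = h := by
    intro h hh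
    obtain ⟨g, hg⟩ := hbij.2 ⟨h, hh⟩
    exact ⟨g, congrArg Subtype.val hg⟩
  refine ⟨⟨hPS, ?_⟩, ?_⟩
  · -- fully automized
    obtain ⟨-, TQ, hTQ⟩ := hQa
    have hfinP : Finite P := finite_of_le hPS
    have hfinQ' : Finite Q := finite_of_le hQS
    let ϕ : F.autGroup P →* F.autGroup Q :=
      ((MulAut.congr e).toMonoidHom.comp (F.autGroup P).subtype).codRestrict (F.autGroup Q)
        (fun α => congr_mem_autGroup F he.symm.symm α.2)
    have hϕ_apply : ∀ α : F.autGroup P, ((ϕ α : F.autGroup Q) : MulAut Q) = MulAut.congr e (α : MulAut P) :=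
      fun α => rfl
    have hinj : Function.Injective ϕ := by
      intro a b hab
      have h1 : MulAut.congr e (a : MulAut P) = MulAut.congr e (b : MulAut P) := by
        rw [← hϕ_apply, ← hϕ_apply, hab]
      exact Subtype.ext ((MulAut.congr e).injective h1)
    have hrange : (TQ : Subgroup (F.autGroup Q)) ≤ ϕ.range := by
      intro β _
      have h1 : MulAut.congr e.symm (β : MulAut Q) ∈ F.autGroup P := congr_mem_autGroup F he.symm β.2
      refine ⟨⟨_, h1⟩, Subtype.ext ?_⟩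
      rw [hϕ_apply]
      ext y
      simp [MulAut.congr]
    refine ⟨TQ.comapOfInjective ϕ hinj hrange, ?_⟩
    rw [Sylow.coe_comapOfInjective, hTQ]
    ext α
    rw [Subgroup.mem_comap, Subgroup.mem_subgroupOf, Subgroup.mem_subgroupOf, hϕ_apply]
    constructor
    · intro h
      obtain ⟨h', hh'S, hh'⟩ := mem_autInducedBy_iff.1 h
      have hh'N : h' ∈ normalizerIn S Q := by
        refine ⟨hh'S, Subgroup.mem_normalizer_fintype ?_⟩
        intro y hy
        rw [← hh' ⟨y, hy⟩]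
        exact (MulAut.congr e (α : MulAut P) ⟨y, hy⟩).2
      obtain ⟨g, hg⟩ := hsurj h' hh'N
      refine mem_autInducedBy_iff.2 ⟨(g : Ω), g.2.1, fun x => ?_⟩
      have hx := conj_mem_of_mem_normalizerIn g.2 x.2
      have h1 := map_conj_eq hPS ψ e hψe g x hx
      have h2 := hh' (e x)
      rw [hg] at h1
      rw [h1] at h2
      have h3 : MulAut.congr e (α : MulAut P) (e x) = e ((α : MulAut P) x) := by
        simp [MulAut.congr]
      rw [h3] at h2
      have h4 : e ((α : MulAut P) x) = e ⟨(g : Ω) * (x : Ω) * (g : Ω)⁻¹, hx⟩ := Subtype.ext h2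
      have h5 := e.injective h4
      exact congrArg Subtype.val h5
    · intro h
      obtain ⟨g, hgS, hg⟩ := mem_autInducedBy_iff.1 h
      have hgN : g ∈ normalizerIn S P := by
        refine ⟨hgS, Subgroup.mem_normalizer_fintype ?_⟩
        intro y hy
        rw [← hg ⟨y, hy⟩]
        exact ((α : MulAut P) ⟨y, hy⟩).2
      refine mem_autInducedBy_iff.2 ⟨ψ ⟨g, hgN⟩, hom_map_mem F hψ _, fun y => ?_⟩
      have hx := conj_mem_of_mem_normalizerIn hgN (e.symm y).2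
      have h1 := map_conj_eq hPS ψ e hψe ⟨g, hgN⟩ (e.symm y) hx
      rw [MulEquiv.apply_symm_apply] at h1
      rw [h1]
      have h3 : MulAut.congr e (α : MulAut P) y = e ((α : MulAut P) (e.symm y)) := by
        simp [MulAut.congr]
      rw [h3]
      congr 2
      exact Subtype.ext (hg (e.symm y))
  · -- receptive
    refine receptive_of_extension F hQr hψ e he hψe ?_
    intro c hc
    exact hsurj c (centralizerIn_le_normalizerIn S Q hc)

end Cfsg.Agent.Lib.Helper87
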