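/-
helper87: `K`-normalizers in saturated fusion systems (Puig; AKO I.5). For `U ≤ S`, `K ≤ Aut(U)` and an isomorphism
`e : U ≃* V` of the system, `nK S K e` is `N_S^{eKe⁻¹}(V)`, `autSK S K e` the subgroup of `K` corresponding to
`Aut_S^{eKe⁻¹}(V)`, and `IsMaxK F K e` says that `V` is fully `eKe⁻¹`-normalized. Main results: `IsMaxK.fullyCentralized`,
`IsMaxK.sylow` (AKO I.5.2(a)) and `IsMaxK.exists_extension` (AKO I.5.2(b)).
All declarations live in `Cfsg.Agent.Lib.Helper87`.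
-/
import Cfsg.Agent.Lib.Helper87.FusionFully
import Cfsg.Agent.Lib.Helper85.FusionBasic

set_option autoImplicit false

namespace Cfsg.Agent.Lib.Helper87
open Cfsg Cfsg.FusionSystem

variable {Ω : Type*} [Group Ω] {S : Subgroup Ω}

/-- `N_S^{eKe⁻¹}(V)` for `K ≤ Aut(U)` and `e : U ≃* V`: the elements of `S` whose conjugation action on `V`, pulled back along
`e`, is an element of `K`. -/
def nK (S : Subgroup Ω) {U V : Subgroup Ω} (K : Subgroup (MulAut U)) (e : U ≃* V) : Subgroup Ω where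
  carrier := {g | g ∈ S ∧ ∃ κ ∈ K, ∀ u : U, ((e (κ u) : V) : Ω) = g * ((e u : V) : Ω) * g⁻¹}
  one_mem' := ⟨S.one_mem, 1, K.one_mem, fun u => by simp⟩
  mul_mem' := by
    rintro g h ⟨hg, κ, hκ, hκg⟩ ⟨hh, μ, hμ, hμh⟩
    refine ⟨S.mul_mem hg hh, κ * μ, K.mul_mem hκ hμ, fun u => ?_⟩
    rw [MulAut.mul_apply, hκg, hμh]
    group
  inv_mem' := by
    rintro g ⟨hg, κ, hκ, hκg⟩
    refine ⟨S.inv_mem hg, κ⁻¹, K.inv_mem hκ, fun u => ?_⟩
    have h1 := hκg (κ⁻¹ u)
    rw [MulAut.apply_inv_self] at h1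
    rw [h1]
    group

theorem mem_nK {U V : Subgroup Ω} {K : Subgroup (MulAut U)} {e : U ≃* V} {g : Ω} :
    g ∈ nK S K e ↔ g ∈ S ∧ ∃ κ ∈ K, ∀ u : U, ((e (κ u) : V) : Ω) = g * ((e u : V) : Ω) * g⁻¹ := Iff.rfl

theorem nK_le {U V : Subgroup Ω} (K : Subgroup (MulAut U)) (e : U ≃* V) : nK S K e ≤ S := fun _ h => h.1

theorem nK_le_normalizer {U V : Subgroup Ω} (K : Subgroup (MulAut U)) (e : U ≃* V) :
    nK S K e ≤ Subgroup.normalizer (V : Set Ω) := by
  rintro g ⟨-, κ, -, hκ⟩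
  rw [Subgroup.mem_normalizer_iff]
  intro v
  constructor
  · intro hv
    have h1 := hκ (e.symm ⟨v, hv⟩)
    rw [MulEquiv.apply_symm_apply] at h1
    rw [← h1]
    exact (e _).2
  · intro hv
    have h1 := hκ (κ⁻¹ (e.symm ⟨_, hv⟩))
    rw [MulAut.apply_inv_self, MulEquiv.apply_symm_apply] at h1
    have h2 : v = ((e (κ⁻¹ (e.symm ⟨_, hv⟩)) : V) : Ω) := by
      have h3 : g * v * g⁻¹ = g * ((e (κ⁻¹ (e.symm ⟨_, hv⟩)) : V) : Ω) * g⁻¹ := h1
      exact mul_left_cancel (mul_right_cancel h3)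
    rw [h2]
    exact (e _).2

theorem centralizerIn_le_nK {U V : Subgroup Ω} (K : Subgroup (MulAut U)) (e : U ≃* V) :
    centralizerIn S V ≤ nK S K e := by
  rintro g ⟨hgS, hgC⟩
  refine ⟨hgS, 1, K.one_mem, fun u => ?_⟩
  have := (Subgroup.mem_centralizer_iff.1 hgC) _ (e u).2
  rw [MulAut.one_apply, ← this]
  group

/-- The subgroup of `K` corresponding to `Aut_S^{eKe⁻¹}(V)`. -/
def autSK (S : Subgroup Ω) {U V : Subgroup Ω} (K : Subgroup (MulAut U)) (e : U ≃* V) : Subgroup (MulAut U) where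
  carrier := {κ | κ ∈ K ∧ ∃ g ∈ S, ∀ u : U, ((e (κ u) : V) : Ω) = g * ((e u : V) : Ω) * g⁻¹}
  one_mem' := ⟨K.one_mem, 1, S.one_mem, fun u => by simp⟩
  mul_mem' := by
    rintro κ μ ⟨hκ, g, hg, hκg⟩ ⟨hμ, h, hh, hμh⟩
    refine ⟨K.mul_mem hκ hμ, g * h, S.mul_mem hg hh, fun u => ?_⟩
    rw [MulAut.mul_apply, hκg, hμh]
    group
  inv_mem' := by
    rintro κ ⟨hκ, g, hg, hκg⟩
    refine ⟨K.inv_mem hκ, g⁻¹, S.inv_mem hg, fun u => ?_⟩
    have h1 := hκg (κ⁻¹ u)
    rw [MulAut.apply_inv_self] at h1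
    rw [h1]
    group

theorem mem_autSK {U V : Subgroup Ω} {K : Subgroup (MulAut U)} {e : U ≃* V} {κ : MulAut U} :
    κ ∈ autSK S K e ↔ κ ∈ K ∧ ∃ g ∈ S, ∀ u : U, ((e (κ u) : V) : Ω) = g * ((e u : V) : Ω) * g⁻¹ := Iff.rfl

theorem autSK_le {U V : Subgroup Ω} (K : Subgroup (MulAut U)) (e : U ≃* V) : autSK S K e ≤ K := fun _ h => h.1

/-- An element of `Aut(U)` whose transport along `e` is induced by an element of `S` is the transport of an element of
`Aut_S(V)`. -/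
theorem congr_mem_autInducedBy {U V : Subgroup Ω} {e : U ≃* V} {κ : MulAut U} {g : Ω} (hg : g ∈ S)
    (h : ∀ u : U, ((e (κ u) : V) : Ω) = g * ((e u : V) : Ω) * g⁻¹) :
    MulAut.congr e κ ∈ autInducedBy S V := by
  rw [mem_autInducedBy_iff]
  refine ⟨g, hg, fun v => ?_⟩
  have h1 := h (e.symm v)
  rw [MulEquiv.apply_symm_apply] at h1
  rw [← h1]
  rfl

theorem autSK_le_autGroup (F : FusionSystem S) {U V : Subgroup Ω} (K : Subgroup (MulAut U)) {e : U ≃* V}
    (he : IsIso F e) : autSK S K e ≤ F.autGroup U := by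
  rintro κ ⟨-, g, hg, hκg⟩
  have h1 : MulAut.congr e κ ∈ F.autGroup V :=
    autInducedBy_le_autGroup F he.le_right (congr_mem_autInducedBy hg hκg)
  exact (congr_mem_autGroup_iff F he).1 h1

theorem autSK_isPGroup {p : ℕ} (hS : IsPGroup p S) {U V : Subgroup Ω} (K : Subgroup (MulAut U)) (e : U ≃* V) :
    IsPGroup p (autSK S K e) := by
  have h1 : autSK S K e ≤ (autInducedBy S V).comap (MulAut.congr e).toMonoidHom := by
    rintro κ ⟨-, g, hg, hκg⟩
    exact congr_mem_autInducedBy hg hκg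
  exact ((autInducedBy_isPGroup hS V).comap_of_injective _ (MulAut.congr e).injective).to_le h1

/-- The homomorphism `N_S^{eKe⁻¹}(V) → Aut(U)`, `g ↦ e⁻¹ c_g e`. -/
noncomputable def nKHom (S : Subgroup Ω) {U V : Subgroup Ω} (K : Subgroup (MulAut U)) (e : U ≃* V) :
    ↥(nK S K e) →* MulAut U :=
  (MulAut.congr e.symm).toMonoidHom.comp
    ((Subgroup.normalizerMonoidHom V).comp (Subgroup.inclusion (nK_le_normalizer K e)))

theorem nKHom_apply {U V : Subgroup Ω} (K : Subgroup (MulAut U)) (e : U ≃* V) (g : ↥(nK S K e)) (u : U) :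
    ((e (nKHom S K e g u) : V) : Ω) = (g : Ω) * ((e u : V) : Ω) * (g : Ω)⁻¹ := by
  have h1 : nKHom S K e g u =
      e.symm (Subgroup.normalizerMonoidHom V (Subgroup.inclusion (nK_le_normalizer K e) g) (e u)) := rfl
  rw [h1, MulEquiv.apply_symm_apply]
  rfl

theorem nKHom_eq_of {U V : Subgroup Ω} (K : Subgroup (MulAut U)) (e : U ≃* V) (g : ↥(nK S K e)) (κ : MulAut U)
    (h : ∀ u : U, ((e (κ u) : V) : Ω) = (g : Ω) * ((e u : V) : Ω) * (g : Ω)⁻¹) : nKHom S K e g = κ := by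
  ext u
  have h1 := nKHom_apply K e g u
  rw [← h u] at h1
  have h2 := e.injective (Subtype.ext h1)
  exact congrArg Subtype.val h2

theorem nKHom_mem {U V : Subgroup Ω} (K : Subgroup (MulAut U)) (e : U ≃* V) (g : ↥(nK S K e)) :
    nKHom S K e g ∈ autSK S K e := by
  obtain ⟨hgS, κ, hκ, hκg⟩ := g.2
  have := nKHom_eq_of K e g κ hκg
  rw [this]
  exact ⟨hκ, g, hgS, hκg⟩

theorem nKHom_range {U V : Subgroup Ω} (K : Subgroup (MulAut U)) (e : U ≃* V) :
    (nKHom S K e).range = autSK S K e := by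
  apply le_antisymm
  · rintro _ ⟨g, rfl⟩
    exact nKHom_mem K e g
  · rintro κ ⟨hκ, g, hg, hκg⟩
    exact ⟨⟨g, hg, κ, hκ, hκg⟩, nKHom_eq_of K e _ κ hκg⟩

theorem nKHom_ker {U V : Subgroup Ω} (K : Subgroup (MulAut U)) (e : U ≃* V) :
    (nKHom S K e).ker = (centralizerIn S V).subgroupOf (nK S K e) := by
  ext g
  rw [MonoidHom.mem_ker, Subgroup.mem_subgroupOf]
  constructor
  · intro h
    refine ⟨g.2.1, ?_⟩
    show (g : Ω) ∈ Subgroup.centralizer (V : Set Ω)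
    rw [Subgroup.mem_centralizer_iff]
    intro v hv
    have h1 := nKHom_apply K e g (e.symm ⟨v, hv⟩)
    rw [h, MulAut.one_apply, MulEquiv.apply_symm_apply] at h1
    have h2 : v = (g : Ω) * v * (g : Ω)⁻¹ := h1
    calc v * (g : Ω) = ((g : Ω) * v * (g : Ω)⁻¹) * (g : Ω) := by rw [← h2]
      _ = (g : Ω) * v := by group
  · rintro ⟨-, hgC⟩
    apply nKHom_eq_of
    intro u
    have := (Subgroup.mem_centralizer_iff.1 hgC) _ (e u).2
    rw [MulAut.one_apply, ← this]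
    group

/-- `|N_S^K(V)| = |C_S(V)| · |Aut_S^K(V)|`. -/
theorem card_nK {U V : Subgroup Ω} (K : Subgroup (MulAut U)) (e : U ≃* V) :
    Nat.card (nK S K e) = Nat.card (centralizerIn S V) * Nat.card (autSK S K e) := by
  have h1 := (nKHom S K e).ker.card_mul_index
  rw [Subgroup.index_ker, nKHom_range, nKHom_ker] at h1
  rw [← h1]
  congr 1
  exact Nat.card_congr (Subgroup.subgroupOfEquivOfLe (centralizerIn_le_nK (S := S) K e)).toEquiv

/-- `e : U ≃* V` maximizes `|N_S^{eKe⁻¹}(V)|` among the isomorphisms of the system out of `U`: `V` is fully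
`eKe⁻¹`-normalized. -/
def IsMaxK (F : FusionSystem S) {U V : Subgroup Ω} (K : Subgroup (MulAut U)) (e : U ≃* V) : Prop :=
  ∀ (W : Subgroup Ω) (e' : U ≃* W), IsIso F e' → Nat.card (nK S K e') ≤ Nat.card (nK S K e)

/-- A fully automized receptive subgroup has the largest centralizer in its class. -/
theorem card_centralizerIn_le (F : FusionSystem S) [Finite S] {p : ℕ} [Fact p.Prime] (hS : IsPGroup p S)
    {V R : Subgroup Ω} (hRa : F.IsFullyAutomized p R) (hRr : F.IsReceptive R) (hVR : F.IsConj V R) :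
    Nat.card (centralizerIn S V) ≤ Nat.card (centralizerIn S R) := by
  have hVS : V ≤ S := IsConj_le_left hVR
  obtain ⟨ψ, ε, hψ, hε, hψε⟩ := exists_extension F hS hRa hRr hVR
  have hfinR : Finite (centralizerIn S R) := finite_of_le inf_le_left
  let f : centralizerIn S V → centralizerIn S R := fun c =>
    ⟨ψ ⟨(c : Ω), centralizerIn_le_normalizerIn S V c.2⟩,
      map_mem_centralizerIn F hVS hψ ε hψε ⟨(c : Ω), centralizerIn_le_normalizerIn S V c.2⟩ c.2⟩
  have hf : Function.Injective f := by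
    intro a b hab
    have h1 : ψ ⟨(a : Ω), centralizerIn_le_normalizerIn S V a.2⟩ =
        ψ ⟨(b : Ω), centralizerIn_le_normalizerIn S V b.2⟩ := congrArg Subtype.val hab
    have h2 := F.injective_of_mem hψ h1
    exact Subtype.ext (congrArg (fun z : normalizerIn S V => (z : Ω)) h2)
  exact Nat.card_le_card_of_injective f hf

/-- **Sylow adjustment.** For `R` fully automized and `e₀ : U ≃* R` in the system, every `p`-subgroup `H` of
`Aut_F^K(U) = K ∩ Aut_F(U)` lies in `Aut_S^K` computed along a suitable `e' : U ≃* R`, and that group is a Sylow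
`p`-subgroup of `Aut_F^K(U)`. -/
theorem exists_sylow_adjust (F : FusionSystem S) [Finite S] {p : ℕ} [Fact p.Prime] (hS : IsPGroup p S)
    {U R : Subgroup Ω} (K : Subgroup (MulAut U)) (hRa : F.IsFullyAutomized p R) (e₀ : U ≃* R)
    (he₀ : IsIso F e₀) (H : Subgroup (MulAut U)) (hHA : H ≤ K ⊓ F.autGroup U) (hHp : IsPGroup p H) :
    ∃ e' : U ≃* R, IsIso F e' ∧ H ≤ autSK S K e' ∧
      ∃ T : Sylow p ↥(K ⊓ F.autGroup U),
        (T : Subgroup ↥(K ⊓ F.autGroup U)) = (autSK S K e').subgroupOf (K ⊓ F.autGroup U) := by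
  have hUS : U ≤ S := he₀.le_left
  have hRS : R ≤ S := he₀.le_right
  have hfinU : Finite U := finite_of_le hUS
  have hfinR : Finite R := finite_of_le hRS
  obtain ⟨T, hT⟩ := (hHp.comap_subtype (K := K ⊓ F.autGroup U)).exists_le_sylow
  obtain ⟨-, RS, hRS'⟩ := hRa
  -- the image of `T` in `Aut_F(R)`
  let T'' : Subgroup (MulAut R) :=
    ((T : Subgroup ↥(K ⊓ F.autGroup U)).map (K ⊓ F.autGroup U).subtype).map (MulAut.congr e₀).toMonoidHom
  have hT''p : IsPGroup p T'' := (T.isPGroup'.map _).map _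
  obtain ⟨c, hc⟩ := exists_conj_mem_sylow RS (hT''p.comap_subtype (K := F.autGroup R))
  have hcF : IsIso F ((c : MulAut R) : R ≃* R) := (mem_autGroup_iff F hRS).1 c.2
  refine ⟨e₀.trans (c : MulAut R), he₀.trans hcF, ?_⟩
  have hTle : (T : Subgroup ↥(K ⊓ F.autGroup U)).map (K ⊓ F.autGroup U).subtype ≤
      autSK S K (e₀.trans (c : MulAut R)) := by
    rintro _ ⟨κ, hκT, rfl⟩
    have hκF : (κ : MulAut U) ∈ F.autGroup U := κ.2.2
    have h1 : MulAut.congr e₀ (κ : MulAut U) ∈ F.autGroup R := congr_mem_autGroup F he₀ hκF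
    have h2 : (⟨MulAut.congr e₀ (κ : MulAut U), h1⟩ : F.autGroup R) ∈ T''.subgroupOf (F.autGroup R) :=
      Subgroup.mem_subgroupOf.2 ⟨_, ⟨κ, hκT, rfl⟩, rfl⟩
    have h3 := hc _ h2
    have h4 : (c * ⟨MulAut.congr e₀ (κ : MulAut U), h1⟩ * c⁻¹ : F.autGroup R) ∈
        (autInducedBy S R).subgroupOf (F.autGroup R) := by
      rw [← hRS']; exact h3
    obtain ⟨g, hg, hgα⟩ := mem_autInducedBy_iff.1 (Subgroup.mem_subgroupOf.1 h4)
    refine ⟨κ.2.1, g, hg, fun u => ?_⟩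
    have h5 := hgα ((e₀.trans (c : MulAut R)) u)
    rw [← h5]
    have h6 : ((c * ⟨MulAut.congr e₀ (κ : MulAut U), h1⟩ * c⁻¹ : F.autGroup R) : MulAut R)
        ((e₀.trans (c : MulAut R)) u) = (e₀.trans (c : MulAut R)) ((κ : MulAut U) u) := by
      simp [MulAut.congr]
    rw [h6]
    rfl
  have hAle : autSK S K (e₀.trans (c : MulAut R)) ≤ K ⊓ F.autGroup U :=
    le_inf (autSK_le K _) (autSK_le_autGroup F K (he₀.trans hcF))
  have hTeq : (T : Subgroup ↥(K ⊓ F.autGroup U)) =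
      (autSK S K (e₀.trans (c : MulAut R))).subgroupOf (K ⊓ F.autGroup U) := by
    refine (T.is_maximal' ((autSK_isPGroup hS K (e₀.trans (c : MulAut R))).comap_subtype) ?_).symm
    intro κ hκ
    show κ ∈ (autSK S K (e₀.trans (c : MulAut R))).subgroupOf (K ⊓ F.autGroup U)
    rw [Subgroup.mem_subgroupOf]
    exact hTle ⟨κ, hκ, rfl⟩
  refine ⟨?_, T, hTeq⟩
  intro κ hκ
  have hκA : κ ∈ K ⊓ F.autGroup U := hHA hκ
  have : (⟨κ, hκA⟩ : ↥(K ⊓ F.autGroup U)) ∈ (T : Subgroup ↥(K ⊓ F.autGroup U)) :=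
    hT (Subgroup.mem_subgroupOf.2 hκ)
  exact hTle ⟨⟨κ, hκA⟩, this, rfl⟩

/-- **AKO I.5.2(a).** If `V` is fully `eKe⁻¹`-normalized then `V` is fully centralized and `Aut_S^K` (along `e`) is a Sylow
`p`-subgroup of `Aut_F^K(U) = K ∩ Aut_F(U)`. -/
theorem IsMaxK.fullyCentralized_and_sylow (F : FusionSystem S) [Finite S] {p : ℕ} [Fact p.Prime]
    (hS : IsPGroup p S) (hF : F.IsSaturated p) {U V : Subgroup Ω} {K : Subgroup (MulAut U)} {e : U ≃* V}
    (he : IsIso F e) (hmax : IsMaxK F K e) :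
    F.IsFullyCentralized V ∧ ∃ T : Sylow p ↥(K ⊓ F.autGroup U),
      (T : Subgroup ↥(K ⊓ F.autGroup U)) = (autSK S K e).subgroupOf (K ⊓ F.autGroup U) := by
  have hUS : U ≤ S := he.le_left
  have hVS : V ≤ S := he.le_right
  have hfinU : Finite U := finite_of_le hUS
  obtain ⟨R, hUR, hRa, hRr⟩ := hF U hUS
  obtain ⟨e₀, he₀⟩ := (isConj_iff F).1 hUR
  have hHA : autSK S K e ≤ K ⊓ F.autGroup U := le_inf (autSK_le K e) (autSK_le_autGroup F K he)
  obtain ⟨e', he', hle, T, hT⟩ :=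
    exists_sylow_adjust F hS K hRa e₀ he₀ (autSK S K e) hHA (autSK_isPGroup hS K e)
  have h1 := hmax R e' he'
  rw [card_nK, card_nK] at h1
  have hVR : F.IsConj V R := (isConj_iff F).2 ⟨e.symm.trans e₀, he.symm.trans he₀⟩
  have h2 := card_centralizerIn_le F hS hRa hRr hVR
  have h3 : Nat.card (autSK S K e) ≤ Nat.card (autSK S K e') := Subgroup.card_le_of_le hle
  have hfinV : Finite (centralizerIn S V) := finite_of_le inf_le_left
  have hfinR : Finite (centralizerIn S R) := finite_of_le inf_le_left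
  have p1 : 0 < Nat.card (centralizerIn S V) := Nat.card_pos
  have p2 : 0 < Nat.card (centralizerIn S R) := Nat.card_pos
  have p3 : 0 < Nat.card (autSK S K e) := Nat.card_pos
  have p4 : 0 < Nat.card (autSK S K e') := Nat.card_pos
  have h4 : Nat.card (centralizerIn S R) ≤ Nat.card (centralizerIn S V) := by
    by_contra hlt
    have hlt' := not_le.1 hlt
    have : Nat.card (centralizerIn S V) * Nat.card (autSK S K e) <
        Nat.card (centralizerIn S R) * Nat.card (autSK S K e') := by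
      calc Nat.card (centralizerIn S V) * Nat.card (autSK S K e)
          < Nat.card (centralizerIn S R) * Nat.card (autSK S K e) := Nat.mul_lt_mul_of_pos_right hlt' p3
        _ ≤ Nat.card (centralizerIn S R) * Nat.card (autSK S K e') := Nat.mul_le_mul_left _ h3
    omega
  have h5 : Nat.card (autSK S K e') ≤ Nat.card (autSK S K e) := by
    by_contra hlt
    have hlt' := not_le.1 hlt
    have : Nat.card (centralizerIn S V) * Nat.card (autSK S K e) <
        Nat.card (centralizerIn S R) * Nat.card (autSK S K e') := by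
      calc Nat.card (centralizerIn S V) * Nat.card (autSK S K e)
          ≤ Nat.card (centralizerIn S R) * Nat.card (autSK S K e) := Nat.mul_le_mul_right _ h2
        _ < Nat.card (centralizerIn S R) * Nat.card (autSK S K e') := Nat.mul_lt_mul_of_pos_left hlt' p2
    omega
  have heq : autSK S K e = autSK S K e' := Subgroup.eq_of_le_of_card_ge hle h5
  refine ⟨⟨hVS, fun W hVW => ?_⟩, T, ?_⟩
  · have hWR : F.IsConj W R := IsConj_trans (IsConj_symm hVW) hVR
    exact (card_centralizerIn_le F hS hRa hRr hWR).trans h4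
  · rw [heq]
    exact hT

/-- **AKO I.5.2(b).** If `U` is fully `K`-normalized and `q₁ : U ≃* U₁` is an isomorphism of the system, then for some
`a ∈ Aut_F^K(U)` the isomorphism `a ∘ q₁⁻¹ : U₁ → U` extends to a map of the system defined on `N_S^{K^{q₁}}(U₁) U₁`. -/
theorem IsMaxK.exists_extension (F : FusionSystem S) [Finite S] {p : ℕ} [Fact p.Prime]
    (hS : IsPGroup p S) (hF : F.IsSaturated p) {U : Subgroup Ω} {K : Subgroup (MulAut U)} (hUS : U ≤ S)
    (hmax : IsMaxK F K (MulEquiv.refl U)) {U₁ : Subgroup Ω} (q₁ : U ≃* U₁) (hq₁ : IsIso F q₁) :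
    ∃ a ∈ K ⊓ F.autGroup U, ∃ ρ ∈ F.Hom (nK S K q₁ ⊔ U₁),
      ∀ u : U, ρ ⟨((q₁ u : U₁) : Ω), (le_sup_right : U₁ ≤ nK S K q₁ ⊔ U₁) (q₁ u).2⟩ = ((a u : U) : Ω) := by
  have hU₁S : U₁ ≤ S := hq₁.le_right
  have hfinU : Finite U := finite_of_le hUS
  obtain ⟨hfc, T, hT⟩ := IsMaxK.fullyCentralized_and_sylow F hS hF (isIso_refl F hUS) hmax
  have hrec : F.IsReceptive U := receptive_of_fullyCentralized F hS hF hfc
  have hHA : autSK S K q₁ ≤ K ⊓ F.autGroup U := le_inf (autSK_le K q₁) (autSK_le_autGroup F K hq₁)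
  obtain ⟨c, hc⟩ := exists_conj_mem_sylow T
    ((autSK_isPGroup hS K q₁).comap_subtype (K := K ⊓ F.autGroup U))
  have hcF : IsIso F ((c : MulAut U) : U ≃* U) := (mem_autGroup_iff F hUS).1 c.2.2
  have hε : IsIso F (q₁.symm.trans ((c : MulAut U) : U ≃* U)) := hq₁.symm.trans hcF
  set ε : U₁ ≃* U := q₁.symm.trans ((c : MulAut U) : U ≃* U) with hεdef
  have hφr : (U.subtype.comp ε.toMonoidHom).range = U := range_subtype_comp ε
  obtain ⟨ψ, hψ, hψe⟩ := hrec.2 U₁ (U.subtype.comp ε.toMonoidHom) hε hφr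
  have hεq : ∀ u : U, ε (q₁ u) = (c : MulAut U) u := by
    intro u
    show (c : MulAut U) (q₁.symm (q₁ u)) = _
    rw [MulEquiv.symm_apply_apply]
  have key : nK S K q₁ ⊔ U₁ ≤ extender S U₁ (U.subtype.comp ε.toMonoidHom) := by
    apply sup_le
    · rintro g ⟨hgS, κ, hκ, hκg⟩
      have hκH : κ ∈ autSK S K q₁ := ⟨hκ, g, hgS, hκg⟩
      have hκA : κ ∈ K ⊓ F.autGroup U := hHA hκH
      have h1 := hc ⟨κ, hκA⟩ (Subgroup.mem_subgroupOf.2 hκH)
      have h2 : (c * ⟨κ, hκA⟩ * c⁻¹ : ↥(K ⊓ F.autGroup U)) ∈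
          (autSK S K (MulEquiv.refl U)).subgroupOf (K ⊓ F.autGroup U) := by
        rw [← hT]; exact h1
      obtain ⟨-, h, hh, hhu⟩ := Subgroup.mem_subgroupOf.1 h2
      rw [Cfsg.Agent.Lib.Helper85.mem_extender_iff]
      refine ⟨hgS, nK_le_normalizer K q₁ ⟨hgS, κ, hκ, hκg⟩, h, hh, fun x hx => ?_⟩
      have hx1 : (⟨g * (x : Ω) * g⁻¹, hx⟩ : U₁) = q₁ (κ (q₁.symm x)) := by
        apply Subtype.ext
        rw [hκg, MulEquiv.apply_symm_apply]
      have hx2 : x = q₁ (q₁.symm x) := (MulEquiv.apply_symm_apply q₁ x).symm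
      show ((ε ⟨g * (x : Ω) * g⁻¹, hx⟩ : U) : Ω) = h * ((ε x : U) : Ω) * h⁻¹
      rw [hx1, hεq]
      conv_rhs => rw [hx2, hεq]
      have h3 := hhu ((c : MulAut U) (q₁.symm x))
      have h4 : ((c * ⟨κ, hκA⟩ * c⁻¹ : ↥(K ⊓ F.autGroup U)) : MulAut U) ((c : MulAut U) (q₁.symm x)) =
          (c : MulAut U) (κ (q₁.symm x)) := by
        simp
      rw [h4] at h3
      exact h3
    · intro g hg
      rw [Cfsg.Agent.Lib.Helper85.mem_extender_iff]
      refine ⟨hU₁S hg, Subgroup.le_normalizer hg, ((ε ⟨g, hg⟩ : U) : Ω), hUS (ε ⟨g, hg⟩).2, fun x hx => ?_⟩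
      have : (⟨g * (x : Ω) * g⁻¹, hx⟩ : U₁) = ⟨g, hg⟩ * x * ⟨g, hg⟩⁻¹ := Subtype.ext rfl
      show ((ε ⟨g * (x : Ω) * g⁻¹, hx⟩ : U) : Ω) = _
      rw [this, map_mul, map_mul, map_inv]
      rfl
  refine ⟨(c : MulAut U), c.2, ψ.comp (Subgroup.inclusion key), restrict_mem F hψ key, fun u => ?_⟩
  have h1 := hψe ((q₁ u : U₁) : Ω) (q₁ u).2 (key ((le_sup_right : U₁ ≤ nK S K q₁ ⊔ U₁) (q₁ u).2))
  show ψ ⟨((q₁ u : U₁) : Ω), _⟩ = _
  rw [h1]
  show ((ε (q₁ u) : U) : Ω) = _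
  rw [hεq]

end Cfsg.Agent.Lib.Helper87
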