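/-
helper87: the `K`-normalizer `N_F^K(Q)` of a fully `K`-normalized subgroup `Q` of a saturated fusion system is saturated
(Puig; AKO Theorem I.5.5). The system is given abstractly (`IsKNormalizerSystem`); `K = ⊤` gives the normalizer system `N_F(Q)` and
`K = ⊥` the centralizer system `C_F(Q)`.
All declarations live in `Cfsg.Agent.Lib.Helper87`.
-/
import Cfsg.Agent.Lib.Helper87.FusionKNorm

set_option autoImplicit false

namespace Cfsg.Agent.Lib.Helper87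
open Cfsg Cfsg.FusionSystem

variable {Ω : Type*} [Group Ω] {S : Subgroup Ω}

/-- `K_P ≤ Aut(PQ)`: the automorphisms of `P ⊔ Q` that preserve `P` and act on `Q` as an element of `K`. -/
def kP {Q : Subgroup Ω} (K : Subgroup (MulAut Q)) (P : Subgroup Ω) : Subgroup (MulAut ↥(P ⊔ Q)) where
  carrier := {α | (∀ x : ↥(P ⊔ Q), (x : Ω) ∈ P ↔ ((α x : ↥(P ⊔ Q)) : Ω) ∈ P) ∧
    ∃ κ ∈ K, ∀ u : Q, ((α (Subgroup.inclusion le_sup_right u) : ↥(P ⊔ Q)) : Ω) = ((κ u : Q) : Ω)}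
  one_mem' := ⟨fun x => Iff.rfl, 1, K.one_mem, fun u => rfl⟩
  mul_mem' := by
    rintro α β ⟨hα, κ, hκ, hακ⟩ ⟨hβ, μ, hμ, hβμ⟩
    refine ⟨fun x => (hβ x).trans (hα (β x)), κ * μ, K.mul_mem hκ hμ, fun u => ?_⟩
    have h1 : β (Subgroup.inclusion le_sup_right u) = Subgroup.inclusion le_sup_right (μ u) :=
      Subtype.ext (hβμ u)
    rw [MulAut.mul_apply, h1, hακ]
    rfl
  inv_mem' := by
    rintro α ⟨hα, κ, hκ, hακ⟩
    refine ⟨fun x => ?_, κ⁻¹, K.inv_mem hκ, fun u => ?_⟩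
    · have := hα (α⁻¹ x)
      rw [MulAut.apply_inv_self] at this
      exact this.symm
    · have h1 : α (Subgroup.inclusion le_sup_right (κ⁻¹ u)) = Subgroup.inclusion le_sup_right u := by
        apply Subtype.ext
        rw [hακ, MulAut.apply_inv_self]
        rfl
      rw [← h1, MulAut.inv_apply_self]
      rfl

theorem mem_kP {Q : Subgroup Ω} {K : Subgroup (MulAut Q)} {P : Subgroup Ω} {α : MulAut ↥(P ⊔ Q)} :
    α ∈ kP K P ↔ (∀ x : ↥(P ⊔ Q), (x : Ω) ∈ P ↔ ((α x : ↥(P ⊔ Q)) : Ω) ∈ P) ∧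
      ∃ κ ∈ K, ∀ u : Q, ((α (Subgroup.inclusion le_sup_right u) : ↥(P ⊔ Q)) : Ω) = ((κ u : Q) : Ω) := Iff.rfl

/-- `E` over `N` is the `K`-normalizer system `N_F^K(Q)`. -/
def IsKNormalizerSystem (F : FusionSystem S) (Q : Subgroup Ω) (K : Subgroup (MulAut Q)) (N : Subgroup Ω)
    (E : FusionSystem N) : Prop :=
  (∀ g, g ∈ N ↔ g ∈ nK S K (MulEquiv.refl Q)) ∧
  ∀ (P : Subgroup Ω) (φ : P →* Ω), φ ∈ E.Hom P ↔ φ ∈ F.Hom P ∧ P ≤ N ∧ (∀ x : P, φ x ∈ N) ∧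
    ∃ ψ ∈ F.Hom (P ⊔ Q), (∀ x : P, ψ (Subgroup.inclusion le_sup_left x) = φ x) ∧
      ∃ κ ∈ K, ∀ u : Q, ψ (Subgroup.inclusion le_sup_right u) = ((κ u : Q) : Ω)

/-- Some isomorphism of the system out of `U` is `K`-maximal. -/
theorem exists_isMaxK (F : FusionSystem S) [Finite S] {U : Subgroup Ω} (hUS : U ≤ S) (K : Subgroup (MulAut U)) :
    ∃ (V : Subgroup Ω) (e : U ≃* V), IsIso F e ∧ IsMaxK F K e := by
  classical
  let Pn : ℕ → Prop := fun n => ∃ (V : Subgroup Ω) (e : U ≃* V), IsIso F e ∧ Nat.card (nK S K e) = n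
  have hbound : ∀ (V : Subgroup Ω) (e : U ≃* V), Nat.card (nK S K e) ≤ Nat.card S :=
    fun V e => Subgroup.card_le_of_le (nK_le K e)
  have h0 : Pn (Nat.card (nK S K (MulEquiv.refl U))) := ⟨U, MulEquiv.refl U, isIso_refl F hUS, rfl⟩
  obtain ⟨V, e, he, hcard⟩ := Nat.findGreatest_spec (P := Pn) (hbound U (MulEquiv.refl U)) h0
  refine ⟨V, e, he, fun W e' he' => ?_⟩
  have h1 : Pn (Nat.card (nK S K e')) := ⟨W, e', he', rfl⟩
  have h2 := Nat.le_findGreatest (P := Pn) (hbound W e') h1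
  rw [hcard]
  exact h2

/-- Base change for `nK`. -/
theorem nK_base_change {U U' W : Subgroup Ω} (f : U ≃* U') (K : Subgroup (MulAut U)) (K' : Subgroup (MulAut U'))
    (hK : ∀ α' : MulAut U', α' ∈ K' ↔ MulAut.congr f.symm α' ∈ K) (e' : U' ≃* W) :
    nK S K' e' = nK S K (f.trans e') := by
  ext g
  rw [mem_nK, mem_nK]
  constructor
  · rintro ⟨hg, κ', hκ', h⟩
    refine ⟨hg, MulAut.congr f.symm κ', (hK κ').1 hκ', fun u => ?_⟩
    have h1 := h (f u)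
    have h2 : (f.trans e') (MulAut.congr f.symm κ' u) = e' (κ' (f u)) := by
      simp [MulAut.congr]
    rw [h2]
    exact h1
  · rintro ⟨hg, κ, hκ, h⟩
    have hκ' : MulAut.congr f κ ∈ K' := by
      rw [hK]
      have : MulAut.congr f.symm (MulAut.congr f κ) = κ := by
        ext x
        simp [MulAut.congr]
      rw [this]
      exact hκ
    refine ⟨hg, MulAut.congr f κ, hκ', fun u' => ?_⟩
    have h1 := h (f.symm u')
    have h2 : e' (MulAut.congr f κ u') = (f.trans e') (κ (f.symm u')) := by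
      simp [MulAut.congr]
    have h3 : (f.trans e') (f.symm u') = e' u' := by simp
    rw [h2, h1, h3]

/-- Transport of `K_P` along an isomorphism `PQ ≃ P'Q` that maps `P` onto `P'` and acts on `Q` as an element of `K`. -/
theorem kP_congr {Q : Subgroup Ω} {K : Subgroup (MulAut Q)} {P P' : Subgroup Ω}
    (f : ↥(P ⊔ Q) ≃* ↥(P' ⊔ Q))
    (hP : ∀ y : ↥(P ⊔ Q), (y : Ω) ∈ P ↔ ((f y : ↥(P' ⊔ Q)) : Ω) ∈ P')
    (a : MulAut Q) (ha : a ∈ K)
    (hQ : ∀ u : Q, ((f (Subgroup.inclusion le_sup_right u) : ↥(P' ⊔ Q)) : Ω) = ((a u : Q) : Ω))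
    {α : MulAut ↥(P ⊔ Q)} (hα : α ∈ kP K P) : MulAut.congr f α ∈ kP K P' := by
  obtain ⟨hαP, κ, hκ, hακ⟩ := hα
  have happ : ∀ y' : ↥(P' ⊔ Q), MulAut.congr f α y' = f (α (f.symm y')) := fun y' => rfl
  have hfQ : ∀ u : Q, f (Subgroup.inclusion le_sup_right u) = Subgroup.inclusion le_sup_right (a u) :=
    fun u => Subtype.ext (hQ u)
  refine ⟨fun y' => ?_, a * κ * a⁻¹, K.mul_mem (K.mul_mem ha hκ) (K.inv_mem ha), fun u => ?_⟩
  · rw [happ, ← hP, ← hαP, hP, MulEquiv.apply_symm_apply]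
  · have h1 : f.symm (Subgroup.inclusion le_sup_right u) = Subgroup.inclusion le_sup_right (a⁻¹ u) := by
      rw [MulEquiv.symm_apply_eq, hfQ, MulAut.apply_inv_self]
    have h2 : α (Subgroup.inclusion le_sup_right (a⁻¹ u)) = Subgroup.inclusion le_sup_right (κ (a⁻¹ u)) :=
      Subtype.ext (hακ _)
    rw [happ, h1, h2, hfQ]
    rfl

/-- The hypotheses of `kP_congr` pass to the inverse isomorphism. -/
theorem kP_congr_symm_hyp {Q : Subgroup Ω} {P P' : Subgroup Ω}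
    (f : ↥(P ⊔ Q) ≃* ↥(P' ⊔ Q))
    (hP : ∀ y : ↥(P ⊔ Q), (y : Ω) ∈ P ↔ ((f y : ↥(P' ⊔ Q)) : Ω) ∈ P')
    (a : MulAut Q)
    (hQ : ∀ u : Q, ((f (Subgroup.inclusion le_sup_right u) : ↥(P' ⊔ Q)) : Ω) = ((a u : Q) : Ω)) :
    (∀ y' : ↥(P' ⊔ Q), (y' : Ω) ∈ P' ↔ ((f.symm y' : ↥(P ⊔ Q)) : Ω) ∈ P) ∧
      ∀ u : Q, ((f.symm (Subgroup.inclusion le_sup_right u) : ↥(P ⊔ Q)) : Ω) = ((a⁻¹ u : Q) : Ω) := by
  constructor
  · intro y'
    rw [hP, MulEquiv.apply_symm_apply]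
  · intro u
    have hfQ : f (Subgroup.inclusion le_sup_right (a⁻¹ u)) = Subgroup.inclusion le_sup_right u := by
      apply Subtype.ext
      rw [hQ, MulAut.apply_inv_self]
      rfl
    have h1 : f.symm (Subgroup.inclusion le_sup_right u) = Subgroup.inclusion le_sup_right (a⁻¹ u) := by
      rw [MulEquiv.symm_apply_eq, hfQ]
    rw [h1]
    rfl

theorem mem_kP_iff_congr {Q : Subgroup Ω} {K : Subgroup (MulAut Q)} {P P' : Subgroup Ω}
    (f : ↥(P ⊔ Q) ≃* ↥(P' ⊔ Q))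
    (hP : ∀ y : ↥(P ⊔ Q), (y : Ω) ∈ P ↔ ((f y : ↥(P' ⊔ Q)) : Ω) ∈ P')
    (a : MulAut Q) (ha : a ∈ K)
    (hQ : ∀ u : Q, ((f (Subgroup.inclusion le_sup_right u) : ↥(P' ⊔ Q)) : Ω) = ((a u : Q) : Ω))
    (α' : MulAut ↥(P' ⊔ Q)) : α' ∈ kP K P' ↔ MulAut.congr f.symm α' ∈ kP K P := by
  obtain ⟨hP', hQ'⟩ := kP_congr_symm_hyp f hP a hQ
  constructor
  · intro h
    exact kP_congr f.symm hP' a⁻¹ (K.inv_mem ha) hQ' h
  · intro h
    have h1 := kP_congr f hP a ha hQ h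
    have h2 : MulAut.congr f (MulAut.congr f.symm α') = α' := by
      ext x
      simp [MulAut.congr]
    rwa [h2] at h1

theorem IsKNormalizerSystem.le_S {F : FusionSystem S} {Q : Subgroup Ω} {K : Subgroup (MulAut Q)} {N : Subgroup Ω}
    {E : FusionSystem N} (hE : IsKNormalizerSystem F Q K N E) : N ≤ S :=
  fun _ hg => ((hE.1 _).1 hg).1

theorem IsKNormalizerSystem.exists_kappa {F : FusionSystem S} {Q : Subgroup Ω} {K : Subgroup (MulAut Q)}
    {N : Subgroup Ω} {E : FusionSystem N} (hE : IsKNormalizerSystem F Q K N E) {g : Ω} (hg : g ∈ N) :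
    ∃ κ ∈ K, ∀ u : Q, ((κ u : Q) : Ω) = g * (u : Ω) * g⁻¹ :=
  ((hE.1 _).1 hg).2

theorem IsKNormalizerSystem.mem_of {F : FusionSystem S} {Q : Subgroup Ω} {K : Subgroup (MulAut Q)}
    {N : Subgroup Ω} {E : FusionSystem N} (hE : IsKNormalizerSystem F Q K N E) {g : Ω} (hgS : g ∈ S)
    {κ : MulAut Q} (hκ : κ ∈ K) (h : ∀ u : Q, ((κ u : Q) : Ω) = g * (u : Ω) * g⁻¹) : g ∈ N :=
  (hE.1 _).2 ⟨hgS, κ, hκ, h⟩

theorem IsKNormalizerSystem.le_normalizer {F : FusionSystem S} {Q : Subgroup Ω} {K : Subgroup (MulAut Q)}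
    {N : Subgroup Ω} {E : FusionSystem N} (hE : IsKNormalizerSystem F Q K N E) :
    N ≤ Subgroup.normalizer (Q : Set Ω) :=
  fun _ hg => nK_le_normalizer K (MulEquiv.refl Q) ((hE.1 _).1 hg)

/-- **Step 1.** Every `P ≤ N` is conjugate in `N_F^K(Q)` to some `P'` with `P'Q` fully `K_{P'}`-normalized in `F`. -/
theorem IsKNormalizerSystem.step1 (F : FusionSystem S) [Finite S] {p : ℕ} [Fact p.Prime] (hS : IsPGroup p S)
    (hF : F.IsSaturated p) {Q : Subgroup Ω} {K : Subgroup (MulAut Q)} {N : Subgroup Ω} {E : FusionSystem N}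
    (hE : IsKNormalizerSystem F Q K N E) (hQS : Q ≤ S) (hmax : IsMaxK F K (MulEquiv.refl Q))
    {P : Subgroup Ω} (hPN : P ≤ N) :
    ∃ P' : Subgroup Ω, E.IsConj P P' ∧ IsMaxK F (kP K P') (MulEquiv.refl ↥(P' ⊔ Q)) := by
  have hNS : N ≤ S := hE.le_S
  have hPS : P ≤ S := hPN.trans hNS
  have hXS : P ⊔ Q ≤ S := sup_le hPS hQS
  obtain ⟨V₁, e₁, he₁, hmax₁⟩ := exists_isMaxK F hXS (kP K P)
  -- the restriction of `e₁` to `Q`
  have hq₁hom : (V₁.subtype.comp e₁.toMonoidHom).comp (Subgroup.inclusion (le_sup_right : Q ≤ P ⊔ Q)) ∈ F.Hom Q :=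
    restrict_mem F he₁ le_sup_right
  set q₁hom : Q →* Ω :=
    (V₁.subtype.comp e₁.toMonoidHom).comp (Subgroup.inclusion (le_sup_right : Q ≤ P ⊔ Q)) with hq₁homdef
  have hq₁ : IsIso F (MonoidHom.ofInjective (F.injective_of_mem hq₁hom)) := isIso_ofInjective F hq₁hom
  set q₁ : Q ≃* q₁hom.range := MonoidHom.ofInjective (F.injective_of_mem hq₁hom) with hq₁def
  have hq₁app : ∀ u : Q, ((q₁ u : q₁hom.range) : Ω) =
      ((e₁ (Subgroup.inclusion le_sup_right u) : V₁) : Ω) := fun u => rfl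
  obtain ⟨a, haA, ρ, hρ, hρa⟩ := IsMaxK.exists_extension F hS hF hQS hmax q₁ hq₁
  -- `e₁` takes values in the domain of `ρ`
  have hdom : ∀ y : ↥(P ⊔ Q), (V₁.subtype.comp e₁.toMonoidHom) y ∈ nK S K q₁ ⊔ q₁hom.range := by
    refine map_sup_mem _ (fun x => ?_) (fun u => ?_)
    · apply (le_sup_left : nK S K q₁ ≤ nK S K q₁ ⊔ q₁hom.range)
      obtain ⟨κ, hκ, hκx⟩ := hE.exists_kappa (hPN x.2)
      refine ⟨hom_map_mem F he₁ _, κ, hκ, fun u => ?_⟩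
      rw [hq₁app, hq₁app]
      have h1 : Subgroup.inclusion (le_sup_right : Q ≤ P ⊔ Q) (κ u) =
          Subgroup.inclusion (le_sup_left : P ≤ P ⊔ Q) x * Subgroup.inclusion le_sup_right u *
            (Subgroup.inclusion (le_sup_left : P ≤ P ⊔ Q) x)⁻¹ := Subtype.ext (hκx u)
      rw [h1, map_mul, map_mul, map_inv]
      rfl
    · exact (le_sup_right : q₁hom.range ≤ nK S K q₁ ⊔ q₁hom.range) ⟨u, rfl⟩
  have hφX : ρ.comp ((V₁.subtype.comp e₁.toMonoidHom).codRestrict _ hdom) ∈ F.Hom (P ⊔ Q) :=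
    F.comp_mem he₁ hρ hdom
  set φX : ↥(P ⊔ Q) →* Ω := ρ.comp ((V₁.subtype.comp e₁.toMonoidHom).codRestrict _ hdom) with hφXdef
  have hφXapp : ∀ y : ↥(P ⊔ Q), φX y = ρ ⟨((e₁ y : V₁) : Ω), hdom y⟩ := fun y => rfl
  have hφXQ : ∀ u : Q, φX (Subgroup.inclusion le_sup_right u) = ((a u : Q) : Ω) := by
    intro u
    rw [hφXapp]
    exact hρa u
  have hφF : φX.comp (Subgroup.inclusion (le_sup_left : P ≤ P ⊔ Q)) ∈ F.Hom P := restrict_mem F hφX le_sup_left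
  have hφN : ∀ x : P, (φX.comp (Subgroup.inclusion (le_sup_left : P ≤ P ⊔ Q))) x ∈ N := by
    intro x
    obtain ⟨κ, hκ, hκx⟩ := hE.exists_kappa (hPN x.2)
    refine hE.mem_of (hom_map_mem F hφF x) (K.mul_mem (K.mul_mem haA.1 hκ) (K.inv_mem haA.1)) (fun u => ?_)
    have h1 : Subgroup.inclusion (le_sup_right : Q ≤ P ⊔ Q) (κ (a⁻¹ u)) =
        Subgroup.inclusion (le_sup_left : P ≤ P ⊔ Q) x * Subgroup.inclusion le_sup_right (a⁻¹ u) *
          (Subgroup.inclusion (le_sup_left : P ≤ P ⊔ Q) x)⁻¹ := Subtype.ext (hκx _)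
    have h2 := hφXQ (κ (a⁻¹ u))
    rw [h1, map_mul, map_mul, map_inv, hφXQ, MulAut.apply_inv_self] at h2
    show (((a * κ * a⁻¹) u : Q) : Ω) = _
    rw [MulAut.mul_apply, MulAut.mul_apply, ← h2]
    rfl
  have hφE : φX.comp (Subgroup.inclusion (le_sup_left : P ≤ P ⊔ Q)) ∈ E.Hom P :=
    (hE.2 P _).2 ⟨hφF, hPN, hφN, φX, hφX, fun x => rfl, a, haA.1, hφXQ⟩
  set φ : P →* Ω := φX.comp (Subgroup.inclusion (le_sup_left : P ≤ P ⊔ Q)) with hφdef
  refine ⟨φ.range, ⟨φ, hφE, rfl⟩, ?_⟩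
  -- the isomorphism `f : PQ ≃ P'Q`
  have hrange : φX.range = φ.range ⊔ Q := by
    apply le_antisymm
    · rintro _ ⟨y, rfl⟩
      refine map_sup_mem φX (fun x => ?_) (fun u => ?_) y
      · exact (le_sup_left : φ.range ≤ φ.range ⊔ Q) ⟨x, rfl⟩
      · rw [hφXQ]
        exact (le_sup_right : Q ≤ φ.range ⊔ Q) (a u).2
    · apply sup_le
      · rintro _ ⟨x, rfl⟩
        exact ⟨_, rfl⟩
      · intro u hu
        refine ⟨Subgroup.inclusion le_sup_right (a⁻¹ ⟨u, hu⟩), ?_⟩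
        rw [hφXQ, MulAut.apply_inv_self]
  set f : ↥(P ⊔ Q) ≃* ↥(φ.range ⊔ Q) :=
    (MonoidHom.ofInjective (F.injective_of_mem hφX)).trans (MulEquiv.subgroupCongr hrange) with hfdef
  have hfapp : ∀ y : ↥(P ⊔ Q), ((f y : ↥(φ.range ⊔ Q)) : Ω) = φX y := fun y => rfl
  have hfF : IsIso F f := by
    have : (φ.range ⊔ Q).subtype.comp f.toMonoidHom = φX := by
      ext y
      rfl
    unfold IsIso
    rw [this]
    exact hφX
  have hfP : ∀ y : ↥(P ⊔ Q), (y : Ω) ∈ P ↔ ((f y : ↥(φ.range ⊔ Q)) : Ω) ∈ φ.range := by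
    intro y
    constructor
    · intro hy
      exact ⟨⟨y, hy⟩, rfl⟩
    · rintro ⟨x, hx⟩
      have h1 : φX (Subgroup.inclusion le_sup_left x) = φX y := hx
      have h2 := F.injective_of_mem hφX h1
      rw [← h2]
      exact x.2
  have hfQ : ∀ u : Q, ((f (Subgroup.inclusion le_sup_right u) : ↥(φ.range ⊔ Q)) : Ω) = ((a u : Q) : Ω) :=
    fun u => hφXQ u
  have hbase : ∀ (W : Subgroup Ω) (e' : ↥(φ.range ⊔ Q) ≃* W),
      nK S (kP K φ.range) e' = nK S (kP K P) (f.trans e') :=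
    fun W e' => nK_base_change f (kP K P) (kP K φ.range) (mem_kP_iff_congr f hfP a haA.1 hfQ) e'
  intro W e' he'
  rw [hbase W e', hbase _ (MulEquiv.refl _)]
  have h1 := hmax₁ W (f.trans e') (hfF.trans he')
  refine h1.trans ?_
  -- the injection induced by `ρ`
  have hmem : ∀ g ∈ nK S (kP K P) e₁, g ∈ nK S K q₁ ⊔ q₁hom.range := by
    rintro g ⟨hgS, α, ⟨hαP, κ, hκ, hακ⟩, hαg⟩
    apply (le_sup_left : nK S K q₁ ≤ nK S K q₁ ⊔ q₁hom.range)
    refine ⟨hgS, κ, hκ, fun u => ?_⟩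
    rw [hq₁app, hq₁app]
    have h2 : α (Subgroup.inclusion le_sup_right u) = Subgroup.inclusion le_sup_right (κ u) :=
      Subtype.ext (hακ u)
    rw [← h2]
    exact hαg _
  have hfinT : Finite ↥(nK S (kP K P) (f.trans (MulEquiv.refl ↥(φ.range ⊔ Q)))) :=
    finite_of_le (nK_le _ _)
  let ι : ↥(nK S (kP K P) e₁) → ↥(nK S (kP K P) (f.trans (MulEquiv.refl ↥(φ.range ⊔ Q)))) := fun g =>
    ⟨ρ ⟨(g : Ω), hmem g g.2⟩, by
      obtain ⟨hgS, α, hα, hαg⟩ := g.2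
      refine ⟨hom_map_mem F hρ _, α, hα, fun y => ?_⟩
      show φX (α y) = ρ ⟨(g : Ω), hmem g g.2⟩ * φX y * (ρ ⟨(g : Ω), hmem g g.2⟩)⁻¹
      rw [hφXapp, hφXapp, ← map_inv, ← map_mul, ← map_mul]
      congr 1
      apply Subtype.ext
      exact hαg y⟩
  have hι : Function.Injective ι := by
    intro g g' hgg'
    have h2 : ρ ⟨(g : Ω), hmem g g.2⟩ = ρ ⟨(g' : Ω), hmem g' g'.2⟩ := congrArg Subtype.val hgg'
    have h3 := F.injective_of_mem hρ h2
    exact Subtype.ext (congrArg (fun z : ↥(nK S K q₁ ⊔ q₁hom.range) => (z : Ω)) h3)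
  exact Nat.card_le_card_of_injective ι hι

/-- An injective self-map of a finite subgroup belonging to the system is an automorphism of the system. -/
theorem exists_aut_of_maps_into' (F : FusionSystem S) {P : Subgroup Ω} [Finite P] {φ : P →* Ω}
    (hφ : φ ∈ F.Hom P) (hval : ∀ x : P, φ x ∈ P) :
    ∃ α : MulAut P, α ∈ F.autGroup P ∧ ∀ x : P, ((α x : P) : Ω) = φ x := by
  have hPS : P ≤ S := hom_le F hφ
  have hinj : Function.Injective (φ.codRestrict P hval) := by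
    intro a b hab
    apply F.injective_of_mem hφ
    exact congrArg (fun z : P => (z : Ω)) hab
  refine ⟨MulEquiv.ofBijective (φ.codRestrict P hval) (Finite.injective_iff_bijective.mp hinj), ?_,
    fun x => rfl⟩
  rw [mem_autGroup_iff F hPS]
  have : P.subtype.comp
      ((MulEquiv.ofBijective (φ.codRestrict P hval) (Finite.injective_iff_bijective.mp hinj) : P ≃* P) :
        P ≃* P).toMonoidHom = φ := by
    ext x
    rfl
  unfold IsIso
  rw [this]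
  exact hφ

/-- An element normalizing `P` and `Q` normalizes `P ⊔ Q`. -/
theorem mem_normalizer_sup {P Q : Subgroup Ω} {g : Ω} (hP : g ∈ Subgroup.normalizer (P : Set Ω))
    (hQ : g ∈ Subgroup.normalizer (Q : Set Ω)) : g ∈ Subgroup.normalizer ((P ⊔ Q : Subgroup Ω) : Set Ω) := by
  have key : ∀ k : Ω, k ∈ Subgroup.normalizer (P : Set Ω) → k ∈ Subgroup.normalizer (Q : Set Ω) →
      ∀ y ∈ P ⊔ Q, k * y * k⁻¹ ∈ P ⊔ Q := by
    intro k hkP hkQ y hy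
    have h1 : P ≤ (P ⊔ Q).comap (MulAut.conj k).toMonoidHom := by
      intro x hx
      exact (le_sup_left : P ≤ P ⊔ Q) ((Subgroup.mem_normalizer_iff.1 hkP x).1 hx)
    have h2 : Q ≤ (P ⊔ Q).comap (MulAut.conj k).toMonoidHom := by
      intro x hx
      exact (le_sup_right : Q ≤ P ⊔ Q) ((Subgroup.mem_normalizer_iff.1 hkQ x).1 hx)
    exact (sup_le h1 h2) hy
  rw [Subgroup.mem_normalizer_iff]
  intro y
  constructor
  · exact key g hP hQ y
  · intro hy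
    have := key g⁻¹ (Subgroup.inv_mem _ hP) (Subgroup.inv_mem _ hQ) _ hy
    simpa [mul_assoc] using this

/-- Restriction to `P` of an automorphism of `P ⊔ Q` that preserves `P`. -/
def restrictAut {P Q : Subgroup Ω} (α : MulAut ↥(P ⊔ Q))
    (h : ∀ x : ↥(P ⊔ Q), (x : Ω) ∈ P ↔ ((α x : ↥(P ⊔ Q)) : Ω) ∈ P) : MulAut P where
  toFun x := ⟨((α (Subgroup.inclusion le_sup_left x) : ↥(P ⊔ Q)) : Ω), (h _).1 x.2⟩
  invFun x := ⟨((α⁻¹ (Subgroup.inclusion le_sup_left x) : ↥(P ⊔ Q)) : Ω), by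
    have := h (α⁻¹ (Subgroup.inclusion le_sup_left x))
    rw [MulAut.apply_inv_self] at this
    exact this.2 x.2⟩
  left_inv x := by
    apply Subtype.ext
    have : (Subgroup.inclusion (le_sup_left : P ≤ P ⊔ Q)
        ⟨((α (Subgroup.inclusion le_sup_left x) : ↥(P ⊔ Q)) : Ω), (h _).1 x.2⟩) =
        α (Subgroup.inclusion le_sup_left x) := Subtype.ext rfl
    show ((α⁻¹ (Subgroup.inclusion le_sup_left
      ⟨((α (Subgroup.inclusion le_sup_left x) : ↥(P ⊔ Q)) : Ω), (h _).1 x.2⟩) : ↥(P ⊔ Q)) : Ω) = x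
    rw [this, MulAut.inv_apply_self]
    rfl
  right_inv x := by
    apply Subtype.ext
    have hx : ((α⁻¹ (Subgroup.inclusion le_sup_left x) : ↥(P ⊔ Q)) : Ω) ∈ P := by
      have := h (α⁻¹ (Subgroup.inclusion le_sup_left x))
      rw [MulAut.apply_inv_self] at this
      exact this.2 x.2
    have : (Subgroup.inclusion (le_sup_left : P ≤ P ⊔ Q)
        ⟨((α⁻¹ (Subgroup.inclusion le_sup_left x) : ↥(P ⊔ Q)) : Ω), hx⟩) =
        α⁻¹ (Subgroup.inclusion le_sup_left x) := Subtype.ext rfl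
    show ((α (Subgroup.inclusion le_sup_left
      ⟨((α⁻¹ (Subgroup.inclusion le_sup_left x) : ↥(P ⊔ Q)) : Ω), hx⟩) : ↥(P ⊔ Q)) : Ω) = x
    rw [this, MulAut.apply_inv_self]
    rfl
  map_mul' x y := by
    apply Subtype.ext
    show ((α (Subgroup.inclusion le_sup_left (x * y)) : ↥(P ⊔ Q)) : Ω) = _
    rw [map_mul, map_mul]
    rfl

theorem restrictAut_apply {P Q : Subgroup Ω} (α : MulAut ↥(P ⊔ Q))
    (h : ∀ x : ↥(P ⊔ Q), (x : Ω) ∈ P ↔ ((α x : ↥(P ⊔ Q)) : Ω) ∈ P) (x : P) :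
    ((restrictAut α h x : P) : Ω) = ((α (Subgroup.inclusion le_sup_left x) : ↥(P ⊔ Q)) : Ω) := rfl

/-- Elements of `K_P ∩ Aut_F(PQ)` restrict to elements of `Aut_E(P)`, `E = N_F^K(Q)`. -/
theorem IsKNormalizerSystem.restrictAut_mem {F : FusionSystem S} {Q : Subgroup Ω} {K : Subgroup (MulAut Q)}
    {N : Subgroup Ω} {E : FusionSystem N} (hE : IsKNormalizerSystem F Q K N E) (hQS : Q ≤ S)
    {P : Subgroup Ω} (hPN : P ≤ N) {α : MulAut ↥(P ⊔ Q)} (hα : α ∈ kP K P ⊓ F.autGroup (P ⊔ Q)) :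
    restrictAut α hα.1.1 ∈ E.autGroup P := by
  have hXS : P ⊔ Q ≤ S := sup_le (hPN.trans hE.le_S) hQS
  have hαF : IsIso F (α : ↥(P ⊔ Q) ≃* ↥(P ⊔ Q)) := (mem_autGroup_iff F hXS).1 hα.2
  rw [mem_autGroup_iff E hPN]
  show P.subtype.comp ((restrictAut α hα.1.1 : P ≃* P)).toMonoidHom ∈ E.Hom P
  rw [hE.2]
  obtain ⟨κ, hκ, hακ⟩ := hα.1.2
  exact ⟨restrict_mem' F hαF le_sup_left (fun x => rfl), hPN, fun x => hPN (restrictAut α hα.1.1 x).2, _, hαF,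
    fun x => rfl, κ, hκ, hακ⟩

/-- The restriction homomorphism `Aut_F^{K_P}(PQ) → Aut_E(P)`. -/
noncomputable def IsKNormalizerSystem.resHom {F : FusionSystem S} {Q : Subgroup Ω} {K : Subgroup (MulAut Q)}
    {N : Subgroup Ω} {E : FusionSystem N} (hE : IsKNormalizerSystem F Q K N E) (hQS : Q ≤ S)
    {P : Subgroup Ω} (hPN : P ≤ N) : ↥(kP K P ⊓ F.autGroup (P ⊔ Q)) →* ↥(E.autGroup P) :=
  MonoidHom.mk' (fun α => ⟨restrictAut α.1 α.2.1.1, hE.restrictAut_mem hQS hPN α.2⟩) (by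
    intro α β
    apply Subtype.ext
    apply MulEquiv.ext
    intro x
    apply Subtype.ext
    have h1 : Subgroup.inclusion (le_sup_left : P ≤ P ⊔ Q)
        ⟨((β.1 (Subgroup.inclusion le_sup_left x) : ↥(P ⊔ Q)) : Ω), (β.2.1.1 _).1 x.2⟩ =
        β.1 (Subgroup.inclusion le_sup_left x) := Subtype.ext rfl
    show (((α.1 * β.1) (Subgroup.inclusion le_sup_left x) : ↥(P ⊔ Q)) : Ω) =
      ((α.1 (Subgroup.inclusion le_sup_left
        ⟨((β.1 (Subgroup.inclusion le_sup_left x) : ↥(P ⊔ Q)) : Ω), (β.2.1.1 _).1 x.2⟩) : ↥(P ⊔ Q)) : Ω)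
    rw [h1]
    rfl)

theorem IsKNormalizerSystem.resHom_apply {F : FusionSystem S} {Q : Subgroup Ω} {K : Subgroup (MulAut Q)}
    {N : Subgroup Ω} {E : FusionSystem N} (hE : IsKNormalizerSystem F Q K N E) (hQS : Q ≤ S)
    {P : Subgroup Ω} (hPN : P ≤ N) (α : ↥(kP K P ⊓ F.autGroup (P ⊔ Q))) (x : P) :
    (((hE.resHom hQS hPN α : ↥(E.autGroup P)) : MulAut P) x : Ω) =
      ((α.1 (Subgroup.inclusion le_sup_left x) : ↥(P ⊔ Q)) : Ω) := rfl

theorem IsKNormalizerSystem.resHom_surjective {F : FusionSystem S} [Finite S] {Q : Subgroup Ω}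
    {K : Subgroup (MulAut Q)} {N : Subgroup Ω} {E : FusionSystem N} (hE : IsKNormalizerSystem F Q K N E)
    (hQS : Q ≤ S) {P : Subgroup Ω} (hPN : P ≤ N) : Function.Surjective (hE.resHom hQS hPN) := by
  rintro ⟨β, hβ⟩
  have hXS : P ⊔ Q ≤ S := sup_le (hPN.trans hE.le_S) hQS
  have hfinX : Finite ↥(P ⊔ Q) := finite_of_le hXS
  have h1 : IsIso E (β : P ≃* P) := (mem_autGroup_iff E hPN).1 hβ
  obtain ⟨-, -, -, ψ, hψ, hψP, κ, hκ, hψκ⟩ := (hE.2 P _).1 h1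
  have hval : ∀ y : ↥(P ⊔ Q), ψ y ∈ P ⊔ Q := by
    refine map_sup_mem ψ (fun x => ?_) (fun u => ?_)
    · rw [hψP]
      exact (le_sup_left : P ≤ P ⊔ Q) (β x).2
    · rw [hψκ]
      exact (le_sup_right : Q ≤ P ⊔ Q) (κ u).2
  obtain ⟨α, hαF, hαψ⟩ := exists_aut_of_maps_into' F hψ hval
  have hαP : ∀ y : ↥(P ⊔ Q), (y : Ω) ∈ P ↔ ((α y : ↥(P ⊔ Q)) : Ω) ∈ P := by
    intro y
    constructor
    · intro hy
      have : y = Subgroup.inclusion le_sup_left (⟨y, hy⟩ : P) := Subtype.ext rfl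
      rw [hαψ, this, hψP]
      exact (β _).2
    · intro hy
      rw [hαψ] at hy
      have h2 : ψ (Subgroup.inclusion le_sup_left (β.symm ⟨ψ y, hy⟩)) = ψ y := by
        rw [hψP]
        show (((β : P ≃* P) (β.symm ⟨ψ y, hy⟩) : P) : Ω) = ψ y
        rw [MulEquiv.apply_symm_apply]
      have h3 := F.injective_of_mem hψ h2
      rw [← h3]
      exact (β.symm ⟨ψ y, hy⟩).2
  have hαK : α ∈ kP K P := ⟨hαP, κ, hκ, fun u => by rw [hαψ, hψκ]⟩
  refine ⟨⟨α, hαK, hαF⟩, ?_⟩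
  apply Subtype.ext
  apply MulEquiv.ext
  intro x
  apply Subtype.ext
  rw [hE.resHom_apply hQS hPN, hαψ, hψP]
  rfl

/-- An element of `N` that induces an automorphism of `P` by conjugation normalizes `P`. -/
theorem mem_normalizer_of_induces' {P : Subgroup Ω} {β : MulAut P} {g : Ω}
    (h : ∀ x : P, ((β x : P) : Ω) = g * (x : Ω) * g⁻¹) : g ∈ Subgroup.normalizer (P : Set Ω) := by
  rw [Subgroup.mem_normalizer_iff]
  intro x
  constructor
  · intro hx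
    rw [← h ⟨x, hx⟩]
    exact (β ⟨x, hx⟩).2
  · intro hx
    have h1 := h (β⁻¹ ⟨_, hx⟩)
    rw [MulAut.apply_inv_self] at h1
    have e : x = ((β⁻¹ ⟨_, hx⟩ : P) : Ω) := by
      have h2 : g * x * g⁻¹ = g * ((β⁻¹ ⟨_, hx⟩ : P) : Ω) * g⁻¹ := h1
      exact mul_left_cancel (mul_right_cancel h2)
    rw [e]
    exact (β⁻¹ ⟨_, hx⟩).2

/-- **Step 2.** If `PQ` is fully `K_P`-normalized in `F` then `P` is fully automized in `N_F^K(Q)`. -/
theorem IsKNormalizerSystem.fullyAutomized (F : FusionSystem S) [Finite S] {p : ℕ} [Fact p.Prime]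
    (hS : IsPGroup p S) (hF : F.IsSaturated p) {Q : Subgroup Ω} {K : Subgroup (MulAut Q)} {N : Subgroup Ω}
    {E : FusionSystem N} (hE : IsKNormalizerSystem F Q K N E) (hQS : Q ≤ S) {P : Subgroup Ω} (hPN : P ≤ N)
    (hmaxP : IsMaxK F (kP K P) (MulEquiv.refl ↥(P ⊔ Q))) : E.IsFullyAutomized p P := by
  have hNS : N ≤ S := hE.le_S
  have hXS : P ⊔ Q ≤ S := sup_le (hPN.trans hNS) hQS
  have hfinX : Finite ↥(P ⊔ Q) := finite_of_le hXS
  obtain ⟨-, T, hT⟩ := IsMaxK.fullyCentralized_and_sylow F hS hF (isIso_refl F hXS) hmaxP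
  refine ⟨hPN, T.mapSurjective (hE.resHom_surjective hQS hPN), ?_⟩
  rw [Sylow.coe_mapSurjective, hT]
  ext β
  rw [Subgroup.mem_subgroupOf]
  constructor
  · rintro ⟨α, hα, rfl⟩
    obtain ⟨hαK, g, hg, hαg⟩ := Subgroup.mem_subgroupOf.1 hα
    rw [mem_autInducedBy_iff]
    obtain ⟨κ, hκ, hακ⟩ := hαK.2
    have hgN : g ∈ N := by
      refine hE.mem_of hg hκ (fun u => ?_)
      rw [← hακ]
      exact hαg _
    exact ⟨g, hgN, fun x => hαg _⟩
  · intro hβ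
    obtain ⟨g, hgN, hgβ⟩ := mem_autInducedBy_iff.1 hβ
    have hgP : g ∈ Subgroup.normalizer (P : Set Ω) := mem_normalizer_of_induces' hgβ
    have hgQ : g ∈ Subgroup.normalizer (Q : Set Ω) := hE.le_normalizer hgN
    have hgX : g ∈ Subgroup.normalizer ((P ⊔ Q : Subgroup Ω) : Set Ω) := mem_normalizer_sup hgP hgQ
    obtain ⟨κ, hκ, hκg⟩ := hE.exists_kappa hgN
    have hαK : conjAut (P ⊔ Q) g hgX ∈ kP K P := by
      refine ⟨fun y => ?_, κ, hκ, fun u => ?_⟩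
      · rw [conjAut_apply]
        exact Subgroup.mem_normalizer_iff.1 hgP _
      · rw [conjAut_apply, hκg]
        rfl
    have hαS : conjAut (P ⊔ Q) g hgX ∈ autInducedBy S (P ⊔ Q) :=
      mem_autInducedBy_iff.2 ⟨g, hNS hgN, fun y => rfl⟩
    have hαF : conjAut (P ⊔ Q) g hgX ∈ F.autGroup (P ⊔ Q) := autInducedBy_le_autGroup F hXS hαS
    refine ⟨⟨conjAut (P ⊔ Q) g hgX, hαK, hαF⟩, ?_, ?_⟩
    · rw [SetLike.mem_coe, Subgroup.mem_subgroupOf]
      exact ⟨hαK, g, hNS hgN, fun y => rfl⟩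
    · apply Subtype.ext
      apply MulEquiv.ext
      intro x
      apply Subtype.ext
      rw [hE.resHom_apply hQS hPN, hgβ]
      rfl

/-- Sylow conjugation by an element of a normal subgroup `A₀`, for `p`-subgroups of `T A₀`. -/
theorem exists_conj_mem_sylow_of_le_sup {G : Type*} [Group G] [Finite G] {p : ℕ} [Fact p.Prime] (T : Sylow p G)
    (A₀ : Subgroup G) [A₀.Normal] {Γ : Subgroup G} (hΓ : IsPGroup p Γ) (hle : Γ ≤ (T : Subgroup G) ⊔ A₀) :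
    ∃ a₀ ∈ A₀, ∀ γ ∈ Γ, a₀ * γ * a₀⁻¹ ∈ T := by
  have hΓB : IsPGroup p (Γ.subgroupOf ((T : Subgroup G) ⊔ A₀)) := hΓ.comap_subtype
  obtain ⟨b, hb⟩ := exists_conj_mem_sylow (T.subtype (le_sup_left : (T : Subgroup G) ≤ (T : Subgroup G) ⊔ A₀)) hΓB
  have hbmem : (b : G) ∈ (((T : Subgroup G) ⊔ A₀ : Subgroup G) : Set G) := b.2
  rw [Subgroup.mul_normal] at hbmem
  obtain ⟨t, ht, a₀, ha₀, hta⟩ := Set.mem_mul.1 hbmem
  refine ⟨a₀, ha₀, fun γ hγ => ?_⟩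
  have h1 := hb ⟨γ, hle hγ⟩ (Subgroup.mem_subgroupOf.2 hγ)
  have h2 : (b : G) * γ * (b : G)⁻¹ ∈ (T : Subgroup G) := Subgroup.mem_subgroupOf.1 h1
  rw [← hta] at h2
  have : a₀ * γ * a₀⁻¹ = t⁻¹ * (t * a₀ * γ * (t * a₀)⁻¹) * t := by group
  rw [this]
  exact Subgroup.mul_mem _ (Subgroup.mul_mem _ (Subgroup.inv_mem _ ht) h2) ht

/-- The isomorphism `RQ ≃ PQ` of `F` attached to a map `φ : R → P` of `N_F^K(Q)` onto `P`. -/
theorem IsKNormalizerSystem.exists_iso_of_hom {F : FusionSystem S} {Q : Subgroup Ω} {K : Subgroup (MulAut Q)}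
    {N : Subgroup Ω} {E : FusionSystem N} (hE : IsKNormalizerSystem F Q K N E) {R : Subgroup Ω} {φ : R →* Ω}
    (hφ : φ ∈ E.Hom R) :
    ∃ (e : ↥(R ⊔ Q) ≃* ↥(φ.range ⊔ Q)) (κ : MulAut Q), κ ∈ K ∧ IsIso F e ∧
      (∀ y : ↥(R ⊔ Q), (y : Ω) ∈ R ↔ ((e y : ↥(φ.range ⊔ Q)) : Ω) ∈ φ.range) ∧
      (∀ u : Q, ((e (Subgroup.inclusion le_sup_right u) : ↥(φ.range ⊔ Q)) : Ω) = ((κ u : Q) : Ω)) ∧
      ∀ x : R, ((e (Subgroup.inclusion le_sup_left x) : ↥(φ.range ⊔ Q)) : Ω) = φ x := by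
  obtain ⟨hφF, hRN, hφN, φX, hφX, hφXR, κ, hκ, hφXQ⟩ := (hE.2 R φ).1 hφ
  have hrange : φX.range = φ.range ⊔ Q := by
    apply le_antisymm
    · rintro _ ⟨y, rfl⟩
      refine map_sup_mem φX (fun x => ?_) (fun u => ?_) y
      · rw [hφXR]
        exact (le_sup_left : φ.range ≤ φ.range ⊔ Q) ⟨x, rfl⟩
      · rw [hφXQ]
        exact (le_sup_right : Q ≤ φ.range ⊔ Q) (κ u).2
    · apply sup_le
      · rintro _ ⟨x, rfl⟩
        exact ⟨_, hφXR x⟩
      · intro u hu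
        refine ⟨Subgroup.inclusion le_sup_right (κ⁻¹ ⟨u, hu⟩), ?_⟩
        rw [hφXQ, MulAut.apply_inv_self]
  refine ⟨(MonoidHom.ofInjective (F.injective_of_mem hφX)).trans (MulEquiv.subgroupCongr hrange), κ, hκ,
    ?_, ?_, hφXQ, hφXR⟩
  · have : (φ.range ⊔ Q).subtype.comp
        ((MonoidHom.ofInjective (F.injective_of_mem hφX)).trans (MulEquiv.subgroupCongr hrange)).toMonoidHom
          = φX := by
      ext y
      rfl
    unfold IsIso
    rw [this]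
    exact hφX
  · intro y
    constructor
    · intro hy
      have : y = Subgroup.inclusion le_sup_left (⟨y, hy⟩ : R) := Subtype.ext rfl
      show φX y ∈ φ.range
      rw [this, hφXR]
      exact ⟨_, rfl⟩
    · rintro ⟨x, hx⟩
      have h1 : φX (Subgroup.inclusion le_sup_left x) = φX y := by
        rw [hφXR]
        exact hx
      have h2 := F.injective_of_mem hφX h1
      rw [← h2]
      exact x.2

/-- Conjugation by an element of `N` that normalizes `P` lies in `Aut_S^{K_P}(PQ)`. -/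
theorem IsKNormalizerSystem.mem_of_induced {F : FusionSystem S} {Q : Subgroup Ω} {K : Subgroup (MulAut Q)}
    {N : Subgroup Ω} {E : FusionSystem N} (hE : IsKNormalizerSystem F Q K N E) (hQS : Q ≤ S)
    {P : Subgroup Ω} (hPN : P ≤ N) {g : Ω} (hgN : g ∈ N) (hgP : g ∈ Subgroup.normalizer (P : Set Ω))
    {α : MulAut ↥(P ⊔ Q)} (hα : ∀ y : ↥(P ⊔ Q), ((α y : ↥(P ⊔ Q)) : Ω) = g * (y : Ω) * g⁻¹) :
    α ∈ kP K P ∧ α ∈ F.autGroup (P ⊔ Q) ∧ α ∈ autSK S (kP K P) (MulEquiv.refl ↥(P ⊔ Q)) := by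
  have hNS : N ≤ S := hE.le_S
  have hXS : P ⊔ Q ≤ S := sup_le (hPN.trans hNS) hQS
  obtain ⟨κ, hκ, hκg⟩ := hE.exists_kappa hgN
  have hαK : α ∈ kP K P := by
    refine ⟨fun y => ?_, κ, hκ, fun u => ?_⟩
    · rw [hα]
      exact Subgroup.mem_normalizer_iff.1 hgP _
    · rw [hα, hκg]
      rfl
  refine ⟨hαK, ?_, hαK, g, hNS hgN, fun y => hα y⟩
  exact autInducedBy_le_autGroup F hXS (mem_autInducedBy_iff.2 ⟨g, hNS hgN, hα⟩)

/-- The transport along `e` of conjugation by an element of the extender acts on `P = φ(R)` as conjugation by the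
corresponding element `h`. -/
theorem congr_apply_of_extender {R Q : Subgroup Ω} {φ : R →* Ω} (e : ↥(R ⊔ Q) ≃* ↥(φ.range ⊔ Q))
    (heφ : ∀ x : R, ((e (Subgroup.inclusion le_sup_left x) : ↥(φ.range ⊔ Q)) : Ω) = φ x)
    {α : MulAut ↥(R ⊔ Q)} {g : Ω} (hα : ∀ y : ↥(R ⊔ Q), ((α y : ↥(R ⊔ Q)) : Ω) = g * (y : Ω) * g⁻¹)
    (hgR : g ∈ Subgroup.normalizer (R : Set Ω)) {h : Ω}
    (hh : ∀ (x : R) (hx : g * (x : Ω) * g⁻¹ ∈ R), φ ⟨g * x * g⁻¹, hx⟩ = h * φ x * h⁻¹) (x : R) :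
    ((MulAut.congr e α (Subgroup.inclusion le_sup_left (⟨φ x, ⟨x, rfl⟩⟩ : φ.range)) : ↥(φ.range ⊔ Q)) : Ω) =
      h * φ x * h⁻¹ := by
  have h1 : e (Subgroup.inclusion le_sup_left x) =
      Subgroup.inclusion le_sup_left (⟨φ x, ⟨x, rfl⟩⟩ : φ.range) := Subtype.ext (heφ x)
  have h2 : e.symm (Subgroup.inclusion le_sup_left (⟨φ x, ⟨x, rfl⟩⟩ : φ.range)) =
      Subgroup.inclusion le_sup_left x := by
    rw [MulEquiv.symm_apply_eq, h1]
  have hx : g * (x : Ω) * g⁻¹ ∈ R := (Subgroup.mem_normalizer_iff.1 hgR _).1 x.2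
  have h3 : α (Subgroup.inclusion le_sup_left x) = Subgroup.inclusion le_sup_left (⟨g * x * g⁻¹, hx⟩ : R) :=
    Subtype.ext (hα _)
  show ((e (α (e.symm (Subgroup.inclusion le_sup_left (⟨φ x, ⟨x, rfl⟩⟩ : φ.range)))) : ↥(φ.range ⊔ Q)) : Ω) = _
  rw [h2, h3, heφ, hh]

/-- The source of a map of the system lies in its extender. -/
theorem le_extender_of_hom (F : FusionSystem S) {P : Subgroup Ω} {φ : P →* Ω} (hφ : φ ∈ F.Hom P) :
    P ≤ extender S P φ := by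
  intro u hu
  rw [Helper85.mem_extender_iff]
  refine ⟨hom_le F hφ hu, Subgroup.le_normalizer hu, φ ⟨u, hu⟩, hom_map_mem F hφ _, fun x hx => ?_⟩
  rw [← map_inv, ← map_mul, ← map_mul]
  rfl

/-- A map of `F` on `PQ` (with `P ≤ N`) acting on `Q` as an element of `K` maps `P` into `N`. -/
theorem IsKNormalizerSystem.map_mem {F : FusionSystem S} {Q : Subgroup Ω} {K : Subgroup (MulAut Q)}
    {N : Subgroup Ω} {E : FusionSystem N} (hE : IsKNormalizerSystem F Q K N E) {P : Subgroup Ω} (hPN : P ≤ N)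
    {ψ : ↥(P ⊔ Q) →* Ω} (hψ : ψ ∈ F.Hom (P ⊔ Q)) {a : MulAut Q} (ha : a ∈ K)
    (hψQ : ∀ u : Q, ψ (Subgroup.inclusion le_sup_right u) = ((a u : Q) : Ω)) (x : P) :
    ψ (Subgroup.inclusion le_sup_left x) ∈ N := by
  obtain ⟨κ, hκ, hκx⟩ := hE.exists_kappa (hPN x.2)
  refine hE.mem_of (hom_map_mem F hψ _) (K.mul_mem (K.mul_mem ha hκ) (K.inv_mem ha)) (fun u => ?_)
  have h1 : Subgroup.inclusion (le_sup_right : Q ≤ P ⊔ Q) (κ (a⁻¹ u)) =
      Subgroup.inclusion (le_sup_left : P ≤ P ⊔ Q) x * Subgroup.inclusion le_sup_right (a⁻¹ u) *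
        (Subgroup.inclusion (le_sup_left : P ≤ P ⊔ Q) x)⁻¹ := Subtype.ext (hκx _)
  have h2 := hψQ (κ (a⁻¹ u))
  rw [h1, map_mul, map_mul, map_inv, hψQ, MulAut.apply_inv_self] at h2
  show (((a * κ * a⁻¹) u : Q) : Ω) = _
  rw [MulAut.mul_apply, MulAut.mul_apply, ← h2]

/-- **Step 3.** If `PQ` is fully `K_P`-normalized in `F` then `P` is receptive in `N_F^K(Q)`. -/
theorem IsKNormalizerSystem.receptive (F : FusionSystem S) [Finite S] {p : ℕ} [Fact p.Prime]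
    (hS : IsPGroup p S) (hF : F.IsSaturated p) {Q : Subgroup Ω} {K : Subgroup (MulAut Q)} {N : Subgroup Ω}
    {E : FusionSystem N} (hE : IsKNormalizerSystem F Q K N E) (hQS : Q ≤ S) {P : Subgroup Ω} (hPN : P ≤ N)
    (hmaxP : IsMaxK F (kP K P) (MulEquiv.refl ↥(P ⊔ Q))) : E.IsReceptive P := by
  have hNS : N ≤ S := hE.le_S
  refine ⟨hPN, fun R φ hφ hrange => ?_⟩
  subst hrange
  have hXS : φ.range ⊔ Q ≤ S := sup_le (hPN.trans hNS) hQS
  have hfinX : Finite ↥(φ.range ⊔ Q) := finite_of_le hXS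
  obtain ⟨hfc, T, hT⟩ := IsMaxK.fullyCentralized_and_sylow F hS hF (isIso_refl F hXS) hmaxP
  have hrecX : F.IsReceptive (φ.range ⊔ Q) := receptive_of_fullyCentralized F hS hF hfc
  obtain ⟨e, κ, hκ, heF, heR, heQ, heφ⟩ := hE.exists_iso_of_hom hφ
  obtain ⟨hφF, hRN, hφN, -⟩ := (hE.2 R φ).1 hφ
  have hYS : R ⊔ Q ≤ S := sup_le (hRN.trans hNS) hQS
  have hMN : extender N R φ ≤ N := (extender_le N R φ).trans (normalizerIn_le N R)
  have hMp : IsPGroup p ↥(extender N R φ) := hS.to_le (hMN.trans hNS)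
  -- facts about elements of the extender
  have hMfacts : ∀ g ∈ extender N R φ, g ∈ N ∧ g ∈ Subgroup.normalizer (R : Set Ω) ∧
      g ∈ Subgroup.normalizer ((R ⊔ Q : Subgroup Ω) : Set Ω) ∧
      ∃ h ∈ N, ∀ (x : R) (hx : g * (x : Ω) * g⁻¹ ∈ R), φ ⟨g * x * g⁻¹, hx⟩ = h * φ x * h⁻¹ := by
    intro g hg
    obtain ⟨hgN, hgR, h, hh, hgh⟩ := (Helper85.mem_extender_iff N R φ g).1 hg
    exact ⟨hgN, hgR, mem_normalizer_sup hgR (hE.le_normalizer hgN), h, hh, hgh⟩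
  -- for `α` induced by `g ∈ N_φ` on `RQ`, its transport lies in `A`, and in `T A₀`
  have hkey : ∀ (α : MulAut ↥(R ⊔ Q)) (g : Ω), g ∈ extender N R φ →
      (∀ y : ↥(R ⊔ Q), ((α y : ↥(R ⊔ Q)) : Ω) = g * (y : Ω) * g⁻¹) →
      ∃ hA : MulAut.congr e α ∈ kP K φ.range ⊓ F.autGroup (φ.range ⊔ Q),
        (⟨MulAut.congr e α, hA⟩ : ↥(kP K φ.range ⊓ F.autGroup (φ.range ⊔ Q))) ∈
          (T : Subgroup ↥(kP K φ.range ⊓ F.autGroup (φ.range ⊔ Q))) ⊔ (hE.resHom hQS hPN).ker := by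
    intro α g hg hα
    obtain ⟨hgN, hgR, hgY, h, hhN, hgh⟩ := hMfacts g hg
    obtain ⟨hαK, hαF, -⟩ := hE.mem_of_induced hQS hRN hgN hgR hα
    have hA : MulAut.congr e α ∈ kP K φ.range ⊓ F.autGroup (φ.range ⊔ Q) :=
      ⟨kP_congr e heR κ hκ heQ hαK, congr_mem_autGroup F heF hαF⟩
    refine ⟨hA, ?_⟩
    have hact : ∀ y : φ.range,
        ((MulAut.congr e α (Subgroup.inclusion le_sup_left y) : ↥(φ.range ⊔ Q)) : Ω) = h * (y : Ω) * h⁻¹ := by
      rintro ⟨_, x, rfl⟩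
      exact congr_apply_of_extender e heφ hα hgR hgh x
    have hhP : h ∈ Subgroup.normalizer ((φ.range : Subgroup Ω) : Set Ω) :=
      mem_normalizer_of_induces' (β := ((hE.resHom hQS hPN ⟨_, hA⟩ : ↥(E.autGroup φ.range)) : MulAut φ.range))
        (fun y => by rw [hE.resHom_apply hQS hPN]; exact hact y)
    have hhX := mem_normalizer_sup hhP (hE.le_normalizer hhN)
    obtain ⟨hcK, hcF, hcS⟩ := hE.mem_of_induced hQS hPN hhN hhP (α := conjAut (φ.range ⊔ Q) h hhX) (fun y => rfl)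
    have hcT : (⟨conjAut (φ.range ⊔ Q) h hhX, hcK, hcF⟩ : ↥(kP K φ.range ⊓ F.autGroup (φ.range ⊔ Q))) ∈
        (T : Subgroup ↥(kP K φ.range ⊓ F.autGroup (φ.range ⊔ Q))) := by
      rw [hT, Subgroup.mem_subgroupOf]
      exact hcS
    have hker : (⟨conjAut (φ.range ⊔ Q) h hhX, hcK, hcF⟩ : ↥(kP K φ.range ⊓ F.autGroup (φ.range ⊔ Q)))⁻¹ *
        ⟨MulAut.congr e α, hA⟩ ∈ (hE.resHom hQS hPN).ker := by
      rw [MonoidHom.mem_ker, map_mul, map_inv, inv_mul_eq_one]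
      apply Subtype.ext
      apply MulEquiv.ext
      intro y
      apply Subtype.ext
      rw [hE.resHom_apply hQS hPN, hE.resHom_apply hQS hPN, hact]
      rfl
    have hdecomp : (⟨MulAut.congr e α, hA⟩ : ↥(kP K φ.range ⊓ F.autGroup (φ.range ⊔ Q))) =
        ⟨conjAut (φ.range ⊔ Q) h hhX, hcK, hcF⟩ *
          ((⟨conjAut (φ.range ⊔ Q) h hhX, hcK, hcF⟩ : ↥(kP K φ.range ⊓ F.autGroup (φ.range ⊔ Q)))⁻¹ *
            ⟨MulAut.congr e α, hA⟩) := by group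
    rw [hdecomp]
    exact Subgroup.mul_mem_sup hcT hker
  -- the `p`-group `Γ`
  have hΓp : IsPGroup p ↥(((autInducedBy (extender N R φ) (R ⊔ Q)).map (MulAut.congr e).toMonoidHom).subgroupOf
      (kP K φ.range ⊓ F.autGroup (φ.range ⊔ Q))) :=
    ((autInducedBy_isPGroup hMp (R ⊔ Q)).map _).comap_subtype
  have hΓle : ((autInducedBy (extender N R φ) (R ⊔ Q)).map (MulAut.congr e).toMonoidHom).subgroupOf
      (kP K φ.range ⊓ F.autGroup (φ.range ⊔ Q)) ≤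
        (T : Subgroup ↥(kP K φ.range ⊓ F.autGroup (φ.range ⊔ Q))) ⊔ (hE.resHom hQS hPN).ker := by
    intro γ hγ
    obtain ⟨α, hα, hαγ⟩ := Subgroup.mem_subgroupOf.1 hγ
    obtain ⟨g, hg, hαg⟩ := mem_autInducedBy_iff.1 hα
    obtain ⟨hA, hmem⟩ := hkey α g hg hαg
    have : γ = ⟨MulAut.congr e α, hA⟩ := Subtype.ext hαγ.symm
    rw [this]
    exact hmem
  obtain ⟨a₀, ha₀, hconj⟩ := exists_conj_mem_sylow_of_le_sup T (hE.resHom hQS hPN).ker hΓp hΓle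
  have ha₀P : ∀ x : φ.range, ((a₀.1 (Subgroup.inclusion le_sup_left x) : ↥(φ.range ⊔ Q)) : Ω) = x := by
    intro x
    have h1 := hE.resHom_apply hQS hPN a₀ x
    rw [MonoidHom.mem_ker.1 ha₀] at h1
    exact h1.symm
  obtain ⟨κ₀, hκ₀, ha₀Q⟩ := a₀.2.1.2
  have ha₀F : IsIso F (a₀.1 : ↥(φ.range ⊔ Q) ≃* ↥(φ.range ⊔ Q)) := (mem_autGroup_iff F hXS).1 a₀.2.2
  have he'F : IsIso F (e.trans a₀.1) := heF.trans ha₀F
  have hφ' : (φ.range ⊔ Q).subtype.comp (e.trans a₀.1).toMonoidHom ∈ F.Hom (R ⊔ Q) := he'F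
  obtain ⟨ψ, hψ, hψφ'⟩ := hrecX.2 (R ⊔ Q) _ hφ' (range_subtype_comp _)
  -- `N_φ Q` lies in the extender of `φ'` in `F`
  have hle : extender N R φ ⊔ Q ≤
      extender S (R ⊔ Q) ((φ.range ⊔ Q).subtype.comp (e.trans a₀.1).toMonoidHom) := by
    apply sup_le
    · intro g hg
      obtain ⟨hgN, hgR, hgY, -⟩ := hMfacts g hg
      rw [Helper85.mem_extender_iff]
      refine ⟨hNS hgN, hgY, ?_⟩
      obtain ⟨hA, -⟩ := hkey (conjAut (R ⊔ Q) g hgY) g hg (fun y => rfl)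
      have hΓmem : (⟨MulAut.congr e (conjAut (R ⊔ Q) g hgY), hA⟩ :
          ↥(kP K φ.range ⊓ F.autGroup (φ.range ⊔ Q))) ∈
          ((autInducedBy (extender N R φ) (R ⊔ Q)).map (MulAut.congr e).toMonoidHom).subgroupOf
            (kP K φ.range ⊓ F.autGroup (φ.range ⊔ Q)) := by
        rw [Subgroup.mem_subgroupOf]
        exact ⟨conjAut (R ⊔ Q) g hgY, mem_autInducedBy_iff.2 ⟨g, hg, fun y => rfl⟩, rfl⟩
      have h1 : a₀ * ⟨MulAut.congr e (conjAut (R ⊔ Q) g hgY), hA⟩ * a₀⁻¹ ∈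
          (T : Subgroup ↥(kP K φ.range ⊓ F.autGroup (φ.range ⊔ Q))) := hconj _ hΓmem
      rw [hT, Subgroup.mem_subgroupOf] at h1
      obtain ⟨-, h', hh'S, hh'⟩ := h1
      refine ⟨h', hh'S, fun y hy => ?_⟩
      have h2 := hh' (a₀.1 (e y))
      have h3 : ((a₀ * ⟨MulAut.congr e (conjAut (R ⊔ Q) g hgY), hA⟩ * a₀⁻¹ :
          ↥(kP K φ.range ⊓ F.autGroup (φ.range ⊔ Q))) : MulAut ↥(φ.range ⊔ Q)) (a₀.1 (e y)) =
          a₀.1 (e (conjAut (R ⊔ Q) g hgY y)) := by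
        show a₀.1 (MulAut.congr e (conjAut (R ⊔ Q) g hgY) (a₀.1⁻¹ (a₀.1 (e y)))) = _
        rw [MulAut.inv_apply_self]
        show a₀.1 (e (conjAut (R ⊔ Q) g hgY (e.symm (e y)))) = _
        rw [MulEquiv.symm_apply_apply]
      rw [h3] at h2
      exact h2
    · exact (le_sup_right : Q ≤ R ⊔ Q).trans (le_extender_of_hom F hφ')
  have hψMQ : ψ.comp (Subgroup.inclusion hle) ∈ F.Hom (extender N R φ ⊔ Q) := restrict_mem F hψ hle
  have hψQ : ∀ u : Q, (ψ.comp (Subgroup.inclusion hle)) (Subgroup.inclusion le_sup_right u) =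
      (((κ₀ * κ) u : Q) : Ω) := by
    intro u
    have h1 := hψφ' (u : Ω) ((le_sup_right : Q ≤ R ⊔ Q) u.2) (hle ((le_sup_right : Q ≤ _ ⊔ Q) u.2))
    have h2 : e (Subgroup.inclusion le_sup_right u) = Subgroup.inclusion le_sup_right (κ u) :=
      Subtype.ext (heQ u)
    have h3 : ((φ.range ⊔ Q).subtype.comp (e.trans a₀.1).toMonoidHom) ⟨(u : Ω), (le_sup_right : Q ≤ R ⊔ Q) u.2⟩ =
        ((a₀.1 (e (Subgroup.inclusion le_sup_right u)) : ↥(φ.range ⊔ Q)) : Ω) := rfl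
    rw [h3, h2, ha₀Q] at h1
    exact h1
  have hψMF : (ψ.comp (Subgroup.inclusion hle)).comp (Subgroup.inclusion le_sup_left) ∈
      F.Hom (extender N R φ) := restrict_mem F hψMQ le_sup_left
  have hψMN : ∀ g : ↥(extender N R φ),
      ((ψ.comp (Subgroup.inclusion hle)).comp (Subgroup.inclusion le_sup_left)) g ∈ N :=
    fun g => hE.map_mem hMN hψMQ (K.mul_mem hκ₀ hκ) hψQ g
  refine ⟨(ψ.comp (Subgroup.inclusion hle)).comp (Subgroup.inclusion le_sup_left),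
    (hE.2 _ _).2 ⟨hψMF, hMN, hψMN, _, hψMQ, fun x => rfl, κ₀ * κ, K.mul_mem hκ₀ hκ, hψQ⟩, ?_⟩
  intro x hxR hxM
  have h1 := hψφ' x ((le_sup_left : R ≤ R ⊔ Q) hxR) (hle ((le_sup_left : _ ≤ _ ⊔ Q) hxM))
  have h2 : e (Subgroup.inclusion le_sup_left (⟨x, hxR⟩ : R)) =
      Subgroup.inclusion le_sup_left (⟨φ ⟨x, hxR⟩, ⟨_, rfl⟩⟩ : φ.range) := Subtype.ext (heφ _)
  have h3 : ((φ.range ⊔ Q).subtype.comp (e.trans a₀.1).toMonoidHom) ⟨x, (le_sup_left : R ≤ R ⊔ Q) hxR⟩ =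
      ((a₀.1 (e (Subgroup.inclusion le_sup_left (⟨x, hxR⟩ : R))) : ↥(φ.range ⊔ Q)) : Ω) := rfl
  rw [h3, h2, ha₀P] at h1
  exact h1

/-- **AKO Theorem I.5.5 (Puig).** If `Q` is fully `K`-normalized in the saturated fusion system `F`, then the
`K`-normalizer system `N_F^K(Q)` is saturated. -/
theorem IsKNormalizerSystem.isSaturated (F : FusionSystem S) [Finite S] {p : ℕ} [Fact p.Prime]
    (hS : IsPGroup p S) (hF : F.IsSaturated p) {Q : Subgroup Ω} {K : Subgroup (MulAut Q)} {N : Subgroup Ω}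
    {E : FusionSystem N} (hE : IsKNormalizerSystem F Q K N E) (hQS : Q ≤ S)
    (hmax : IsMaxK F K (MulEquiv.refl Q)) : E.IsSaturated p := by
  intro P hPN
  obtain ⟨P', hconj, hmaxP'⟩ := hE.step1 F hS hF hQS hmax hPN
  have hP'N : P' ≤ N := IsConj_le_right hconj
  exact ⟨P', hconj, hE.fullyAutomized F hS hF hQS hP'N hmaxP', hE.receptive F hS hF hQS hP'N hmaxP'⟩

/-! ### The normalizer and centralizer systems -/

/-- `N_S^{Aut(U)}(V) = N_S(V)`. -/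
theorem nK_top {U V : Subgroup Ω} (e : U ≃* V) : nK S (⊤ : Subgroup (MulAut U)) e = normalizerIn S V := by
  ext g
  rw [mem_nK]
  constructor
  · intro h
    exact ⟨h.1, nK_le_normalizer ⊤ e h⟩
  · rintro ⟨hgS, hgV⟩
    refine ⟨hgS, MulAut.congr e.symm (conjAut V g hgV), Subgroup.mem_top _, fun u => ?_⟩
    have h1 : MulAut.congr e.symm (conjAut V g hgV) u = e.symm (conjAut V g hgV (e u)) := rfl
    rw [h1, MulEquiv.apply_symm_apply]
    rfl

/-- `N_S^{1}(V) = C_S(V)`. -/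
theorem nK_bot {U V : Subgroup Ω} (e : U ≃* V) : nK S (⊥ : Subgroup (MulAut U)) e = centralizerIn S V := by
  ext g
  rw [mem_nK]
  constructor
  · rintro ⟨hgS, κ, hκ, h⟩
    rw [Subgroup.mem_bot] at hκ
    subst hκ
    refine ⟨hgS, ?_⟩
    show g ∈ Subgroup.centralizer (V : Set Ω)
    rw [Subgroup.mem_centralizer_iff]
    intro v hv
    have h1 := h (e.symm ⟨v, hv⟩)
    rw [MulAut.one_apply, MulEquiv.apply_symm_apply] at h1
    have h2 : v = g * v * g⁻¹ := h1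
    calc v * g = g * v * g⁻¹ * g := by rw [← h2]
      _ = g * v := by group
  · rintro ⟨hgS, hgC⟩
    refine ⟨hgS, 1, Subgroup.one_mem _, fun u => ?_⟩
    rw [MulAut.one_apply]
    have h1 := Subgroup.mem_centralizer_iff.1 hgC _ (e u).2
    rw [← h1]
    group

theorem isMaxK_top_of_fullyNormalized (F : FusionSystem S) {Q : Subgroup Ω} (hQ : F.IsFullyNormalized Q) :
    IsMaxK F (⊤ : Subgroup (MulAut Q)) (MulEquiv.refl Q) := by
  intro W e' he'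
  rw [nK_top, nK_top]
  exact hQ.2 W ((isConj_iff F).2 ⟨e', he'⟩)

theorem isMaxK_bot_of_fullyCentralized (F : FusionSystem S) {Q : Subgroup Ω} (hQ : F.IsFullyCentralized Q) :
    IsMaxK F (⊥ : Subgroup (MulAut Q)) (MulEquiv.refl Q) := by
  intro W e' he'
  rw [nK_bot, nK_bot]
  exact hQ.2 W ((isConj_iff F).2 ⟨e', he'⟩)

/-- The normalizer system `N_F(Q)` is the `Aut(Q)`-normalizer system. -/
theorem isKNormalizerSystem_of_isNormalizerSystem (F : FusionSystem S) {Q : Subgroup Ω}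
    {E : FusionSystem (normalizerIn S Q)} (hE : F.IsNormalizerSystem Q E) :
    IsKNormalizerSystem F Q ⊤ (normalizerIn S Q) E := by
  refine ⟨fun g => by rw [nK_top], fun P φ => ?_⟩
  rw [hE P]
  constructor
  · rintro ⟨h1, h2, h3, ψ, hψ, hψP, hψQ⟩
    refine ⟨h1, h2, h3, ψ, hψ, hψP, ?_⟩
    rw [map_subgroupOf_eq_iff] at hψQ
    obtain ⟨hQ1, hQ2⟩ := hψQ
    have hbij : Function.Bijective
        ((ψ.comp (Subgroup.inclusion (le_sup_right : Q ≤ P ⊔ Q))).codRestrict Q (fun u => hQ1 _ u.2)) := by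
      constructor
      · intro a b hab
        have h4 : ψ (Subgroup.inclusion le_sup_right a) = ψ (Subgroup.inclusion le_sup_right b) :=
          congrArg Subtype.val hab
        exact Subgroup.inclusion_injective _ (F.injective_of_mem hψ h4)
      · rintro ⟨q, hq⟩
        obtain ⟨x, hx, hxq⟩ := hQ2 q hq
        refine ⟨⟨x, hx⟩, Subtype.ext ?_⟩
        have : Subgroup.inclusion (le_sup_right : Q ≤ P ⊔ Q) ⟨x, hx⟩ = x := Subtype.ext rfl
        show ψ (Subgroup.inclusion (le_sup_right : Q ≤ P ⊔ Q) ⟨x, hx⟩) = q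
        rw [this, hxq]
    exact ⟨MulEquiv.ofBijective _ hbij, Subgroup.mem_top _, fun u => rfl⟩
  · rintro ⟨h1, h2, h3, ψ, hψ, hψP, κ, -, hψκ⟩
    refine ⟨h1, h2, h3, ψ, hψ, hψP, ?_⟩
    rw [map_subgroupOf_eq_iff]
    constructor
    · intro x hx
      have : x = Subgroup.inclusion (le_sup_right : Q ≤ P ⊔ Q) ⟨x, hx⟩ := Subtype.ext rfl
      rw [this, hψκ]
      exact (κ _).2
    · intro q hq
      refine ⟨Subgroup.inclusion le_sup_right (κ⁻¹ ⟨q, hq⟩), (κ⁻¹ ⟨q, hq⟩).2, ?_⟩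
      rw [hψκ, MulAut.apply_inv_self]

/-- The centralizer system `C_F(Q)` is the `1`-normalizer system. -/
theorem isKNormalizerSystem_of_isCentralizerSystem (F : FusionSystem S) {Q : Subgroup Ω}
    {E : FusionSystem (centralizerIn S Q)} (hE : F.IsCentralizerSystem Q E) :
    IsKNormalizerSystem F Q ⊥ (centralizerIn S Q) E := by
  refine ⟨fun g => by rw [nK_bot], fun P φ => ?_⟩
  rw [hE P]
  constructor
  · rintro ⟨h1, h2, h3, ψ, hψ, hψP, hψQ⟩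
    exact ⟨h1, h2, h3, ψ, hψ, hψP, 1, Subgroup.one_mem _, fun u => hψQ u⟩
  · rintro ⟨h1, h2, h3, ψ, hψ, hψP, κ, hκ, hψκ⟩
    rw [Subgroup.mem_bot] at hκ
    subst hκ
    exact ⟨h1, h2, h3, ψ, hψ, hψP, fun u => hψκ u⟩

/-- **AKO I.5.5 for `K = Aut(Q)`.** The normalizer system of a fully normalized subgroup of a saturated fusion system is
saturated. -/
theorem isSaturated_of_isNormalizerSystem (F : FusionSystem S) [Finite S] {p : ℕ} [Fact p.Prime]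
    (hS : IsPGroup p S) (hF : F.IsSaturated p) {Q : Subgroup Ω} (hQ : F.IsFullyNormalized Q)
    {E : FusionSystem (normalizerIn S Q)} (hE : F.IsNormalizerSystem Q E) : E.IsSaturated p :=
  (isKNormalizerSystem_of_isNormalizerSystem F hE).isSaturated F hS hF hQ.1 (isMaxK_top_of_fullyNormalized F hQ)

/-- **AKO I.5.5 for `K = 1`.** The centralizer system of a fully centralized subgroup of a saturated fusion system is
saturated. -/
theorem isSaturated_of_isCentralizerSystem (F : FusionSystem S) [Finite S] {p : ℕ} [Fact p.Prime]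
    (hS : IsPGroup p S) (hF : F.IsSaturated p) {Q : Subgroup Ω} (hQ : F.IsFullyCentralized Q)
    {E : FusionSystem (centralizerIn S Q)} (hE : F.IsCentralizerSystem Q E) : E.IsSaturated p :=
  (isKNormalizerSystem_of_isCentralizerSystem F hE).isSaturated F hS hF hQ.1 (isMaxK_bot_of_fullyCentralized F hQ)

end Cfsg.Agent.Lib.Helper87
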