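/-
helper87: for `T` strongly closed in a saturated fusion system `F` over a finite `p`-group `S`, every map `φ` of `F` with
source `P` agrees modulo `T` with a map of `F` defined on `P ⊔ T` (Puig: the canonical map `F → F/T` is a morphism of
fusion systems). The maps with this property form a fusion system `liftSystem F T`; weak Alperin induction and a
Frattini argument in `Aut_F(R)` show that it is all of `F`.
All declarations live in `Cfsg.Agent.Lib.Helper87`.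
-/
import Cfsg.Agent.Lib.Helper87.FusionFrattini
import Cfsg.Agent.Lib.Helper85.FusionFactor

set_option autoImplicit false

namespace Cfsg.Agent.Lib.Helper87
open Cfsg Cfsg.FusionSystem

variable {Ω : Type*} [Group Ω] {S : Subgroup Ω}

/-- `φ` with source `P` is liftable modulo `T`: some map of the system on `P ⊔ T` agrees with `φ` modulo `T` on `P`. -/
def IsLiftable (F : FusionSystem S) (T : Subgroup Ω) {P : Subgroup Ω} (φ : P →* Ω) : Prop :=
  ∃ ψ ∈ F.Hom (P ⊔ T), ∀ x : P, (φ x)⁻¹ * ψ (Subgroup.inclusion le_sup_left x) ∈ T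

/-- Maps of the system preserve a strongly closed subgroup. -/
theorem StronglyClosed_map_mem {F : FusionSystem S} {T : Subgroup Ω} (hT : F.StronglyClosed T)
    {P : Subgroup Ω} {φ : P →* Ω} (hφ : φ ∈ F.Hom P) {x : P} (hx : (x : Ω) ∈ T) : φ x ∈ T :=
  (Cfsg.Agent.Lib.Helper85.stronglyClosed_apply_mem_iff F hT hφ x).2 hx

/-- Maps of the system reflect a strongly closed subgroup. -/
theorem StronglyClosed_mem_of_map_mem {F : FusionSystem S} {T : Subgroup Ω} (hT : F.StronglyClosed T)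
    {P : Subgroup Ω} {φ : P →* Ω} (hφ : φ ∈ F.Hom P) {x : P} (hx : φ x ∈ T) : (x : Ω) ∈ T :=
  (Cfsg.Agent.Lib.Helper85.stronglyClosed_apply_mem_iff F hT hφ x).1 hx

/-- A lift maps `P ⊔ T` into `Q ⊔ T` when the map it lifts maps `P` into `Q`. -/
theorem lift_map_mem {F : FusionSystem S} {T : Subgroup Ω} (hT : F.StronglyClosed T) {P Q : Subgroup Ω}
    {φ : P →* Ω} (h : ∀ x : P, φ x ∈ Q) {ψ : ↥(P ⊔ T) →* Ω} (hψ : ψ ∈ F.Hom (P ⊔ T))
    (hl : ∀ x : P, (φ x)⁻¹ * ψ (Subgroup.inclusion le_sup_left x) ∈ T) (y : ↥(P ⊔ T)) : ψ y ∈ Q ⊔ T := by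
  refine map_sup_mem ψ (fun x => ?_) (fun t => ?_) y
  · have : ψ (Subgroup.inclusion le_sup_left x) = φ x * ((φ x)⁻¹ * ψ (Subgroup.inclusion le_sup_left x)) := by
      group
    rw [this]
    exact Subgroup.mul_mem _ (le_sup_left (a := Q) (b := T) (h x)) (le_sup_right (a := Q) (b := T) (hl x))
  · exact le_sup_right (a := Q) (b := T)
      (StronglyClosed_map_mem hT hψ (x := Subgroup.inclusion le_sup_right t) t.2)

/-- The subsystem of the maps of `F` that are liftable modulo the strongly closed subgroup `T`. -/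
def liftSystem (F : FusionSystem S) [Finite S] (T : Subgroup Ω) (hT : F.StronglyClosed T) : FusionSystem S where
  Hom P := {φ | φ ∈ F.Hom P ∧ IsLiftable F T φ}
  le_of_mem h := F.le_of_mem h.1
  injective_of_mem h := F.injective_of_mem h.1
  conj_mem := by
    intro P g hP hg
    refine ⟨F.conj_mem hP hg, conjHom (P ⊔ T) g, F.conj_mem (sup_le hP hT.1) hg, fun x => ?_⟩
    have : (conjHom P g x)⁻¹ * conjHom (P ⊔ T) g (Subgroup.inclusion le_sup_left x) = 1 := by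
      rw [conjHom_apply, conjHom_apply]
      exact inv_mul_cancel _
    rw [this]
    exact T.one_mem
  comp_mem := by
    rintro P Q φ φ' ⟨hφ, ψ₁, hψ₁, h₁⟩ ⟨hφ', ψ₂, hψ₂, h₂⟩ h
    refine ⟨F.comp_mem hφ hφ' h, ?_⟩
    have hmaps : ∀ y : ↥(P ⊔ T), ψ₁ y ∈ Q ⊔ T := lift_map_mem hT h hψ₁ h₁
    refine ⟨ψ₂.comp (ψ₁.codRestrict (Q ⊔ T) hmaps), F.comp_mem hψ₁ hψ₂ hmaps, fun x => ?_⟩
    have ht₁ := h₁ x
    set t₁ : Ω := (φ x)⁻¹ * ψ₁ (Subgroup.inclusion le_sup_left x) with ht₁def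
    have e1 : (ψ₁.codRestrict (Q ⊔ T) hmaps) (Subgroup.inclusion le_sup_left x) =
        Subgroup.inclusion le_sup_left (⟨φ x, h x⟩ : Q) *
          Subgroup.inclusion le_sup_right (⟨t₁, ht₁⟩ : T) := by
      apply Subtype.ext
      show ψ₁ (Subgroup.inclusion le_sup_left x) = φ x * t₁
      rw [ht₁def]; group
    show (φ' (φ.codRestrict Q h x))⁻¹ *
      ψ₂ ((ψ₁.codRestrict (Q ⊔ T) hmaps) (Subgroup.inclusion le_sup_left x)) ∈ T
    rw [e1, map_mul, ← mul_assoc]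
    refine T.mul_mem (h₂ ⟨φ x, h x⟩) ?_
    exact StronglyClosed_map_mem hT hψ₂ (x := Subgroup.inclusion le_sup_right (⟨t₁, ht₁⟩ : T)) ht₁
  inv_mem := by
    rintro P φ ⟨hφ, ψ₁, hψ₁, h₁⟩
    obtain ⟨χ, hχ, hχinv⟩ := F.inv_mem hφ
    refine ⟨χ, ⟨hχ, ?_⟩, hχinv⟩
    -- `φ.range ⊔ T ≤ ψ₁.range`
    have hTr : T ≤ ψ₁.range := by
      intro z hz
      obtain ⟨y, -, hy⟩ := Cfsg.Agent.Lib.Helper85.stronglyClosed_surj F hT hψ₁ le_sup_right z hz
      exact ⟨y, hy⟩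
    have hφr : φ.range ≤ ψ₁.range := by
      rintro _ ⟨x, rfl⟩
      have h2 : φ x = ψ₁ (Subgroup.inclusion le_sup_left x) *
          ((φ x)⁻¹ * ψ₁ (Subgroup.inclusion le_sup_left x))⁻¹ := by group
      rw [h2]
      exact Subgroup.mul_mem _ ⟨_, rfl⟩ (Subgroup.inv_mem _ (hTr (h₁ x)))
    have hle : φ.range ⊔ T ≤ ψ₁.range := sup_le hφr hTr
    obtain ⟨χ₁, hχ₁, hχ₁inv⟩ := F.inv_mem hψ₁
    refine ⟨χ₁.comp (Subgroup.inclusion hle), restrict_mem F hχ₁ hle, ?_⟩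
    rintro ⟨_, x, rfl⟩
    rw [hχinv x]
    obtain ⟨z, hz⟩ := hφr ⟨x, rfl⟩
    have e1 : (χ₁.comp (Subgroup.inclusion hle))
        (Subgroup.inclusion le_sup_left (⟨φ x, ⟨x, rfl⟩⟩ : φ.range)) = (z : Ω) := by
      have : (Subgroup.inclusion hle (Subgroup.inclusion le_sup_left (⟨φ x, ⟨x, rfl⟩⟩ : φ.range))) =
          ⟨ψ₁ z, ⟨z, rfl⟩⟩ := Subtype.ext hz.symm
      show χ₁ (Subgroup.inclusion hle (Subgroup.inclusion le_sup_left (⟨φ x, ⟨x, rfl⟩⟩ : φ.range))) = z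
      rw [this]
      exact hχ₁inv z
    rw [e1]
    -- `x⁻¹ z ∈ T` because `ψ₁ (x⁻¹ z) ∈ T`
    have h3 : ψ₁ ((Subgroup.inclusion le_sup_left x)⁻¹ * z) ∈ T := by
      rw [map_mul, map_inv, hz]
      have := T.inv_mem (h₁ x)
      rwa [mul_inv_rev, inv_inv] at this
    exact StronglyClosed_mem_of_map_mem hT hψ₁ h3

theorem mem_liftSystem_hom (F : FusionSystem S) [Finite S] (T : Subgroup Ω) (hT : F.StronglyClosed T)
    {P : Subgroup Ω} {φ : P →* Ω} :
    φ ∈ (liftSystem F T hT).Hom P ↔ φ ∈ F.Hom P ∧ IsLiftable F T φ := Iff.rfl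

/-- The automorphisms of `R` that are trivial modulo `T`. -/
def modSub (R T : Subgroup Ω) : Subgroup (MulAut R) where
  carrier := {β | ∀ x : R, (x : Ω)⁻¹ * ((β x : R) : Ω) ∈ T}
  one_mem' := fun x => by
    rw [MulAut.one_apply, inv_mul_cancel]
    exact T.one_mem
  mul_mem' := by
    intro β γ hβ hγ x
    have : (x : Ω)⁻¹ * (((β * γ) x : R) : Ω) =
        ((x : Ω)⁻¹ * ((γ x : R) : Ω)) * (((γ x : R) : Ω)⁻¹ * ((β (γ x) : R) : Ω)) := by
      rw [MulAut.mul_apply]; group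
    rw [this]
    exact T.mul_mem (hγ x) (hβ (γ x))
  inv_mem' := by
    intro β hβ x
    have h := hβ (β⁻¹ x)
    rw [MulAut.apply_inv_self] at h
    have := T.inv_mem h
    rwa [mul_inv_rev, inv_inv] at this

theorem mem_modSub {R T : Subgroup Ω} {β : MulAut R} :
    β ∈ modSub R T ↔ ∀ x : R, (x : Ω)⁻¹ * ((β x : R) : Ω) ∈ T := Iff.rfl

/-- **Puig's morphism theorem, inside `F`.** For `T` strongly closed in the saturated system `F`, every map of `F` is liftable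
modulo `T`. -/
theorem hom_subset_liftSystem (F : FusionSystem S) [Finite S] {p : ℕ} [Fact p.Prime] (hS : IsPGroup p S)
    (hF : F.IsSaturated p) (T : Subgroup Ω) (hT : F.StronglyClosed T) :
    ∀ P : Subgroup Ω, F.Hom P ⊆ (liftSystem F T hT).Hom P := by
  apply alperin_weak F (liftSystem F T hT) hS hF
  intro R hRa hRr IH α hα
  have hRS : R ≤ S := hRa.1
  have hαF : IsIso F (α : R ≃* R) := (mem_autGroup_iff F hRS).1 hα
  show R.subtype.comp (α : R ≃* R).toMonoidHom ∈ (liftSystem F T hT).Hom R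
  refine ⟨hαF, ?_⟩
  by_cases hTR : T ≤ R
  · have hsup : R = R ⊔ T := (sup_eq_left.2 hTR).symm
    refine ⟨(R.subtype.comp (α : R ≃* R).toMonoidHom).comp (Subgroup.inclusion (le_of_eq hsup.symm)),
      hom_of_eq_on F hsup hαF (fun x hx hx' => rfl), fun x => ?_⟩
    have : ((R.subtype.comp (α : R ≃* R).toMonoidHom).comp (Subgroup.inclusion (le_of_eq hsup.symm)))
        (Subgroup.inclusion le_sup_left x) = (R.subtype.comp (α : R ≃* R).toMonoidHom) x := rfl
    rw [this, inv_mul_cancel]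
    exact T.one_mem
  · obtain ⟨g, hgT, hgN, hgR⟩ := exists_mem_normalizer_not_mem hS hT.1 hRS
      (fun s hs x hx => StronglyClosed_conj_mem hT hs hx) hTR
    have hgNS : g ∈ normalizerIn S R := ⟨hT.1 hgT, hgN⟩
    have hDn : ∀ a ∈ F.autGroup R, ∀ β ∈ modSub R T, a * β * a⁻¹ ∈ modSub R T := by
      intro a ha β hβ x
      have h1 := hβ (a⁻¹ x)
      have h2 := StronglyClosed_aut_mem hT hRS ha (r := (a⁻¹ x)⁻¹ * β (a⁻¹ x)) h1
      simpa [MulAut.mul_apply, map_mul, map_inv] using h2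
    have hgD : conjAut R g hgNS.2 ∈ modSub R T := by
      intro x
      rw [conjAut_apply]
      have h1 : (x : Ω)⁻¹ * g * ((x : Ω)⁻¹)⁻¹ ∈ T :=
        StronglyClosed_conj_mem hT (S.inv_mem (hRS x.2)) hgT
      have : (x : Ω)⁻¹ * (g * x * g⁻¹) = ((x : Ω)⁻¹ * g * ((x : Ω)⁻¹)⁻¹) * g⁻¹ := by group
      rw [this]
      exact T.mul_mem h1 (T.inv_mem hgT)
    obtain ⟨δ, hδD, X, ψ, hψ, hRX, hXN, hgX, hψe⟩ :=
      exists_frattini_extension F hS hRa hRr (modSub R T) hDn α hα g hgNS hgD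
    have hXS : X ≤ S := hXN.trans (normalizerIn_le S R)
    have hXfin : Finite X := finite_of_le hXS
    have hlt : Nat.card R < Nat.card X := by
      by_contra hge
      have : R = X := Subgroup.eq_of_le_of_card_ge hRX (not_lt.1 hge)
      exact hgR (this ▸ hgX)
    obtain ⟨-, ψ', hψ', hl⟩ := IH X hlt hψ
    have hle : R ⊔ T ≤ X ⊔ T := sup_le_sup_right hRX T
    refine ⟨ψ'.comp (Subgroup.inclusion hle), restrict_mem F hψ' hle, fun x => ?_⟩
    have h1 := hl ⟨x, hRX x.2⟩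
    have h2 := hψe x x.2 (hRX x.2)
    have h3 := hδD (α x)
    have e1 : (ψ'.comp (Subgroup.inclusion hle)) (Subgroup.inclusion le_sup_left x) =
        ψ' (Subgroup.inclusion le_sup_left (⟨x, hRX x.2⟩ : X)) := rfl
    have e2 : (R.subtype.comp (α : R ≃* R).toMonoidHom) x = ((α x : R) : Ω) := rfl
    rw [e1, e2]
    have e3 : ψ ⟨x, hRX x.2⟩ = ((δ (α x) : R) : Ω) := by
      rw [h2]; rfl
    rw [e3] at h1
    have : ((α x : R) : Ω)⁻¹ * ψ' (Subgroup.inclusion le_sup_left (⟨x, hRX x.2⟩ : X)) =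
        (((α x : R) : Ω)⁻¹ * ((δ (α x) : R) : Ω)) *
          (((δ (α x) : R) : Ω)⁻¹ * ψ' (Subgroup.inclusion le_sup_left (⟨x, hRX x.2⟩ : X))) := by group
    rw [this]
    exact T.mul_mem h3 h1

/-- **Lifting modulo a strongly closed subgroup.** For `T` strongly closed in the saturated system `F`, every map `φ` of `F`
with source `P` agrees modulo `T` with a map of `F` with source `P ⊔ T`. -/
theorem exists_lift (F : FusionSystem S) [Finite S] {p : ℕ} [Fact p.Prime] (hS : IsPGroup p S)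
    (hF : F.IsSaturated p) {T : Subgroup Ω} (hT : F.StronglyClosed T) {P : Subgroup Ω} {φ : P →* Ω}
    (hφ : φ ∈ F.Hom P) :
    ∃ ψ ∈ F.Hom (P ⊔ T), ∀ x : P, (φ x)⁻¹ * ψ (Subgroup.inclusion le_sup_left x) ∈ T :=
  (hom_subset_liftSystem F hS hF T hT P hφ).2

/-! ### Induced maps in a factor system -/

section factor

variable {Ω' : Type*} [Group Ω'] {S' : Subgroup Ω'}

open Cfsg.Agent.Lib.Helper85 in
/-- A homomorphism defined on the full preimage of `P' ≤ θ(S)` that preserves the kernel `T` of `θ` induces a homomorphism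
on `P'`. -/
theorem exists_inducedAlong {T : Subgroup Ω} (θ : S →* Ω') (hker : ∀ s : S, θ s = 1 ↔ (s : Ω) ∈ T)
    {P' : Subgroup Ω'} (hP' : P' ≤ θ.range) (φ₀ : ↥(preimageAlong θ P') →* Ω)
    (hφ₀S : ∀ x, φ₀ x ∈ S) (hφ₀T : ∀ x : ↥(preimageAlong θ P'), (x : Ω) ∈ T → φ₀ x ∈ T) :
    ∃ φ' : P' →* Ω', InducedAlong θ φ₀ φ' := by
  have hQS : preimageAlong θ P' ≤ S := preimageAlong_le θ P'
  have hθQ : ∀ x : ↥(preimageAlong θ P'), θ ⟨x, hQS x.2⟩ ∈ P' :=
    fun x => ((mem_preimageAlong_iff θ P' x).mp x.2).2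
  let θQ : ↥(preimageAlong θ P') →* P' :=
    (θ.comp (Subgroup.inclusion hQS)).codRestrict P' hθQ
  have hsurj : Function.Surjective θQ := by
    intro y
    obtain ⟨s, hs⟩ := hP' y.2
    refine ⟨⟨s, (mem_preimageAlong_iff θ P' s).mpr ⟨s.2, by rw [hs]; exact y.2⟩⟩, ?_⟩
    exact Subtype.ext hs
  let g : ↥(preimageAlong θ P') →* Ω' := θ.comp (φ₀.codRestrict S hφ₀S)
  have hkg : θQ.ker ≤ g.ker := by
    intro x hx
    rw [MonoidHom.mem_ker] at hx ⊢
    have h1 : θ ⟨x, hQS x.2⟩ = 1 := congrArg Subtype.val hx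
    have h2 : (x : Ω) ∈ T := (hker _).1 h1
    exact (hker _).2 (hφ₀T x h2)
  refine ⟨θQ.liftOfRightInverse (Function.surjInv hsurj) (Function.rightInverse_surjInv hsurj) ⟨g, hkg⟩,
    hQS, hφ₀S, hθQ, fun x => ?_⟩
  exact θQ.liftOfRightInverse_comp_apply (Function.surjInv hsurj) (Function.rightInverse_surjInv hsurj)
    ⟨g, hkg⟩ x

open Cfsg.Agent.Lib.Helper85 in
/-- The full preimage of the image of `P ≤ S` is `P ⊔ T`. -/
theorem preimageAlong_imageAlong {T : Subgroup Ω} (θ : S →* Ω') (hker : ∀ s : S, θ s = 1 ↔ (s : Ω) ∈ T)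
    (hTS : T ≤ S) {P : Subgroup Ω} (hPS : P ≤ S) : preimageAlong θ (imageAlong θ P) = P ⊔ T := by
  apply le_antisymm
  · intro x hx
    obtain ⟨hxS, y, hy, hyx⟩ := (mem_preimageAlong_iff θ _ x).mp hx
    have hyP : (y : Ω) ∈ P := Subgroup.mem_subgroupOf.1 hy
    have h1 : θ (y⁻¹ * ⟨x, hxS⟩) = 1 := by
      rw [map_mul, map_inv, hyx, inv_mul_cancel]
    have h2 : (y : Ω)⁻¹ * x ∈ T := (hker _).1 h1
    have : x = (y : Ω) * ((y : Ω)⁻¹ * x) := by group
    rw [this]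
    exact Subgroup.mul_mem _ (le_sup_left (a := P) (b := T) hyP) (le_sup_right (a := P) (b := T) h2)
  · apply sup_le
    · intro x hx
      exact (mem_preimageAlong_iff θ _ x).mpr ⟨hPS hx, ⟨x, hPS hx⟩, Subgroup.mem_subgroupOf.2 hx, rfl⟩
    · intro x hx
      refine (mem_preimageAlong_iff θ _ x).mpr ⟨hTS hx, ?_⟩
      rw [(hker ⟨x, hTS hx⟩).2 hx]
      exact Subgroup.one_mem _

/-- **Puig's morphism theorem.** For `T` strongly closed in the saturated system `F` and `E` a factor system `F/T` read through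
`θ`, every map of `F` induces along `θ` a map of `E`. -/
theorem exists_induced_of_isFactorSystem (F : FusionSystem S) [Finite S] {p : ℕ} [Fact p.Prime]
    (hS : IsPGroup p S) (hF : F.IsSaturated p) {T : Subgroup Ω} (hT : F.StronglyClosed T) (θ : S →* Ω')
    (E : FusionSystem S') (hE : F.IsFactorSystem T θ E) {P : Subgroup Ω} {φ : P →* Ω} (hφ : φ ∈ F.Hom P) :
    ∃ φ' ∈ E.Hom (imageAlong θ P), InducedAlong θ φ φ' := by
  obtain ⟨hTS, hker, hrange, hHom⟩ := hE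
  have hPS : P ≤ S := hom_le F hφ
  obtain ⟨ψ, hψ, hl⟩ := exists_lift F hS hF hT hφ
  have hpre := preimageAlong_imageAlong θ hker hTS hPS
  have hP' : imageAlong θ P ≤ θ.range := by
    rintro _ ⟨y, -, rfl⟩
    exact ⟨y, rfl⟩
  -- transport `ψ` to the preimage
  have hle : preimageAlong θ (imageAlong θ P) ≤ P ⊔ T := le_of_eq hpre
  have hφ₀ : ψ.comp (Subgroup.inclusion hle) ∈ F.Hom (preimageAlong θ (imageAlong θ P)) :=
    restrict_mem F hψ hle
  obtain ⟨φ', hind⟩ := exists_inducedAlong θ hker hP' (ψ.comp (Subgroup.inclusion hle))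
    (fun x => hom_map_mem F hφ₀ x) (fun x hx => StronglyClosed_map_mem hT hφ₀ hx)
  have hφ'E : φ' ∈ E.Hom (imageAlong θ P) :=
    (hHom _ φ').2 ⟨hrange ▸ hP', _, hφ₀, hind⟩
  refine ⟨φ', hφ'E, hPS, fun x => hom_map_mem F hφ x, fun x => ?_, fun x => ?_⟩
  · exact ⟨⟨x, hPS x.2⟩, Subgroup.mem_subgroupOf.2 x.2, rfl⟩
  · obtain ⟨hQS, hφ₀S, hθQ, hcomm⟩ := hind
    have hxpre : (x : Ω) ∈ preimageAlong θ (imageAlong θ P) := by
      rw [hpre]; exact le_sup_left (a := P) (b := T) x.2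
    have h1 := hcomm ⟨x, hxpre⟩
    have h2 : (ψ.comp (Subgroup.inclusion hle)) ⟨x, hxpre⟩ = ψ (Subgroup.inclusion le_sup_left x) := rfl
    have h3 := hl x
    have h4 : θ ⟨(ψ.comp (Subgroup.inclusion hle)) ⟨x, hxpre⟩, hφ₀S ⟨x, hxpre⟩⟩ =
        θ ⟨φ x, hom_map_mem F hφ x⟩ := by
      have h5 : θ (⟨φ x, hom_map_mem F hφ x⟩⁻¹ *
          ⟨(ψ.comp (Subgroup.inclusion hle)) ⟨x, hxpre⟩, hφ₀S ⟨x, hxpre⟩⟩) = 1 := by
        apply (hker _).2
        show (φ x)⁻¹ * (ψ.comp (Subgroup.inclusion hle)) ⟨x, hxpre⟩ ∈ T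
        rw [h2]
        exact h3
      rw [map_mul, map_inv, inv_mul_eq_one] at h5
      exact h5.symm
    rw [← h4]
    exact h1

end factor

end Cfsg.Agent.Lib.Helper87
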