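import Mathlib
import Cfsg.Agent.Lib.Helper22.GoldDefs
import Cfsg.Agent.Lib.Helper22.GoldPar
import Cfsg.Agent.S0058

/-!
# GOLD-[GEN] (helper22's project S1329): `gen_fix`, `gen_comm`
-/

set_option autoImplicit false

namespace Cfsg.Agent.Lib.Helper87.Gold

open Subgroup
open scoped commutatorElement
open Cfsg.Agent.Lib.Helper22.Gold

variable {G : Type*} [Group G]

/-- an element of the `2`-group `A` lying in the odd group `Y` is trivial -/
theorem eq_one_of_mem_mem [Finite G] {A Y : Subgroup G} (h : Hyp A Y) {g : G} (hA : g ∈ A)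
    (hY : g ∈ Y) : g = 1 := by
  obtain ⟨k, hk⟩ := h.two ⟨g, hA⟩
  have h1 : g ^ 2 ^ k = 1 := by
    have := congrArg Subtype.val hk
    simpa using this
  have h2 : g ^ Nat.card Y = 1 := by
    have h0 : (⟨g, hY⟩ : Y) ^ Nat.card Y = 1 := pow_card_eq_one'
    have := congrArg Subtype.val h0
    rwa [SubgroupClass.coe_pow, Subgroup.coe_one] at this
  have h3 : orderOf g ∣ 2 ^ k := orderOf_dvd_of_pow_eq_one h1
  have h4 : orderOf g ∣ Nat.card Y := orderOf_dvd_of_pow_eq_one h2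
  have hcop : (2 ^ k).Coprime (Nat.card Y) :=
    Nat.Coprime.pow_left k (Nat.coprime_two_left.mpr h.odd)
  have h5 : orderOf g = 1 := Nat.eq_one_of_dvd_coprimes hcop h3 h4
  exact orderOf_eq_one_iff.1 h5

/-- conjugation by an element of the abelian group `A` preserves `Y ⊓ C(a)`, `a ∈ A` -/
theorem le_normalizer_inf_centralizer {A Y : Subgroup G} (h : Hyp A Y) {a : G} (ha : a ∈ A) :
    A ≤ normalizer ((Y ⊓ centralizer ({a} : Set G) : Subgroup G) : Set G) := by
  have key : ∀ b ∈ A, ∀ z ∈ Y ⊓ centralizer ({a} : Set G),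
      b * z * b⁻¹ ∈ Y ⊓ centralizer ({a} : Set G) := by
    intro b hb z hz
    refine ⟨conj_mem_of_mem_normalizer (h.norm hb) hz.1, mem_centralizer_iff.2 ?_⟩
    intro x hx
    rw [Set.mem_singleton_iff] at hx
    subst hx
    have h1 : x * z = z * x := mem_centralizer_iff.1 hz.2 x rfl
    have h2 : x * b = b * x := h.comm x ha b hb
    have h3 : x * b⁻¹ = b⁻¹ * x := by
      have := h.comm x ha b⁻¹ (inv_mem hb)
      exact this
    calc x * (b * z * b⁻¹) = (x * b) * z * b⁻¹ := by group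
      _ = b * (x * z) * b⁻¹ := by rw [h2]; group
      _ = b * z * (x * b⁻¹) := by rw [h1]; group
      _ = b * z * b⁻¹ * x := by rw [h3]; group
  intro b hb
  rw [mem_normalizer_iff]
  intro z
  constructor
  · exact key b hb z
  · intro hz
    have := key b⁻¹ (inv_mem hb) _ hz
    have e : b⁻¹ * (b * z * b⁻¹) * b⁻¹⁻¹ = z := by group
    rwa [e] at this

/-- The faithful-quotient form of S0058: if `A / C_A(Y)` is not cyclic, `Y` is generated by the
`C_Y(a)`, `a ∈ A` not centralizing `Y`. -/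
theorem claim [Finite G] {A Y : Subgroup G} (h : Hyp A Y)
    (hnc : ¬ ∃ a ∈ A, A ≤ (A ⊓ centralizer (Y : Set G)) ⊔ zpowers a) :
    Y ≤ ⨆ a : {a : G // a ∈ A ∧ a ∉ centralizer (Y : Set G)},
      Y ⊓ centralizer ({(a : G)} : Set G) := by
  set A0 : Subgroup G := A ⊓ centralizer (Y : Set G) with hA0
  set L : Subgroup G := centralizer (A0 : Set G) with hL
  set X : Subgroup G := ⨆ a : {a : G // a ∈ A ∧ a ∉ centralizer (Y : Set G)},
      Y ⊓ centralizer ({(a : G)} : Set G) with hX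
  have hXY : X ≤ Y := iSup_le fun _ => inf_le_left
  have hYL : Y ≤ L := by
    intro y hy
    rw [hL, mem_centralizer_iff]
    intro a0 ha0
    exact (mem_centralizer_iff.1 ha0.2 y hy).symm
  have hAL : A ≤ L := by
    intro a ha
    rw [hL, mem_centralizer_iff]
    intro a0 ha0
    exact h.comm a0 ha0.1 a ha
  have hcent : ∀ g ∈ L, ∀ n ∈ A0, g * n * g⁻¹ = n := by
    intro g hg n hn
    have := mem_centralizer_iff.1 hg n hn
    rw [← this]; group
  have hNn : (A0.subgroupOf L).Normal := by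
    constructor
    intro n hn g
    rw [mem_subgroupOf] at hn ⊢
    have := hcent g g.2 n hn
    simp only [Subgroup.coe_mul, InvMemClass.coe_inv]
    rw [this]
    exact hn
  set π := QuotientGroup.mk' (A0.subgroupOf L) with hπ
  have hker : ∀ (g : G) (hg : g ∈ L), π ⟨g, hg⟩ = 1 ↔ g ∈ A0 := by
    intro g hg
    rw [hπ, QuotientGroup.mk'_apply, QuotientGroup.eq_one_iff, mem_subgroupOf]
  have hA0Y : ∀ g, g ∈ A0 → g ∈ Y → g = 1 := fun g hg hy => eq_one_of_mem_mem h hg.1 hy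
  set A' : Subgroup (L ⧸ A0.subgroupOf L) := (A.subgroupOf L).map π with hA'
  set Y' : Subgroup (L ⧸ A0.subgroupOf L) := (Y.subgroupOf L).map π with hY'
  have hA'mem : ∀ x ∈ A', ∃ (a : G) (ha : a ∈ A), x = π ⟨a, hAL ha⟩ := by
    intro x hx
    obtain ⟨α, hα, rfl⟩ := mem_map.1 hx
    exact ⟨α.1, mem_subgroupOf.1 hα, rfl⟩
  have hY'mem : ∀ x ∈ Y', ∃ (y : G) (hy : y ∈ Y), x = π ⟨y, hYL hy⟩ := by
    intro x hx
    obtain ⟨η, hη, rfl⟩ := mem_map.1 hx
    exact ⟨η.1, mem_subgroupOf.1 hη, rfl⟩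
  -- commutativity of `A'`
  have hcommA' : IsMulCommutative A' := by
    refine ⟨⟨?_⟩⟩
    rintro ⟨x, hx⟩ ⟨y, hy⟩
    obtain ⟨a, ha, rfl⟩ := hA'mem x hx
    obtain ⟨b, hb, rfl⟩ := hA'mem y hy
    apply Subtype.ext
    change π ⟨a, _⟩ * π ⟨b, _⟩ = π ⟨b, _⟩ * π ⟨a, _⟩
    rw [← map_mul, ← map_mul]
    congr 1
    apply Subtype.ext
    exact h.comm a ha b hb
  -- `A'` is not cyclic
  have hncyc : ¬ IsCyclic A' := by
    intro hcyc
    obtain ⟨⟨g, hg⟩, hgen⟩ := hcyc.exists_generator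
    obtain ⟨a, ha, rfl⟩ := hA'mem g hg
    apply hnc
    refine ⟨a, ha, ?_⟩
    intro b hb
    have hbA' : π ⟨b, hAL hb⟩ ∈ A' := mem_map.2 ⟨⟨b, hAL hb⟩, mem_subgroupOf.2 hb, rfl⟩
    obtain ⟨k, hk⟩ := mem_zpowers_iff.1 (hgen ⟨_, hbA'⟩)
    have hk' : π ⟨a, hAL ha⟩ ^ k = π ⟨b, hAL hb⟩ := by
      have := congrArg Subtype.val hk
      simpa using this
    have h1 : π ((⟨a, hAL ha⟩ : L) ^ (-k) * ⟨b, hAL hb⟩) = 1 := by
      rw [map_mul, map_zpow, ← hk', zpow_neg, inv_mul_cancel]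
    have h2 : a ^ (-k) * b ∈ A0 := by
      have := (hker (a ^ (-k) * b) (mul_mem (zpow_mem (hAL ha) _) (hAL hb))).1 (by
        rw [← h1]
        congr 1)
      exact this
    have e : b = (a ^ (-k) * b) * a ^ k := by
      have hc : a ^ k * b = b * a ^ k := by
        have := h.comm (a ^ k) (zpow_mem ha k) b hb
        exact this
      rw [zpow_neg, mul_assoc, ← hc]
      group
    rw [e]
    exact mul_mem (mem_sup_left h2) (mem_sup_right (zpow_mem (mem_zpowers a) k))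
  -- normalizer
  have hnorm : A' ≤ normalizer ((Y' : Subgroup (L ⧸ A0.subgroupOf L)) : Set (L ⧸ A0.subgroupOf L)) := by
    have h1 : A.subgroupOf L ≤ normalizer ((Y.subgroupOf L : Subgroup L) : Set L) := by
      rw [← subgroupOf_normalizer_eq hYL]
      intro α hα
      rw [mem_subgroupOf] at hα ⊢
      exact h.norm hα
    exact (map_mono h1).trans (le_normalizer_map π)
  -- coprimality
  have hcop : (Nat.card A').Coprime (Nat.card Y') := by
    have h1 : Nat.card A' ∣ Nat.card A := by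
      have := Subgroup.card_map_dvd (H := A.subgroupOf L) π
      rwa [Nat.card_congr (subgroupOfEquivOfLe hAL).toEquiv] at this
    have h2 : Nat.card Y' ∣ Nat.card Y := by
      have := Subgroup.card_map_dvd (H := Y.subgroupOf L) π
      rwa [Nat.card_congr (subgroupOfEquivOfLe hYL).toEquiv] at this
    obtain ⟨n, hn⟩ := h.two.exists_card_eq
    have h3 : (Nat.card A).Coprime (Nat.card Y) := by
      rw [hn]
      exact Nat.Coprime.pow_left n (Nat.coprime_two_left.mpr h.odd)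
    exact Nat.Coprime.coprime_dvd_left h1 (Nat.Coprime.coprime_dvd_right h2 h3)
  have res := Cfsg.Agent.S0058.result A' Y' hncyc hnorm hcop
  -- each term is inside the image of `X`
  have hterm : ∀ x ∈ {x | x ∈ A' ∧ x ≠ 1}, Y' ⊓ centralizer ({x} : Set (L ⧸ A0.subgroupOf L)) ≤
      (X.subgroupOf L).map π := by
    rintro x ⟨hx, hx1⟩ z ⟨hzY, hzc⟩
    obtain ⟨a, ha, rfl⟩ := hA'mem x hx
    obtain ⟨y, hy, rfl⟩ := hY'mem z hzY
    have hna : a ∉ centralizer (Y : Set G) := by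
      intro hcon
      exact hx1 ((hker a (hAL ha)).2 ⟨ha, hcon⟩)
    have hcomm := mem_centralizer_iff.1 hzc _ rfl
    -- `π (a y) = π (y a)`
    rw [← map_mul, ← map_mul, hπ, QuotientGroup.mk'_apply, QuotientGroup.mk'_apply,
      QuotientGroup.eq, mem_subgroupOf] at hcomm
    have hval : (a * y)⁻¹ * (y * a) ∈ A0 := by
      simpa using hcomm
    have hinY : (a * y)⁻¹ * (y * a) ∈ Y := by
      have e : (a * y)⁻¹ * (y * a) = y⁻¹ * (a⁻¹ * y * a) := by group
      rw [e]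
      exact mul_mem (inv_mem hy) (conj_inv_mem_of_mem_normalizer (h.norm ha) hy)
    have h1 := hA0Y _ hval hinY
    have hya : a * y = y * a := by
      have := inv_mul_eq_one.1 h1
      exact this
    have hyX : y ∈ X := by
      have : y ∈ Y ⊓ centralizer ({a} : Set G) := by
        refine ⟨hy, mem_centralizer_iff.2 ?_⟩
        intro b hb
        rw [Set.mem_singleton_iff] at hb
        rw [hb]
        exact hya
      exact (le_iSup (fun a : {a : G // a ∈ A ∧ a ∉ centralizer (Y : Set G)} =>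
        Y ⊓ centralizer ({(a : G)} : Set G)) ⟨a, ha, hna⟩) this
    exact mem_map.2 ⟨⟨y, hYL hy⟩, mem_subgroupOf.2 hyX, rfl⟩
  have hY'X : Y' ≤ (X.subgroupOf L).map π := by
    rw [← res]
    exact iSup₂_le hterm
  intro y hy
  have hyY' : π ⟨y, hYL hy⟩ ∈ Y' := mem_map.2 ⟨⟨y, hYL hy⟩, mem_subgroupOf.2 hy, rfl⟩
  obtain ⟨ξ, hξ, hξy⟩ := mem_map.1 (hY'X hyY')
  rw [hπ, QuotientGroup.mk'_apply, QuotientGroup.mk'_apply, QuotientGroup.eq, mem_subgroupOf] at hξy
  rw [mem_subgroupOf] at hξ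
  have hval : (ξ : G)⁻¹ * y ∈ A0 := by simpa using hξy
  have hinY : (ξ : G)⁻¹ * y ∈ Y := mul_mem (inv_mem (hXY hξ)) hy
  have := inv_mul_eq_one.1 (hA0Y _ hval hinY)
  rw [← this]
  exact hξ

theorem card_lt_of_lt [Finite G] {H K : Subgroup G} (h : H < K) : Nat.card H < Nat.card K := by
  have h1 : (H : Set G) ⊂ (K : Set G) := SetLike.coe_ssubset_coe.2 h
  have h2 := Set.ncard_lt_ncard h1 (Set.toFinite _)
  rw [← Nat.card_coe_set_eq, ← Nat.card_coe_set_eq] at h2
  exact h2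

theorem gen_fix_aux [Finite G] {A : Subgroup G} : ∀ (n : ℕ) (Y : Subgroup G), Nat.card Y = n →
    Hyp A Y →
    Y ≤ ⨆ K : {K : Subgroup G // CycQuot A K}, Y ⊓ centralizer ((K : Subgroup G) : Set G) := by
  intro n
  induction n using Nat.strong_induction_on with
  | _ n ih =>
    intro Y hn h
    by_cases hc : ∃ a ∈ A, A ≤ (A ⊓ centralizer (Y : Set G)) ⊔ zpowers a
    · obtain ⟨a, ha, hle⟩ := hc
      have hK : CycQuot A (A ⊓ centralizer (Y : Set G)) := ⟨inf_le_left, a, ha, hle⟩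
      have h1 : Y ≤ Y ⊓ centralizer ((A ⊓ centralizer (Y : Set G) : Subgroup G) : Set G) := by
        intro y hy
        refine ⟨hy, mem_centralizer_iff.2 ?_⟩
        intro a0 ha0
        exact (mem_centralizer_iff.1 ha0.2 y hy).symm
      exact h1.trans (le_iSup (fun K : {K : Subgroup G // CycQuot A K} =>
        Y ⊓ centralizer ((K : Subgroup G) : Set G)) ⟨_, hK⟩)
    · refine (claim h hc).trans (iSup_le ?_)
      rintro ⟨a, ha, hna⟩
      have hYa : Hyp A (Y ⊓ centralizer ({a} : Set G)) :=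
        h.of_le inf_le_left (le_normalizer_inf_centralizer h ha)
      have hlt : Nat.card (Y ⊓ centralizer ({a} : Set G) : Subgroup G) < n := by
        rw [← hn]
        apply card_lt_of_lt
        refine lt_of_le_of_ne inf_le_left ?_
        intro heq
        apply hna
        rw [mem_centralizer_iff]
        intro y hy
        have : y ∈ Y ⊓ centralizer ({a} : Set G) := by rw [heq]; exact hy
        exact (mem_centralizer_iff.1 this.2 a rfl).symm
      have h2 := ih _ hlt (Y ⊓ centralizer ({a} : Set G)) rfl hYa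
      exact h2.trans (iSup_mono fun K => inf_le_inf_right _ inf_le_left)

theorem gen_fix [Finite G] {A Y : Subgroup G} (h : Hyp A Y) :
    Y = ⨆ K : {K : Subgroup G // CycQuot A K}, Y ⊓ centralizer ((K : Subgroup G) : Set G) :=
  le_antisymm (gen_fix_aux _ Y rfl h) (iSup_le fun _ => inf_le_left)

theorem conj_mem_iSup {ι : Sort*} (H : ι → Subgroup G) (g : G)
    (hg : ∀ i, ∀ z ∈ H i, g * z * g⁻¹ ∈ H i) : ∀ z ∈ ⨆ i, H i, g * z * g⁻¹ ∈ ⨆ i, H i := by
  intro z hz
  have h1 : (⨆ i, H i).map (MulAut.conj g).toMonoidHom ≤ ⨆ i, H i := by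
    rw [Subgroup.map_iSup]
    refine iSup_le fun i => le_trans ?_ (le_iSup H i)
    rintro _ ⟨z, hz, rfl⟩
    exact hg i z hz
  exact h1 (mem_map.2 ⟨z, hz, rfl⟩)

/-- `A` (abelian) normalizes `Y ⊓ C(K)` for `K ≤ A`. -/
theorem le_normalizer_inf_centralizer' {A Y K : Subgroup G} (h : Hyp A Y) (hK : K ≤ A) :
    A ≤ normalizer ((Y ⊓ centralizer (K : Set G) : Subgroup G) : Set G) := by
  have key : ∀ b ∈ A, ∀ z ∈ Y ⊓ centralizer (K : Set G),
      b * z * b⁻¹ ∈ Y ⊓ centralizer (K : Set G) := by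
    intro b hb z hz
    refine ⟨conj_mem_of_mem_normalizer (h.norm hb) hz.1, mem_centralizer_iff.2 ?_⟩
    intro x hx
    have h1 : x * z = z * x := mem_centralizer_iff.1 hz.2 x hx
    have h2 : x * b = b * x := h.comm x (hK hx) b hb
    have h3 : x * b⁻¹ = b⁻¹ * x := h.comm x (hK hx) b⁻¹ (inv_mem hb)
    calc x * (b * z * b⁻¹) = (x * b) * z * b⁻¹ := by group
      _ = b * (x * z) * b⁻¹ := by rw [h2]; group
      _ = b * z * (x * b⁻¹) := by rw [h1]; group
      _ = b * z * b⁻¹ * x := by rw [h3]; group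
  intro b hb
  rw [mem_normalizer_iff]
  intro z
  constructor
  · exact key b hb z
  · intro hz
    have := key b⁻¹ (inv_mem hb) _ hz
    have e : b⁻¹ * (b * z * b⁻¹) * b⁻¹⁻¹ = z := by group
    rwa [e] at this

theorem gen_comm [Finite G] {A Y : Subgroup G} (h : Hyp A Y) :
    ⁅Y, A⁆ = ⨆ K : {K : Subgroup G // CycQuot A K},
      ⁅Y ⊓ centralizer ((K : Subgroup G) : Set G), A⁆ := by
  apply le_antisymm
  swap
  · exact iSup_le fun K => commutator_mono inf_le_left le_rfl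
  set D : {K : Subgroup G // CycQuot A K} → Subgroup G :=
    fun K => ⁅Y ⊓ centralizer ((K : Subgroup G) : Set G), A⁆ with hD
  set X : Subgroup G := ⨆ K, D K with hX
  have hY1Y : ⁅Y, A⁆ ≤ Y := comm_le h.norm
  have hY1 : Hyp A ⁅Y, A⁆ := h.of_le hY1Y (comm_normalized h.norm).2
  have hCK : ∀ K : {K : Subgroup G // CycQuot A K},
      Hyp A (Y ⊓ centralizer ((K : Subgroup G) : Set G)) := fun K =>
    h.of_le inf_le_left (le_normalizer_inf_centralizer' h K.2.1)
  -- `A` normalizes `X`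
  have hAX : ∀ a ∈ A, ∀ x ∈ X, a * x * a⁻¹ ∈ X := by
    intro a ha
    apply conj_mem_iSup
    intro K z hz
    exact conj_mem_of_mem_normalizer ((comm_normalized (hCK K).norm).2 ha) hz
  -- `T = C_{Y1}(A)` normalizes `X`
  have hTX : ∀ t ∈ ⁅Y, A⁆ ⊓ centralizer (A : Set G), ∀ x ∈ X, t * x * t⁻¹ ∈ X := by
    intro t ht
    apply conj_mem_iSup
    intro K z hz
    have htK : t ∈ Y ⊓ centralizer ((K : Subgroup G) : Set G) :=
      ⟨hY1Y ht.1, centralizer_le K.2.1 ht.2⟩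
    exact conj_mem_of_mem_normalizer ((comm_normalized (hCK K).norm).1 htK) hz
  -- the subgroup `T X`
  let P : Subgroup G :=
    { carrier := {y | ∃ t ∈ ⁅Y, A⁆ ⊓ centralizer (A : Set G), ∃ x ∈ X, y = t * x}
      mul_mem' := by
        rintro _ _ ⟨t, ht, x, hx, rfl⟩ ⟨t', ht', x', hx', rfl⟩
        refine ⟨t * t', mul_mem ht ht', (t'⁻¹ * x * t'⁻¹⁻¹) * x', mul_mem ?_ hx', by group⟩
        exact hTX _ (inv_mem ht') x hx
      one_mem' := ⟨1, one_mem _, 1, one_mem _, by group⟩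
      inv_mem' := by
        rintro _ ⟨t, ht, x, hx, rfl⟩
        refine ⟨t⁻¹, inv_mem ht, t * x⁻¹ * t⁻¹, hTX t ht _ (inv_mem hx), by group⟩ }
  have hWP : ∀ K : {K : Subgroup G // CycQuot A K},
      ⁅Y, A⁆ ⊓ centralizer ((K : Subgroup G) : Set G) ≤ P := by
    intro K y hy
    have hW : Hyp A (⁅Y, A⁆ ⊓ centralizer ((K : Subgroup G) : Set G)) :=
      hY1.of_le inf_le_left (le_normalizer_inf_centralizer' hY1 K.2.1)
    obtain ⟨c, hc, d, hd, rfl⟩ := dec hW y hy
    refine ⟨c, ⟨hc.1.1, hc.2⟩, d, ?_, rfl⟩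
    have h1 : ⁅⁅Y, A⁆ ⊓ centralizer ((K : Subgroup G) : Set G), A⁆ ≤ D K :=
      commutator_mono (inf_le_inf_right _ hY1Y) le_rfl
    exact (le_iSup D K) (h1 hd)
  have hY1P : ⁅Y, A⁆ ≤ P := by
    have := gen_fix hY1
    rw [this]
    exact iSup_le hWP
  rw [← comm_comm h, commutator_le]
  intro y hy a ha
  obtain ⟨t, ht, x, hx, rfl⟩ := hY1P hy
  have hta : a * t = t * a := mem_centralizer_iff.1 ht.2 a ha
  have hta' : t⁻¹ * a⁻¹ = a⁻¹ * t⁻¹ := by
    rw [← mul_inv_rev, ← mul_inv_rev, hta]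
  have e : ⁅t * x, a⁆ = t * ⁅x, a⁆ * t⁻¹ := by
    simp only [commutatorElement_def]
    calc t * x * a * (t * x)⁻¹ * a⁻¹ = t * x * a * x⁻¹ * (t⁻¹ * a⁻¹) := by group
      _ = t * x * a * x⁻¹ * (a⁻¹ * t⁻¹) := by rw [hta']
      _ = t * (x * a * x⁻¹ * a⁻¹) * t⁻¹ := by group
  rw [e]
  apply hTX t ht
  have e2 : ⁅x, a⁆ = x * (a * x⁻¹ * a⁻¹) := by
    rw [commutatorElement_def]; group
  rw [e2]
  exact mul_mem hx (hAX a ha _ (inv_mem hx))

end Cfsg.Agent.Lib.Helper87.Gold
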