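/-
helper87: an abstract form of a lemma of Oliver on essential subgroups with a subgroup of index `p` centralized by
(most of) `Aut_S(P)`.  Everything is stated inside `Aut(P)` through a "control subgroup" `H` (see
`Cfsg.Agent.Lib.Helper88.exists_control_subgroup`).
All declarations live in `Cfsg.Agent.Lib.Helper87`.
-/
import Mathlib
import Cfsg.Prelude.Def_KGroupFacts
import Cfsg.Agent.Lib.Helper87.FusionNormal
import Cfsg.Agent.Lib.Helper86.EssChain

set_option autoImplicit false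

namespace Cfsg.Agent.Lib.Helper87

open Cfsg

section OliverAut

variable {P : Type*} [Group P]

/-- The stabilizer in `𝔄 ≤ Aut(P)` of the subgroup `D` of `P`. -/
def stabIn (𝔄 : Subgroup (MulAut P)) (D : Subgroup P) : Subgroup (MulAut P) where
  carrier := {β | β ∈ 𝔄 ∧ ∀ y, β y ∈ D ↔ y ∈ D}
  one_mem' := ⟨𝔄.one_mem, fun _ => Iff.rfl⟩
  mul_mem' := by
    rintro β γ ⟨hβ, hβ'⟩ ⟨hγ, hγ'⟩
    exact ⟨𝔄.mul_mem hβ hγ, fun y => (hβ' (γ y)).trans (hγ' y)⟩
  inv_mem' := by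
    rintro β ⟨hβ, hβ'⟩
    refine ⟨𝔄.inv_mem hβ, fun y => ?_⟩
    have := hβ' (β⁻¹ y)
    rw [MulAut.apply_inv_self] at this
    exact this.symm

theorem mem_stabIn {𝔄 : Subgroup (MulAut P)} {D : Subgroup P} {β : MulAut P} :
    β ∈ stabIn 𝔄 D ↔ β ∈ 𝔄 ∧ ∀ y, β y ∈ D ↔ y ∈ D := Iff.rfl

/-- The chain `P ≥ D ≥ 1`. -/
def chain3 (D : Subgroup P) : ℕ → Subgroup P
  | 0 => ⊤
  | 1 => D
  | _ => ⊥

theorem chain3_inv (𝔄 : Subgroup (MulAut P)) (D : Subgroup P) :
    ∀ j ≤ 2, ∀ α ∈ stabIn 𝔄 D, ∀ x ∈ chain3 D j, α x ∈ chain3 D j := by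
  intro j _ α hα x hx
  match j, hx with
  | 0, _ => exact Subgroup.mem_top _
  | 1, hx => exact (hα.2 x).2 hx
  | (k + 2), hx =>
    have h1 : x = 1 := hx
    show α x ∈ (⊥ : Subgroup P)
    rw [h1, map_one]
    exact Subgroup.one_mem _

/-- The automorphisms in `𝔄` centralizing `D` and `P / D`. -/
def stabGroup (𝔄 : Subgroup (MulAut P)) (D : Subgroup P) : Subgroup (MulAut P) :=
  chainStab (stabIn 𝔄 D) 2 (chain3 D) (chain3_inv 𝔄 D)

theorem stabGroup_isPGroup [Finite P] {p : ℕ} [Fact p.Prime] (hP : IsPGroup p P) (𝔄 : Subgroup (MulAut P))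
    (D : Subgroup P) : IsPGroup p (stabGroup 𝔄 D) :=
  chainStab_isPGroup hP _ 2 (chain3 D) rfl rfl (chain3_inv 𝔄 D)

theorem stabGroup_le (𝔄 : Subgroup (MulAut P)) (D : Subgroup P) : stabGroup 𝔄 D ≤ 𝔄 :=
  fun _ h => h.1.1

theorem mem_stabGroup_of {𝔄 : Subgroup (MulAut P)} {D : Subgroup P} {β : MulAut P} (hβ : β ∈ 𝔄)
    (h1 : ∀ y, y⁻¹ * β y ∈ D) (h2 : ∀ d ∈ D, β d = d) : β ∈ stabGroup 𝔄 D := by
  refine ⟨⟨hβ, fun y => ⟨fun h => ?_, fun h => by rw [h2 y h]; exact h⟩⟩, fun j hj r hr => ?_⟩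
  · have h3 : y = β y * (y⁻¹ * β y)⁻¹ := by group
    rw [h3]
    exact D.mul_mem h (D.inv_mem (h1 y))
  · match j, hr with
    | 0, _ => exact h1 r
    | 1, hr =>
      show r⁻¹ * β r ∈ (⊥ : Subgroup P)
      rw [h2 r hr, inv_mul_cancel]
      exact Subgroup.one_mem _
    | (k + 2), _ => omega

theorem stabGroup_conj_mem {𝔄 : Subgroup (MulAut P)} {D : Subgroup P} {α β : MulAut P}
    (hα : α ∈ stabIn 𝔄 D) (hβ : β ∈ stabGroup 𝔄 D) : α * β * α⁻¹ ∈ stabGroup 𝔄 D :=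
  chainStab_conj_mem _ 2 (chain3 D) (chain3_inv 𝔄 D) hα hβ

end OliverAut

section Main

variable {P : Type*} [Group P] [Finite P] {p : ℕ} [Fact p.Prime]

/-- A `p`-automorphism fixing the subgroup `P₀` of index `p` pointwise acts trivially on `P / P₀`. -/
theorem inv_mul_apply_mem_of_index_prime (P₀ : Subgroup P) [P₀.Normal] (hidx : P₀.index = p)
    (t : MulAut P) (hfix : ∀ b ∈ P₀, t b = b) (m : ℕ) (ht : t ^ p ^ m = 1) (y : P) : y⁻¹ * t y ∈ P₀ := by
  refine Cfsg.Agent.Lib.Helper86.inv_mul_apply_mem_of_relIndex_prime P₀ ⊤ ?_ t ?_ ?_ m ht y (Subgroup.mem_top y)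
  · rw [Subgroup.relIndex_top_right, hidx]
  · intro b hb
    rw [hfix b hb]; exact hb
  · intro b _
    exact Subgroup.mem_top _

omit [Finite P] in
/-- If `t` fixes `D ⊴ P` pointwise and moves `x` inside `xD`, where `P = P₀⟨x⟩` and `t` fixes `P₀`, then `t` acts
trivially on `P / D`. -/
theorem inv_mul_apply_mem_of_gen (P₀ D : Subgroup P) [D.Normal] (hidx : P₀.index = p)
    (t : MulAut P) (hfix : ∀ b ∈ P₀, t b = b) (x : P) (hx : x ∉ P₀) (hxD : x⁻¹ * t x ∈ D) (y : P) :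
    y⁻¹ * t y ∈ D := by
  let Y : Subgroup P :=
    { carrier := {y | y⁻¹ * t y ∈ D}
      one_mem' := by simp
      mul_mem' := by
        intro a b ha hb
        show (a * b)⁻¹ * t (a * b) ∈ D
        have h1 : (a * b)⁻¹ * t (a * b) = b⁻¹ * (a⁻¹ * t a) * b * (b⁻¹ * t b) := by
          rw [map_mul]; group
        rw [h1]
        refine D.mul_mem ?_ hb
        have := (inferInstance : D.Normal).conj_mem _ ha b⁻¹
        simpa using this
      inv_mem' := by
        intro a ha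
        show (a⁻¹)⁻¹ * t a⁻¹ ∈ D
        have h1 : (a⁻¹)⁻¹ * t a⁻¹ = a * (a⁻¹ * t a)⁻¹ * a⁻¹ := by
          rw [map_inv]; group
        rw [h1]
        exact (inferInstance : D.Normal).conj_mem _ (D.inv_mem ha) a }
  have hP₀Y : P₀ ≤ Y := by
    intro b hb
    show b⁻¹ * t b ∈ D
    rw [hfix b hb, inv_mul_cancel]
    exact D.one_mem
  have hxY : x ∈ Y := hxD
  have hY : Y = ⊤ := Cfsg.Agent.Lib.Helper86.eq_top_of_index_prime P₀ Y hP₀Y hidx x hxY hx
  have : y ∈ Y := by rw [hY]; exact Subgroup.mem_top y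
  exact this

/-- Finding a non-inner element of `TA` acting trivially modulo `P₀ ∩ g(P₀)`. -/
theorem exists_of_moved (T TA : Subgroup (MulAut P)) (P₀ : Subgroup P) [P₀.Normal] (hidx : P₀.index = p)
    (hT : T = TA ⊔ Inn P) (hne : T ≠ Inn P) (hfix : ∀ t ∈ TA, ∀ b ∈ P₀, t b = b)
    (htriv : ∀ t ∈ TA, ∀ y, y⁻¹ * t y ∈ P₀) (hrel : (Inn P).relIndex T ≠ p)
    (g : MulAut P) (hg : ¬ ∀ y, g y ∈ P₀ ↔ y ∈ P₀) :
    ∃ t ∈ TA, t ∉ Inn P ∧ ∀ y, y⁻¹ * t y ∈ P₀ ⊓ P₀.map g.toMonoidHom := by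
  have hp : p.Prime := Fact.out
  set P₀' : Subgroup P := P₀.map g.toMonoidHom with hP₀'
  have hmem' : ∀ y, y ∈ P₀' ↔ g⁻¹ y ∈ P₀ := by
    intro y
    constructor
    · rintro ⟨b, hb, rfl⟩
      show g⁻¹ (g b) ∈ P₀
      rw [MulAut.inv_apply_self]; exact hb
    · intro h
      exact ⟨g⁻¹ y, h, MulAut.apply_inv_self P g y⟩
  have hn' : P₀'.Normal := Subgroup.Normal.map inferInstance _ (MulEquiv.surjective g)
  have hidx' : P₀'.index = p := by
    rw [hP₀', ← hidx]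
    exact Subgroup.index_map_equiv P₀ g
  have hne' : ¬ P₀' ≤ P₀ := by
    intro hle
    have hcard : Nat.card P₀ ≤ Nat.card P₀' := by
      rw [hP₀', Subgroup.card_map_of_injective (MulEquiv.injective g)]
    have heq : P₀' = P₀ := Subgroup.eq_of_le_of_card_ge hle hcard
    apply hg
    intro y
    constructor
    · intro h
      rw [← heq, hmem'] at h
      rwa [MulAut.inv_apply_self] at h
    · intro h
      rw [← heq]
      exact ⟨y, h, rfl⟩
  obtain ⟨b₀, hb₀, hb₀'⟩ := SetLike.not_le_iff_exists.1 hne'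
  have hsup : P₀' ⊔ P₀ = ⊤ :=
    Cfsg.Agent.Lib.Helper86.eq_top_of_index_prime P₀ (P₀' ⊔ P₀) le_sup_right hidx b₀
      ((le_sup_left : P₀' ≤ P₀' ⊔ P₀) hb₀) hb₀'
  set D : Subgroup P := P₀ ⊓ P₀' with hD
  have hDn : D.Normal := inferInstance
  have hDrel : D.relIndex P₀ = p := by
    calc (P₀ ⊓ P₀').relIndex P₀ = P₀'.relIndex P₀ := Subgroup.inf_relIndex_left P₀ P₀'
      _ = P₀'.relIndex (P₀' ⊔ P₀) := (Subgroup.relIndex_sup_left P₀ P₀').symm
      _ = P₀'.relIndex ⊤ := by rw [hsup]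
      _ = P₀'.index := Subgroup.relIndex_top_right _
      _ = p := hidx'
  have hx : ∃ x, x ∉ P₀ := by
    by_contra hall
    push Not at hall
    have : P₀ = ⊤ := eq_top_iff.2 (fun y _ => hall y)
    rw [this, Subgroup.index_top] at hidx
    exact hp.one_lt.ne hidx
  obtain ⟨x, hx⟩ := hx
  let θ : TA →* P₀ :=
    { toFun := fun t => ⟨x⁻¹ * (t : MulAut P) x, htriv t t.2 x⟩
      map_one' := by
        apply Subtype.ext
        show x⁻¹ * (1 : MulAut P) x = 1
        simp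
      map_mul' := by
        intro t₁ t₂
        apply Subtype.ext
        show x⁻¹ * ((t₁ : MulAut P) * (t₂ : MulAut P)) x = (x⁻¹ * (t₁ : MulAut P) x) * (x⁻¹ * (t₂ : MulAut P) x)
        have h1 : (t₂ : MulAut P) x = x * (x⁻¹ * (t₂ : MulAut P) x) := by group
        rw [MulAut.mul_apply, h1, map_mul, hfix t₁ t₁.2 _ (htriv t₂ t₂.2 x)]
        group }
  set K : Subgroup TA := (D.subgroupOf P₀).comap θ with hK
  have hKidx : K.index ∣ p := by
    rw [hK, Subgroup.index_comap]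
    have hn : (D.subgroupOf P₀).Normal := hDn.subgroupOf P₀
    have h1 := Subgroup.relIndex_dvd_index_of_normal (D.subgroupOf P₀) θ.range
    have h2 : (D.subgroupOf P₀).index = p := hDrel
    rwa [h2] at h1
  have hKmem : ∀ t : TA, t ∈ K → ∀ y, y⁻¹ * (t : MulAut P) y ∈ D := by
    intro t ht y
    have h1 : x⁻¹ * (t : MulAut P) x ∈ D := ht
    exact inv_mul_apply_mem_of_gen P₀ D hidx (t : MulAut P) (hfix t t.2) x hx h1 y
  by_contra hcon
  push Not at hcon
  -- every element of `K` is inner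
  have hKinn : K.map TA.subtype ≤ Inn P ⊓ TA := by
    rintro _ ⟨t, ht, rfl⟩
    refine ⟨?_, t.2⟩
    by_contra hni
    obtain ⟨y, hy⟩ := hcon t t.2 hni
    exact hy (hKmem t ht y)
  have h1 : (Inn P).relIndex T ∣ p := by
    calc (Inn P).relIndex T = (Inn P).relIndex (TA ⊔ Inn P) := by rw [hT]
      _ = (Inn P).relIndex TA := Subgroup.relIndex_sup_right TA (Inn P)
      _ = (Inn P ⊓ TA).relIndex TA := (Subgroup.inf_relIndex_right (Inn P) TA).symm
      _ ∣ (K.map TA.subtype).relIndex TA := Subgroup.relIndex_dvd_of_le_left TA hKinn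
      _ = K.index := by
        show ((K.map TA.subtype).subgroupOf TA).index = K.index
        congr 1
        exact Subgroup.comap_map_eq_self_of_injective TA.subtype_injective K
      _ ∣ p := hKidx
  rcases (Nat.dvd_prime hp).1 h1 with h | h
  · apply hne
    have hle : T ≤ Inn P := Subgroup.relIndex_eq_one.1 h
    exact le_antisymm hle (by rw [hT]; exact le_sup_right)
  · exact hrel h

end Main

section Key

variable {P : Type*} [Group P] [Finite P] {p : ℕ} [Fact p.Prime]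

omit [Finite P] [Fact p.Prime] in
/-- Elements of a `p`-subgroup of `Aut(P)` have `p`-power order. -/
theorem exists_pow_eq_one_of_isPGroup {T : Subgroup (MulAut P)} (hTp : IsPGroup p T) {t : MulAut P} (ht : t ∈ T) :
    ∃ k : ℕ, t ^ p ^ k = 1 := by
  obtain ⟨k, hk⟩ := hTp ⟨t, ht⟩
  exact ⟨k, by simpa using congrArg Subtype.val hk⟩

/-- **Oliver's lemma, abstract form.** `P` a finite `p`-group, `G ≤ Aut(P)` with Sylow `p`-subgroup `T ≥ Inn(P)`, `H` a
control subgroup for a strongly `p`-embedded subgroup of `G / Inn(P)`, `P₀ ⊴ P` of index `p` centralized by `TA`, where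
`T = TA · Inn(P) ≠ Inn(P)`. Then some element of `G` moves `P₀`, and `|T : Inn(P)| = p`. -/
theorem oliver_key (hP : IsPGroup p P) (G T H TA : Subgroup (MulAut P)) (P₀ : Subgroup P) [P₀.Normal]
    (hTG : T ≤ G) (hTp : IsPGroup p T)
    (hTmax : ∀ Q : Subgroup (MulAut P), Q ≤ G → IsPGroup p Q → T ≤ Q → Q = T)
    (hconj : ∀ Q : Subgroup (MulAut P), Q ≤ G → IsPGroup p Q → ∃ h ∈ G, ∀ q ∈ Q, h * q * h⁻¹ ∈ T)
    (hTH : T ≤ H) (hnot : ∃ α ∈ G, α ∉ H)
    (hctrl : ∀ α ∈ G, ∀ β ∈ H, β ∉ Inn P → (∃ k : ℕ, β ^ p ^ k = 1) → α * β * α⁻¹ ∈ H → α ∈ H)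
    (hidx : P₀.index = p) (hT : T = TA ⊔ Inn P) (hfix : ∀ t ∈ TA, ∀ b ∈ P₀, t b = b) (hne : T ≠ Inn P) :
    (∃ α ∈ G, ¬ ∀ y, α y ∈ P₀ ↔ y ∈ P₀) ∧ (Inn P).relIndex T = p := by
  have hTAT : TA ≤ T := by rw [hT]; exact le_sup_left
  have hInnT : Inn P ≤ T := by rw [hT]; exact le_sup_right
  have htriv : ∀ t ∈ TA, ∀ y, y⁻¹ * t y ∈ P₀ := by
    intro t ht y
    obtain ⟨m, hm⟩ := exists_pow_eq_one_of_isPGroup hTp (hTAT ht)
    exact inv_mul_apply_mem_of_index_prime P₀ hidx t (hfix t ht) m hm y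
  -- a non-inner element of `TA`
  have hex : ∃ t ∈ TA, t ∉ Inn P := by
    by_contra hcon
    push Not at hcon
    apply hne
    apply le_antisymm _ hInnT
    rw [hT]
    exact sup_le (fun t ht => hcon t ht) le_rfl
  obtain ⟨t₀, ht₀, ht₀I⟩ := hex
  -- the stabilizer of `P₀` in `G` lies in `H`
  have hstab : ∀ g ∈ G, (∀ y, g y ∈ P₀ ↔ y ∈ P₀) → g ∈ H := by
    intro g hgG hg
    have hTAK : TA ≤ stabGroup G P₀ := fun t ht =>
      mem_stabGroup_of (hTG (hTAT ht)) (htriv t ht) (hfix t ht)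
    have hInnS : Inn P ≤ stabIn G P₀ := by
      rintro _ ⟨u, rfl⟩
      refine ⟨hTG (hInnT ⟨u, rfl⟩), fun y => ?_⟩
      show u * y * u⁻¹ ∈ P₀ ↔ y ∈ P₀
      constructor
      · intro h
        have := (inferInstance : P₀.Normal).conj_mem _ h u⁻¹
        simpa [mul_assoc] using this
      · intro h
        exact (inferInstance : P₀.Normal).conj_mem _ h u
    have hTS : T ≤ stabIn G P₀ := by
      rw [hT]
      exact sup_le (hTAK.trans (fun _ h => h.1)) hInnS
    have hTN : T ≤ Subgroup.normalizer (stabGroup G P₀ : Set (MulAut P)) := by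
      intro t ht
      rw [Subgroup.mem_normalizer_iff]
      intro k
      constructor
      · intro hk
        exact stabGroup_conj_mem (hTS ht) hk
      · intro hk
        have := stabGroup_conj_mem ((stabIn G P₀).inv_mem (hTS ht)) hk
        simpa [mul_assoc] using this
    have hsupp : IsPGroup p (T ⊔ stabGroup G P₀ : Subgroup (MulAut P)) :=
      IsPGroup.to_sup_of_normal_right' hTp (stabGroup_isPGroup hP G P₀) hTN
    have heq := hTmax _ (sup_le hTG (stabGroup_le G P₀)) hsupp le_sup_left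
    have hKT : stabGroup G P₀ ≤ T := by
      rw [← heq]; exact le_sup_right
    have h1 : g * t₀ * g⁻¹ ∈ stabGroup G P₀ := stabGroup_conj_mem ⟨hgG, hg⟩ (hTAK ht₀)
    exact hctrl g hgG t₀ (hTH (hTAT ht₀)) ht₀I (exists_pow_eq_one_of_isPGroup hTp (hTAT ht₀)) (hTH (hKT h1))
  constructor
  · by_contra hcon
    push Not at hcon
    obtain ⟨α, hαG, hαH⟩ := hnot
    exact hαH (hstab α hαG (hcon α hαG))
  · by_contra hrel
    obtain ⟨α, hαG, hαH⟩ := hnot
    apply hαH
    -- every element of `G` lies in `H`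
    have hall : ∀ g ∈ G, g ∈ H := by
      intro g hgG
      by_cases hg : ∀ y, g y ∈ P₀ ↔ y ∈ P₀
      · exact hstab g hgG hg
      have hg' : ¬ ∀ y, g⁻¹ y ∈ P₀ ↔ y ∈ P₀ := by
        intro h
        apply hg
        intro y
        have := h (g y)
        rw [MulAut.inv_apply_self] at this
        exact this.symm
      obtain ⟨t, htTA, htI, ht⟩ := exists_of_moved T TA P₀ hidx hT hne hfix htriv hrel g hg
      obtain ⟨t'', ht''TA, ht''I, ht''⟩ := exists_of_moved T TA P₀ hidx hT hne hfix htriv hrel g⁻¹ hg'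
      set D : Subgroup P := P₀ ⊓ P₀.map g.toMonoidHom with hD
      have htK : t ∈ stabGroup G D :=
        mem_stabGroup_of (hTG (hTAT htTA)) ht (fun d hd => hfix t htTA d hd.1)
      have ht'K : g * t'' * g⁻¹ ∈ stabGroup G D := by
        refine mem_stabGroup_of (G.mul_mem (G.mul_mem hgG (hTG (hTAT ht''TA))) (G.inv_mem hgG)) ?_ ?_
        · intro y
          have h1 : y⁻¹ * (g * t'' * g⁻¹) y = g ((g⁻¹ y)⁻¹ * t'' (g⁻¹ y)) := by
            rw [map_mul, map_inv, MulAut.apply_inv_self]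
            rfl
          rw [h1]
          obtain ⟨h2, b, hb, hb'⟩ := ht'' (g⁻¹ y)
          refine ⟨?_, ⟨_, h2, rfl⟩⟩
          rw [← hb']
          show g (g⁻¹ b) ∈ P₀
          rw [MulAut.apply_inv_self]
          exact hb
        · rintro d ⟨-, b, hb, rfl⟩
          show g (t'' (g⁻¹ (g b))) = g b
          rw [MulAut.inv_apply_self, hfix t'' ht''TA b hb]
      obtain ⟨h, hhG, hh⟩ := hconj (stabGroup G D) (stabGroup_le G D) (stabGroup_isPGroup hP G D)
      have hhH : h ∈ H :=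
        hctrl h hhG t (hTH (hTAT htTA)) htI (exists_pow_eq_one_of_isPGroup hTp (hTAT htTA)) (hTH (hh t htK))
      have ht'H : g * t'' * g⁻¹ ∈ H := by
        have h1 := hTH (hh _ ht'K)
        have h2 : g * t'' * g⁻¹ = h⁻¹ * (h * (g * t'' * g⁻¹) * h⁻¹) * h := by group
        rw [h2]
        exact H.mul_mem (H.mul_mem (H.inv_mem hhH) h1) hhH
      exact hctrl g hgG t'' (hTH (hTAT ht''TA)) ht''I (exists_pow_eq_one_of_isPGroup hTp (hTAT ht''TA)) ht'H
    exact hall α hαG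

end Key

section Moved

variable {P : Type*} [Group P] [Finite P] {p : ℕ} [Fact p.Prime]

/-- If the automorphism `g` moves the normal subgroup `P₀` of index `p`, then `P = g(P₀) P₀` and
`|P₀ : P₀ ∩ g(P₀)| = p`. -/
theorem moved_facts (P₀ : Subgroup P) [P₀.Normal] (hidx : P₀.index = p) (g : MulAut P)
    (hg : ¬ ∀ y, g y ∈ P₀ ↔ y ∈ P₀) :
    P₀.map g.toMonoidHom ⊔ P₀ = ⊤ ∧ (P₀ ⊓ P₀.map g.toMonoidHom).relIndex P₀ = p := by
  set P₀' : Subgroup P := P₀.map g.toMonoidHom with hP₀'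
  have hmem' : ∀ y, y ∈ P₀' ↔ g⁻¹ y ∈ P₀ := by
    intro y
    constructor
    · rintro ⟨b, hb, rfl⟩
      show g⁻¹ (g b) ∈ P₀
      rw [MulAut.inv_apply_self]; exact hb
    · intro h
      exact ⟨g⁻¹ y, h, MulAut.apply_inv_self P g y⟩
  have hn' : P₀'.Normal := Subgroup.Normal.map inferInstance _ (MulEquiv.surjective g)
  have hidx' : P₀'.index = p := by
    rw [hP₀', ← hidx]
    exact Subgroup.index_map_equiv P₀ g
  have hne' : ¬ P₀' ≤ P₀ := by
    intro hle
    have hcard : Nat.card P₀ ≤ Nat.card P₀' := by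
      rw [hP₀', Subgroup.card_map_of_injective (MulEquiv.injective g)]
    have heq : P₀' = P₀ := Subgroup.eq_of_le_of_card_ge hle hcard
    apply hg
    intro y
    constructor
    · intro h
      rw [← heq, hmem'] at h
      rwa [MulAut.inv_apply_self] at h
    · intro h
      rw [← heq]
      exact ⟨y, h, rfl⟩
  obtain ⟨b₀, hb₀, hb₀'⟩ := SetLike.not_le_iff_exists.1 hne'
  have hsup : P₀' ⊔ P₀ = ⊤ :=
    Cfsg.Agent.Lib.Helper86.eq_top_of_index_prime P₀ (P₀' ⊔ P₀) le_sup_right hidx b₀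
      ((le_sup_left : P₀' ≤ P₀' ⊔ P₀) hb₀) hb₀'
  refine ⟨hsup, ?_⟩
  calc (P₀ ⊓ P₀').relIndex P₀ = P₀'.relIndex P₀ := Subgroup.inf_relIndex_left P₀ P₀'
    _ = P₀'.relIndex (P₀' ⊔ P₀) := (Subgroup.relIndex_sup_left P₀ P₀').symm
    _ = P₀'.relIndex ⊤ := by rw [hsup]
    _ = P₀'.index := Subgroup.relIndex_top_right _
    _ = p := hidx'

/-- In a finite `p`-group, commutators lie in every normal subgroup of index `p`. -/
theorem comm_mem_of_index_prime (hP : IsPGroup p P) (N : Subgroup P) [N.Normal] (hidx : N.index = p) (y z : P) :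
    y⁻¹ * (z * y * z⁻¹) ∈ N := by
  obtain ⟨m, hm⟩ := hP z
  have h1 : (MulAut.conj z) ^ p ^ m = 1 := by
    rw [← map_pow, hm, map_one]
  have := Cfsg.Agent.Lib.Helper86.inv_mul_apply_mem_of_relIndex_prime N ⊤
    (by rw [Subgroup.relIndex_top_right, hidx]) (MulAut.conj z)
    (fun x hx => (inferInstance : N.Normal).conj_mem x hx z) (fun _ _ => Subgroup.mem_top _) m h1 y (Subgroup.mem_top y)
  simpa [MulAut.conj_apply] using this

end Moved

end Cfsg.Agent.Lib.Helper87
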