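/-
helper87: the "SL₂(p)-lemma" for abelian essential subgroups in Oliver's index-`p` setting, in abstract form inside
`Aut(Q)`: from a transvection `t` and a conjugate of it one builds an automorphism `τ` inverting a complement.
All declarations live in `Cfsg.Agent.Lib.Helper87`.
-/
import Mathlib
import Cfsg.Agent.Lib.Helper87.OliverAut

set_option autoImplicit false

namespace Cfsg.Agent.Lib.Helper87

open Cfsg

section Tau

variable {Q : Type*} [Group Q] {p : ℕ} [Fact p.Prime]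

/-- An automorphism mapping a finite subgroup into itself permutes it. -/
theorem mem_iff_of_forall_mem [Finite Q] (Zs : Subgroup Q) (g : MulAut Q) (h : ∀ z ∈ Zs, g z ∈ Zs) (y : Q) :
    g y ∈ Zs ↔ y ∈ Zs := by
  have hle : Zs.map g.toMonoidHom ≤ Zs := by
    rintro _ ⟨z, hz, rfl⟩
    exact h z hz
  have hcard : Nat.card (Zs.map g.toMonoidHom) = Nat.card Zs :=
    Subgroup.card_map_of_injective g.injective
  have heq : Zs.map g.toMonoidHom = Zs := Subgroup.eq_of_le_of_card_ge hle hcard.ge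
  constructor
  · intro hy
    rw [← heq] at hy
    obtain ⟨z, hz, hzy⟩ := hy
    have : z = y := g.injective hzy
    rwa [← this]
  · exact h y

/-- Relative form of `eq_top_of_index_prime`. -/
theorem le_of_relIndex_prime_of_mem (B K M : Subgroup Q) (hBK : B ≤ K)
    (hidx : B.relIndex M = p) (b : Q) (hbK : b ∈ K) (hbM : b ∈ M) (hbB : b ∉ B) : M ≤ K := by
  have h1 : B.subgroupOf M ≤ K.subgroupOf M := fun x hx => hBK hx
  have := Cfsg.Agent.Lib.Helper86.eq_top_of_index_prime (B.subgroupOf M) (K.subgroupOf M) h1 hidx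
    ⟨b, hbM⟩ hbK hbB
  exact Subgroup.subgroupOf_eq_top.1 this

/-- A subgroup of prime order is contained in any subgroup containing one of its nontrivial elements. -/
theorem le_of_prime_card_of_mem (Z0 D : Subgroup Q) (hZ0 : Nat.card Z0 = p) {u : Q} (hu0 : u ∈ Z0)
    (huD : u ∈ D) (hu1 : u ≠ 1) : Z0 ≤ D := by
  intro v hv
  have hne : (⟨u, hu0⟩ : Z0) ≠ 1 := fun h => hu1 (congrArg Subtype.val h)
  obtain ⟨k, hk⟩ := Subgroup.mem_zpowers_iff.1 (mem_zpowers_of_prime_card hZ0 hne (g' := ⟨v, hv⟩))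
  have : v = u ^ k := by
    have := congrArg Subtype.val hk
    simpa using this.symm
  rw [this]
  exact D.zpow_mem huD k

/-- **(F1)** In the setting of the `τ`-lemma, `Z0` meets `Zs ∩ α(Zs)` trivially. -/
theorem tau_disjoint [Finite Q] (hQ : IsPGroup p Q) (G : Subgroup (MulAut Q)) (Zs Z0 : Subgroup Q)
    (hZ0 : Nat.card Z0 = p)
    (t : MulAut Q) (ht : t ∈ G) (hfix : ∀ y, t y = y ↔ y ∈ Zs) (hcomm : ∀ y, y⁻¹ * t y ∈ Z0)
    (hTmax : ∀ K : Subgroup (MulAut Q), K ≤ G → IsPGroup p K → t ∈ K → K ≤ Subgroup.zpowers t)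
    (α : MulAut Q) (hα : α ∈ G) (hmove : ¬ ∀ y, α y ∈ Zs ↔ y ∈ Zs) :
    Z0 ⊓ (Zs ⊓ Zs.map α.toMonoidHom) = ⊥ := by
  rw [Subgroup.eq_bot_iff_forall]
  intro u hu
  by_contra hu1
  set D : Subgroup Q := Zs ⊓ Zs.map α.toMonoidHom with hD
  have hZ0D : Z0 ≤ D := le_of_prime_card_of_mem Z0 D hZ0 hu.1 hu.2 hu1
  have hDZs : D ≤ Zs := inf_le_left
  have htS : t ∈ stabGroup G D :=
    mem_stabGroup_of ht (fun y => hZ0D (hcomm y)) (fun d hd => (hfix d).2 (hDZs hd))
  set t' : MulAut Q := α * t * α⁻¹ with ht'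
  have ht'G : t' ∈ G := G.mul_mem (G.mul_mem hα ht) (G.inv_mem hα)
  have ht'fix : ∀ z ∈ Zs.map α.toMonoidHom, t' z = z := by
    rintro _ ⟨z, hz, rfl⟩
    show α (t (α⁻¹ (α z))) = α z
    rw [MulAut.inv_apply_self, (hfix z).2 hz]
  have ht'S : t' ∈ stabIn G D := by
    refine ⟨ht'G, fun y => ?_⟩
    apply mem_iff_of_forall_mem D t' ?_ y
    intro z hz
    rw [ht'fix z hz.2]; exact hz
  have hnorm : Subgroup.zpowers t' ≤ Subgroup.normalizer (stabGroup G D) := by
    rw [Subgroup.zpowers_le, Subgroup.mem_normalizer_iff]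
    intro h
    constructor
    · intro hh; exact stabGroup_conj_mem ht'S hh
    · intro hh
      have := stabGroup_conj_mem ((stabIn G D).inv_mem ht'S) hh
      simpa [mul_assoc] using this
  have hpS : IsPGroup p (stabGroup G D) := stabGroup_isPGroup hQ G D
  have hpt : IsPGroup p (Subgroup.zpowers t) := hpS.to_le (by rw [Subgroup.zpowers_le]; exact htS)
  have hpt' : IsPGroup p (Subgroup.zpowers t') := by
    have h1 : Subgroup.zpowers t' = (Subgroup.zpowers t).map (MulAut.conj α).toMonoidHom := by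
      rw [MonoidHom.map_zpowers]
      rfl
    rw [h1]
    exact hpt.map _
  have hpK : IsPGroup p (Subgroup.zpowers t' ⊔ stabGroup G D : Subgroup (MulAut Q)) :=
    IsPGroup.to_sup_of_normal_right' hpt' hpS hnorm
  have hKG : Subgroup.zpowers t' ⊔ stabGroup G D ≤ G :=
    sup_le (by rw [Subgroup.zpowers_le]; exact ht'G) (stabGroup_le G D)
  have hK := hTmax _ hKG hpK ((le_sup_right : stabGroup G D ≤ _) htS)
  have ht't : t' ∈ Subgroup.zpowers t :=
    hK ((le_sup_left : Subgroup.zpowers t' ≤ _) (Subgroup.mem_zpowers t'))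
  -- every power of `t` fixes `Zs` pointwise
  have hfixpow : ∀ s ∈ Subgroup.zpowers t, ∀ z ∈ Zs, s z = z := by
    intro s hs z hz
    have hle : Subgroup.zpowers t ≤ fixingSubgroup (MulAut Q) (Zs : Set Q) := by
      rw [Subgroup.zpowers_le, mem_fixingSubgroup_iff]
      intro y hy
      exact (hfix y).2 hy
    exact (mem_fixingSubgroup_iff _).1 (hle hs) z hz
  apply hmove
  have h2 : ∀ z ∈ Zs, α⁻¹ z ∈ Zs := by
    intro z hz
    have h3 := hfixpow t' ht't z hz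
    have h4 : t (α⁻¹ z) = α⁻¹ z := by
      have h6 : α (t (α⁻¹ z)) = z := h3
      have h7 := congrArg (fun y => α⁻¹ y) h6
      simpa using h7
    exact (hfix _).1 h4
  intro y
  have h5 := mem_iff_of_forall_mem Zs α⁻¹ h2 (α y)
  rw [MulAut.inv_apply_self] at h5
  exact h5.symm

/-- **The `τ`-lemma.** `Q` a finite abelian `p`-group, `G ≤ Aut(Q)`, `t ∈ G` a "transvection" with fixed points `Zs` (of index
`p`) and `[Q, t] ≤ Z0` (of order `p`, inside `Zs`), such that `⟨t⟩` contains every `p`-subgroup of `G` containing `t`; `α ∈ G`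
moves `Zs`. Then with `D = Zs ∩ α(Zs)` one has `Zs = D × Z0`, and some `τ ∈ G` commuting with `t` is the identity on `D` and
inverts `Z0`. -/
theorem tau_exists [Finite Q] (hQ : IsPGroup p Q) (hQc : ∀ a b : Q, a * b = b * a) (G : Subgroup (MulAut Q))
    (Zs Z0 : Subgroup Q) (hidx : Zs.index = p) (hZ0 : Nat.card Z0 = p) (hle : Z0 ≤ Zs)
    (t : MulAut Q) (ht : t ∈ G) (hfix : ∀ y, t y = y ↔ y ∈ Zs) (hcomm : ∀ y, y⁻¹ * t y ∈ Z0)
    (hTmax : ∀ K : Subgroup (MulAut Q), K ≤ G → IsPGroup p K → t ∈ K → K ≤ Subgroup.zpowers t)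
    (α : MulAut Q) (hα : α ∈ G) (hmove : ¬ ∀ y, α y ∈ Zs ↔ y ∈ Zs) :
    ∃ τ ∈ G, τ * t = t * τ ∧ (∀ d ∈ Zs ⊓ Zs.map α.toMonoidHom, τ d = d) ∧ (∀ u ∈ Z0, τ u = u⁻¹) ∧
      Z0 ⊓ (Zs ⊓ Zs.map α.toMonoidHom) = ⊥ ∧ Zs ≤ (Zs ⊓ Zs.map α.toMonoidHom) ⊔ Z0 := by
  have hpp : p.Prime := Fact.out
  have hZsN : Zs.Normal := ⟨fun n hn g => by
    have : g * n * g⁻¹ = n := by rw [hQc g n, mul_assoc, mul_inv_cancel, mul_one]
    rw [this]; exact hn⟩
  have hdisj := tau_disjoint hQ G Zs Z0 hZ0 t ht hfix hcomm hTmax α hα hmove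
  have hmove' : ¬ ∀ y, α⁻¹ y ∈ Zs ↔ y ∈ Zs := by
    intro h
    apply hmove
    intro y
    have := h (α y)
    rw [MulAut.inv_apply_self] at this
    exact this.symm
  have hdisj' := tau_disjoint hQ G Zs Z0 hZ0 t ht hfix hcomm hTmax α⁻¹ (G.inv_mem hα) hmove'
  set D : Subgroup Q := Zs ⊓ Zs.map α.toMonoidHom with hD
  obtain ⟨hgen, hrel⟩ := moved_facts Zs hidx α hmove
  -- a generator of `Z0`
  have hnt : Nontrivial Z0 := by
    have : Finite Z0 := inferInstance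
    rw [← Finite.one_lt_card_iff_nontrivial, hZ0]
    exact hpp.one_lt
  obtain ⟨⟨w0, hw0⟩, hw0ne⟩ := exists_ne (1 : Z0)
  have hw01 : w0 ≠ 1 := fun h => hw0ne (Subtype.ext h)
  set w' : Q := α w0 with hw'
  have hw'α : w' ∈ Zs.map α.toMonoidHom := ⟨w0, hle hw0, rfl⟩
  have hw'0α : w' ∈ Z0.map α.toMonoidHom := ⟨w0, hw0, rfl⟩
  have hw'Zs : w' ∉ Zs := by
    intro h
    have h1 : w0 ∈ Z0 ⊓ (Zs ⊓ Zs.map (α⁻¹).toMonoidHom) := by
      refine ⟨hw0, hle hw0, w', h, ?_⟩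
      show α⁻¹ (α w0) = w0
      rw [MulAut.inv_apply_self]
    rw [hdisj'] at h1
    exact hw01 (Subgroup.mem_bot.1 h1)
  set w : Q := w'⁻¹ * t w' with hw
  have hwZ0 : w ∈ Z0 := hcomm w'
  have hw1 : w ≠ 1 := by
    intro h
    apply hw'Zs
    rw [← hfix]
    have : t w' = w' * w := by rw [hw]; group
    rw [this, h, mul_one]
  have htw' : t w' = w' * w := by rw [hw]; group
  have hwZs : w ∈ Zs := hle hwZ0
  have htw : t w = w := (hfix w).2 hwZs
  have hwD : w ∉ D := by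
    intro h
    have h1 : w ∈ Z0 ⊓ D := ⟨hwZ0, h⟩
    rw [hdisj] at h1
    exact hw1 (Subgroup.mem_bot.1 h1)
  have hZ0w : Z0 ≤ Subgroup.zpowers w :=
    le_of_prime_card_of_mem Z0 _ hZ0 hwZ0 (Subgroup.mem_zpowers w) hw1
  -- the conjugate transvection
  set t' : MulAut Q := α * t * α⁻¹ with ht'
  have ht'G : t' ∈ G := G.mul_mem (G.mul_mem hα ht) (G.inv_mem hα)
  have ht'fix : ∀ z ∈ Zs.map α.toMonoidHom, t' z = z := by
    rintro _ ⟨z, hz, rfl⟩
    show α (t (α⁻¹ (α z))) = α z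
    rw [MulAut.inv_apply_self, (hfix z).2 hz]
  set v' : Q := w⁻¹ * t' w with hv'
  have ht'w : t' w = w * v' := by rw [hv']; group
  have hv'α : v' ∈ Z0.map α.toMonoidHom := by
    refine ⟨(α⁻¹ w)⁻¹ * t (α⁻¹ w), hcomm _, ?_⟩
    show α ((α⁻¹ w)⁻¹ * t (α⁻¹ w)) = w⁻¹ * α (t (α⁻¹ w))
    rw [map_mul, map_inv, MulAut.apply_inv_self]
  have hv'1 : v' ≠ 1 := by
    intro h
    apply hwD
    refine ⟨hwZs, α⁻¹ w, ?_, MulAut.apply_inv_self Q α w⟩
    rw [SetLike.mem_coe, ← hfix]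
    have h1 : α (t (α⁻¹ w)) = w := by
      have : t' w = w := by rw [ht'w, h, mul_one]
      exact this
    have h2 := congrArg (fun y => α⁻¹ y) h1
    simpa using h2
  have hle' : Z0.map α.toMonoidHom ≤ Zs.map α.toMonoidHom := Subgroup.map_mono hle
  have ht'v' : t' v' = v' := ht'fix v' (hle' hv'α)
  have hcard' : Nat.card (Z0.map α.toMonoidHom) = p := by
    rw [Subgroup.card_map_of_injective α.injective, hZ0]
  have hZ0v' : Z0.map α.toMonoidHom ≤ Subgroup.zpowers v' :=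
    le_of_prime_card_of_mem _ _ hcard' hv'α (Subgroup.mem_zpowers v') hv'1
  have hw'inv : w'⁻¹ ∈ Submonoid.powers v' := by
    rw [mem_powers_iff_mem_zpowers]
    exact hZ0v' (Subgroup.inv_mem _ hw'0α)
  obtain ⟨b, hb⟩ := hw'inv
  set s : MulAut Q := t' ^ b with hs
  have hsG : s ∈ G := G.pow_mem ht'G b
  have hsw : s w = w * w'⁻¹ := by
    rw [hs, pow_apply_mul_pow' t' w v' ht'w ht'v' b]
    rw [← hb]
  have hsfix : ∀ z ∈ Zs.map α.toMonoidHom, s z = z := by
    intro z hz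
    have := pow_apply_mul_pow' t' z 1 (by rw [mul_one]; exact ht'fix z hz) (map_one _) b
    rw [hs, this, one_pow, mul_one]
  have hsw' : s w' = w' := hsfix w' hw'α
  set n : MulAut Q := t * s * t with hn
  have hnG : n ∈ G := G.mul_mem (G.mul_mem ht hsG) ht
  have hnw : n w = w'⁻¹ := by
    show t (s (t w)) = w'⁻¹
    rw [htw, hsw, map_mul, map_inv, htw, htw']
    group
  have hnw' : n w' = w := by
    show t (s (t w')) = w
    rw [htw', map_mul, hsw', hsw, map_mul, map_mul, map_inv, htw, htw']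
    have : w' * w * (w * (w' * w)⁻¹) = w' * w * w'⁻¹ := by group
    rw [this, hQc w' w]
    group
  have hnd : ∀ d ∈ D, n d = d := by
    intro d hd
    show t (s (t d)) = d
    rw [(hfix d).2 hd.1, hsfix d hd.2, (hfix d).2 hd.1]
  refine ⟨n * n, G.mul_mem hnG hnG, ?_, ?_, ?_, hdisj, ?_⟩
  · -- commutation with `t`
    set E : Subgroup Q := MonoidHom.eqLocus ((n * n) * t).toMonoidHom (t * (n * n)).toMonoidHom with hE
    have hmemE : ∀ y, y ∈ E ↔ n (n (t y)) = t (n (n y)) := fun y => Iff.rfl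
    have hDE : D ≤ E := by
      intro d hd
      rw [hmemE, (hfix d).2 hd.1, hnd d hd, hnd d hd, (hfix d).2 hd.1]
    have hwE : w ∈ E := by
      rw [hmemE, htw, hnw, map_inv, hnw', map_inv, htw]
    have hw'E : w' ∈ E := by
      have key : ∀ a b : Q, a⁻¹ * b⁻¹ = (a * b)⁻¹ := fun a b => by rw [mul_inv_rev]; exact hQc _ _
      rw [hmemE, htw', map_mul, map_mul, hnw', hnw, map_inv, hnw', map_inv, htw']
      exact key w' w
    have hZsE : Zs ≤ E := le_of_relIndex_prime_of_mem D E Zs hDE hrel w hwE hwZs hwD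
    have hEtop : E = ⊤ := Cfsg.Agent.Lib.Helper86.eq_top_of_index_prime Zs E hZsE hidx w' hw'E hw'Zs
    ext y
    have : y ∈ E := hEtop ▸ Subgroup.mem_top y
    exact this
  · intro d hd
    show n (n d) = d
    rw [hnd d hd, hnd d hd]
  · intro u hu
    obtain ⟨k, rfl⟩ := Subgroup.mem_zpowers_iff.1 (hZ0w hu)
    show n (n (w ^ k)) = (w ^ k)⁻¹
    rw [map_zpow, map_zpow, hnw, map_inv, hnw', inv_zpow]
  · exact le_of_relIndex_prime_of_mem D (D ⊔ Z0) Zs le_sup_left hrel w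
      ((le_sup_right : Z0 ≤ D ⊔ Z0) hwZ0) hwZs hwD

end Tau

end Cfsg.Agent.Lib.Helper87
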