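/-
helper87: the inversion of an elementary abelian group `W` of order at most `p²` (`p` odd) lies in every group of
automorphisms of `W` containing two `p`-elements `t ≠ 1`, `t' ∉ ⟨t⟩` (abstractly: two distinct transvection subgroups of
`GL₂(p)` generate a group containing `-1`). Built on `tau_exists`.
All declarations live in `Cfsg.Agent.Lib.Helper87`.
-/
import Mathlib
import Cfsg.Agent.Lib.Helper87.OliverTau

set_option autoImplicit false

namespace Cfsg.Agent.Lib.Helper87

open Cfsg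

section SL2

variable {p : ℕ} [hp : Fact p.Prime]

/-- An endomorphism of a group of prime order `p` whose `p^a`-th iterate is the identity is the identity. -/
theorem map_eq_self_of_card_prime {C : Type*} [Group C] (hC : Nat.card C = p)
    (σ : C →* C) (a : ℕ) (hσ : ∀ c, (σ^[p ^ a]) c = c) (c : C) : σ c = c := by
  have : IsCyclic C := isCyclic_of_prime_card hC
  have : Finite C := Nat.finite_of_card_ne_zero (by rw [hC]; exact hp.out.ne_zero)
  obtain ⟨m, hm⟩ := MonoidHom.map_cyclic σ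
  have hiter : ∀ (n : ℕ) (g : C), (σ^[n]) g = g ^ (m ^ n) := by
    intro n
    induction n with
    | zero => intro g; simp
    | succ n ih =>
      intro g
      rw [Function.iterate_succ_apply', ih, hm, ← zpow_mul, pow_succ]
  have hexp : ∀ g : C, g ^ (p : ℤ) = 1 := by
    intro g
    rw [zpow_natCast, ← hC]
    exact pow_card_eq_one'
  by_cases hc : c = 1
  · rw [hc, map_one]
  · have h1 := hσ c
    rw [hiter] at h1
    have h2 : c ^ (m ^ p ^ a - 1) = 1 := by rw [zpow_sub, zpow_one, h1, mul_inv_cancel]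
    have h3 : (orderOf c : ℤ) ∣ m ^ p ^ a - 1 := orderOf_dvd_iff_zpow_eq_one.2 h2
    have ho : orderOf c = p := by
      have := orderOf_dvd_natCard c
      rw [hC] at this
      rcases (Nat.dvd_prime hp.out).1 this with h | h
      · exact absurd (orderOf_eq_one_iff.1 h) hc
      · exact h
    rw [ho] at h3
    have h4 : ((m ^ p ^ a - 1 : ℤ) : ZMod p) = 0 := (ZMod.intCast_zmod_eq_zero_iff_dvd _ p).2 h3
    push_cast at h4
    rw [ZMod.pow_card_pow] at h4
    have h5 : (p : ℤ) ∣ m - 1 := by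
      rw [← ZMod.intCast_zmod_eq_zero_iff_dvd]
      push_cast
      exact h4
    obtain ⟨k, hk⟩ := h5
    have hmk : m = 1 + p * k := by omega
    rw [hm, hmk, zpow_add, zpow_one, zpow_mul, hexp, one_zpow, mul_one]

variable {W : Type*} [Group W]

/-- A `p`-group of automorphisms of a nontrivial finite `p`-group fixes a nontrivial element. -/
theorem exists_fixed_ne_one [Finite W] (hW : IsPGroup p W) [Nontrivial W] (K : Subgroup (MulAut W))
    (hK : IsPGroup p K) : ∃ b : W, b ≠ 1 ∧ ∀ k ∈ K, k b = b := by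
  have dvd : p ∣ Nat.card W := by
    obtain ⟨n, hn0, hn⟩ := hW.nontrivial_iff_card.mp inferInstance
    exact hn.symm ▸ dvd_pow_self _ (ne_of_gt hn0)
  have h1 : (1 : W) ∈ MulAction.fixedPoints K W := by
    intro g
    show (g : MulAut W) (1 : W) = 1
    exact map_one _
  obtain ⟨b, hb, hb1⟩ := hK.exists_fixed_point_of_prime_dvd_card_of_fixed_point W dvd h1
  exact ⟨b, fun h => hb1 h.symm, fun k hk => hb ⟨k, hk⟩⟩

/-- **The `SL₂`-lemma.** -/
theorem exists_inverting [Finite W] (hp2 : p ≠ 2) (hWc : ∀ a b : W, a * b = b * a) (hWe : ∀ a : W, a ^ p = 1)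
    (hcard : Nat.card W ≤ p ^ 2) (G : Subgroup (MulAut W)) (t t' : MulAut W) (ht : t ∈ G) (ht' : t' ∈ G)
    (ht1 : t ≠ 1) {a b : ℕ} (hta : t ^ p ^ a = 1) (ht'b : t' ^ p ^ b = 1) (hne : t' ∉ Subgroup.zpowers t) :
    Nat.card W = p ^ 2 ∧ ∃ τ ∈ G, ∀ w : W, τ w = w⁻¹ := by
  classical
  have hpp : p.Prime := hp.out
  have hW : IsPGroup p W := fun g => ⟨1, by rw [pow_one]; exact hWe g⟩
  have hntW : Nontrivial W := by
    by_contra h
    rw [not_nontrivial_iff_subsingleton] at h
    apply ht1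
    ext w
    exact Subsingleton.elim _ _
  -- the fixed points of `t`
  let Zs : Subgroup W := MonoidHom.eqLocus t.toMonoidHom (MonoidHom.id W)
  have hfix : ∀ y, t y = y ↔ y ∈ Zs := fun y => Iff.rfl
  -- the commutator homomorphism
  let cth : W →* W :=
    { toFun := fun y => y⁻¹ * t y
      map_one' := by simp
      map_mul' := fun x y => by
        rw [map_mul, mul_inv_rev, hWc y⁻¹ x⁻¹, mul_assoc, mul_assoc, ← mul_assoc y⁻¹, hWc y⁻¹ (t x), mul_assoc] }
  have hcth : ∀ y, cth y = y⁻¹ * t y := fun y => rfl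
  let Z0 : Subgroup W := cth.range
  have hcomm : ∀ y, y⁻¹ * t y ∈ Z0 := fun y => ⟨y, rfl⟩
  have hker : cth.ker = Zs := by
    ext y
    rw [MonoidHom.mem_ker, hcth, ← hfix]
    constructor
    · intro h
      have := congrArg (fun z => y * z) h
      simpa using this
    · intro h
      rw [h, inv_mul_cancel]
  -- `Zs` is nontrivial and proper
  have hZsbot : Zs ≠ ⊥ := by
    have hTp : IsPGroup p (Subgroup.zpowers t) := by
      rintro ⟨x, hx⟩
      obtain ⟨n, rfl⟩ := Subgroup.mem_zpowers_iff.1 hx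
      refine ⟨a, Subtype.ext ?_⟩
      show (t ^ n) ^ p ^ a = 1
      rw [← zpow_natCast, ← zpow_mul, mul_comm, zpow_mul, zpow_natCast, hta, one_zpow]
    obtain ⟨b₀, hb₀, hb₀f⟩ := exists_fixed_ne_one hW (Subgroup.zpowers t) hTp
    intro h
    have : b₀ ∈ Zs := (hfix b₀).1 (hb₀f t (Subgroup.mem_zpowers t))
    rw [h, Subgroup.mem_bot] at this
    exact hb₀ this
  have hZstop : Zs ≠ ⊤ := by
    intro h
    apply ht1
    ext w
    have : w ∈ Zs := by rw [h]; trivial
    exact (hfix w).2 this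
  -- cardinalities
  obtain ⟨k, hk⟩ := IsPGroup.iff_card.1 hW
  obtain ⟨j, hj⟩ := IsPGroup.iff_card.1 (hW.to_subgroup Zs)
  have hj0 : j ≠ 0 := by
    intro h
    rw [h, pow_zero] at hj
    exact hZsbot (Subgroup.card_eq_one.1 hj)
  have hjk : j < k := by
    have h1 : Nat.card Zs ∣ Nat.card W := Subgroup.card_subgroup_dvd_card Zs
    rw [hj, hk] at h1
    have h2 : j ≤ k := (Nat.pow_dvd_pow_iff_le_right hpp.one_lt).1 h1
    rcases Nat.lt_or_ge j k with h | h
    · exact h
    · exfalso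
      have hjk' : j = k := le_antisymm h2 h
      apply hZstop
      apply Subgroup.eq_top_of_card_eq
      rw [hj, hk, hjk']
  have hk2 : k ≤ 2 := by
    by_contra hlt
    push Not at hlt
    have h3 : p ^ 3 ≤ p ^ k := Nat.pow_le_pow_right hpp.pos hlt
    have h2 : p ^ 2 < p ^ 3 := Nat.pow_lt_pow_right hpp.one_lt (by norm_num)
    omega
  have hk2' : k = 2 := by omega
  have hj1 : j = 1 := by omega
  subst hk2'
  subst hj1
  rw [pow_one] at hj
  have hidx : Zs.index = p := by
    have h1 := Subgroup.card_mul_index Zs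
    rw [hj, hk, sq] at h1
    exact Nat.eq_of_mul_eq_mul_left hpp.pos h1
  have hZ0 : Nat.card Z0 = p := by
    have h1 : cth.ker.index = Nat.card cth.range := Subgroup.index_ker cth
    rw [hker, hidx] at h1
    exact h1.symm
  -- `t` commutes with `cth`
  have htc : ∀ y, t (cth y) = cth (t y) := fun y => by
    rw [hcth, hcth, map_mul, map_inv]
  -- `Z0 ≤ Zs`
  have hle : Z0 ≤ Zs := by
    let σ : Z0 →* Z0 :=
      { toFun := fun z => ⟨t z.1, by
          obtain ⟨y, hy⟩ := z.2
          exact ⟨t y, by rw [← htc, hy]⟩⟩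
        map_one' := Subtype.ext (map_one t)
        map_mul' := fun x y => Subtype.ext (map_mul t _ _) }
    have hσ : ∀ (n : ℕ) (z : Z0), (((σ^[n]) z : Z0) : W) = (t ^ n) z.1 := by
      intro n
      induction n with
      | zero => intro z; simp
      | succ n ih =>
        intro z
        rw [Function.iterate_succ_apply', pow_succ', MulAut.mul_apply, ← ih]
        rfl
    intro z hz
    have := map_eq_self_of_card_prime hZ0 σ a (fun c => Subtype.ext (by rw [hσ, hta]; rfl)) ⟨z, hz⟩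
    exact (hfix z).1 (congrArg Subtype.val this)
  have hZ0eq : Z0 = Zs := by
    apply Subgroup.eq_of_le_of_card_ge hle
    rw [hZ0, hj]
  -- an element outside `Zs`
  obtain ⟨w', hw'⟩ : ∃ w' : W, w' ∉ Zs := by
    by_contra h
    push Not at h
    exact hZstop (Subgroup.eq_top_iff' Zs |>.2 h)
  let ℓ : W := w'⁻¹ * t w'
  have hℓZs : ℓ ∈ Zs := hle (hcomm w')
  have hℓ1 : ℓ ≠ 1 := by
    intro h
    apply hw'
    rw [← hfix]
    have : t w' = w' * ℓ := by simp [ℓ]
    rw [this, h, mul_one]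
  have htw' : t w' = w' * ℓ := by simp [ℓ]
  have hZsℓ : Zs ≤ Subgroup.zpowers ℓ :=
    le_of_prime_card_of_mem Zs _ hj hℓZs (Subgroup.mem_zpowers ℓ) hℓ1
  -- key: a `p`-element preserving `Zs` is a power of `t`
  have key : ∀ k : MulAut W, (∃ c : ℕ, k ^ p ^ c = 1) → (∀ z ∈ Zs, k z ∈ Zs) → k ∈ Subgroup.zpowers t := by
    rintro k ⟨c, hkc⟩ hkZ
    -- `k` fixes `Zs` pointwise
    have hkfix : ∀ z ∈ Zs, k z = z := by
      let σ : Zs →* Zs :=
        { toFun := fun z => ⟨k z.1, hkZ z.1 z.2⟩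
          map_one' := Subtype.ext (map_one k)
          map_mul' := fun x y => Subtype.ext (map_mul k _ _) }
      have hσ : ∀ (n : ℕ) (z : Zs), (((σ^[n]) z : Zs) : W) = (k ^ n) z.1 := by
        intro n
        induction n with
        | zero => intro z; simp
        | succ n ih =>
          intro z
          rw [Function.iterate_succ_apply', pow_succ', MulAut.mul_apply, ← ih]
          rfl
      intro z hz
      have := map_eq_self_of_card_prime hj σ c (fun x => Subtype.ext (by rw [hσ, hkc]; rfl)) ⟨z, hz⟩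
      exact congrArg Subtype.val this
    -- `k` acts trivially on `W / Zs`
    have hZsN : Zs.Normal := ⟨fun n hn g => by
      have : g * n * g⁻¹ = n := by rw [hWc g n, mul_assoc, mul_inv_cancel, mul_one]
      rw [this]; exact hn⟩
    have hkquot : ∀ y, y⁻¹ * k y ∈ Zs := by
      have hcomap : Zs ≤ Zs.comap k.toMonoidHom := fun z hz => hkZ z hz
      let σ : W ⧸ Zs →* W ⧸ Zs := QuotientGroup.map Zs Zs k.toMonoidHom hcomap
      have hσ : ∀ (n : ℕ) (y : W), (σ^[n]) (QuotientGroup.mk y) = QuotientGroup.mk ((k ^ n) y) := by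
        intro n
        induction n with
        | zero => intro y; simp
        | succ n ih =>
          intro y
          rw [Function.iterate_succ_apply', ih, pow_succ', MulAut.mul_apply]
          rfl
      have hcq : Nat.card (W ⧸ Zs) = p := by rw [← Subgroup.index_eq_card, hidx]
      intro y
      have := map_eq_self_of_card_prime hcq σ c (fun x => by
        obtain ⟨y', rfl⟩ := QuotientGroup.mk_surjective x
        rw [hσ, hkc]; rfl) (QuotientGroup.mk y)
      have h2 : (QuotientGroup.mk (k y) : W ⧸ Zs) = QuotientGroup.mk y := this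
      rw [QuotientGroup.eq] at h2
      have h3 : y⁻¹ * k y = ((k y)⁻¹ * y)⁻¹ := by group
      rw [h3]
      exact Zs.inv_mem h2
    have hℓk : w'⁻¹ * k w' ∈ Submonoid.powers ℓ := by
      rw [mem_powers_iff_mem_zpowers]
      exact hZsℓ (hkquot w')
    obtain ⟨n, hn⟩ := hℓk
    have hn' : ℓ ^ n = w'⁻¹ * k w' := hn
    have hkw' : k w' = w' * ℓ ^ n := by rw [hn']; group
    have htn : (t ^ n) w' = w' * ℓ ^ n := pow_apply_mul_pow' t w' ℓ htw' ((hfix ℓ).2 hℓZs) n
    have hE : MonoidHom.eqLocus k.toMonoidHom (t ^ n).toMonoidHom = ⊤ := by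
      refine Cfsg.Agent.Lib.Helper86.eq_top_of_index_prime Zs _ ?_ hidx w' ?_ hw'
      · intro z hz
        show k z = (t ^ n) z
        rw [hkfix z hz]
        have := pow_apply_mul_pow' t z 1 (by rw [mul_one]; exact (hfix z).2 hz) (map_one _) n
        rw [this, one_pow, mul_one]
      · show k w' = (t ^ n) w'
        rw [hkw', htn]
    have : k = t ^ n := by
      ext y
      have : y ∈ MonoidHom.eqLocus k.toMonoidHom (t ^ n).toMonoidHom := by rw [hE]; trivial
      exact this
    rw [this]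
    exact Subgroup.pow_mem _ (Subgroup.mem_zpowers t) n
  -- maximality of `⟨t⟩`
  have hTmax : ∀ K : Subgroup (MulAut W), K ≤ G → IsPGroup p K → t ∈ K → K ≤ Subgroup.zpowers t := by
    intro K _ hKp htK k hk
    obtain ⟨b₀, hb₀, hb₀f⟩ := exists_fixed_ne_one hW K hKp
    have hb₀Zs : b₀ ∈ Zs := (hfix b₀).1 (hb₀f t htK)
    have hZsb : Zs ≤ Subgroup.zpowers b₀ :=
      le_of_prime_card_of_mem Zs _ hj hb₀Zs (Subgroup.mem_zpowers b₀) hb₀
    refine key k ?_ ?_
    · obtain ⟨c, hc⟩ := hKp ⟨k, hk⟩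
      exact ⟨c, congrArg Subtype.val hc⟩
    · intro z hz
      obtain ⟨i, rfl⟩ := Subgroup.mem_zpowers_iff.1 (hZsb hz)
      rw [map_zpow, hb₀f k hk]
      exact hz
  -- `t'` moves `Zs`
  have hmove : ¬ ∀ y, t' y ∈ Zs ↔ y ∈ Zs := by
    intro h
    exact hne (key t' ⟨b, ht'b⟩ (fun z hz => (h z).2 hz))
  obtain ⟨τ, hτG, hτt, -, hτinv, -, -⟩ :=
    tau_exists hW hWc G Zs Z0 hidx hZ0 hle t ht hfix hcomm hTmax t' ht' hmove
  refine ⟨hk, τ ^ p, G.pow_mem hτG p, fun y => ?_⟩
  -- `τ y = y⁻¹ * ℓ_y` with `ℓ_y ∈ Zs`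
  have hτc : ∀ y, cth (τ y) = (cth y)⁻¹ := by
    intro y
    have h1 : cth (τ y) = τ (cth y) := by
      rw [hcth, hcth, map_mul, map_inv]
      have : t (τ y) = τ (t y) := by
        have := congrArg (fun f : MulAut W => f y) hτt
        exact this.symm
      rw [this]
    rw [h1]
    exact hτinv _ (hcomm y)
  have hℓy : τ y * y ∈ Zs := by
    rw [← hker, MonoidHom.mem_ker, map_mul, hτc, inv_mul_cancel]
  set m : W := τ y * y with hm
  have hmZ0 : m ∈ Z0 := hZ0eq ▸ hℓy
  have hτm : τ m = m⁻¹ := hτinv m hmZ0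
  have hτy : τ y = y⁻¹ * m := by rw [hm, hWc (τ y) y]; group
  have hτ2y : (τ * τ) y = y * (m⁻¹ * m⁻¹) := by
    rw [MulAut.mul_apply, hτy, map_mul, map_inv, hτy, hτm, mul_inv_rev, inv_inv, hWc m⁻¹ y, mul_assoc]
  have hτ2m : (τ * τ) (m⁻¹ * m⁻¹) = m⁻¹ * m⁻¹ := by
    rw [MulAut.mul_apply, map_mul, map_inv, hτm, inv_inv, map_mul, hτm]
  obtain ⟨n, hn⟩ : ∃ n, p = 2 * n + 1 := by
    rcases Nat.Prime.eq_two_or_odd' hpp with h | h
    · exact absurd h hp2
    · obtain ⟨n, hn⟩ := h
      exact ⟨n, hn⟩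
  have h1 : ((τ * τ) ^ n) y = y * (m⁻¹ * m⁻¹) ^ n := pow_apply_mul_pow' (τ * τ) y _ hτ2y hτ2m n
  have h2 : τ ^ p = τ * (τ * τ) ^ n := by
    rw [hn, pow_succ', pow_mul, sq]
  rw [h2, MulAut.mul_apply, h1, map_mul, hτy, map_pow, map_mul, map_inv, hτm, inv_inv]
  have hmp : m ^ p = 1 := hWe m
  have h3 : (m * m) ^ n = m ^ (2 * n) := by rw [← sq, ← pow_mul]
  rw [h3, mul_assoc, ← pow_succ', ← hn, hmp, mul_one]

end SL2

end Cfsg.Agent.Lib.Helper87
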