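import Cfsg.Agent.Lib.Helper87.LinRepCharP

set_option autoImplicit false
open scoped commutatorElement

namespace Cfsg.Agent.Lib.Helper87.LinRep

variable {K : Type*} [Field K] {P : Type*} [Group P] {V : Type*} [AddCommGroup V] [Module K V]

/-- Schur's lemma over an algebraically closed field. -/
theorem schur [IsAlgClosed K] [FiniteDimensional K V] [Nontrivial V] (ρ : P →* (V ≃ₗ[K] V))
    (hirr : ∀ W : Submodule K V, Inv ρ W → W = ⊥ ∨ W = ⊤) (T : V →ₗ[K] V)
    (hT : ∀ g v, T (ρ g v) = ρ g (T v)) : ∃ c : K, ∀ v, T v = c • v := by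
  obtain ⟨c, hc⟩ := Module.End.exists_eigenvalue T
  refine ⟨c, ?_⟩
  have hinv : Inv ρ (Module.End.eigenspace T c) := by
    intro g w hw
    rw [Module.End.mem_eigenspace_iff] at hw ⊢
    rw [hT, hw, map_smul]
  rcases hirr _ hinv with h | h
  · exact absurd h (Module.End.hasEigenvalue_iff.1 hc)
  · intro v
    have : v ∈ Module.End.eigenspace T c := by rw [h]; trivial
    exact Module.End.mem_eigenspace_iff.1 this

/-- Central elements act by scalars in an irreducible representation. -/
theorem central_scalar [IsAlgClosed K] [FiniteDimensional K V] [Nontrivial V]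
    (ρ : P →* (V ≃ₗ[K] V))
    (hirr : ∀ W : Submodule K V, Inv ρ W → W = ⊥ ∨ W = ⊤) (c : P) (hc : c ∈ Subgroup.center P) :
    ∃ l : K, ∀ v, ρ c v = l • v := by
  refine schur ρ hirr ((ρ c : V ≃ₗ[K] V) : V →ₗ[K] V) ?_
  intro g v
  change ρ c (ρ g v) = ρ g (ρ c v)
  rw [← LinearEquiv.mul_apply, ← LinearEquiv.mul_apply, ← map_mul, ← map_mul,
    (Subgroup.mem_center_iff.1 hc g)]

/-- In a nonabelian finite `p`-group there is a noncentral element all of whose commutators are
central. -/
theorem exists_noncentral_central_commutators {p : ℕ} [Fact p.Prime] [Finite P]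
    (hP : IsPGroup p P) (hnc : Subgroup.center P ≠ ⊤) :
    ∃ z : P, z ∉ Subgroup.center P ∧ ∀ g : P, ⁅z, g⁆ ∈ Subgroup.center P := by
  have hnt : Nontrivial (P ⧸ Subgroup.center P) := by
    by_contra h
    rw [not_nontrivial_iff_subsingleton] at h
    apply hnc
    rw [eq_top_iff]
    intro g _
    have : (QuotientGroup.mk g : P ⧸ Subgroup.center P) = QuotientGroup.mk 1 :=
      Subsingleton.elim _ _
    rw [QuotientGroup.mk_one, QuotientGroup.eq_one_iff] at this
    exact this
  have hQ : IsPGroup p (P ⧸ Subgroup.center P) := hP.to_quotient _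
  have hcen := hQ.center_nontrivial
  obtain ⟨⟨zb, hzb⟩, hzne⟩ := exists_ne (1 : Subgroup.center (P ⧸ Subgroup.center P))
  obtain ⟨z, rfl⟩ := QuotientGroup.mk_surjective zb
  refine ⟨z, ?_, ?_⟩
  · intro hz
    apply hzne
    ext
    exact (QuotientGroup.eq_one_iff z).2 hz
  · intro g
    rw [← QuotientGroup.eq_one_iff]
    have h1 := Subgroup.mem_center_iff.1 hzb (QuotientGroup.mk g)
    have : ((⁅z, g⁆ : P) : P ⧸ Subgroup.center P) =
        ⁅(QuotientGroup.mk z : P ⧸ Subgroup.center P), QuotientGroup.mk g⁆ := by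
      simp [commutatorElement_def]
    rw [this, commutatorElement_eq_one_iff_commute]
    exact h1.symm

/-- `g ↦ ⁅z, g⁆` as a homomorphism, when all commutators with `z` are central. -/
def commHom (z : P) (hz : ∀ g : P, ⁅z, g⁆ ∈ Subgroup.center P) : P →* P :=
  MonoidHom.mk' (fun g => ⁅z, g⁆) (by
    intro g h
    have h1 := Subgroup.mem_center_iff.1 (hz h)
    simp only [commutatorElement_def] at h1 ⊢
    have h2 := h1 g⁻¹
    calc z * (g * h) * z⁻¹ * (g * h)⁻¹
        = z * g * (z⁻¹ * (z * h * z⁻¹ * h⁻¹)) * g⁻¹ := by group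
      _ = z * g * z⁻¹ * ((z * h * z⁻¹ * h⁻¹) * g⁻¹) := by simp only [mul_assoc]
      _ = z * g * z⁻¹ * (g⁻¹ * (z * h * z⁻¹ * h⁻¹)) := by rw [h2]
      _ = z * g * z⁻¹ * g⁻¹ * (z * h * z⁻¹ * h⁻¹) := by simp only [mul_assoc])

theorem commHom_apply (z : P) (hz : ∀ g : P, ⁅z, g⁆ ∈ Subgroup.center P) (g : P) :
    commHom z hz g = ⁅z, g⁆ := rfl

theorem commutator_le_ker_commHom (z : P) (hz : ∀ g : P, ⁅z, g⁆ ∈ Subgroup.center P) :
    commutator P ≤ (commHom z hz).ker := by
  rw [commutator_def, Subgroup.commutator_le]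
  intro a _ b _
  rw [MonoidHom.mem_ker, map_commutatorElement, commutatorElement_eq_one_iff_commute]
  exact (Subgroup.mem_center_iff.1 (hz a) _).symm

theorem mem_ker_commHom_iff (z : P) (hz : ∀ g : P, ⁅z, g⁆ ∈ Subgroup.center P) (g : P) :
    g ∈ (commHom z hz).ker ↔ z * g = g * z := by
  rw [MonoidHom.mem_ker, commHom_apply, commutatorElement_eq_one_iff_commute]
  rfl


/-- Clifford-style block decomposition for an irreducible faithful representation of a
nonabelian `p`-group: there are a normal subgroup `M` containing the commutator subgroup and a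
subspace `E` of at most half the dimension whose translates are `M`-invariant and span `V`. -/
theorem exists_blocks {p : ℕ} [Fact p.Prime] [IsAlgClosed K] [FiniteDimensional K V]
    [Nontrivial V] [Finite P] (hP : IsPGroup p P) (ρ : P →* (V ≃ₗ[K] V))
    (hρ : Function.Injective ρ)
    (hirr : ∀ W : Submodule K V, Inv ρ W → W = ⊥ ∨ W = ⊤) (hnc : Subgroup.center P ≠ ⊤) :
    ∃ (M : Subgroup P) (E : Submodule K V), commutator P ≤ M ∧
      (∀ g : P, Inv (ρ.comp M.subtype) (E.map ((ρ g : V ≃ₗ[K] V) : V →ₗ[K] V))) ∧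
      (⨆ g : P, E.map ((ρ g : V ≃ₗ[K] V) : V →ₗ[K] V)) = ⊤ ∧
      1 ≤ Module.finrank K E ∧ 2 * Module.finrank K E ≤ Module.finrank K V := by
  obtain ⟨z, hzc, hz⟩ := exists_noncentral_central_commutators hP hnc
  set T : V →ₗ[K] V := ((ρ z : V ≃ₗ[K] V) : V →ₗ[K] V) with hT
  have hTapp : ∀ v, T v = ρ z v := fun v => rfl
  obtain ⟨μ, hμ⟩ := Module.End.exists_eigenvalue T
  set E := Module.End.eigenspace T μ with hE
  have hEbot : E ≠ ⊥ := Module.End.hasEigenvalue_iff.1 hμ
  have key : ∀ g : P, ∃ l : K, ∀ (ν : K) (v : V), v ∈ Module.End.eigenspace T ν →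
      ρ g v ∈ Module.End.eigenspace T (l * ν) := by
    intro g
    obtain ⟨l, hl⟩ := central_scalar ρ hirr ⁅z, g⁆ (hz g)
    refine ⟨l, ?_⟩
    intro ν v hv
    rw [Module.End.mem_eigenspace_iff] at hv ⊢
    have h1 : z * g = ⁅z, g⁆ * g * z := by simp [commutatorElement_def]
    rw [hTapp, ← LinearEquiv.mul_apply, ← map_mul, h1, map_mul, map_mul, LinearEquiv.mul_apply,
      LinearEquiv.mul_apply, hl, ← hTapp, hv, map_smul, smul_smul]
  -- elements commuting with `z` preserve `E`
  have hcomm : ∀ x : P, z * x = x * z → ∀ e ∈ E, ρ x e ∈ E := by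
    intro x hx e he
    rw [hE, Module.End.mem_eigenspace_iff] at he ⊢
    rw [hTapp, ← LinearEquiv.mul_apply, ← map_mul, hx, map_mul, LinearEquiv.mul_apply, ← hTapp,
      he, map_smul]
  have hinvM : ∀ g : P, Inv (ρ.comp ((commHom z hz).ker).subtype)
      (E.map ((ρ g : V ≃ₗ[K] V) : V →ₗ[K] V)) := by
    intro g m w hw
    obtain ⟨e, he, rfl⟩ := hw
    have hm : g⁻¹ * (m : P) * g ∈ (commHom z hz).ker := by
      have := (MonoidHom.normal_ker (commHom z hz)).conj_mem _ m.2 g⁻¹
      simpa using this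
    refine ⟨ρ (g⁻¹ * (m : P) * g) e, hcomm _ ((mem_ker_commHom_iff z hz _).1 hm) e he, ?_⟩
    change ρ g (ρ (g⁻¹ * (m : P) * g) e) = ρ (m : P) (ρ g e)
    rw [← LinearEquiv.mul_apply, ← LinearEquiv.mul_apply, ← map_mul, ← map_mul]
    congr 2
    group
  have hsup : (⨆ g : P, E.map ((ρ g : V ≃ₗ[K] V) : V →ₗ[K] V)) = ⊤ := by
    have hinv : Inv ρ (⨆ g : P, E.map ((ρ g : V ≃ₗ[K] V) : V →ₗ[K] V)) := by
      intro h w hw
      have hle : (⨆ g : P, E.map ((ρ g : V ≃ₗ[K] V) : V →ₗ[K] V)) ≤
          (⨆ g : P, E.map ((ρ g : V ≃ₗ[K] V) : V →ₗ[K] V)).comap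
            ((ρ h : V ≃ₗ[K] V) : V →ₗ[K] V) := by
        apply iSup_le
        intro g w hw
        obtain ⟨e, he, rfl⟩ := hw
        rw [Submodule.mem_comap]
        have : E.map ((ρ (h * g) : V ≃ₗ[K] V) : V →ₗ[K] V) ≤
            (⨆ g : P, E.map ((ρ g : V ≃ₗ[K] V) : V →ₗ[K] V)) :=
          le_iSup (fun g : P => E.map ((ρ g : V ≃ₗ[K] V) : V →ₗ[K] V)) (h * g)
        apply this
        refine ⟨e, he, ?_⟩
        change ρ (h * g) e = ρ h (ρ g e)
        rw [map_mul, LinearEquiv.mul_apply]
      exact hle hw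
    rcases hirr _ hinv with h | h
    · exfalso
      apply hEbot
      rw [eq_bot_iff, ← h]
      have : E.map ((ρ 1 : V ≃ₗ[K] V) : V →ₗ[K] V) ≤
          (⨆ g : P, E.map ((ρ g : V ≃ₗ[K] V) : V →ₗ[K] V)) :=
        le_iSup (fun g : P => E.map ((ρ g : V ≃ₗ[K] V) : V →ₗ[K] V)) 1
      refine le_trans ?_ this
      intro e he
      exact ⟨e, he, by simp⟩
    · exact h
  refine ⟨(commHom z hz).ker, E, commutator_le_ker_commHom z hz, hinvM, hsup,
    Submodule.one_le_finrank_iff.2 hEbot, ?_⟩
  -- `E ≠ ⊤`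
  have hEtop : E ≠ ⊤ := by
    intro h
    apply hzc
    rw [Subgroup.mem_center_iff]
    intro g
    apply hρ
    ext v
    have hv : ∀ w : V, ρ z w = μ • w := by
      intro w
      have : w ∈ E := by rw [h]; trivial
      rw [hE, Module.End.mem_eigenspace_iff] at this
      exact this
    rw [map_mul, map_mul, LinearEquiv.mul_apply, LinearEquiv.mul_apply, hv, hv, map_smul]
  -- some translate is not inside `E`
  have hex : ∃ g₀ : P, ¬ E.map ((ρ g₀ : V ≃ₗ[K] V) : V →ₗ[K] V) ≤ E := by
    by_contra hcon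
    push Not at hcon
    apply hEtop
    rw [eq_top_iff, ← hsup]
    exact iSup_le hcon
  obtain ⟨g₀, hg₀⟩ := hex
  obtain ⟨l, hl⟩ := key g₀
  have hle : E.map ((ρ g₀ : V ≃ₗ[K] V) : V →ₗ[K] V) ≤ Module.End.eigenspace T (l * μ) := by
    rintro _ ⟨e, he, rfl⟩
    exact hl μ e he
  have hne : l * μ ≠ μ := by
    intro h
    apply hg₀
    rw [h] at hle
    exact hle
  have hdisj : Disjoint E (E.map ((ρ g₀ : V ≃ₗ[K] V) : V →ₗ[K] V)) := by
    rw [Submodule.disjoint_def]
    intro v hv1 hv2
    have h1 := Module.End.mem_eigenspace_iff.1 hv1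
    have h2 := Module.End.mem_eigenspace_iff.1 (hle hv2)
    have h3 : (l * μ - μ) • v = 0 := by
      rw [sub_smul, ← h1, ← h2, sub_self]
    exact (smul_eq_zero.1 h3).resolve_left (sub_ne_zero.2 hne)
  have h1 := Submodule.finrank_add_finrank_le_of_disjoint hdisj
  have h2 : Module.finrank K (E.map ((ρ g₀ : V ≃ₗ[K] V) : V →ₗ[K] V)) = Module.finrank K E :=
    LinearEquiv.finrank_map_eq (ρ g₀) E
  omega


universe u v

/-- The inductive step (faithful case) for the coprime-characteristic bound. -/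
theorem step_faithful {K : Type*} [Field K] [IsAlgClosed K] {p : ℕ} [Fact p.Prime]
    (hpK : (p : K) ≠ 0) (n : ℕ)
    (IH : ∀ m < n, ∀ (P : Type u) [Group P] [Finite P] (_ : IsPGroup p P) (V : Type v)
      [AddCommGroup V] [Module K V] [FiniteDimensional K V] (ρ : P →* (V ≃ₗ[K] V)),
      Module.finrank K V = m → derivedSeries P (Nat.log 2 m + 1) ≤ ρ.ker)
    (P : Type u) [Group P] [Finite P] (hP : IsPGroup p P) (V : Type v)
    [AddCommGroup V] [Module K V] [FiniteDimensional K V] (ρ : P →* (V ≃ₗ[K] V))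
    (hρ : Function.Injective ρ) (hn : Module.finrank K V = n) :
    derivedSeries P (Nat.log 2 n + 1) = ⊥ := by
  classical
  rcases Nat.eq_zero_or_pos n with h0 | hpos
  · rw [h0] at hn
    have hsub : Subsingleton V := Module.finrank_zero_iff.1 hn
    have : Subsingleton P := ⟨fun a b => hρ (by ext v; exact Subsingleton.elim _ _)⟩
    exact Subsingleton.elim _ _
  have hnt : Nontrivial V := Module.finrank_pos_iff.1 (hn ▸ hpos)
  by_cases hred : ∃ W : Submodule K V, Inv ρ W ∧ W ≠ ⊥ ∧ W ≠ ⊤
  · obtain ⟨W, hW, hWbot, hWtop⟩ := hred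
    have hm1 : Module.finrank K W < n := hn ▸ Submodule.finrank_lt hWtop
    have hm2 : Module.finrank K (V ⧸ W) < n := by
      have h1 := W.finrank_quotient_add_finrank
      have h2 : 1 ≤ Module.finrank K W := Submodule.one_le_finrank_iff.2 hWbot
      omega
    have h1 := IH _ hm1 P hP W (subRep ρ W hW) rfl
    have h2 := IH _ hm2 P hP (V ⧸ W) (quotRep ρ W hW) rfl
    rw [eq_bot_iff]
    intro g hg
    rw [Subgroup.mem_bot]
    apply hρ
    rw [map_one]
    have hg1 : g ∈ (subRep ρ W hW).ker :=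
      h1 (derivedSeries_antitone P (Nat.add_le_add_right (Nat.log_mono_right hm1.le) 1) hg)
    have hg2 : g ∈ (quotRep ρ W hW).ker :=
      h2 (derivedSeries_antitone P (Nat.add_le_add_right (Nat.log_mono_right hm2.le) 1) hg)
    obtain ⟨e, he⟩ := hP g
    apply eq_one_of_unipotent hpK (ρ g) e (by rw [← map_pow, he, map_one]) W
    · intro w hw
      have h3 := MonoidHom.mem_ker.1 hg1
      have h4 := subRep_apply ρ W hW g ⟨w, hw⟩
      rw [h3] at h4
      simpa using h4.symm
    · intro v
      have h3 := MonoidHom.mem_ker.1 hg2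
      have h4 := quotRep_mk ρ W hW g v
      rw [h3] at h4
      exact (Submodule.Quotient.eq _).1 h4.symm
  · have hirr : ∀ W : Submodule K V, Inv ρ W → W = ⊥ ∨ W = ⊤ := by
      intro W hW
      by_contra h
      push Not at h
      exact hred ⟨W, hW, h.1, h.2⟩
    by_cases hab : Subgroup.center P = ⊤
    · have h1 : derivedSeries P 1 = ⊥ := by
        rw [derivedSeries_one, commutator_eq_bot_iff_center_eq_top]; exact hab
      rw [eq_bot_iff, ← h1]
      exact derivedSeries_antitone P (by omega)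
    · obtain ⟨M, E, hcM, hinv, hsup, hE1, hE2⟩ := exists_blocks hP ρ hρ hirr hab
      have hMder : derivedSeries M (Nat.log 2 n) = ⊥ := by
        rw [eq_bot_iff]
        intro x hx
        rw [Subgroup.mem_bot]
        have hfix : ∀ g : P, ∀ w ∈ E.map ((ρ g : V ≃ₗ[K] V) : V →ₗ[K] V),
            ρ (x : P) w = w := by
          intro g w hw
          have hdim : Module.finrank K (E.map ((ρ g : V ≃ₗ[K] V) : V →ₗ[K] V)) =
              Module.finrank K E := LinearEquiv.finrank_map_eq (ρ g) E
          have hlt : Module.finrank K (E.map ((ρ g : V ≃ₗ[K] V) : V →ₗ[K] V)) < n := by omega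
          have h1 := IH _ hlt M (hP.to_subgroup M) (E.map ((ρ g : V ≃ₗ[K] V) : V →ₗ[K] V))
            (subRep (ρ.comp M.subtype) _ (hinv g)) rfl
          have hlog : Nat.log 2 (Module.finrank K (E.map ((ρ g : V ≃ₗ[K] V) : V →ₗ[K] V))) + 1
              ≤ Nat.log 2 n := by
            rw [hdim]
            calc Nat.log 2 (Module.finrank K E) + 1
                = Nat.log 2 (Module.finrank K E * 2) :=
                  (Nat.log_mul_base (by norm_num) (by omega)).symm
              _ ≤ Nat.log 2 n := Nat.log_mono_right (by omega)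
          have hx1 := h1 (derivedSeries_antitone M hlog hx)
          have h3 := MonoidHom.mem_ker.1 hx1
          have h4 := subRep_apply (ρ.comp M.subtype) _ (hinv g) x ⟨w, hw⟩
          rw [h3] at h4
          simpa using h4.symm
        have hall : ∀ v : V, ρ (x : P) v = v := by
          let Fx : Submodule K V :=
            LinearMap.eqLocus ((ρ (x : P) : V ≃ₗ[K] V) : V →ₗ[K] V) LinearMap.id
          have hle : (⨆ g : P, E.map ((ρ g : V ≃ₗ[K] V) : V →ₗ[K] V)) ≤ Fx := by
            apply iSup_le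
            intro g w hw
            rw [LinearMap.mem_eqLocus]
            exact hfix g w hw
          intro v
          have hv : v ∈ Fx := hle (by rw [hsup]; trivial)
          rw [LinearMap.mem_eqLocus] at hv
          exact hv
        apply Subtype.ext
        apply hρ
        ext v
        simp [hall]
      rw [eq_bot_iff]
      refine (derivedSeries_succ_le_map M hcM _).trans ?_
      rw [hMder, Subgroup.map_bot]

/-- **Coprime characteristic case**: a finite `p`-group acting on an `n`-dimensional space over an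
algebraically closed field in which `p` is invertible acts through a group of derived length at
most `⌊log₂ n⌋ + 1`. -/
theorem derivedSeries_le_ker_of_coprime {K : Type*} [Field K] [IsAlgClosed K] {p : ℕ}
    [Fact p.Prime] (hpK : (p : K) ≠ 0) :
    ∀ (n : ℕ) (P : Type u) [Group P] [Finite P] (_ : IsPGroup p P) (V : Type v)
      [AddCommGroup V] [Module K V] [FiniteDimensional K V] (ρ : P →* (V ≃ₗ[K] V)),
      Module.finrank K V = n → derivedSeries P (Nat.log 2 n + 1) ≤ ρ.ker := by
  intro n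
  induction n using Nat.strong_induction_on with
  | _ n IH =>
    intro P _ _ hP V _ _ _ ρ hn
    apply derivedSeries_le_ker_of_quotient
    exact step_faithful hpK n IH (P ⧸ ρ.ker) (hP.to_quotient _) V (QuotientGroup.kerLift ρ)
      (QuotientGroup.kerLift_injective ρ) hn

end Cfsg.Agent.Lib.Helper87.LinRep
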