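/-
helper87: module [S4015-BLKP] for helper15: the Clifford-style block decomposition of `LinRep.exists_blocks`
with the sharper bound `p * dim E ≤ dim V`.
Namespace `Cfsg.Agent.Lib.Helper87.LinRep`.
-/
import Cfsg.Agent.Lib.Helper87.LinRepCoprime

set_option autoImplicit false
open scoped commutatorElement

namespace Cfsg.Agent.Lib.Helper87.LinRep

variable {K : Type*} [Field K] {P : Type*} [Group P] {V : Type*} [AddCommGroup V] [Module K V]

/-- the dimensions of an independent finite family of subspaces add up to at most `dim V`. -/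
theorem sum_finrank_le_of_iSupIndep [FiniteDimensional K V] {ι : Type*} [DecidableEq ι]
    (t : ι → Submodule K V) (h : iSupIndep t) (s : Finset ι) :
    ∑ i ∈ s, Module.finrank K (t i) = Module.finrank K ↥(⨆ i ∈ s, t i) := by
  induction s using Finset.induction_on with
  | empty =>
    have h0 : (⨆ i ∈ (∅ : Finset ι), t i) = ⊥ := by simp
    rw [h0, Finset.sum_empty, finrank_bot]
  | insert a s ha ih =>
    rw [Finset.sum_insert ha, Finset.iSup_insert, ih]
    have hd : Disjoint (t a) (⨆ i ∈ s, t i) := by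
      have := h.disjoint_biSup (x := a) (y := (↑s : Set ι)) (by simpa using ha)
      simpa using this
    have h1 := Submodule.finrank_sup_add_finrank_inf_eq (t a) (⨆ i ∈ s, t i)
    rw [hd.eq_bot, finrank_bot, add_zero] at h1
    exact h1.symm

/-- module [S4015-BLKP] (helper15 #3773), exact statement. -/
theorem exists_blocks_p {K : Type*} [Field K] {P : Type*} [Group P] {V : Type*} [AddCommGroup V] [Module K V]
    {p : ℕ} [Fact p.Prime] [IsAlgClosed K] [FiniteDimensional K V]
    [Nontrivial V] [Finite P] (hP : IsPGroup p P) (ρ : P →* (V ≃ₗ[K] V))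
    (hρ : Function.Injective ρ)
    (hirr : ∀ W : Submodule K V, Inv ρ W → W = ⊥ ∨ W = ⊤) (hnc : Subgroup.center P ≠ ⊤) :
    ∃ (M : Subgroup P) (E : Submodule K V), commutator P ≤ M ∧
      (∀ g : P, Inv (ρ.comp M.subtype) (E.map ((ρ g : V ≃ₗ[K] V) : V →ₗ[K] V))) ∧
      (⨆ g : P, E.map ((ρ g : V ≃ₗ[K] V) : V →ₗ[K] V)) = ⊤ ∧
      1 ≤ Module.finrank K E ∧ p * Module.finrank K E ≤ Module.finrank K V := by
  classical
  have hp : p.Prime := Fact.out
  obtain ⟨z, hzc, hz⟩ := exists_noncentral_central_commutators hP hnc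
  set T : V →ₗ[K] V := ((ρ z : V ≃ₗ[K] V) : V →ₗ[K] V) with hT
  have hTapp : ∀ v, T v = ρ z v := fun v => rfl
  obtain ⟨μ, hμ⟩ := Module.End.exists_eigenvalue T
  set E := Module.End.eigenspace T μ with hE
  have hEbot : E ≠ ⊥ := Module.End.hasEigenvalue_iff.1 hμ
  have key : ∀ g : P, ∃ l : K, (∀ v, ρ ⁅z, g⁆ v = l • v) ∧ ∀ (ν : K) (v : V),
      v ∈ Module.End.eigenspace T ν → ρ g v ∈ Module.End.eigenspace T (l * ν) := by
    intro g
    obtain ⟨l, hl⟩ := central_scalar ρ hirr ⁅z, g⁆ (hz g)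
    refine ⟨l, hl, ?_⟩
    intro ν v hv
    rw [Module.End.mem_eigenspace_iff] at hv ⊢
    have h1 : z * g = ⁅z, g⁆ * g * z := by simp [commutatorElement_def]
    rw [hTapp, ← LinearEquiv.mul_apply, ← map_mul, h1, map_mul, map_mul, LinearEquiv.mul_apply,
      LinearEquiv.mul_apply, hl, ← hTapp, hv, map_smul, smul_smul]
  -- elements commuting with `z` preserve `E`
  have hcomm : ∀ x : P, z * x = x * z → ∀ e ∈ E, ρ x e ∈ E := by
    intro x hx e he
    rw [hE, Module.End.mem_eigenspace_iff] at he ⊢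
    rw [hTapp, ← LinearEquiv.mul_apply, ← map_mul, hx, map_mul, LinearEquiv.mul_apply, ← hTapp,
      he, map_smul]
  have hinvM : ∀ g : P, Inv (ρ.comp ((commHom z hz).ker).subtype)
      (E.map ((ρ g : V ≃ₗ[K] V) : V →ₗ[K] V)) := by
    intro g m w hw
    obtain ⟨e, he, rfl⟩ := hw
    have hm : g⁻¹ * (m : P) * g ∈ (commHom z hz).ker := by
      have := (MonoidHom.normal_ker (commHom z hz)).conj_mem _ m.2 g⁻¹
      simpa using this
    refine ⟨ρ (g⁻¹ * (m : P) * g) e, hcomm _ ((mem_ker_commHom_iff z hz _).1 hm) e he, ?_⟩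
    change ρ g (ρ (g⁻¹ * (m : P) * g) e) = ρ (m : P) (ρ g e)
    rw [← LinearEquiv.mul_apply, ← LinearEquiv.mul_apply, ← map_mul, ← map_mul]
    congr 2
    group
  have hsup : (⨆ g : P, E.map ((ρ g : V ≃ₗ[K] V) : V →ₗ[K] V)) = ⊤ := by
    have hinv : Inv ρ (⨆ g : P, E.map ((ρ g : V ≃ₗ[K] V) : V →ₗ[K] V)) := by
      intro h w hw
      have hle : (⨆ g : P, E.map ((ρ g : V ≃ₗ[K] V) : V →ₗ[K] V)) ≤
          (⨆ g : P, E.map ((ρ g : V ≃ₗ[K] V) : V →ₗ[K] V)).comap
            ((ρ h : V ≃ₗ[K] V) : V →ₗ[K] V) := by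
        apply iSup_le
        intro g w hw
        obtain ⟨e, he, rfl⟩ := hw
        rw [Submodule.mem_comap]
        have : E.map ((ρ (h * g) : V ≃ₗ[K] V) : V →ₗ[K] V) ≤
            (⨆ g : P, E.map ((ρ g : V ≃ₗ[K] V) : V →ₗ[K] V)) :=
          le_iSup (fun g : P => E.map ((ρ g : V ≃ₗ[K] V) : V →ₗ[K] V)) (h * g)
        apply this
        refine ⟨e, he, ?_⟩
        change ρ (h * g) e = ρ h (ρ g e)
        rw [map_mul, LinearEquiv.mul_apply]
      exact hle hw
    rcases hirr _ hinv with h | h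
    · exfalso
      apply hEbot
      rw [eq_bot_iff, ← h]
      have : E.map ((ρ 1 : V ≃ₗ[K] V) : V →ₗ[K] V) ≤
          (⨆ g : P, E.map ((ρ g : V ≃ₗ[K] V) : V →ₗ[K] V)) :=
        le_iSup (fun g : P => E.map ((ρ g : V ≃ₗ[K] V) : V →ₗ[K] V)) 1
      refine le_trans ?_ this
      intro e he
      exact ⟨e, he, by simp⟩
    · exact h
  refine ⟨(commHom z hz).ker, E, commutator_le_ker_commHom z hz, hinvM, hsup,
    Submodule.one_le_finrank_iff.2 hEbot, ?_⟩
  -- `E ≠ ⊤`
  have hEtop : E ≠ ⊤ := by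
    intro h
    apply hzc
    rw [Subgroup.mem_center_iff]
    intro g
    apply hρ
    ext v
    have hv : ∀ w : V, ρ z w = μ • w := by
      intro w
      have : w ∈ E := by rw [h]; trivial
      rw [hE, Module.End.mem_eigenspace_iff] at this
      exact this
    rw [map_mul, map_mul, LinearEquiv.mul_apply, LinearEquiv.mul_apply, hv, hv, map_smul]
  -- some translate is not inside `E`
  have hex : ∃ g₀ : P, ¬ E.map ((ρ g₀ : V ≃ₗ[K] V) : V →ₗ[K] V) ≤ E := by
    by_contra hcon
    push Not at hcon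
    apply hEtop
    rw [eq_top_iff, ← hsup]
    exact iSup_le hcon
  obtain ⟨g₀, hg₀⟩ := hex
  obtain ⟨l, hlc, hl⟩ := key g₀
  have hle : E.map ((ρ g₀ : V ≃ₗ[K] V) : V →ₗ[K] V) ≤ Module.End.eigenspace T (l * μ) := by
    rintro _ ⟨e, he, rfl⟩
    exact hl μ e he
  have hne : l * μ ≠ μ := by
    intro h
    apply hg₀
    rw [h] at hle
    exact hle
  have hl1 : l ≠ 1 := by
    intro h
    apply hne
    rw [h, one_mul]
  -- `μ ≠ 0`
  have hμ0 : μ ≠ 0 := by
    intro h
    obtain ⟨v, hv⟩ := hμ.exists_hasEigenvector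
    have h1 := Module.End.mem_eigenspace_iff.1 hv.1
    rw [h, zero_smul, hTapp] at h1
    apply hv.2
    have := congrArg (fun w => (ρ z).symm w) h1
    simpa using this
  -- `l ^ (p ^ a) = 1`
  obtain ⟨a, ha⟩ := hP ⁅z, g₀⁆
  have hpow : ∀ (n : ℕ) (v : V), ρ (⁅z, g₀⁆ ^ n) v = l ^ n • v := by
    intro n
    induction n with
    | zero => intro v; simp
    | succ n ih =>
      intro v
      rw [pow_succ, map_mul, LinearEquiv.mul_apply, hlc, map_smul, ih, smul_smul, pow_succ,
        mul_comm]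
  have hla : l ^ (p ^ a) = 1 := by
    obtain ⟨v, hv⟩ := exists_ne (0 : V)
    have h1 : v = l ^ (p ^ a) • v := by
      have := hpow (p ^ a) v
      rw [ha, map_one] at this
      exact this
    have h2 : (l ^ (p ^ a) - 1) • v = 0 := by
      rw [sub_smul, one_smul, ← h1, sub_self]
    have := (smul_eq_zero.1 h2).resolve_right hv
    exact sub_eq_zero.1 this
  -- `l ^ i ≠ 1` for `0 < i < p`
  have hli : ∀ i : ℕ, 0 < i → i < p → l ^ i ≠ 1 := by
    intro i hi0 hip h
    have h1 : orderOf l ∣ p ^ a := orderOf_dvd_of_pow_eq_one hla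
    obtain ⟨b, _, hb⟩ := (Nat.dvd_prime_pow hp).1 h1
    have hb0 : b ≠ 0 := by
      rintro rfl
      rw [pow_zero, orderOf_eq_one_iff] at hb
      exact hl1 hb
    have h2 : p ∣ orderOf l := by
      rw [hb]
      exact dvd_pow_self p hb0
    have h3 : orderOf l ∣ i := orderOf_dvd_of_pow_eq_one h
    have := Nat.le_of_dvd hi0 (h2.trans h3)
    omega
  have hinj : Function.Injective (fun i : Fin p => l ^ (i : ℕ) * μ) := by
    have aux : ∀ i j : ℕ, i < j → j < p → l ^ i * μ ≠ l ^ j * μ := by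
      intro i j hij hjp h
      have h1 : l ^ i = l ^ j := mul_right_cancel₀ hμ0 h
      have hl0 : l ≠ 0 := by
        intro h0
        rw [h0, zero_pow (pow_pos hp.pos a).ne'] at hla
        exact zero_ne_one hla
      have h2 : l ^ (j - i) = 1 := by
        have h3 : l ^ j = l ^ i * l ^ (j - i) := by
          rw [← pow_add]
          congr 1
          omega
        rw [h3] at h1
        have h4 : l ^ i * 1 = l ^ i * l ^ (j - i) := by rw [mul_one]; exact h1
        exact (mul_left_cancel₀ (pow_ne_zero i hl0) h4).symm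
      exact hli (j - i) (by omega) (by omega) h2
    intro i j hij
    by_contra hne'
    rcases Nat.lt_or_gt_of_ne (fun h => hne' (Fin.ext h)) with h | h
    · exact aux i j h j.2 hij
    · exact aux j i h i.2 hij.symm
  have hind : iSupIndep (fun i : Fin p => Module.End.eigenspace T (l ^ (i : ℕ) * μ)) :=
    (Module.End.eigenspaces_iSupIndep T).comp hinj
  -- each of these eigenspaces has dimension at least `dim E`
  have hdim : ∀ i : ℕ, Module.finrank K E ≤ Module.finrank K (Module.End.eigenspace T (l ^ i * μ)) := by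
    intro i
    have hmap : E.map ((ρ (g₀ ^ i) : V ≃ₗ[K] V) : V →ₗ[K] V) ≤
        Module.End.eigenspace T (l ^ i * μ) := by
      induction i with
      | zero =>
        rintro _ ⟨e, he, rfl⟩
        rw [hE] at he
        simpa using he
      | succ i ih =>
        rintro _ ⟨e, he, rfl⟩
        have h1 : ρ (g₀ ^ i) e ∈ Module.End.eigenspace T (l ^ i * μ) := ih ⟨e, he, rfl⟩
        have h2 := hl _ _ h1
        have e1 : ((ρ (g₀ ^ (i + 1)) : V ≃ₗ[K] V) : V →ₗ[K] V) e = ρ g₀ (ρ (g₀ ^ i) e) := by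
          change ρ (g₀ ^ (i + 1)) e = _
          rw [pow_succ', map_mul, LinearEquiv.mul_apply]
        rw [e1, pow_succ', mul_assoc]
        exact h2
    have h2 : Module.finrank K (E.map ((ρ (g₀ ^ i) : V ≃ₗ[K] V) : V →ₗ[K] V)) = Module.finrank K E :=
      LinearEquiv.finrank_map_eq (ρ (g₀ ^ i)) E
    rw [← h2]
    exact Submodule.finrank_mono hmap
  have hsum := sum_finrank_le_of_iSupIndep _ hind Finset.univ
  have hle2 : Module.finrank K ↥(⨆ i ∈ (Finset.univ : Finset (Fin p)),
      Module.End.eigenspace T (l ^ (i : ℕ) * μ)) ≤ Module.finrank K V := Submodule.finrank_le _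
  have hge : p * Module.finrank K E ≤
      ∑ i : Fin p, Module.finrank K (Module.End.eigenspace T (l ^ (i : ℕ) * μ)) := by
    have : ∑ _i : Fin p, Module.finrank K E ≤
        ∑ i : Fin p, Module.finrank K (Module.End.eigenspace T (l ^ (i : ℕ) * μ)) :=
      Finset.sum_le_sum (fun i _ => hdim i)
    simpa using this
  omega

end Cfsg.Agent.Lib.Helper87.LinRep
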