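import Mathlib
import Cfsg.Agent.Lib.Helper1.ThompsonFpf
import Cfsg.Agent.Lib.Helper48.Generation
import Cfsg.Agent.Lib.Helper65.NilpBasic

/-!
# A relative form of Thompson's fixed-point-free theorem (helper87)

Module [M1] of helper76's S4306 plan: if `f` of prime order `r` normalizes `N ⊴ L` with `L` an
`r'`-group and `C_L(f) ≤ N`, then `L / N` is nilpotent; in the elementwise form: elements of `L`
of coprime orders commute modulo `N`.
-/

set_option autoImplicit false

namespace Cfsg.Agent.Lib.Helper87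

open scoped commutatorElement

/-- Conjugation by an element of the normalizer, as an automorphism of the subgroup. -/
def conjAutOfNormalizer {X : Type*} [Group X] (L : Subgroup X) (f : X)
    (hfL : f ∈ Subgroup.normalizer (L : Set X)) : L ≃* L where
  toFun x := ⟨f * x * f⁻¹, (Subgroup.mem_normalizer_iff.mp hfL x).mp x.2⟩
  invFun x := ⟨f⁻¹ * x * f, by
    have h := (Subgroup.mem_normalizer_iff.mp (Subgroup.inv_mem _ hfL) x).mp x.2
    simpa using h⟩
  left_inv x := by ext; simp [mul_assoc]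
  right_inv x := by ext; simp [mul_assoc]
  map_mul' x y := by ext; simp [mul_assoc]

@[simp] theorem conjAutOfNormalizer_coe {X : Type*} [Group X] (L : Subgroup X) (f : X)
    (hfL : f ∈ Subgroup.normalizer (L : Set X)) (x : L) :
    ((conjAutOfNormalizer L f hfL x : L) : X) = f * x * f⁻¹ := rfl

theorem conjAutOfNormalizer_pow_coe {X : Type*} [Group X] (L : Subgroup X) (f : X)
    (hfL : f ∈ Subgroup.normalizer (L : Set X)) (k : ℕ) (x : L) :
    ((((conjAutOfNormalizer L f hfL : MulAut L) ^ k) x : L) : X) = f ^ k * x * (f ^ k)⁻¹ := by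
  induction k generalizing x with
  | zero => simp
  | succ k ih =>
    rw [pow_succ, MulAut.mul_apply, ih, conjAutOfNormalizer_coe, pow_succ]
    group

/-- **Module [M1]** (relative Thompson): `f` of prime order `r` normalizing `N ⊴ L`, `L` an
`r'`-group, `C_L(f) ≤ N`.  Then elements of `L` of coprime orders commute modulo `N`. -/
theorem thompson_sub {X : Type*} [Group X] [Finite X] {r : ℕ} (hr : r.Prime) (f : X)
    (hf : f ^ r = 1) (L N : Subgroup X) (hNL : N ≤ L)
    (hLN : L ≤ Subgroup.normalizer (N : Set X))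
    (hfL : f ∈ Subgroup.normalizer (L : Set X)) (hfN : f ∈ Subgroup.normalizer (N : Set X))
    (hrL : ¬ r ∣ Nat.card L) (hC : ∀ x ∈ L, x * f = f * x → x ∈ N) :
    ∀ x ∈ L, ∀ y ∈ L, (orderOf x).Coprime (orderOf y) → ⁅x, y⁆ ∈ N := by
  classical
  have : Fact r.Prime := ⟨hr⟩
  have hnorm : (N.subgroupOf L).Normal := Subgroup.normal_subgroupOf_of_le_normalizer hLN
  set φ : L ≃* L := conjAutOfNormalizer L f hfL with hφdef
  have hinv : Cfsg.Agent.Lib.Helper1.AutInv φ (N.subgroupOf L) := by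
    apply Cfsg.Agent.Lib.Helper1.autInv_of_forall_mem
    intro x hx
    rw [Subgroup.mem_subgroupOf] at hx ⊢
    rw [hφdef, conjAutOfNormalizer_coe]
    exact (Subgroup.mem_normalizer_iff.mp hfN _).mp hx
  set ψ : (L ⧸ N.subgroupOf L) ≃* (L ⧸ N.subgroupOf L) :=
    Cfsg.Agent.Lib.Helper1.quotAut φ (N.subgroupOf L) hinv with hψdef
  have hφpow : (φ : MulAut L) ^ r = 1 := by
    ext x
    rw [hφdef, conjAutOfNormalizer_pow_coe, hf]
    simp
  have hψpow : (ψ : MulAut (L ⧸ N.subgroupOf L)) ^ r = 1 :=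
    Cfsg.Agent.Lib.Helper1.quotAut_pow_eq_one φ (N.subgroupOf L) hinv r hφpow
  have hrN : ¬ r ∣ Nat.card N := fun h => hrL (h.trans (Subgroup.card_dvd_of_le hNL))
  -- fixed-point-freeness on the quotient
  have hfpf : ∀ q : L ⧸ N.subgroupOf L, ψ q = q → q = 1 := by
    intro q
    induction q using QuotientGroup.induction_on with
    | H x =>
      intro hq
      rw [hψdef, Cfsg.Agent.Lib.Helper1.quotAut_mk] at hq
      have h1 : x⁻¹ * φ x ∈ N.subgroupOf L := by
        rw [← QuotientGroup.eq]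
        exact hq.symm
      rw [Subgroup.mem_subgroupOf] at h1
      have h2 : (x : X)⁻¹ * (f * x * f⁻¹) ∈ N := by
        simpa [hφdef] using h1
      obtain ⟨n, hn, hfix⟩ := Cfsg.Agent.Lib.Helper48.exists_fixed_in_coset_of_elem f
        (Cfsg.Agent.Lib.Helper48.isPGroup_zpowers_of_pow_eq_one hf) N hrN hfN (x : X) h2
      have hxn : (x : X) * n ∈ L := L.mul_mem x.2 (hNL hn)
      have hcomm : (x : X) * n * f = f * ((x : X) * n) := by
        calc (x : X) * n * f = (f * ((x : X) * n) * f⁻¹) * f := by rw [hfix]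
          _ = f * ((x : X) * n) := by group
      have hxnN : (x : X) * n ∈ N := hC _ hxn hcomm
      have hxN : (x : X) ∈ N := by
        have := N.mul_mem hxnN (N.inv_mem hn)
        simpa using this
      rw [QuotientGroup.eq_one_iff, Subgroup.mem_subgroupOf]
      exact hxN
  intro x hx y hy hcop
  have hgoal : ((⁅(⟨x, hx⟩ : L), ⟨y, hy⟩⁆ : L) : L ⧸ N.subgroupOf L) = 1 → ⁅x, y⁆ ∈ N := by
    intro h
    rw [QuotientGroup.eq_one_iff, Subgroup.mem_subgroupOf] at h
    simpa [commutatorElement_def] using h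
  apply hgoal
  by_cases hψ1 : ψ = 1
  · apply hfpf
    rw [hψ1]
    rfl
  · have hord : orderOf ψ = r := orderOf_eq_prime hψpow hψ1
    have hnil : Group.IsNilpotent (L ⧸ N.subgroupOf L) :=
      Cfsg.Agent.Lib.Helper1.thompson_fpf_nilpotent ψ (fun g hg => hfpf g hg) r hr hord
    have hox : orderOf (((⟨x, hx⟩ : L) : L ⧸ N.subgroupOf L)) ∣ orderOf x := by
      have h1 := orderOf_map_dvd (QuotientGroup.mk' (N.subgroupOf L)) (⟨x, hx⟩ : L)
      have h2 : orderOf (⟨x, hx⟩ : L) = orderOf x := Subgroup.orderOf_mk x hx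
      rw [h2] at h1
      exact h1
    have hoy : orderOf (((⟨y, hy⟩ : L) : L ⧸ N.subgroupOf L)) ∣ orderOf y := by
      have h1 := orderOf_map_dvd (QuotientGroup.mk' (N.subgroupOf L)) (⟨y, hy⟩ : L)
      have h2 : orderOf (⟨y, hy⟩ : L) = orderOf y := Subgroup.orderOf_mk y hy
      rw [h2] at h1
      exact h1
    have hc := Cfsg.Agent.Lib.Helper65.commute_of_coprime_orderOf
      (((⟨x, hx⟩ : L) : L ⧸ N.subgroupOf L)) (((⟨y, hy⟩ : L) : L ⧸ N.subgroupOf L))
      (Nat.Coprime.of_dvd hox hoy hcop)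
    have h3 : ((⁅(⟨x, hx⟩ : L), ⟨y, hy⟩⁆ : L) : L ⧸ N.subgroupOf L)
        = ⁅((⟨x, hx⟩ : L) : L ⧸ N.subgroupOf L), ((⟨y, hy⟩ : L) : L ⧸ N.subgroupOf L)⁆ := by
      rw [commutatorElement_def, commutatorElement_def]
      rfl
    rw [h3, commutatorElement_eq_one_iff_commute]
    exact hc

end Cfsg.Agent.Lib.Helper87
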