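import Mathlib
import Cfsg.Agent.Lib.Helper24.PFCycDefs
import Cfsg.Agent.Lib.Helper4.PFTypes
import Cfsg.Agent.Lib.Helper4.PFNineA
import Cfsg.Agent.S1513
import Cfsg.Agent.Lib.Helper75.Clifford
import Cfsg.Agent.Lib.Helper80.CharBasic

/-!
# Peterfalvi sections 10-13, module `PFCyc-[ZETA]` (helper87)

For `M` with type-P data, solvable of odd order: some `ζ = Ind_{M'}^M θ`, `θ` a non-principal linear
character of `M'`, is an irreducible character of `↥M` of degree `|W₁|`.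
-/

set_option autoImplicit false

namespace Cfsg.Agent.Lib.Helper87.PFCycZeta

open Cfsg Cfsg.Agent.Lib.Helper4.PF

universe u

section Ext

variable {L : Type u} [Group L]

/-- A linear character of a normal subgroup `K`, invariant under a complement `W`, extends to the
whole group. -/
theorem exists_extension (K W : Subgroup L) [hK : K.Normal] (hKW : K ⊓ W = ⊥)
    (hKW' : ∀ m : L, ∃ a ∈ K, ∃ b ∈ W, m = a * b) (lam : ↥K →* ℂˣ)
    (hinv : ∀ x ∈ W, ∀ k : ↥K, lam ⟨x * k * x⁻¹, hK.conj_mem (k : L) k.2 x⟩ = lam k) :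
    ∃ f : L →* ℂˣ, ∀ k : ↥K, f (k : L) = lam k := by
  classical
  have huniq : ∀ a ∈ K, ∀ b ∈ W, ∀ a' ∈ K, ∀ b' ∈ W, a * b = a' * b' → a = a' := by
    intro a ha b hb a' ha' b' hb' h
    have h1 : a'⁻¹ * a = b' * b⁻¹ := by
      have : a = a' * b' * b⁻¹ := by rw [← h]; group
      rw [this]; group
    have h2 : a'⁻¹ * a ∈ K ⊓ W :=
      ⟨K.mul_mem (K.inv_mem ha') ha, by rw [h1]; exact W.mul_mem hb' (W.inv_mem hb)⟩
    rw [hKW, Subgroup.mem_bot] at h2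
    exact (inv_mul_eq_one.mp h2).symm
  choose a ha b hb hab using hKW'
  let f : L → ℂˣ := fun m => lam ⟨a m, ha m⟩
  have hf : ∀ m₁ m₂, f (m₁ * m₂) = f m₁ * f m₂ := by
    intro m₁ m₂
    have hc : b m₁ * a m₂ * (b m₁)⁻¹ ∈ K := hK.conj_mem _ (ha m₂) _
    have h1 : a (m₁ * m₂) = a m₁ * (b m₁ * a m₂ * (b m₁)⁻¹) := by
      apply huniq _ (ha _) (b (m₁ * m₂)) (hb _) _ (K.mul_mem (ha _) hc) (b m₁ * b m₂)
        (W.mul_mem (hb _) (hb _))
      rw [← hab]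
      conv_lhs => rw [hab m₁, hab m₂]
      group
    show lam _ = lam _ * lam _
    have h2 : (⟨a (m₁ * m₂), ha _⟩ : ↥K) =
        ⟨a m₁, ha _⟩ * ⟨b m₁ * a m₂ * (b m₁)⁻¹, hc⟩ := Subtype.ext h1
    rw [h2, map_mul]
    congr 1
    exact hinv (b m₁) (hb _) ⟨a m₂, ha _⟩
  refine ⟨MonoidHom.mk' f hf, ?_⟩
  intro k
  show lam _ = lam k
  congr 1
  apply Subtype.ext
  show a (k : L) = k
  apply huniq _ (ha _) (b _) (hb _) _ k.2 1 W.one_mem
  rw [← hab, mul_one]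

end Ext

variable {G : Type u} [Group G] [Finite G] {M W₁ U W₂ : Subgroup G} [Fintype M]

theorem exists_zeta (hP : IsTypePWith M W₁ U W₂) (hodd : Odd (Nat.card M))
    (hsol : Group.IsSolvable ↥M) :
    ∃ ζ ∈ inducedIrrAbove ((⁅M, M⁆).subgroupOf M) ⊥, IsIrrCharacter ↥M ζ ∧
      ζ 1 = (Nat.card W₁ : ℂ) := by
  classical
  have hder : ⁅M, M⁆ ≤ M := Cfsg.Agent.Lib.Helper4.PF9.der_le hP
  have hW₁M : W₁ ≤ M := Cfsg.Agent.Lib.Helper4.PF9.W₁_le hP
  have hW₂der : W₂ ≤ ⁅M, M⁆ :=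
    (Cfsg.Agent.Lib.Helper4.PF9.W₂_le_H hP).trans (Cfsg.Agent.Lib.Helper4.PF9.H_le_der hP)
  have hW₂M : W₂ ≤ M := hW₂der.trans hder
  have hKeq : (⁅M, M⁆).subgroupOf M = commutator ↥M := by
    rw [Subgroup.subgroupOf, ← Subgroup.map_subtype_commutator,
      Subgroup.comap_map_eq_self_of_injective M.subtype_injective]
  have hK : ((⁅M, M⁆).subgroupOf M).Normal := by rw [hKeq]; infer_instance
  -- the hypotheses of S1513
  have hKW₁ : (⁅M, M⁆).subgroupOf M ⊓ W₁.subgroupOf M = ⊥ := by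
    rw [eq_bot_iff]
    intro x hx
    have h1 : (x : G) ∈ ⁅M, M⁆ ⊓ W₁ := ⟨Subgroup.mem_subgroupOf.mp hx.1, Subgroup.mem_subgroupOf.mp hx.2⟩
    rw [Cfsg.Agent.Lib.Helper4.PF9.der_inf_W₁ hP, Subgroup.mem_bot] at h1
    rw [Subgroup.mem_bot]
    exact Subtype.ext h1
  have hdecomp : ∀ m : ↥M, ∃ a ∈ (⁅M, M⁆).subgroupOf M, ∃ b ∈ W₁.subgroupOf M, m = a * b := by
    intro m
    obtain ⟨a, ha, b, hb, hab⟩ := hP.W₁_compl.2.2.2 (m : G) m.2
    exact ⟨⟨a, hder ha⟩, Subgroup.mem_subgroupOf.mpr ha, ⟨b, hW₁M hb⟩,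
      Subgroup.mem_subgroupOf.mpr hb, Subtype.ext hab⟩
  have hKW₁' : (⁅M, M⁆).subgroupOf M ⊔ W₁.subgroupOf M = ⊤ := by
    rw [eq_top_iff]
    intro m _
    obtain ⟨a, ha, b, hb, hab⟩ := hdecomp m
    rw [hab]
    exact Subgroup.mul_mem_sup ha hb
  have hW₁ne : W₁.subgroupOf M ≠ ⊥ := by
    intro h
    rw [Subgroup.subgroupOf_eq_bot, disjoint_iff, inf_eq_left.mpr hW₁M] at h
    exact hP.W₁_ne h
  have hW₁c : IsCyclic ↥(W₁.subgroupOf M) := by
    have := hP.W₁_cyclic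
    exact isCyclic_of_surjective (Subgroup.subgroupOfEquivOfLe hW₁M).symm
      (Subgroup.subgroupOfEquivOfLe hW₁M).symm.surjective
  have hcardW₁ : Nat.card ↥(W₁.subgroupOf M) = Nat.card ↥W₁ :=
    Nat.card_congr (Subgroup.subgroupOfEquivOfLe hW₁M).toEquiv
  have hHall : Nat.Coprime (Nat.card ↥(W₁.subgroupOf M)) (W₁.subgroupOf M).index := by
    rw [hcardW₁]
    exact hP.W₁_hall
  have hW₂ne : W₂.subgroupOf M ≠ ⊥ := by
    intro h
    rw [Subgroup.subgroupOf_eq_bot, disjoint_iff, inf_eq_left.mpr hW₂M] at h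
    exact hP.selfNormalizing.2.1 h
  have hW₂cG : IsCyclic ↥W₂ := by
    have := hP.selfNormalizing.2.2.2.2.1
    have : IsCyclic ↥(W₂.subgroupOf (W₁ ⊔ W₂)) := Subgroup.isCyclic _
    exact isCyclic_of_surjective (Subgroup.subgroupOfEquivOfLe (le_sup_right : W₂ ≤ W₁ ⊔ W₂))
      (Subgroup.subgroupOfEquivOfLe le_sup_right).surjective
  have hW₂c : IsCyclic ↥(W₂.subgroupOf M) := by
    have := hW₂cG
    exact isCyclic_of_surjective (Subgroup.subgroupOfEquivOfLe hW₂M).symm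
      (Subgroup.subgroupOfEquivOfLe hW₂M).symm.surjective
  have hW₂K : W₂.subgroupOf M ≤ (⁅M, M⁆).subgroupOf M := by
    intro x hx
    exact Subgroup.mem_subgroupOf.mpr (hW₂der (Subgroup.mem_subgroupOf.mp hx))
  have hC : ∀ x ∈ W₁.subgroupOf M, x ≠ 1 →
      (⁅M, M⁆).subgroupOf M ⊓ Subgroup.centralizer ({x} : Set ↥M) = W₂.subgroupOf M := by
    intro x hx hx1
    have h1 := hP.W₂_centralizer (x : G) (Subgroup.mem_subgroupOf.mp hx)
      (fun h => hx1 (Subtype.ext h))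
    ext y
    rw [Subgroup.mem_inf, Subgroup.mem_subgroupOf, Subgroup.mem_subgroupOf, ← h1, Subgroup.mem_inf,
      Subgroup.mem_centralizer_singleton_iff, Subgroup.mem_centralizer_singleton_iff]
    constructor
    · rintro ⟨h2, h3⟩
      exact ⟨h2, by rw [← Subgroup.coe_mul, ← Subgroup.coe_mul, h3]⟩
    · rintro ⟨h2, h3⟩
      exact ⟨h2, Subtype.ext (by rw [Subgroup.coe_mul, Subgroup.coe_mul, h3])⟩
  have hodd' : Odd (Nat.card ↥(W₁.subgroupOf M ⊔ W₂.subgroupOf M)) :=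
    Odd.of_dvd_nat hodd (Subgroup.card_subgroup_dvd_card _)
  have h1513 := (Cfsg.Agent.S1513.result (hK := hK) ((⁅M, M⁆).subgroupOf M) (W₁.subgroupOf M)
    (W₂.subgroupOf M) hKW₁ hKW₁' hW₁ne hW₁c hHall hW₂ne hW₂c hW₂K hC hodd').1
  -- a nontrivial linear character of `M'`
  have : Nontrivial ↥((⁅M, M⁆).subgroupOf M) := by
    rw [← Subgroup.nontrivial_iff_ne_bot] at hW₂ne
    obtain ⟨x, y, hxy⟩ := hW₂ne
    exact ⟨⟨x.1, hW₂K x.2⟩, ⟨y.1, hW₂K y.2⟩, fun h => hxy (Subtype.ext (by simpa using congrArg Subtype.val h))⟩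
  have hlt : commutator ↥((⁅M, M⁆).subgroupOf M) < ⊤ :=
    Group.IsSolvable.commutator_lt_top_of_nontrivial _
  obtain ⟨k₀, -, hk₀⟩ := SetLike.exists_of_lt hlt
  have hk₀' : (Abelianization.of k₀ : Abelianization ↥((⁅M, M⁆).subgroupOf M)) ≠ 1 := by
    intro h
    exact hk₀ ((QuotientGroup.eq_one_iff k₀).mp h)
  obtain ⟨φ, hφ⟩ := CommGroup.exists_apply_ne_one_of_hasEnoughRootsOfUnity
    (Abelianization ↥((⁅M, M⁆).subgroupOf M)) ℂ hk₀'
  set lam : ↥((⁅M, M⁆).subgroupOf M) →* ℂˣ := φ.comp Abelianization.of with hlam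
  have hlamk₀ : lam k₀ ≠ 1 := hφ
  set θ : ↥((⁅M, M⁆).subgroupOf M) → ℂ := fun k => ((lam k : ℂˣ) : ℂ) with hθ
  have hθirr : IsIrrCharacter ↥((⁅M, M⁆).subgroupOf M) θ :=
    Cfsg.Agent.Lib.Helper80.isIrrCharacter_of_hom lam
  have hθne : θ ≠ (fun _ => 1) := by
    intro h
    apply hlamk₀
    apply Units.ext
    exact congrFun h k₀
  -- `θ` is not `W₁`-invariant
  have hninv : ∃ x ∈ W₁.subgroupOf M, (fun k : ↥((⁅M, M⁆).subgroupOf M) =>
      θ ⟨x * k * x⁻¹, hK.conj_mem (k : ↥M) k.2 x⟩) ≠ θ := by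
    by_contra hcon
    push Not at hcon
    have hinv : ∀ x ∈ W₁.subgroupOf M, ∀ k : ↥((⁅M, M⁆).subgroupOf M),
        lam ⟨x * k * x⁻¹, hK.conj_mem (k : ↥M) k.2 x⟩ = lam k := by
      intro x hx k
      apply Units.ext
      exact congrFun (hcon x hx) k
    obtain ⟨f, hf⟩ := exists_extension ((⁅M, M⁆).subgroupOf M) (W₁.subgroupOf M) hKW₁ hdecomp lam hinv
    apply hlamk₀
    rw [← hf k₀]
    have hmem : (k₀ : ↥M) ∈ commutator ↥M := by rw [← hKeq]; exact k₀.2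
    exact Abelianization.commutator_subset_ker f hmem
  have hirr := h1513 θ hθirr hninv
  refine ⟨indFun ((⁅M, M⁆).subgroupOf M) θ, ⟨θ, hθirr, hθne, ?_, rfl⟩, hirr, ?_⟩
  · intro a ha
    rw [Subgroup.mem_bot] at ha
    have : a = 1 := Subtype.ext ha
    rw [this]
  · rw [Cfsg.Agent.Lib.Helper75.indFun_one]
    have hcompl : Subgroup.IsComplement' ((⁅M, M⁆).subgroupOf M) (W₁.subgroupOf M) :=
      Subgroup.isComplement'_of_disjoint_and_mul_eq_univ (disjoint_iff.2 hKW₁) (by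
        have h1 := Subgroup.normal_mul ((⁅M, M⁆).subgroupOf M) (W₁.subgroupOf M)
        rw [hKW₁'] at h1
        rw [← h1]; rfl)
    rw [hcompl.symm.index_eq_card, hcardW₁]
    simp [hθ]

end Cfsg.Agent.Lib.Helper87.PFCycZeta
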