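import Cfsg.Agent.Lib.Helper87.LinRep

set_option autoImplicit false
open scoped commutatorElement

namespace Cfsg.Agent.Lib.Helper87.LinRep

variable {K : Type*} [Field K] {P : Type*} [Group P] {V : Type*} [AddCommGroup V] [Module K V]


/-- A finite `p`-group acting linearly on a nonzero space of characteristic `p` fixes a nonzero
vector. -/
theorem exists_fixed_ne_zero {p : ℕ} [Fact p.Prime] (hpK : (p : K) = 0) [Finite P]
    (hP : IsPGroup p P) (σ : P →* (V ≃ₗ[K] V)) [Nontrivial V] :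
    ∃ x : V, x ≠ 0 ∧ ∀ g, σ g x = x := by
  classical
  obtain ⟨x₀, hx₀⟩ := exists_ne (0 : V)
  let S : Set V := Set.range fun g : P => σ g x₀
  have hSfin : Finite S := Set.finite_range _
  let A : AddSubgroup V := AddSubgroup.closure S
  have hpV : ∀ v : V, p • v = 0 := by
    intro v
    rw [← Nat.cast_smul_eq_nsmul K, hpK, zero_smul]
  have hAinv : ∀ g : P, ∀ a ∈ A, σ g a ∈ A := by
    intro g a ha
    have : A ≤ A.comap ((σ g : V ≃ₗ[K] V) : V →ₗ[K] V).toAddMonoidHom := by
      apply (AddSubgroup.closure_le _).2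
      rintro _ ⟨h, rfl⟩
      change σ g (σ h x₀) ∈ A
      apply AddSubgroup.subset_closure
      exact ⟨g * h, by simp⟩
    exact this ha
  have hfg : AddGroup.FG A := AddGroup.closure_finite_fg S
  have htors : IsAddTorsion A := by
    intro a
    rw [isOfFinAddOrder_iff_nsmul_eq_zero]
    refine ⟨p, (Fact.out : p.Prime).pos, ?_⟩
    ext
    simp [hpV]
  have hAfin : Finite A := AddCommGroup.finite_of_fg_isAddTorsion A htors
  let act : MulAction P A :=
    { smul := fun g a => ⟨σ g a, hAinv g a a.2⟩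
      one_smul := by
        intro a
        ext
        change σ 1 (a : V) = a
        simp
      mul_smul := by
        intro g h a
        ext
        change σ (g * h) (a : V) = σ g (σ h (a : V))
        simp }
  have hx₀A : x₀ ∈ A := AddSubgroup.subset_closure ⟨1, by simp⟩
  have hdvd : p ∣ Nat.card A := by
    have h1 : addOrderOf (⟨x₀, hx₀A⟩ : A) = p := by
      apply addOrderOf_eq_prime
      · ext
        simp [hpV]
      · intro h
        apply hx₀
        simpa using congrArg Subtype.val h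
    rw [← h1]
    exact addOrderOf_dvd_natCard _
  have h0 : (0 : A) ∈ MulAction.fixedPoints P A := by
    intro g
    ext
    change σ g ((0 : A) : V) = ((0 : A) : V)
    simp
  obtain ⟨b, hb, hb0⟩ := hP.exists_fixed_point_of_prime_dvd_card_of_fixed_point A hdvd h0
  refine ⟨(b : V), ?_, ?_⟩
  · intro h
    apply hb0
    ext
    simp [h]
  · intro g
    have := hb g
    exact congrArg Subtype.val this



/-- The ascending chain `U 0 = ⊥`, `U (i+1) = {v | ∀ g, ρ g v - v ∈ U i}`. -/
def upperU (ρ : P →* (V ≃ₗ[K] V)) : ℕ → Submodule K V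
  | 0 => ⊥
  | (i + 1) =>
    { carrier := {v | ∀ g, ρ g v - v ∈ upperU ρ i}
      add_mem' := by
        intro a b ha hb g
        have : ρ g (a + b) - (a + b) = (ρ g a - a) + (ρ g b - b) := by
          rw [map_add]; abel
        rw [this]
        exact add_mem (ha g) (hb g)
      zero_mem' := by
        intro g
        simp
      smul_mem' := by
        intro c a ha g
        have : ρ g (c • a) - c • a = c • (ρ g a - a) := by
          rw [map_smul, smul_sub]
        rw [this]
        exact Submodule.smul_mem _ c (ha g) }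

theorem mem_upperU_succ (ρ : P →* (V ≃ₗ[K] V)) (i : ℕ) (v : V) :
    v ∈ upperU ρ (i + 1) ↔ ∀ g, ρ g v - v ∈ upperU ρ i := Iff.rfl

theorem upperU_zero (ρ : P →* (V ≃ₗ[K] V)) : upperU ρ 0 = ⊥ := rfl

theorem upperU_inv (ρ : P →* (V ≃ₗ[K] V)) : ∀ i, Inv ρ (upperU ρ i) := by
  intro i
  induction i with
  | zero =>
    intro g w hw
    rw [upperU_zero, Submodule.mem_bot] at hw ⊢
    rw [hw, map_zero]
  | succ i ih =>
    intro h v hv
    rw [mem_upperU_succ] at hv ⊢
    intro g
    have : ρ g (ρ h v) - ρ h v = (ρ (g * h) v - v) - (ρ h v - v) := by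
      rw [map_mul, LinearEquiv.mul_apply]; abel
    rw [this]
    exact sub_mem (hv _) (hv _)

theorem upperU_le_succ (ρ : P →* (V ≃ₗ[K] V)) : ∀ i, upperU ρ i ≤ upperU ρ (i + 1) := by
  intro i
  induction i with
  | zero => rw [upperU_zero]; exact bot_le
  | succ i ih =>
    intro v hv
    rw [mem_upperU_succ] at hv ⊢
    intro g
    exact ih (hv g)

theorem upperU_mono (ρ : P →* (V ≃ₗ[K] V)) : Monotone (upperU ρ) :=
  monotone_nat_of_le_succ (upperU_le_succ ρ)


theorem upperU_lt_succ {p : ℕ} [Fact p.Prime] (hpK : (p : K) = 0) [Finite P]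
    (hP : IsPGroup p P) (ρ : P →* (V ≃ₗ[K] V)) (i : ℕ) (hi : upperU ρ i ≠ ⊤) :
    upperU ρ i < upperU ρ (i + 1) := by
  have hnt : Nontrivial (V ⧸ upperU ρ i) :=
    Submodule.Quotient.nontrivial_iff.2 hi
  obtain ⟨x, hx0, hx⟩ := exists_fixed_ne_zero hpK hP (quotRep ρ (upperU ρ i) (upperU_inv ρ i))
  obtain ⟨v, rfl⟩ := Submodule.Quotient.mk_surjective _ x
  refine lt_of_le_of_ne (upperU_le_succ ρ i) ?_
  intro heq
  apply hx0
  rw [Submodule.Quotient.mk_eq_zero, heq, mem_upperU_succ]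
  intro g
  have := hx g
  rw [quotRep_mk, Submodule.Quotient.eq] at this
  exact this

theorem upperU_top_or_le_finrank {p : ℕ} [Fact p.Prime] (hpK : (p : K) = 0) [Finite P]
    (hP : IsPGroup p P) [FiniteDimensional K V] (ρ : P →* (V ≃ₗ[K] V)) :
    ∀ i, upperU ρ i = ⊤ ∨ i ≤ Module.finrank K (upperU ρ i) := by
  intro i
  induction i with
  | zero => right; exact Nat.zero_le _
  | succ i ih =>
    by_cases hi : upperU ρ i = ⊤
    · left
      exact top_le_iff.1 (hi ▸ upperU_le_succ ρ i)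
    · right
      have h1 := ih.resolve_left hi
      have h2 := Submodule.finrank_lt_finrank_of_lt (upperU_lt_succ hpK hP ρ i hi)
      omega

theorem upperU_eq_top {p : ℕ} [Fact p.Prime] (hpK : (p : K) = 0) [Finite P]
    (hP : IsPGroup p P) [FiniteDimensional K V] (ρ : P →* (V ≃ₗ[K] V)) (j : ℕ)
    (hj : Module.finrank K V ≤ j) : upperU ρ j = ⊤ := by
  rcases upperU_top_or_le_finrank hpK hP ρ (Module.finrank K V) with h | h
  · exact top_le_iff.1 (h ▸ upperU_mono ρ hj)
  · have h1 : upperU ρ (Module.finrank K V) = ⊤ :=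
      Submodule.eq_top_of_finrank_eq (le_antisymm (Submodule.finrank_le _) h)
    exact top_le_iff.1 (h1 ▸ upperU_mono ρ hj)

/-- The descending chain of subgroups `N j = {g | ∀ i, (ρ g - 1) (U (i+j)) ≤ U i}`. -/
def lowerN (ρ : P →* (V ≃ₗ[K] V)) (j : ℕ) : Subgroup P where
  carrier := {g | ∀ i, ∀ v ∈ upperU ρ (i + j), ρ g v - v ∈ upperU ρ i}
  one_mem' := by
    intro i v _
    simp
  mul_mem' := by
    intro a b ha hb i v hv
    have : ρ (a * b) v - v = (ρ a (ρ b v) - ρ b v) + (ρ b v - v) := by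
      rw [map_mul, LinearEquiv.mul_apply]; abel
    rw [this]
    exact add_mem (ha i _ (upperU_inv ρ _ b v hv)) (hb i v hv)
  inv_mem' := by
    intro a ha i v hv
    have : ρ a⁻¹ v - v = - ρ a⁻¹ (ρ a v - v) := by
      rw [map_sub, ← LinearEquiv.mul_apply, ← map_mul, inv_mul_cancel, map_one]
      simp
    rw [this]
    exact neg_mem (upperU_inv ρ _ a⁻¹ _ (ha i v hv))

theorem mem_lowerN (ρ : P →* (V ≃ₗ[K] V)) (j : ℕ) (g : P) :
    g ∈ lowerN ρ j ↔ ∀ i, ∀ v ∈ upperU ρ (i + j), ρ g v - v ∈ upperU ρ i := Iff.rfl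

theorem lowerN_one (ρ : P →* (V ≃ₗ[K] V)) : lowerN ρ 1 = ⊤ := by
  rw [eq_top_iff]
  intro g _
  rw [mem_lowerN]
  intro i v hv
  exact (mem_upperU_succ ρ i v).1 hv g

theorem commutator_mem_lowerN (ρ : P →* (V ≃ₗ[K] V)) (j k : ℕ) (a b : P)
    (ha : a ∈ lowerN ρ j) (hb : b ∈ lowerN ρ k) : ⁅a, b⁆ ∈ lowerN ρ (j + k) := by
  rw [mem_lowerN]
  intro i v hv
  set u : V := ρ (a⁻¹ * b⁻¹) v with hu
  have huU : u ∈ upperU ρ (i + (j + k)) := upperU_inv ρ _ _ v hv
  have hv' : v = ρ b (ρ a u) := by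
    rw [hu, ← LinearEquiv.mul_apply, ← LinearEquiv.mul_apply, ← map_mul, ← map_mul]
    simp
  have h1 : ρ ⁅a, b⁆ v = ρ a (ρ b u) := by
    rw [hu, ← LinearEquiv.mul_apply, ← LinearEquiv.mul_apply, ← map_mul, ← map_mul]
    rw [commutatorElement_def]
    simp [mul_assoc]
  have h2 : ρ ⁅a, b⁆ v - v =
      (ρ a (ρ b u - u) - (ρ b u - u)) - (ρ b (ρ a u - u) - (ρ a u - u)) := by
    rw [h1]
    conv_lhs => rw [hv']
    rw [map_sub, map_sub]
    abel
  rw [h2]
  have hb1 : ρ b u - u ∈ upperU ρ (i + j) := by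
    apply hb (i + j) u
    have : i + j + k = i + (j + k) := by ring
    rw [this]; exact huU
  have ha1 : ρ a u - u ∈ upperU ρ (i + k) := by
    apply ha (i + k) u
    have : i + k + j = i + (j + k) := by ring
    rw [this]; exact huU
  exact sub_mem (ha i _ hb1) (hb i _ ha1)

theorem derivedSeries_le_lowerN (ρ : P →* (V ≃ₗ[K] V)) :
    ∀ k, derivedSeries P k ≤ lowerN ρ (2 ^ k) := by
  intro k
  induction k with
  | zero => simp [lowerN_one]
  | succ k ih =>
    rw [derivedSeries_succ, Subgroup.commutator_le]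
    intro g₁ h₁ g₂ h₂
    have := commutator_mem_lowerN ρ _ _ g₁ g₂ (ih h₁) (ih h₂)
    have h2 : 2 ^ (k + 1) = 2 ^ k + 2 ^ k := by ring
    rw [h2]
    exact this

theorem lowerN_le_ker {p : ℕ} [Fact p.Prime] (hpK : (p : K) = 0) [Finite P]
    (hP : IsPGroup p P) [FiniteDimensional K V] (ρ : P →* (V ≃ₗ[K] V)) (j : ℕ)
    (hj : Module.finrank K V ≤ j) : lowerN ρ j ≤ ρ.ker := by
  intro g hg
  rw [MonoidHom.mem_ker]
  ext v
  have h1 : v ∈ upperU ρ (0 + j) := by
    rw [zero_add, upperU_eq_top hpK hP ρ j hj]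
    trivial
  have h2 := hg 0 v h1
  rw [upperU_zero, Submodule.mem_bot, sub_eq_zero] at h2
  simpa using h2

/-- **Char `p` case**: a finite `p`-group acting on an `n`-dimensional space in
characteristic `p` acts through a group of derived length at most `⌊log₂ n⌋ + 1`. -/
theorem derivedSeries_le_ker_of_char {p : ℕ} [Fact p.Prime] (hpK : (p : K) = 0) [Finite P]
    (hP : IsPGroup p P) [FiniteDimensional K V] (ρ : P →* (V ≃ₗ[K] V)) :
    derivedSeries P (Nat.log 2 (Module.finrank K V) + 1) ≤ ρ.ker := by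
  refine (derivedSeries_le_lowerN ρ _).trans (lowerN_le_ker hpK hP ρ _ ?_)
  exact (Nat.lt_pow_succ_log_self (by norm_num) _).le

end Cfsg.Agent.Lib.Helper87.LinRep
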