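/-
helper87: basic facts on `p`-groups of maximal class (order `p ^ n`, class `n - 1`): the centre has order `p`, the central quotient is
again of maximal class, and (for `n ≥ 4`) the centralizer of the second centre is a maximal subgroup.
All declarations live in `Cfsg.Agent.Lib.Helper87`.
-/
import Cfsg.Agent.S0063

set_option autoImplicit false

namespace Cfsg.Agent.Lib.Helper87

/-- A `p`-group of order `p ^ n` (`n ≥ 3`) and class at least `n - 1` has centre of order `p`, and its central quotient has
order `p ^ (n - 1)` and class at least `n - 2`. -/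
theorem maxClass_center {G : Type*} [Group G] [Finite G] {p : ℕ} [Fact p.Prime] {n : ℕ}
    (hG : Nat.card G = p ^ n) (hn : 3 ≤ n) (hc : n - 1 ≤ Group.nilpotencyClass G) :
    Nat.card (Subgroup.center G) = p ∧ Nat.card (G ⧸ Subgroup.center G) = p ^ (n - 1) ∧
      n - 2 ≤ Group.nilpotencyClass (G ⧸ Subgroup.center G) := by
  have hp : p.Prime := Fact.out
  have hPG : IsPGroup p G := IsPGroup.of_card hG
  have : Nontrivial G := by
    rw [← Finite.one_lt_card_iff_nontrivial, hG]
    exact Nat.one_lt_pow (by omega) hp.one_lt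
  have hnil : Group.IsNilpotent G := hPG.isNilpotent
  have hZnt : Nontrivial (Subgroup.center G) := hPG.center_nontrivial
  obtain ⟨k, hk⟩ := IsPGroup.iff_card.mp (hPG.to_subgroup (Subgroup.center G))
  have hk0 : k ≠ 0 := by
    intro h0
    rw [h0, pow_zero] at hk
    have : Subsingleton (Subgroup.center G) := (Nat.card_eq_one_iff_unique.mp hk).1
    exact not_subsingleton _ this
  have hcard : Nat.card (G ⧸ Subgroup.center G) * Nat.card (Subgroup.center G) = Nat.card G := by
    rw [← Subgroup.index_eq_card]; exact Subgroup.index_mul_card _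
  have hkm : k ≤ n := by
    have : p ^ k ∣ p ^ n := by rw [← hk, ← hG]; exact Subgroup.card_subgroup_dvd_card _
    exact (Nat.pow_dvd_pow_iff_le_right hp.one_lt).mp this
  have hq : Nat.card (G ⧸ Subgroup.center G) = p ^ (n - k) := by
    rw [hk, hG] at hcard
    have hpos : 0 < p ^ k := pow_pos hp.pos k
    apply Nat.eq_of_mul_eq_mul_right hpos
    rw [hcard, ← pow_add, Nat.sub_add_cancel hkm]
  have hcl := Group.nilpotencyClass_eq_quotient_center_plus_one (G := G)
  by_cases h2 : 1 < n - k
  · have h3 := Cfsg.Agent.S0063.result p (n - k) hq h2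
    have hk1 : k = 1 := by omega
    subst hk1
    refine ⟨by rw [hk, pow_one], hq, by omega⟩
  · exfalso
    have hcyc : IsCyclic (G ⧸ Subgroup.center G) := by
      have hmk : n - k = 0 ∨ n - k = 1 := by omega
      rcases hmk with h0 | h1
      · rw [h0, pow_zero] at hq
        have : Subsingleton (G ⧸ Subgroup.center G) := (Nat.card_eq_one_iff_unique.mp hq).1
        infer_instance
      · rw [h1, pow_one] at hq
        exact isCyclic_of_prime_card hq
    have hcm : IsMulCommutative G :=
      MonoidHom.isMulCommutative_of_isCyclic_of_ker_le_center (QuotientGroup.mk' (Subgroup.center G))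
        (QuotientGroup.ker_mk' _).le
    have h1 : Group.nilpotencyClass G ≤ 1 := Group.IsNilpotent.nilpotencyClass_le_one_iff.mpr hcm
    omega

/-- The homomorphism `g ↦ [z, g]` into the centre, for `z` in the second centre. -/
noncomputable def commHom {G : Type*} [Group G] (z : G) (hz : ∀ g : G, z * g * z⁻¹ * g⁻¹ ∈ Subgroup.center G) :
    G →* Subgroup.center G :=
  MonoidHom.mk' (fun g => ⟨z * g * z⁻¹ * g⁻¹, hz g⟩) (by
    intro a b
    apply Subtype.ext
    show z * (a * b) * z⁻¹ * (a * b)⁻¹ = (z * a * z⁻¹ * a⁻¹) * (z * b * z⁻¹ * b⁻¹)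
    have hb := Subgroup.mem_center_iff.1 (hz b) a⁻¹
    calc z * (a * b) * z⁻¹ * (a * b)⁻¹ = z * a * z⁻¹ * ((z * b * z⁻¹ * b⁻¹) * a⁻¹) := by group
      _ = z * a * z⁻¹ * (a⁻¹ * (z * b * z⁻¹ * b⁻¹)) := by rw [hb]
      _ = (z * a * z⁻¹ * a⁻¹) * (z * b * z⁻¹ * b⁻¹) := by group)

theorem commHom_apply {G : Type*} [Group G] (z : G) (hz : ∀ g : G, z * g * z⁻¹ * g⁻¹ ∈ Subgroup.center G) (g : G) :
    ((commHom z hz g : Subgroup.center G) : G) = z * g * z⁻¹ * g⁻¹ := rfl

theorem mem_ker_commHom {G : Type*} [Group G] (z : G) (hz : ∀ g : G, z * g * z⁻¹ * g⁻¹ ∈ Subgroup.center G) (g : G) :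
    g ∈ (commHom z hz).ker ↔ g * z = z * g := by
  rw [MonoidHom.mem_ker]
  constructor
  · intro h
    have h1 : z * g * z⁻¹ * g⁻¹ = 1 := by
      rw [← commHom_apply z hz g, h]
      rfl
    calc g * z = (z * g * z⁻¹ * g⁻¹)⁻¹ * (z * g) := by group
      _ = z * g := by rw [h1, inv_one, one_mul]
  · intro h
    apply Subtype.ext
    rw [commHom_apply]
    show z * g * z⁻¹ * g⁻¹ = 1
    rw [← h]
    group

/-- In a `p`-group of maximal class of order `p ^ n`, `n ≥ 4`, the centralizer of the second centre is a maximal subgroup. -/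
theorem maxClass_centralizer_Z2 {G : Type*} [Group G] [Finite G] {p : ℕ} [Fact p.Prime] {n : ℕ}
    (hG : Nat.card G = p ^ n) (hn : 4 ≤ n) (hc : n - 1 ≤ Group.nilpotencyClass G) :
    ∀ Q : Subgroup G, Subgroup.centralizer (Subgroup.upperCentralSeries G 2 : Set G) < Q → Q = ⊤ := by
  have hp : p.Prime := Fact.out
  obtain ⟨hZ, hQ, hcQ⟩ := maxClass_center hG (by omega) hc
  have hcQ' : n - 1 - 1 ≤ Group.nilpotencyClass (G ⧸ Subgroup.center G) := by
    have : n - 1 - 1 = n - 2 := by omega
    rw [this]
    exact hcQ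
  obtain ⟨hZ2, -, -⟩ := maxClass_center hQ (by omega) hcQ'
  -- the second centre
  have hZ2eq : Subgroup.upperCentralSeries G 2 =
      (Subgroup.center (G ⧸ Subgroup.center G)).comap (QuotientGroup.mk' (Subgroup.center G)) := by
    have h := Subgroup.comap_upperCentralSeries_quotient_center (G := G) 1
    rw [Subgroup.upperCentralSeries_one] at h
    exact h.symm
  -- a nontrivial element of the centre of the quotient
  have hnt : Nontrivial (Subgroup.center (G ⧸ Subgroup.center G)) := by
    rw [← Finite.one_lt_card_iff_nontrivial, hZ2]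
    exact hp.one_lt
  obtain ⟨⟨zbar, hzbar⟩, hzne⟩ := exists_ne (1 : Subgroup.center (G ⧸ Subgroup.center G))
  obtain ⟨z, rfl⟩ := QuotientGroup.mk'_surjective (Subgroup.center G) zbar
  have hzZ2 : z ∈ Subgroup.upperCentralSeries G 2 := by
    rw [hZ2eq]
    exact hzbar
  have hzZ : z ∉ Subgroup.center G := by
    intro h
    apply hzne
    apply Subtype.ext
    show (QuotientGroup.mk' (Subgroup.center G)) z = 1
    rw [← MonoidHom.mem_ker, QuotientGroup.ker_mk']
    exact h
  have hz : ∀ g : G, z * g * z⁻¹ * g⁻¹ ∈ Subgroup.center G := by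
    intro g
    have := (Subgroup.mem_upperCentralSeries_succ_iff (n := 1)).1 hzZ2 g
    rwa [Subgroup.upperCentralSeries_one] at this
  -- every element of the second centre is a power of `z` times a central element
  have hgen : ∀ w ∈ Subgroup.upperCentralSeries G 2, ∃ (i : ℤ) (c : G), c ∈ Subgroup.center G ∧ w = z ^ i * c := by
    intro w hw
    rw [hZ2eq] at hw
    have hw' : (QuotientGroup.mk' (Subgroup.center G)) w ∈ Subgroup.center (G ⧸ Subgroup.center G) := hw
    have hcyc : ∀ y : Subgroup.center (G ⧸ Subgroup.center G),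
        y ∈ Subgroup.zpowers (⟨_, hzbar⟩ : Subgroup.center (G ⧸ Subgroup.center G)) := by
      intro y
      rw [zpowers_eq_top_of_prime_card hZ2 hzne]
      exact Subgroup.mem_top _
    obtain ⟨i, hi⟩ := (Subgroup.mem_zpowers_iff.1 (hcyc ⟨_, hw'⟩))
    have h1 : (QuotientGroup.mk' (Subgroup.center G)) (z ^ i) = (QuotientGroup.mk' (Subgroup.center G)) w := by
      have := congrArg (fun y : Subgroup.center (G ⧸ Subgroup.center G) => (y : G ⧸ Subgroup.center G)) hi
      simpa using this
    have h2 : (z ^ i)⁻¹ * w ∈ Subgroup.center G := QuotientGroup.eq.1 h1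
    exact ⟨i, (z ^ i)⁻¹ * w, h2, by group⟩
  -- the centralizer of the second centre is the kernel of `g ↦ [z, g]`
  have hker : Subgroup.centralizer (Subgroup.upperCentralSeries G 2 : Set G) = (commHom z hz).ker := by
    ext g
    rw [mem_ker_commHom, Subgroup.mem_centralizer_iff]
    constructor
    · intro h
      exact (h z hzZ2).symm
    · intro h w hw
      obtain ⟨i, c, hc, rfl⟩ := hgen w hw
      have h1 : Commute g z := h
      have h2 : Commute g (z ^ i) := h1.zpow_right i
      have h3 : Commute g c := (Subgroup.mem_center_iff.1 hc g)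
      exact ((h2.mul_right h3).eq).symm
  have hrange : Nat.card (commHom z hz).range = p := by
    have h1 : Nat.card (commHom z hz).range ∣ p := by
      rw [← hZ]
      exact Subgroup.card_subgroup_dvd_card _
    rcases (Nat.dvd_prime hp).1 h1 with h | h
    · exfalso
      apply hzZ
      rw [Subgroup.mem_center_iff]
      intro g
      have h2 : (commHom z hz).range = ⊥ := Subgroup.card_eq_one.1 h
      have h3 : g ∈ (commHom z hz).ker := by
        rw [MonoidHom.mem_ker]
        have : commHom z hz g ∈ (commHom z hz).range := ⟨g, rfl⟩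
        rw [h2, Subgroup.mem_bot] at this
        exact this
      exact (mem_ker_commHom z hz g).1 h3
    · exact h
  have hidx : (commHom z hz).ker.index = p := by
    rw [Subgroup.index_ker, hrange]
  intro Q hQlt
  rw [hker] at hQlt
  have h1 := Subgroup.relIndex_mul_index hQlt.le
  rw [hidx] at h1
  have h2 : Q.index ∣ p := Dvd.intro_left _ h1
  rcases (Nat.dvd_prime hp).1 h2 with h | h
  · exact Subgroup.index_eq_one.1 h
  · exfalso
    rw [h] at h1
    have h3 : (commHom z hz).ker.relIndex Q = 1 := by
      have hpos : 0 < p := hp.pos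
      exact Nat.eq_of_mul_eq_mul_right hpos (by rw [h1, one_mul])
    have h4 : Q ≤ (commHom z hz).ker := Subgroup.relIndex_eq_one.1 h3
    exact lt_irrefl _ (lt_of_lt_of_le hQlt h4)

end Cfsg.Agent.Lib.Helper87
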