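/-
helper87, module SAF-[FIELD2] of helper2's SAF project (S4025):
`|Aut(F)| = n` for a field of order `p ^ n`, and the order bounds for the one-dimensional
affine and semi-affine groups.
-/
import Mathlib
import Cfsg.Prelude.Def_Perm

set_option autoImplicit false

namespace Cfsg.Agent.Lib.Helper87.SafField2

open Cfsg

/-- Ring automorphisms of a `ZMod p`-algebra are the same as `ZMod p`-algebra automorphisms. -/
noncomputable def ringAutEquivAlgAut (p : ℕ) (F : Type*) [Field F] [Algebra (ZMod p) F] :
    (F ≃+* F) ≃ (F ≃ₐ[ZMod p] F) where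
  toFun φ := AlgEquiv.ofRingEquiv (f := φ) (fun r => by
    have h : (φ : F →+* F).comp (algebraMap (ZMod p) F) = algebraMap (ZMod p) F :=
      Subsingleton.elim _ _
    exact congrArg (fun g : ZMod p →+* F => g r) h)
  invFun ψ := ψ.toRingEquiv
  left_inv φ := by ext x; rfl
  right_inv ψ := by ext x; rfl

theorem card_ringAut {F : Type*} [Field F] [Finite F] {p n : ℕ} [Fact p.Prime] (hn : n ≠ 0)
    (hF : Nat.card F = p ^ n) : Nat.card (F ≃+* F) = n := by
  classical
  have : Fintype F := Fintype.ofFinite F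
  have hp : p.Prime := Fact.out
  -- the characteristic of `F` is `p`
  obtain ⟨q, hq⟩ := CharP.exists F
  have : CharP F q := hq
  have hqp : Fact q.Prime := ⟨CharP.char_is_prime F q⟩
  obtain ⟨m, hqpr, hm⟩ := FiniteField.card F q
  have hcard : (p : ℕ) ^ n = q ^ (m : ℕ) := by
    rw [← hF, Nat.card_eq_fintype_card, hm]
  have hpq : p = q := by
    have h1 : p ∣ q ^ (m : ℕ) := by
      rw [← hcard]; exact dvd_pow_self p hn
    exact (Nat.prime_dvd_prime_iff_eq hp hqpr).mp (hp.dvd_of_dvd_pow h1)
  subst hpq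
  let : Algebra (ZMod p) F := ZMod.algebra F p
  rw [Nat.card_congr (ringAutEquivAlgAut p F), IsGalois.card_aut_eq_finrank]
  have h2 : Nat.card F = p ^ Module.finrank (ZMod p) F := by
    rw [Nat.card_eq_fintype_card]
    have := Module.card_eq_pow_finrank (K := ZMod p) (V := F)
    rw [ZMod.card] at this
    exact this
  rw [hF] at h2
  exact (Nat.pow_right_injective hp.two_le h2).symm

theorem finite_ringAut {F : Type*} [Field F] [Finite F] : Finite (F ≃+* F) :=
  Finite.of_injective (fun φ : F ≃+* F => (φ : F → F)) (fun _ _ h => RingEquiv.ext (congrFun h))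

theorem card_semiaffine_le {F : Type*} [Field F] [Finite F] :
    Nat.card (semiaffineGroup F) ≤ Nat.card F * (Nat.card F - 1) * Nat.card (F ≃+* F) := by
  classical
  have : Finite (F ≃+* F) := finite_ringAut
  have hmem : ∀ σ : semiaffineGroup F, ∃ t : (Fˣ × F) × (F ≃+* F),
      ∀ x, (σ : Equiv.Perm F) x = (t.1.1 : F) * t.2 x + t.1.2 := by
    rintro ⟨σ, a, b, φ, h⟩
    exact ⟨((a, b), φ), h⟩
  choose g hg using hmem
  have hinj : Function.Injective g := by
    intro σ τ h
    apply Subtype.ext
    apply Equiv.ext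
    intro x
    rw [hg σ x, hg τ x, h]
  have h1 := Nat.card_le_card_of_injective g hinj
  rw [Nat.card_prod, Nat.card_prod, Nat.card_units] at h1
  calc Nat.card (semiaffineGroup F) ≤ (Nat.card F - 1) * Nat.card F * Nat.card (F ≃+* F) := h1
    _ = Nat.card F * (Nat.card F - 1) * Nat.card (F ≃+* F) := by
        rw [Nat.mul_comm (Nat.card F - 1) (Nat.card F)]

theorem card_affine_le {F : Type*} [Field F] [Finite F] :
    Nat.card (affineGroup F) ≤ Nat.card F * (Nat.card F - 1) := by
  classical
  have hmem : ∀ σ : affineGroup F, ∃ t : Fˣ × F,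
      ∀ x, (σ : Equiv.Perm F) x = (t.1 : F) * x + t.2 := by
    rintro ⟨σ, a, b, h⟩
    exact ⟨(a, b), h⟩
  choose g hg using hmem
  have hinj : Function.Injective g := by
    intro σ τ h
    apply Subtype.ext
    apply Equiv.ext
    intro x
    rw [hg σ x, hg τ x, h]
  have h1 := Nat.card_le_card_of_injective g hinj
  rw [Nat.card_prod, Nat.card_units] at h1
  calc Nat.card (affineGroup F) ≤ (Nat.card F - 1) * Nat.card F := h1
    _ = Nat.card F * (Nat.card F - 1) := Nat.mul_comm _ _

end Cfsg.Agent.Lib.Helper87.SafField2
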