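import Mathlib

set_option autoImplicit false

/-!
helper87, module REED-[D-ARITH] of helper20's S2343 project: the final arithmetic.
-/

namespace Cfsg.Agent.Lib.Helper87.ReeD

theorem pow_even_mod_eight (m : ℕ) : 3 ^ (2 * m) % 8 = 1 := by
  induction m with
  | zero => simp
  | succ n ih =>
    have : 3 ^ (2 * (n + 1)) = 3 ^ (2 * n) * 9 := by ring
    rw [this, Nat.mul_mod, ih]

/-- the arithmetic core with `Q' = 3^(2m)` abstracted -/
theorem arith_core (Q' : ℕ) (hQ1 : 1 ≤ Q') (hQ8 : Q' % 8 = 1) (k f g dD dD1 nX nU iP : ℕ) (c χi : ℂ)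
    (E1 : (k : ℂ) + ((3 : ℂ) * Q' - 1) * c = (3 : ℂ) * Q' * f)
    (E2 : (k : ℂ) + ((Q' : ℂ) - 1) * c = (Q' : ℂ) * g)
    (E3 : (f : ℂ) + χi = 2 * dD)
    (E4 : (g : ℂ) + χi = 2 * dD1)
    (E5 : (3 : ℂ) * Q' * nU + k = (3 : ℂ) * Q' * nX + f)
    (E6 : (k : ℂ) + 7 * χi = 8 * iP)
    (h1 : dD ≤ f) (h2 : dD ≤ dD1) (h3 : nU ≤ nX) (h4 : f < k) :
    (3 * Q') ^ 2 - 3 * Q' + 1 ≤ k := by
  obtain ⟨n4, rfl⟩ := Nat.exists_eq_add_of_le h2
  obtain ⟨n1, rfl⟩ := Nat.exists_eq_add_of_le h3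
  -- g = f + 2 n4
  have h34 : (g : ℂ) = f + 2 * n4 := by push_cast at E4; linear_combination E4 - E3
  have hg : g = f + 2 * n4 := by exact_mod_cast h34
  subst hg
  -- eliminate c
  have hc : (Q' : ℂ) * ((k : ℂ) - f - (3 * Q' - 1) * n4) = 0 := by
    push_cast at E2
    linear_combination (-1 / 2 : ℂ) * ((Q' : ℂ) - 1) * E1 + (1 / 2 : ℂ) * ((3 : ℂ) * Q' - 1) * E2
  have hQ0 : (Q' : ℂ) ≠ 0 := by
    have : Q' ≠ 0 := by omega
    exact_mod_cast this
  have hk1 : (k : ℂ) = f + (3 * Q' - 1) * n4 := by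
    rcases mul_eq_zero.mp hc with h | h
    · exact absurd h hQ0
    · linear_combination h
  have hk5 : (k : ℂ) = f + 3 * Q' * n1 := by push_cast at E5; linear_combination E5
  -- to ℕ
  have hk1n : k + n4 = f + 3 * Q' * n4 := by
    have : (k : ℂ) + n4 = f + 3 * Q' * n4 := by linear_combination hk1
    exact_mod_cast this
  have hk5n : k = f + 3 * Q' * n1 := by exact_mod_cast hk5
  -- 3Q' ∣ n4
  have hdvd : 3 * Q' ∣ n4 := by
    have hcop : Nat.Coprime (3 * Q') (3 * Q' - 1) := by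
      have : 3 * Q' = (3 * Q' - 1) + 1 := by omega
      rw [this]
      simp
    have h' : 3 * Q' ∣ (3 * Q' - 1) * n4 := by
      have e : (3 * Q' - 1) * n4 = 3 * Q' * n1 := by
        have : (3 * Q' - 1) * n4 + n4 = 3 * Q' * n4 := by
          have h3q : 3 * Q' - 1 + 1 = 3 * Q' := by omega
          calc (3 * Q' - 1) * n4 + n4 = (3 * Q' - 1 + 1) * n4 := by ring
            _ = 3 * Q' * n4 := by rw [h3q]
        omega
      rw [e]; exact dvd_mul_right _ _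
    exact hcop.dvd_of_dvd_mul_left h'
  obtain ⟨e, rfl⟩ := hdvd
  -- k = f + (3Q'-1) * 3Q' * e
  have hke : k + 3 * Q' * e = f + 3 * Q' * (3 * Q' * e) := hk1n
  have he1 : 1 ≤ e := by
    rcases Nat.eq_zero_or_pos e with h0 | h0
    · subst h0; simp at hke; omega
    · exact h0
  set Q := 3 * Q' with hQ
  have hQ3 : 3 ≤ Q := by omega
  have hQQ : Q ≤ Q ^ 2 := by nlinarith
  rcases Nat.eq_zero_or_pos f with hf0 | hfpos
  · -- f = 0
    subst hf0
    have hdD : dD = 0 := by omega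
    subst hdD
    have hχ : χi = 0 := by push_cast at E3; linear_combination E3
    have hk8 : k = 8 * iP := by
      have : (k : ℂ) = 8 * iP := by rw [hχ] at E6; linear_combination E6
      exact_mod_cast this
    -- Q(Q-1) = 2 w, w odd
    have hQmod : Q % 8 = 3 := by omega
    obtain ⟨t, ht⟩ : ∃ t, Q = 8 * t + 3 := ⟨Q / 8, by omega⟩
    have hkk : k = (Q - 1) * Q * e := by
      have : k + Q * e = Q * (Q * e) := by simpa using hke
      have h3q : Q - 1 + 1 = Q := by omega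
      have : (Q - 1) * Q * e + Q * e = Q * (Q * e) := by
        calc (Q - 1) * Q * e + Q * e = (Q - 1 + 1) * (Q * e) := by ring
          _ = Q * (Q * e) := by rw [h3q]
      omega
    have hw : (Q - 1) * Q = 2 * ((4 * t + 1) * (8 * t + 3)) := by
      have : Q - 1 = 8 * t + 2 := by omega
      rw [this, ht]; ring
    have hwodd : Nat.Coprime 4 ((4 * t + 1) * (8 * t + 3)) := by
      have h2 : Nat.Coprime 2 ((4 * t + 1) * (8 * t + 3)) := by
        rw [Nat.coprime_two_left]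
        exact Nat.odd_mul.mpr ⟨⟨2 * t, by ring⟩, ⟨4 * t + 1, by ring⟩⟩
      have : (4 : ℕ) = 2 ^ 2 := by norm_num
      rw [this]
      exact Nat.Coprime.pow_left 2 h2
    have h4e : 4 ∣ e := by
      have : 4 ∣ ((4 * t + 1) * (8 * t + 3)) * e := by
        have h8 : 8 * iP = 2 * ((4 * t + 1) * (8 * t + 3)) * e := by rw [← hk8, hkk, hw]
        exact ⟨iP, by nlinarith⟩
      exact hwodd.dvd_of_dvd_mul_left this
    obtain ⟨e', rfl⟩ := h4e
    have he' : 1 ≤ e' := by omega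
    have : (Q - 1) * Q * 4 ≤ (Q - 1) * Q * (4 * e') := by
      apply Nat.mul_le_mul_left; omega
    have hq1 : Q ^ 2 - Q + 1 ≤ (Q - 1) * Q * 4 := by
      have : (Q - 1) * Q = Q ^ 2 - Q := by
        rw [Nat.sub_mul, one_mul, sq]
      rw [this]
      have : 1 ≤ Q ^ 2 - Q := by
        have : Q * 3 ≤ Q ^ 2 := by nlinarith
        omega
      omega
    omega
  · -- f ≥ 1
    have hkk : k = f + (Q - 1) * Q * e := by
      have h3q : Q - 1 + 1 = Q := by omega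
      have : (Q - 1) * Q * e + Q * e = Q * (Q * e) := by
        calc (Q - 1) * Q * e + Q * e = (Q - 1 + 1) * (Q * e) := by ring
          _ = Q * (Q * e) := by rw [h3q]
      omega
    have : (Q - 1) * Q * 1 ≤ (Q - 1) * Q * e := Nat.mul_le_mul_left _ he1
    have hq1 : (Q - 1) * Q = Q ^ 2 - Q := by
      rw [Nat.sub_mul, one_mul, sq]
    omega

theorem arith (m : ℕ) (k f g dD dD1 nX nU iP : ℕ) (c χi : ℂ)
    (E1 : (k : ℂ) + ((3 : ℂ) ^ (2 * m + 1) - 1) * c = (3 : ℂ) ^ (2 * m + 1) * f)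
    (E2 : (k : ℂ) + ((3 : ℂ) ^ (2 * m) - 1) * c = (3 : ℂ) ^ (2 * m) * g)
    (E3 : (f : ℂ) + χi = 2 * dD)
    (E4 : (g : ℂ) + χi = 2 * dD1)
    (E5 : (3 : ℂ) ^ (2 * m + 1) * nU + k = (3 : ℂ) ^ (2 * m + 1) * nX + f)
    (E6 : (k : ℂ) + 7 * χi = 8 * iP)
    (h1 : dD ≤ f) (h2 : dD ≤ dD1) (h3 : nU ≤ nX) (h4 : f < k) :
    (3 ^ (2 * m + 1)) ^ 2 - 3 ^ (2 * m + 1) + 1 ≤ k := by
  have hp : (3 : ℕ) ^ (2 * m + 1) = 3 * 3 ^ (2 * m) := by rw [pow_succ]; ring
  have hpc : (3 : ℂ) ^ (2 * m + 1) = 3 * ((3 ^ (2 * m) : ℕ) : ℂ) := by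
    push_cast; rw [pow_succ]; ring
  have hpc' : (3 : ℂ) ^ (2 * m) = ((3 ^ (2 * m) : ℕ) : ℂ) := by push_cast; rfl
  rw [hp]
  rw [hpc] at E1 E5
  rw [hpc'] at E2
  exact arith_core (3 ^ (2 * m)) (Nat.one_le_pow _ _ (by norm_num)) (pow_even_mod_eight m)
    k f g dD dD1 nX nU iP c χi E1 E2 E3 E4 E5 E6 h1 h2 h3 h4

end Cfsg.Agent.Lib.Helper87.ReeD
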