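import Mathlib
import Cfsg.Agent.Lib.Helper20.ReeD.Defs

set_option autoImplicit false

/-!
helper87, module REED-[D-SPREAD] of helper20's S2343 project: the spread identity
`Σ_{U₂} χ + q χ(1) = q Σ_X χ + Σ_Z χ`.
-/

namespace Cfsg.Agent.Lib.Helper87.ReeD

open Cfsg.Agent.Lib.Helper20.ReeD

theorem spread_sum {G : Type*} [Group G] [Finite G] (χ : G → ℂ) (hχ : ∀ g x, χ (g * x * g⁻¹) = χ x)
    {q : ℕ} {ι : Type*} (D : DegData G q ι) [Fintype D.Z] [Fintype D.X] [Fintype D.U₂] :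
    ∑ y : D.U₂, χ y + (q : ℂ) * χ 1 = (q : ℂ) * ∑ y : D.X, χ y + ∑ z : D.Z, χ z := by
  classical
  let _ : Fintype G := Fintype.ofFinite G
  have hq : q ≠ 0 := by
    intro h
    have h1 := D.cardZ
    have : 0 < Nat.card D.Z := Nat.card_pos
    omega
  have : Finite ι := Nat.finite_of_card_ne_zero (by rw [D.cardι]; exact hq)
  let _ : Fintype ι := Fintype.ofFinite ι
  have hι : Fintype.card ι = q := by rw [← Nat.card_eq_fintype_card, D.cardι]
  set SU : Finset G := Finset.univ.filter (fun y => y ∈ D.U₂) with hSUdef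
  set SX : Finset G := Finset.univ.filter (fun y => y ∈ D.X) with hSXdef
  set SZ : Finset G := Finset.univ.filter (fun y => y ∈ D.Z) with hSZdef
  have memSU : ∀ y, y ∈ SU ↔ y ∈ D.U₂ := by intro y; simp [SU]
  have memSX : ∀ y, y ∈ SX ↔ y ∈ D.X := by intro y; simp [SX]
  have memSZ : ∀ y, y ∈ SZ ↔ y ∈ D.Z := by intro y; simp [SZ]
  have hSU : ∑ y : D.U₂, χ y = ∑ y ∈ SU, χ y := (Finset.sum_subtype SU memSU χ).symm
  have hSX : ∑ y : D.X, χ y = ∑ y ∈ SX, χ y := (Finset.sum_subtype SX memSX χ).symm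
  have hSZ : ∑ y : D.Z, χ y = ∑ y ∈ SZ, χ y := (Finset.sum_subtype SZ memSZ χ).symm
  have cSU : SU.card = q * q := by rw [← Nat.subtype_card SU memSU]; exact D.cardU₂
  have cSX : SX.card = q := by rw [← Nat.subtype_card SX memSX]; exact D.cardX
  have cSZ : SZ.card = q := by rw [← Nat.subtype_card SZ memSZ]; exact D.cardZ
  have oneX : (1 : G) ∈ SX := (memSX 1).mpr D.X.one_mem
  have oneZ : (1 : G) ∈ SZ := (memSZ 1).mpr D.Z.one_mem
  set FX := SX.erase 1 with hFX
  set FZ := SZ.erase 1 with hFZ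
  have cFX : FX.card = q - 1 := by rw [hFX, Finset.card_erase_of_mem oneX, cSX]
  have cFZ : FZ.card = q - 1 := by rw [hFZ, Finset.card_erase_of_mem oneZ, cSZ]
  have memFX : ∀ y, y ∈ FX ↔ y ≠ 1 ∧ y ∈ D.X := by
    intro y; rw [hFX, Finset.mem_erase, memSX]
  have memFZ : ∀ y, y ∈ FZ ↔ y ≠ 1 ∧ y ∈ D.Z := by
    intro y; rw [hFZ, Finset.mem_erase, memSZ]
  let Φ : ι × G → G := fun p => D.x p.1 * p.2 * (D.x p.1)⁻¹
  set T : Finset (ι × G) := Finset.univ ×ˢ FX with hT
  have hinj : Set.InjOn Φ (T : Set (ι × G)) := by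
    rintro ⟨s, y⟩ hsy ⟨s', y'⟩ hsy' heq
    simp only [T, Finset.coe_product, Set.mem_prod, Finset.mem_coe, Finset.mem_univ, true_and] at hsy hsy'
    have hy := (memFX y).mp hsy
    have hy' := (memFX y').mp hsy'
    by_cases hss : s = s'
    · subst hss
      have : y = y' := by
        have h := heq
        simp only [Φ] at h
        exact mul_left_cancel (mul_right_cancel h)
      rw [this]
    · exact absurd (D.conj_disj s s' hss y hy.2 y' hy'.2 heq) hy.1
  set B : Finset G := T.image Φ with hB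
  have cB : B.card = q * (q - 1) := by
    rw [hB, Finset.card_image_of_injOn hinj, hT, Finset.card_product, Finset.card_univ, hι, cFX]
  have memB : ∀ b, b ∈ B ↔ ∃ s y, y ≠ 1 ∧ y ∈ D.X ∧ D.x s * y * (D.x s)⁻¹ = b := by
    intro b
    rw [hB, Finset.mem_image]
    constructor
    · rintro ⟨⟨s, y⟩, hp, rfl⟩
      simp only [T, Finset.mem_product, Finset.mem_univ, true_and] at hp
      exact ⟨s, y, ((memFX y).mp hp).1, ((memFX y).mp hp).2, rfl⟩
    · rintro ⟨s, y, h1, h2, rfl⟩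
      refine ⟨⟨s, y⟩, ?_, rfl⟩
      simp only [T, Finset.mem_product, Finset.mem_univ, true_and]
      exact (memFX y).mpr ⟨h1, h2⟩
  have oneB : (1 : G) ∉ B := by
    intro h
    obtain ⟨s, y, h1, _, h3⟩ := (memB 1).mp h
    apply h1
    have : D.x s * y = D.x s := by
      have := congrArg (fun t => t * D.x s) h3
      simpa using this
    exact mul_left_cancel (this.trans (mul_one _).symm)
  have disjZB : Disjoint FZ B := by
    rw [Finset.disjoint_left]
    intro b hbZ hbB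
    obtain ⟨s, y, h1, h2, rfl⟩ := (memB b).mp hbB
    exact h1 (D.conj_Z s y h2 ((memFZ _).mp hbZ).2)
  have oneZB : (1 : G) ∉ FZ ∪ B := by
    rw [Finset.mem_union]
    rintro (h | h)
    · exact ((memFZ 1).mp h).1 rfl
    · exact oneB h
  have hsub : insert 1 (FZ ∪ B) ⊆ SU := by
    intro b hb
    rw [Finset.mem_insert, Finset.mem_union] at hb
    rw [memSU]
    rcases hb with rfl | hb | hb
    · exact D.U₂.one_mem
    · exact D.Z_le ((memFZ b).mp hb).2
    · obtain ⟨s, y, _, h2, rfl⟩ := (memB b).mp hb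
      exact D.conj_le s y h2
  have hcard : SU.card ≤ (insert 1 (FZ ∪ B)).card := by
    rw [Finset.card_insert_of_notMem oneZB, Finset.card_union_of_disjoint disjZB, cFZ, cB, cSU]
    obtain ⟨r, rfl⟩ : ∃ r, q = r + 1 := ⟨q - 1, by omega⟩
    simp only [Nat.add_sub_cancel]
    nlinarith
  have hEq : insert 1 (FZ ∪ B) = SU := Finset.eq_of_subset_of_card_le hsub hcard
  -- sums
  have sFX : ∑ y ∈ FX, χ y = ∑ y ∈ SX, χ y - χ 1 := by
    rw [hFX, ← Finset.add_sum_erase SX χ oneX]; ring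
  have sFZ : ∑ y ∈ FZ, χ y = ∑ y ∈ SZ, χ y - χ 1 := by
    rw [hFZ, ← Finset.add_sum_erase SZ χ oneZ]; ring
  have sB : ∑ b ∈ B, χ b = (q : ℂ) * ∑ y ∈ FX, χ y := by
    rw [hB, Finset.sum_image hinj, hT, Finset.sum_product]
    simp only [Φ, hχ]
    rw [Finset.sum_const, Finset.card_univ, hι, nsmul_eq_mul]
  rw [hSU, hSX, hSZ, ← hEq, Finset.sum_insert oneZB, Finset.sum_union disjZB, sB, sFX, sFZ]
  ring

end Cfsg.Agent.Lib.Helper87.ReeD
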