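import Mathlib
import Cfsg.Prelude.Def_GeometricClasses
import Cfsg.Agent.Lib.Helper99.AschDefs
import Cfsg.Agent.Lib.Helper23.AschSpDefs

/-!
ASCHSP adjoint kit (helper87): the statements of ASCHSP-[ADJ] (and the two [PERP] lemmas they need), proved in
helper87's own namespace so that [KSTAR], [C3-ALT], [C3-EVEN] do not wait for the owners of [ADJ]/[PERP].
-/

set_option autoImplicit false

namespace Cfsg.Agent.Lib.Helper87.AschSpAdjKit

open Cfsg Cfsg.Geo Cfsg.Agent.Lib.Helper99.Asch Cfsg.Agent.Lib.Helper23.AschSp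
open scoped MatrixGroups Matrix Kronecker

variable {n : ℕ} {F : Type*} [Field F] {f : (Fin n → F) → (Fin n → F) → F}

theorem form_eq_gram (hf : IsBilinearForm f) (u v : Fin n → F) :
    f u v = u ⬝ᵥ (gramMatrix f *ᵥ v) := by
  set B : LinearMap.BilinForm F (Fin n → F) :=
    LinearMap.mk₂ F f hf.add_left hf.smul_left hf.add_right hf.smul_right with hB
  have h1 : LinearMap.BilinForm.toMatrix' B = gramMatrix f := by
    ext a b
    rw [LinearMap.BilinForm.toMatrix'_apply]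
    rfl
  have h2 : Matrix.toBilin' (gramMatrix f) = B := by
    rw [← h1, Matrix.toBilin'_toMatrix']
  have h3 : f u v = B u v := rfl
  rw [h3, ← h2, Matrix.toBilin'_apply']

theorem gram_det_ne_zero (hf : IsBilinearForm f) (hnd : IsNondegenerateForm f) :
    (gramMatrix f).det ≠ 0 := by
  intro h0
  obtain ⟨v, hv, hGv⟩ := Matrix.exists_mulVec_eq_zero_iff.2 h0
  obtain ⟨x, hx⟩ := (hnd v hv).1
  apply hx
  rw [form_eq_gram hf, hGv, dotProduct_zero]

theorem gram_mul_inv (hf : IsSymplecticForm f) : gramMatrix f * (gramMatrix f)⁻¹ = 1 :=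
  Matrix.mul_nonsing_inv _ (isUnit_iff_ne_zero.2 (gram_det_ne_zero hf.bilinear hf.nondegenerate))

theorem gram_inv_mul (hf : IsSymplecticForm f) : (gramMatrix f)⁻¹ * gramMatrix f = 1 :=
  Matrix.nonsing_inv_mul _ (isUnit_iff_ne_zero.2 (gram_det_ne_zero hf.bilinear hf.nondegenerate))

theorem adj_spec (hf : IsSymplecticForm f) (k : Matrix (Fin n) (Fin n) F) (u v : Fin n → F) :
    f (k *ᵥ u) v = f u (adjMat f k *ᵥ v) := by
  rw [form_eq_gram hf.bilinear, form_eq_gram hf.bilinear, adjMat]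
  rw [Matrix.mulVec_mulVec, ← Matrix.mul_assoc, ← Matrix.mul_assoc, gram_mul_inv hf, Matrix.one_mul]
  rw [← Matrix.mulVec_mulVec, Matrix.dotProduct_mulVec u kᵀ, Matrix.vecMul_transpose]

theorem eq_zero_of_forall_form_eq_zero (hf : IsSymplecticForm f) (w : Fin n → F)
    (h : ∀ u, f u w = 0) : w = 0 := by
  by_contra hw
  obtain ⟨x, hx⟩ := (hf.nondegenerate w hw).1
  exact hx (h x)

theorem adj_unique (hf : IsSymplecticForm f) (k k' : Matrix (Fin n) (Fin n) F)
    (h : ∀ u v, f (k *ᵥ u) v = f u (k' *ᵥ v)) : k' = adjMat f k := by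
  apply Matrix.toLin'.injective
  apply LinearMap.ext
  intro v
  rw [Matrix.toLin'_apply, Matrix.toLin'_apply]
  have h0 : k' *ᵥ v - adjMat f k *ᵥ v = 0 := by
    apply eq_zero_of_forall_form_eq_zero hf
    intro u
    have h1 := h u v
    rw [adj_spec hf] at h1
    have h2 : f u (k' *ᵥ v - adjMat f k *ᵥ v) = f u (k' *ᵥ v) - f u (adjMat f k *ᵥ v) := by
      have := hf.bilinear.add_right u (k' *ᵥ v) ((-1 : F) • (adjMat f k *ᵥ v))
      rw [hf.bilinear.smul_right] at this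
      rw [sub_eq_add_neg, ← neg_one_smul F (adjMat f k *ᵥ v), this]
      ring
    rw [h2, ← h1, sub_self]
  exact sub_eq_zero.1 h0

theorem adj_adj (hf : IsSymplecticForm f) (k : Matrix (Fin n) (Fin n) F) :
    adjMat f (adjMat f k) = k := by
  symm
  apply adj_unique hf
  intro u v
  rw [hf.skew, ← adj_spec hf, hf.skew, neg_neg]

theorem adj_mul (hf : IsSymplecticForm f) (k l : Matrix (Fin n) (Fin n) F) :
    adjMat f (k * l) = adjMat f l * adjMat f k := by
  unfold adjMat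
  rw [Matrix.transpose_mul]
  calc (gramMatrix f)⁻¹ * (lᵀ * kᵀ) * gramMatrix f
      = (gramMatrix f)⁻¹ * lᵀ * 1 * kᵀ * gramMatrix f := by simp only [Matrix.mul_one, Matrix.mul_assoc]
    _ = (gramMatrix f)⁻¹ * lᵀ * (gramMatrix f * (gramMatrix f)⁻¹) * kᵀ * gramMatrix f := by
        rw [gram_mul_inv hf]
    _ = (gramMatrix f)⁻¹ * lᵀ * gramMatrix f * ((gramMatrix f)⁻¹ * kᵀ * gramMatrix f) := by
        simp only [Matrix.mul_assoc]

theorem adj_add (k l : Matrix (Fin n) (Fin n) F) : adjMat f (k + l) = adjMat f k + adjMat f l := by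
  unfold adjMat
  rw [Matrix.transpose_add, Matrix.mul_add, Matrix.add_mul]

theorem adj_smul (c : F) (k : Matrix (Fin n) (Fin n) F) : adjMat f (c • k) = c • adjMat f k := by
  unfold adjMat
  rw [Matrix.transpose_smul, Matrix.mul_smul, Matrix.smul_mul]

theorem adj_one (hf : IsSymplecticForm f) : adjMat f (1 : Matrix (Fin n) (Fin n) F) = 1 := by
  unfold adjMat
  rw [Matrix.transpose_one, Matrix.mul_one, gram_inv_mul hf]

theorem adj_sub (k l : Matrix (Fin n) (Fin n) F) : adjMat f (k - l) = adjMat f k - adjMat f l := by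
  unfold adjMat
  rw [Matrix.transpose_sub, Matrix.mul_sub, Matrix.sub_mul]

theorem adj_zero : adjMat f (0 : Matrix (Fin n) (Fin n) F) = 0 := by
  unfold adjMat
  rw [Matrix.transpose_zero, Matrix.mul_zero, Matrix.zero_mul]

theorem adj_of_mem_similarity (hf : IsSymplecticForm f) (g : GL (Fin n) F) (hg : g ∈ similarityGroup f) :
    ∃ c : F, c ≠ 0 ∧ adjMat f (g : Matrix (Fin n) (Fin n) F) =
      c • ((g⁻¹ : GL (Fin n) F) : Matrix (Fin n) (Fin n) F) := by
  obtain ⟨c, hc⟩ := hg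
  refine ⟨(c : F), c.ne_zero, ?_⟩
  symm
  apply adj_unique hf
  intro u v
  have h1 := hc u (((g⁻¹ : GL (Fin n) F) : Matrix (Fin n) (Fin n) F) *ᵥ v)
  rw [Matrix.mulVec_mulVec, ← Units.val_mul, mul_inv_cancel, Units.val_one, Matrix.one_mulVec] at h1
  rw [h1, Matrix.smul_mulVec, hf.bilinear.smul_right]

theorem adj_of_mem_isoGL (hf : IsSymplecticForm f) (h : GL (Fin n) F) (hh : h ∈ isoGL f) :
    adjMat f (h : Matrix (Fin n) (Fin n) F) = ((h⁻¹ : GL (Fin n) F) : Matrix (Fin n) (Fin n) F) := by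
  symm
  apply adj_unique hf
  intro u v
  have h1 := (mem_isoGL.1 hh) u (((h⁻¹ : GL (Fin n) F) : Matrix (Fin n) (Fin n) F) *ᵥ v)
  rw [Matrix.mulVec_mulVec, ← Units.val_mul, mul_inv_cancel, Units.val_one, Matrix.one_mulVec] at h1
  exact h1

theorem adj_conj (hf : IsSymplecticForm f) (h : GL (Fin n) F) (hh : h ∈ isoGL f) (k : Matrix (Fin n) (Fin n) F) :
    adjMat f ((h : Matrix (Fin n) (Fin n) F) * k * ((h⁻¹ : GL (Fin n) F) : Matrix (Fin n) (Fin n) F)) =
      (h : Matrix (Fin n) (Fin n) F) * adjMat f k * ((h⁻¹ : GL (Fin n) F) : Matrix (Fin n) (Fin n) F) := by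
  have h1 := adj_of_mem_isoGL hf h hh
  have h2 := adj_of_mem_isoGL hf h⁻¹ ((isoGL f).inv_mem hh)
  rw [inv_inv] at h2
  rw [adj_mul hf, adj_mul hf, h1, h2, Matrix.mul_assoc]

end Cfsg.Agent.Lib.Helper87.AschSpAdjKit
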