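import Mathlib
import Cfsg.Prelude.Def_GeometricClasses
import Cfsg.Agent.Lib.Helper99.AschDefs
import Cfsg.Agent.Lib.Helper23.AschSpDefs
import Cfsg.Agent.Lib.Helper87.AschSpAdjKit
import Cfsg.Agent.Lib.Helper24.BhrC3Div

/-!
ASCHSP-[C3-ALT] (helper87): for a self-adjoint field `K'` of prime degree normalised by an irreducible group of
isometries of a symplectic form `f` on `F^(2m)`, `m ≥ 2`, one has `f (k v) v = 0` for all `k ∈ K'`.
-/

set_option autoImplicit false

namespace Cfsg.Agent.Lib.Helper87.AschSpC3Alt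

open Cfsg Cfsg.Geo Cfsg.Agent.Lib.Helper99.Asch Cfsg.Agent.Lib.Helper23.AschSp
open Cfsg.Agent.Lib.Helper87.AschSpAdjKit
open scoped MatrixGroups Matrix Kronecker

variable {n : ℕ} {F : Type*} [Field F] {f : (Fin n → F) → (Fin n → F) → F}

/-- `k ↦ f (k v) v` as a linear functional on the subalgebra `K'`. -/
noncomputable def phi (hf : IsSymplecticForm f) (K' : Subalgebra F (Matrix (Fin n) (Fin n) F))
    (v : Fin n → F) : Module.Dual F K' where
  toFun k := f ((k : Matrix (Fin n) (Fin n) F) *ᵥ v) v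
  map_add' k l := by
    show f (((k + l : K') : Matrix (Fin n) (Fin n) F) *ᵥ v) v = _
    rw [Subalgebra.coe_add, Matrix.add_mulVec, hf.bilinear.add_left]
  map_smul' c k := by
    show f (((c • k : K') : Matrix (Fin n) (Fin n) F) *ᵥ v) v = _
    rw [Subalgebra.coe_smul, Matrix.smul_mulVec, hf.bilinear.smul_left]
    rfl

theorem phi_apply (hf : IsSymplecticForm f) (K' : Subalgebra F (Matrix (Fin n) (Fin n) F))
    (v : Fin n → F) (k : K') : phi hf K' v k = f ((k : Matrix (Fin n) (Fin n) F) *ᵥ v) v := rfl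

end Cfsg.Agent.Lib.Helper87.AschSpC3Alt

namespace Cfsg.Agent.Lib.Helper23.AschSp

open Cfsg Cfsg.Geo Cfsg.Agent.Lib.Helper99.Asch
open Cfsg.Agent.Lib.Helper87.AschSpAdjKit Cfsg.Agent.Lib.Helper87.AschSpC3Alt
open scoped MatrixGroups Matrix Kronecker

variable {n m : ℕ} {F : Type*} [Field F] [Fintype F] {f : (Fin n → F) → (Fin n → F) → F}

/-- ASCHSP-[C3-ALT] -/
theorem alternating_of_selfAdjoint_field (hf : IsSymplecticForm f) (hnm : n = 2 * m) (hm : 2 ≤ m)
    (H : Subgroup (GL (Fin n) F)) (hH : H ≤ isoGL f) (hirr : ActsIrreducibly (matrixSet H))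
    (r : ℕ) (hr : r.Prime) (K' : Subalgebra F (Matrix (Fin n) (Fin n) F)) (hK' : IsFieldSubalgebra r K')
    (hnorm : ∀ h ∈ H, ∀ k ∈ K',
      (h : Matrix (Fin n) (Fin n) F) * k * ((h⁻¹ : GL (Fin n) F) : Matrix (Fin n) (Fin n) F) ∈ K')
    (hself : ∀ k ∈ K', adjMat f k = k) : ∀ k ∈ K', ∀ v, f (k *ᵥ v) v = 0 := by
  classical
  -- the symmetric identity `f (k v) u = - f (k u) v`
  have hsym : ∀ k ∈ K', ∀ u v, f (k *ᵥ v) u = - f (k *ᵥ u) v := by
    intro k hk u v
    rw [adj_spec hf, hself k hk, hf.skew]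
  by_cases h2 : (2 : F) = 0
  swap
  · -- characteristic not 2
    intro k hk v
    have h1 := hsym k hk v v
    have h3 : (2 : F) * f (k *ᵥ v) v = 0 := by
      rw [two_mul]
      nth_rewrite 1 [h1]
      ring
    rcases mul_eq_zero.1 h3 with h | h
    · exact absurd h h2
    · exact h
  -- characteristic 2
  have hneg : ∀ a : F, -a = a := by
    intro a
    have : a + a = 0 := by rw [← two_mul, h2, zero_mul]
    exact neg_eq_of_add_eq_zero_left this
  have hadd : ∀ k ∈ K', ∀ u v, f (k *ᵥ (u + v)) (u + v) = f (k *ᵥ u) u + f (k *ᵥ v) v := by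
    intro k hk u v
    rw [Matrix.mulVec_add, hf.bilinear.add_left, hf.bilinear.add_right, hf.bilinear.add_right,
      hsym k hk u v, hneg]
    have : f (k *ᵥ u) v + f (k *ᵥ u) v = 0 := by rw [← two_mul, h2, zero_mul]
    calc f (k *ᵥ u) u + f (k *ᵥ u) v + (f (k *ᵥ u) v + f (k *ᵥ v) v)
        = f (k *ᵥ u) u + f (k *ᵥ v) v + (f (k *ᵥ u) v + f (k *ᵥ u) v) := by ring
      _ = f (k *ᵥ u) u + f (k *ᵥ v) v := by rw [this, add_zero]
  have hsm : ∀ (k : Matrix (Fin n) (Fin n) F) (c : F) (v : Fin n → F),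
      f (k *ᵥ (c • v)) (c • v) = c * (c * f (k *ᵥ v) v) := by
    intro k c v
    rw [Matrix.mulVec_smul, hf.bilinear.smul_left, hf.bilinear.smul_right]
  -- the subspace where all `φ_k` vanish
  let W₀ : Submodule F (Fin n → F) :=
    { carrier := {v | ∀ k ∈ K', f (k *ᵥ v) v = 0}
      add_mem' := by
        intro u v hu hv k hk
        rw [hadd k hk, hu k hk, hv k hk, add_zero]
      zero_mem' := by
        intro k _
        rw [Matrix.mulVec_zero]
        exact hf.alternating 0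
      smul_mem' := by
        intro c v hv k hk
        show f (k *ᵥ (c • v)) (c • v) = 0
        rw [hsm, hv k hk, mul_zero, mul_zero] }
  have hW₀ : ∀ v, v ∈ W₀ ↔ ∀ k ∈ K', f (k *ᵥ v) v = 0 := fun v => Iff.rfl
  have hinv : ∀ s ∈ matrixSet H, W₀.map (Matrix.toLin' s) ≤ W₀ := by
    rintro _ ⟨h, hh, rfl⟩ _ ⟨v, hv, rfl⟩
    rw [hW₀]
    intro k hk
    rw [Matrix.toLin'_apply]
    have hk' : ((h⁻¹ : GL (Fin n) F) : Matrix (Fin n) (Fin n) F) * k * (h : Matrix (Fin n) (Fin n) F) ∈ K' := by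
      have := hnorm h⁻¹ (H.inv_mem hh) k hk
      rwa [inv_inv] at this
    have h1 : k *ᵥ ((h : Matrix (Fin n) (Fin n) F) *ᵥ v) =
        (h : Matrix (Fin n) (Fin n) F) *ᵥ
          ((((h⁻¹ : GL (Fin n) F) : Matrix (Fin n) (Fin n) F) * k * (h : Matrix (Fin n) (Fin n) F)) *ᵥ v) := by
      rw [Matrix.mulVec_mulVec, Matrix.mulVec_mulVec, ← Matrix.mul_assoc, ← Matrix.mul_assoc, ← Units.val_mul,
        mul_inv_cancel, Units.val_one, Matrix.one_mul]
    rw [h1, (mem_isoGL.1 (hH hh))]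
    exact (hW₀ v).1 hv _ hk'
  rcases hirr W₀ hinv with hbot | htop
  swap
  · intro k hk v
    have : v ∈ W₀ := by rw [htop]; exact Submodule.mem_top
    exact (hW₀ v).1 this k hk
  -- `W₀ = ⊥`: counting
  exfalso
  have hrpos : 0 < Module.finrank F K' := by rw [hK'.finrank_eq]; exact hr.pos
  have : Module.Finite F K' := Module.finite_of_finrank_pos hrpos
  have : Finite (Module.Dual F K') := Module.finite_of_finite F
  have hinj : Function.Injective (fun v : Fin n → F => phi hf K' v) := by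
    intro u v huv
    have huv' : ∀ k ∈ K', f (k *ᵥ u) u = f (k *ᵥ v) v := by
      intro k hk
      have := congrArg (fun φ : Module.Dual F K' => φ ⟨k, hk⟩) huv
      simpa [phi_apply] using this
    have hmem : u - v ∈ W₀ := by
      rw [hW₀]
      intro k hk
      have h1 : u - v = u + (-1 : F) • v := by rw [neg_one_smul, sub_eq_add_neg]
      rw [h1, hadd k hk, hsm, huv' k hk]
      have : f (k *ᵥ v) v + f (k *ᵥ v) v = 0 := by rw [← two_mul, h2, zero_mul]
      calc f (k *ᵥ v) v + -1 * (-1 * f (k *ᵥ v) v) = f (k *ᵥ v) v + f (k *ᵥ v) v := by ring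
        _ = 0 := this
    rw [hbot, Submodule.mem_bot] at hmem
    exact sub_eq_zero.1 hmem
  have hcard := Nat.card_le_card_of_injective _ hinj
  rw [Module.natCard_eq_pow_finrank (K := F) (V := Fin n → F),
    Module.natCard_eq_pow_finrank (K := F) (V := Module.Dual F K'), Subspace.dual_finrank_eq,
    hK'.finrank_eq, Module.finrank_fin_fun] at hcard
  have hq : 1 < Nat.card F := by
    rw [Nat.card_eq_fintype_card]; exact Fintype.one_lt_card
  have hnr : n ≤ r := (Nat.pow_le_pow_iff_right hq).1 hcard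
  have hdvd : r ∣ n := dvd_of_isFieldSubalgebra r K' hK'
  have hnpos : 0 < n := by omega
  have hrn : r = n := le_antisymm (Nat.le_of_dvd hnpos hdvd) hnr
  have h2r : 2 ∣ r := by rw [hrn, hnm]; exact dvd_mul_right 2 m
  have := (Nat.prime_dvd_prime_iff_eq Nat.prime_two hr).1 h2r
  omega

end Cfsg.Agent.Lib.Helper23.AschSp
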