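import Mathlib
import Cfsg.Prelude.Def_GeometricClasses
import Cfsg.Agent.Lib.Helper99.AschDefs
import Cfsg.Agent.Lib.Helper23.AschSpDefs
import Cfsg.Agent.Lib.Helper87.AschSpAdjKit

/-!
ASCHSP-[C3-EVEN] (helper87): characteristic 2, `K'` a quadratic field closed under adjoints but not self-adjoint,
normalised by `H ≤ isoGL f`: then `Q v = f (θ v) v` (with `θ + θ* = 1`) is a quadratic form with polar form `f`
preserved by `H`, so `H` lies in a class-8 member.
-/

set_option autoImplicit false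

namespace Cfsg.Agent.Lib.Helper87.AschSpC3Even

open Cfsg Cfsg.Geo Cfsg.Agent.Lib.Helper99.Asch Cfsg.Agent.Lib.Helper23.AschSp
open Cfsg.Agent.Lib.Helper87.AschSpAdjKit
open scoped MatrixGroups Matrix Kronecker

variable {n : ℕ} {F : Type*} [Field F] {f : (Fin n → F) → (Fin n → F) → F}

/-- `x ↦ x + adj x` on a subalgebra closed under adjoints. -/
noncomputable def trMap (K' : Subalgebra F (Matrix (Fin n) (Fin n) F))
    (hadj : ∀ k ∈ K', adjMat f k ∈ K') : K' →ₗ[F] K' where
  toFun x := ⟨(x : Matrix (Fin n) (Fin n) F) + adjMat f x, K'.add_mem x.2 (hadj x x.2)⟩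
  map_add' x y := by
    apply Subtype.ext
    show ((x + y : K') : Matrix (Fin n) (Fin n) F) + adjMat f ((x + y : K') : Matrix (Fin n) (Fin n) F) =
      ((x : Matrix (Fin n) (Fin n) F) + adjMat f x) + ((y : Matrix (Fin n) (Fin n) F) + adjMat f y)
    rw [Subalgebra.coe_add, adj_add]
    abel
  map_smul' c x := by
    apply Subtype.ext
    show ((c • x : K') : Matrix (Fin n) (Fin n) F) + adjMat f ((c • x : K') : Matrix (Fin n) (Fin n) F) =
      c • ((x : Matrix (Fin n) (Fin n) F) + adjMat f x)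
    rw [Subalgebra.coe_smul, adj_smul, smul_add]

theorem trMap_coe (K' : Subalgebra F (Matrix (Fin n) (Fin n) F))
    (hadj : ∀ k ∈ K', adjMat f k ∈ K') (x : K') :
    ((trMap K' hadj x : K') : Matrix (Fin n) (Fin n) F) = (x : Matrix (Fin n) (Fin n) F) + adjMat f x := rfl

/-- In characteristic 2 the fixed points of the adjoint on a non-self-adjoint quadratic field are the scalars. -/
theorem fixed_eq_scalar (hf : IsSymplecticForm f) (h2 : (2 : F) = 0)
    (K' : Subalgebra F (Matrix (Fin n) (Fin n) F)) (hK' : IsFieldSubalgebra 2 K')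
    (hadj : ∀ k ∈ K', adjMat f k ∈ K') (hns : ∃ k ∈ K', adjMat f k ≠ k) :
    ∀ x ∈ K', adjMat f x = x → ∃ a : F, x = a • (1 : Matrix (Fin n) (Fin n) F) := by
  classical
  have hdbl : ∀ y : Matrix (Fin n) (Fin n) F, y + y = 0 := fun y => by
    rw [← two_smul F y, h2, zero_smul]
  have hpos : 0 < Module.finrank F K' := by rw [hK'.finrank_eq]; norm_num
  have hfin : Module.Finite F K' := Module.finite_of_finrank_pos hpos
  set T := trMap K' hadj with hT
  -- `T ∘ T = 0`
  have hTT : T ∘ₗ T = 0 := by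
    apply LinearMap.ext
    intro x
    apply Subtype.ext
    show ((T (T x) : K') : Matrix (Fin n) (Fin n) F) = 0
    rw [hT, trMap_coe, trMap_coe, adj_add, adj_adj hf]
    have : (x : Matrix (Fin n) (Fin n) F) + adjMat f x + (adjMat f x + (x : Matrix (Fin n) (Fin n) F)) =
        ((x : Matrix (Fin n) (Fin n) F) + adjMat f x) + ((x : Matrix (Fin n) (Fin n) F) + adjMat f x) := by
      abel
    rw [this, hdbl]
  have hle : LinearMap.range T ≤ LinearMap.ker T := LinearMap.range_le_ker_iff.2 hTT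
  -- `T ≠ 0`
  obtain ⟨θ, hθK, hθ⟩ := hns
  have hTθ : T ⟨θ, hθK⟩ ≠ 0 := by
    intro h0
    have h1 : θ + adjMat f θ = 0 := by
      have := congrArg (fun y : K' => (y : Matrix (Fin n) (Fin n) F)) h0
      simpa [hT, trMap_coe] using this
    apply hθ
    have h3 : adjMat f θ = -θ := (neg_eq_of_add_eq_zero_right h1).symm
    rw [h3]
    exact neg_eq_of_add_eq_zero_left (hdbl θ)
  have hrange_ne : LinearMap.range T ≠ ⊥ := by
    intro h
    apply hTθ
    have : T ⟨θ, hθK⟩ ∈ LinearMap.range T := LinearMap.mem_range_self T _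
    rw [h, Submodule.mem_bot] at this
    exact this
  have h1r : 1 ≤ Module.finrank F (LinearMap.range T) := Submodule.one_le_finrank_iff.2 hrange_ne
  have hsum := LinearMap.finrank_range_add_finrank_ker T
  rw [hK'.finrank_eq] at hsum
  have hmono : Module.finrank F (LinearMap.range T) ≤ Module.finrank F (LinearMap.ker T) :=
    Submodule.finrank_mono hle
  have hker1 : Module.finrank F (LinearMap.ker T) = 1 := by omega
  -- `1 ≠ 0`
  have hone_ne : (1 : Matrix (Fin n) (Fin n) F) ≠ 0 := by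
    intro h10
    apply hθ
    have hz : ∀ y : Matrix (Fin n) (Fin n) F, y = 0 := fun y => by
      rw [← Matrix.mul_one y, h10, Matrix.mul_zero]
    rw [hz θ, hz (adjMat f 0)]
  -- `1 ∈ ker T`
  have hone_mem : (1 : K') ∈ LinearMap.ker T := by
    rw [LinearMap.mem_ker]
    apply Subtype.ext
    show ((T (1 : K') : K') : Matrix (Fin n) (Fin n) F) = 0
    rw [hT, trMap_coe]
    show (1 : Matrix (Fin n) (Fin n) F) + adjMat f (1 : Matrix (Fin n) (Fin n) F) = 0
    rw [adj_one hf, hdbl]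
  have hone_ne' : (⟨(1 : K'), hone_mem⟩ : LinearMap.ker T) ≠ 0 := by
    intro h
    apply hone_ne
    have := congrArg (fun y : LinearMap.ker T => ((y : K') : Matrix (Fin n) (Fin n) F)) h
    simpa using this
  have hall := (finrank_eq_one_iff_of_nonzero' (⟨(1 : K'), hone_mem⟩ : LinearMap.ker T) hone_ne').1 hker1
  intro x hxK hx
  have hxker : (⟨x, hxK⟩ : K') ∈ LinearMap.ker T := by
    rw [LinearMap.mem_ker]
    apply Subtype.ext
    show ((T ⟨x, hxK⟩ : K') : Matrix (Fin n) (Fin n) F) = 0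
    rw [hT, trMap_coe]
    show x + adjMat f x = 0
    rw [hx, hdbl]
  obtain ⟨a, ha⟩ := hall ⟨⟨x, hxK⟩, hxker⟩
  refine ⟨a, ?_⟩
  have := congrArg (fun y : LinearMap.ker T => ((y : K') : Matrix (Fin n) (Fin n) F)) ha
  simpa using this.symm

end Cfsg.Agent.Lib.Helper87.AschSpC3Even

namespace Cfsg.Agent.Lib.Helper23.AschSp

open Cfsg Cfsg.Geo Cfsg.Agent.Lib.Helper99.Asch
open Cfsg.Agent.Lib.Helper87.AschSpAdjKit Cfsg.Agent.Lib.Helper87.AschSpC3Even
open scoped MatrixGroups Matrix Kronecker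

variable {n m : ℕ} {F : Type*} [Field F] [Fintype F] {f : (Fin n → F) → (Fin n → F) → F}

/-- ASCHSP-[C3-EVEN] -/
theorem sgeo_of_adjointClosed_quadratic_even (hf : IsSymplecticForm f) (heven : ¬ Odd (Fintype.card F))
    (H : Subgroup (GL (Fin n) F)) (hH : H ≤ isoGL f)
    (K' : Subalgebra F (Matrix (Fin n) (Fin n) F)) (hK' : IsFieldSubalgebra 2 K')
    (hnorm : ∀ h ∈ H, ∀ k ∈ K',
      (h : Matrix (Fin n) (Fin n) F) * k * ((h⁻¹ : GL (Fin n) F) : Matrix (Fin n) (Fin n) F) ∈ K')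
    (hadj : ∀ k ∈ K', adjMat f k ∈ K') (hns : ∃ k ∈ K', adjMat f k ≠ k) : SGeo m f H := by
  classical
  -- characteristic 2
  have h2 : (2 : F) = 0 := by
    have hc : ringChar F = 2 := by
      rw [FiniteField.even_card_iff_char_two]
      rcases Nat.even_or_odd (Fintype.card F) with h | h
      · exact Nat.even_iff.1 h
      · exact absurd h heven
    have : CharP F 2 := by rw [← hc]; exact ringChar.charP F
    exact CharTwo.two_eq_zero
  have hneg : ∀ a : F, -a = a := by
    intro a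
    have : a + a = 0 := by rw [← two_mul, h2, zero_mul]
    exact neg_eq_of_add_eq_zero_left this
  have hdbl : ∀ y : Matrix (Fin n) (Fin n) F, y + y = 0 := fun y => by
    rw [← two_smul F y, h2, zero_smul]
  have hfix := fixed_eq_scalar hf h2 K' hK' hadj hns
  obtain ⟨θ, hθK, hθ⟩ := hns
  -- `t = θ + adj θ` is a nonzero scalar
  have htK : θ + adjMat f θ ∈ K' := K'.add_mem hθK (hadj θ hθK)
  have htfix : adjMat f (θ + adjMat f θ) = θ + adjMat f θ := by
    rw [adj_add, adj_adj hf, add_comm]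
  obtain ⟨c, hc⟩ := hfix _ htK htfix
  have hc0 : c ≠ 0 := by
    rintro rfl
    rw [zero_smul] at hc
    apply hθ
    have h3 : adjMat f θ = -θ := (neg_eq_of_add_eq_zero_right hc).symm
    rw [h3]
    exact neg_eq_of_add_eq_zero_left (hdbl θ)
  set θ' : Matrix (Fin n) (Fin n) F := c⁻¹ • θ with hθ'
  have hθ'K : θ' ∈ K' := K'.smul_mem hθK _
  have hθ'1 : θ' + adjMat f θ' = 1 := by
    rw [hθ', adj_smul, ← smul_add, hc, smul_smul, inv_mul_cancel₀ hc0, one_smul]
  -- the quadratic form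
  set Q : (Fin n → F) → F := fun v => f (θ' *ᵥ v) v with hQ
  have hpolar : ∀ u v, QuadraticMap.polar Q u v = f u v := by
    intro u v
    unfold QuadraticMap.polar
    simp only [hQ]
    rw [Matrix.mulVec_add, hf.bilinear.add_left, hf.bilinear.add_right, hf.bilinear.add_right]
    have h1 : f (θ' *ᵥ v) u = f (adjMat f θ' *ᵥ u) v := by
      rw [adj_spec hf θ' v u, hf.skew, hneg]
    have h3 : f u v = f (θ' *ᵥ u) v + f (adjMat f θ' *ᵥ u) v := by
      rw [← hf.bilinear.add_left, ← Matrix.add_mulVec, hθ'1, Matrix.one_mulVec]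
    rw [h1, h3]
    ring
  have hpolar' : QuadraticMap.polar Q = f := by
    funext u v
    exact hpolar u v
  have hQnd : IsNondegenerateQuadraticForm Q := by
    refine ⟨?_, ?_, ?_⟩
    · intro a v
      simp only [hQ]
      rw [Matrix.mulVec_smul, hf.bilinear.smul_left, hf.bilinear.smul_right]
      ring
    · rw [hpolar']; exact hf.bilinear
    · rw [hpolar']; exact hf.nondegenerate
  -- invariance under `H`
  have hfvv : ∀ (a : F) (v : Fin n → F), f ((a • (1 : Matrix (Fin n) (Fin n) F)) *ᵥ v) v = 0 := by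
    intro a v
    rw [Matrix.smul_mulVec, Matrix.one_mulVec, hf.bilinear.smul_left, hf.alternating, mul_zero]
  have hinvQ : ∀ h ∈ H, ∀ v, Q ((h : Matrix (Fin n) (Fin n) F) *ᵥ v) = Q v := by
    intro h hh v
    set θ'' : Matrix (Fin n) (Fin n) F :=
      ((h⁻¹ : GL (Fin n) F) : Matrix (Fin n) (Fin n) F) * θ' * (h : Matrix (Fin n) (Fin n) F) with hθ''
    have hθ''K : θ'' ∈ K' := by
      have := hnorm h⁻¹ (H.inv_mem hh) θ' hθ'K
      rwa [inv_inv] at this
    have hhinv : h⁻¹ ∈ isoGL f := (isoGL f).inv_mem (hH hh)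
    have hθ''1 : θ'' + adjMat f θ'' = 1 := by
      have hconj := adj_conj hf h⁻¹ hhinv θ'
      rw [inv_inv] at hconj
      rw [hθ'', hconj, ← Matrix.add_mul, ← Matrix.mul_add, hθ'1, Matrix.mul_one, ← Units.val_mul,
        inv_mul_cancel, Units.val_one]
    -- `δ = θ'' + θ'` is fixed by the adjoint, hence scalar
    have hδK : θ'' + θ' ∈ K' := K'.add_mem hθ''K hθ'K
    have hδfix : adjMat f (θ'' + θ') = θ'' + θ' := by
      rw [adj_add]
      have e1 : adjMat f θ'' = 1 - θ'' := eq_sub_of_add_eq' hθ''1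
      have e2 : adjMat f θ' = 1 - θ' := eq_sub_of_add_eq' hθ'1
      rw [e1, e2]
      have : (1 - θ'' + (1 - θ') : Matrix (Fin n) (Fin n) F) =
          ((1 : Matrix (Fin n) (Fin n) F) + 1) - (θ'' + θ') := by abel
      rw [this, hdbl, zero_sub]
      have := hdbl (θ'' + θ')
      exact neg_eq_of_add_eq_zero_left this
    obtain ⟨a, ha⟩ := hfix _ hδK hδfix
    have h1 : θ' *ᵥ ((h : Matrix (Fin n) (Fin n) F) *ᵥ v) = (h : Matrix (Fin n) (Fin n) F) *ᵥ (θ'' *ᵥ v) := by
      rw [hθ'', Matrix.mulVec_mulVec, Matrix.mulVec_mulVec, ← Matrix.mul_assoc, ← Matrix.mul_assoc,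
        ← Units.val_mul, mul_inv_cancel, Units.val_one, Matrix.one_mul]
    show f (θ' *ᵥ ((h : Matrix (Fin n) (Fin n) F) *ᵥ v)) ((h : Matrix (Fin n) (Fin n) F) *ᵥ v) = f (θ' *ᵥ v) v
    rw [h1, (mem_isoGL.1 (hH hh))]
    -- `f (θ'' v) v = f (θ' v) v`
    have h3 : θ'' = a • (1 : Matrix (Fin n) (Fin n) F) - θ' := by
      rw [← ha]; abel
    rw [h3, Matrix.sub_mulVec]
    have h4 : f ((a • (1 : Matrix (Fin n) (Fin n) F)) *ᵥ v - θ' *ᵥ v) v =
        f ((a • (1 : Matrix (Fin n) (Fin n) F)) *ᵥ v) v - f (θ' *ᵥ v) v := by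
      have := hf.bilinear.add_left ((a • (1 : Matrix (Fin n) (Fin n) F)) *ᵥ v) ((-1 : F) • (θ' *ᵥ v)) v
      rw [hf.bilinear.smul_left] at this
      rw [sub_eq_add_neg, ← neg_one_smul F (θ' *ᵥ v), this]
      ring
    rw [h4, hfvv, zero_sub, hneg]
  refine SGeo.of_c8 (M := quadSimilarityGroup Q ⊓ isoGL f) ⟨Q, heven, hQnd, hpolar, rfl⟩ ?_
  refine le_inf ?_ hH
  intro h hh
  refine ⟨1, fun v => ?_⟩
  rw [Units.val_one, one_mul]
  exact hinvQ h hh v

end Cfsg.Agent.Lib.Helper23.AschSp
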