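import Mathlib
import Cfsg.Prelude.Def_GeometricClasses
import Cfsg.Agent.Lib.Helper99.AschDefs
import Cfsg.Agent.Lib.Helper23.AschSpDefs
import Cfsg.Agent.Lib.Helper87.AschSpAdjKit

/-!
ASCHSP-[KSTAR] (helper87): the adjoint for a symplectic form preserves the centre of the commutant of a group of
similitudes.
-/

set_option autoImplicit false

namespace Cfsg.Agent.Lib.Helper87.AschSpKStar

open Cfsg Cfsg.Geo Cfsg.Agent.Lib.Helper99.Asch Cfsg.Agent.Lib.Helper23.AschSp
open Cfsg.Agent.Lib.Helper87.AschSpAdjKit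
open scoped MatrixGroups Matrix Kronecker

variable {n : ℕ} {F : Type*} [Field F] {f : (Fin n → F) → (Fin n → F) → F}

theorem mem_commutant_iff (N : Subgroup (GL (Fin n) F)) (k : Matrix (Fin n) (Fin n) F) :
    k ∈ commutant N ↔ ∀ x ∈ N, (x : Matrix (Fin n) (Fin n) F) * k = k * (x : Matrix (Fin n) (Fin n) F) := by
  unfold commutant
  rw [Subalgebra.mem_centralizer_iff]
  constructor
  · intro h x hx
    exact h _ ⟨x, hx, rfl⟩
  · rintro h _ ⟨x, hx, rfl⟩
    exact h x hx

/-- The adjoint maps the commutant of a group of similitudes into itself. -/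
theorem adj_mem_commutant (hf : IsSymplecticForm f) (N : Subgroup (GL (Fin n) F))
    (hN : N ≤ similarityGroup f) : ∀ k ∈ commutant N, adjMat f k ∈ commutant N := by
  intro k hk
  rw [mem_commutant_iff] at hk ⊢
  intro x hx
  obtain ⟨c, hc0, hc⟩ := adj_of_mem_similarity hf x (hN hx)
  have h1 : adjMat f ((x : Matrix (Fin n) (Fin n) F) * k) = adjMat f (k * (x : Matrix (Fin n) (Fin n) F)) := by
    rw [hk x hx]
  rw [adj_mul hf, adj_mul hf, hc, Matrix.mul_smul, Matrix.smul_mul] at h1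
  have h2 : adjMat f k * ((x⁻¹ : GL (Fin n) F) : Matrix (Fin n) (Fin n) F) =
      ((x⁻¹ : GL (Fin n) F) : Matrix (Fin n) (Fin n) F) * adjMat f k := by
    have := congrArg (fun M => c⁻¹ • M) h1
    simpa [smul_smul, inv_mul_cancel₀ hc0] using this
  have hxx : (x : Matrix (Fin n) (Fin n) F) * ((x⁻¹ : GL (Fin n) F) : Matrix (Fin n) (Fin n) F) = 1 := by
    rw [← Units.val_mul, mul_inv_cancel, Units.val_one]
  have hxx' : ((x⁻¹ : GL (Fin n) F) : Matrix (Fin n) (Fin n) F) * (x : Matrix (Fin n) (Fin n) F) = 1 := by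
    rw [← Units.val_mul, inv_mul_cancel, Units.val_one]
  calc (x : Matrix (Fin n) (Fin n) F) * adjMat f k
      = (x : Matrix (Fin n) (Fin n) F) * adjMat f k *
          (((x⁻¹ : GL (Fin n) F) : Matrix (Fin n) (Fin n) F) * (x : Matrix (Fin n) (Fin n) F)) := by
        rw [hxx', Matrix.mul_one]
    _ = (x : Matrix (Fin n) (Fin n) F) * (adjMat f k * ((x⁻¹ : GL (Fin n) F) : Matrix (Fin n) (Fin n) F)) *
          (x : Matrix (Fin n) (Fin n) F) := by simp only [Matrix.mul_assoc]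
    _ = (x : Matrix (Fin n) (Fin n) F) * (((x⁻¹ : GL (Fin n) F) : Matrix (Fin n) (Fin n) F) * adjMat f k) *
          (x : Matrix (Fin n) (Fin n) F) := by rw [h2]
    _ = adjMat f k * (x : Matrix (Fin n) (Fin n) F) := by
        rw [← Matrix.mul_assoc, hxx, Matrix.one_mul]

end Cfsg.Agent.Lib.Helper87.AschSpKStar

namespace Cfsg.Agent.Lib.Helper23.AschSp

open Cfsg Cfsg.Geo Cfsg.Agent.Lib.Helper99.Asch
open scoped MatrixGroups Matrix Kronecker

variable {n m : ℕ} {F : Type*} [Field F] [Fintype F] {f : (Fin n → F) → (Fin n → F) → F}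

/-- ASCHSP-[KSTAR] -/
theorem adj_mem_commutantCenter (hf : IsSymplecticForm f) (N : Subgroup (GL (Fin n) F)) (hN : N ≤ similarityGroup f) :
    ∀ k ∈ commutantCenter N, adjMat f k ∈ commutantCenter N := by
  intro k hk
  unfold commutantCenter at hk ⊢
  obtain ⟨hk1, hk2⟩ := hk
  refine ⟨Cfsg.Agent.Lib.Helper87.AschSpKStar.adj_mem_commutant hf N hN k hk1, ?_⟩
  rw [SetLike.mem_coe, Subalgebra.mem_centralizer_iff] at hk2 ⊢
  intro l hl
  have hl' : adjMat f l ∈ commutant N :=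
    Cfsg.Agent.Lib.Helper87.AschSpKStar.adj_mem_commutant hf N hN l hl
  have h1 := hk2 (adjMat f l) hl'
  have h2 := congrArg (adjMat f) h1
  rw [Cfsg.Agent.Lib.Helper87.AschSpAdjKit.adj_mul hf, Cfsg.Agent.Lib.Helper87.AschSpAdjKit.adj_mul hf,
    Cfsg.Agent.Lib.Helper87.AschSpAdjKit.adj_adj hf] at h2
  exact h2.symm

end Cfsg.Agent.Lib.Helper23.AschSp
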