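/-
helper87: module [F1b] of S3282 (abstract Brauer-Suzuki-Wall, helper30 #3810): for `δ = 1` and an outer `x₀` with `Χ x₀ = 0`,
`Q = C_G(x₀)` has order `2k + 1` and all its nonidentity elements are outer with `Χ = 0` and centralizer `Q`.
Namespace `Cfsg.Agent.Lib.Helper87.BSW`.
-/
import Mathlib
import Cfsg.Agent.Lib.Helper30.BSW.Defs
import Cfsg.Agent.Lib.Helper84.BSWOuter
import Cfsg.Agent.Lib.Helper84.BSWReal

set_option autoImplicit false

namespace Cfsg.Agent.Lib.Helper87.BSW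

open Cfsg Cfsg.Agent.Lib.Helper30.BSW

variable {G : Type*} [Group G] {t s : G} {K : Subgroup G}

/-- for `δ = 1`: `rinv x = (2k+1) + k Χ(x)` on outer elements, as an equation in `ℂ`. -/
theorem rinv_pos {Χ : G → ℂ} (p : PartI K 1 Χ) {x : G} (hx : IsOuter K x) :
    (rinv x : ℂ) = (2 * (Nat.card K : ℂ) + 1) + (Nat.card K : ℂ) * Χ x := by
  have := p.hout x hx
  rw [if_pos rfl] at this
  rw [this]
  push_cast
  ring

/-- module [F1b] (helper30 #3810), exact statement. -/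
theorem pos_Q [Finite G] (h : Hyp t s K) (b : Basic t s K) (hk : 4 ≤ Nat.card K) {Χ : G → ℂ} (p : PartI K 1 Χ) {x₀ : G} (hx₀ : IsOuter K x₀) (hΧ : Χ x₀ = 0) : Nat.card (Subgroup.centralizer ({x₀} : Set G)) = 2 * Nat.card K + 1 ∧ ∀ y ∈ Subgroup.centralizer ({x₀} : Set G), y ≠ 1 → IsOuter K y ∧ Χ y = 0 ∧ Subgroup.centralizer ({y} : Set G) = Subgroup.centralizer ({x₀} : Set G) := by
  have hr0 : rinv x₀ = 2 * Nat.card K + 1 := by
    have h1 := rinv_pos p hx₀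
    rw [hΧ, mul_zero, add_zero] at h1
    exact_mod_cast h1
  have hne : rinv x₀ ≠ 0 := by rw [hr0]; omega
  obtain ⟨⟨u, hu, hux⟩⟩ := (Nat.card_ne_zero.1 hne).1
  obtain ⟨hinv, hcent, hrc⟩ := Cfsg.Agent.Lib.Helper84.BSWReal.real_outer h b hx₀ hu hux
  refine ⟨by rw [← hrc, hr0], ?_⟩
  intro y hy hy1
  have hyo : IsOuter K y := Cfsg.Agent.Lib.Helper84.BSWOuter.outer_of_mem_centralizer h b hx₀ hy hy1
  have huy : u * y * u⁻¹ = y⁻¹ := hinv y hy
  obtain ⟨_, _, hrcy⟩ := Cfsg.Agent.Lib.Helper84.BSWReal.real_outer h b hyo hu huy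
  have hcy := hcent y hy hy1
  refine ⟨hyo, ?_, hcy⟩
  have h1 := rinv_pos p hyo
  rw [hrcy, hcy, ← hrc, hr0] at h1
  have hk0 : (Nat.card K : ℂ) ≠ 0 := by
    have : Nat.card K ≠ 0 := by omega
    exact_mod_cast this
  have h2 : (Nat.card K : ℂ) * Χ y = 0 := by
    have h3 : ((2 * Nat.card K + 1 : ℕ) : ℂ) = 2 * (Nat.card K : ℂ) + 1 := by push_cast; ring
    rw [h3] at h1
    linear_combination -h1
  exact (mul_eq_zero.1 h2).resolve_left hk0

end Cfsg.Agent.Lib.Helper87.BSW
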