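/-
helper87: module [F1e] of S3282 (abstract Brauer-Suzuki-Wall, helper30 #3810): assembling `Concl G` from `Q` in the case `δ = 1`.
Namespace `Cfsg.Agent.Lib.Helper87.BSW`.
-/
import Mathlib
import Cfsg.Agent.Lib.Helper30.BSW.Defs

set_option autoImplicit false

namespace Cfsg.Agent.Lib.Helper87.BSW

open Cfsg Cfsg.Agent.Lib.Helper30.BSW

variable {G : Type*} [Group G] {t s : G} {K : Subgroup G}

/-- `t ≠ 1`. -/
theorem t_ne_one (h : Hyp t s K) : t ≠ 1 := by
  intro h1
  have := h.ht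
  rw [h1, orderOf_one] at this
  omega

/-- for `1 ≠ X ≤ K`: `N_G(X) = C_G(t)`. -/
theorem normalizer_eq_of_le (h : Hyp t s K) (b : Basic t s K) (X : Subgroup G) (hXK : X ≤ K)
    (hX : X ≠ ⊥) : Subgroup.normalizer (X : Set G) = Subgroup.centralizer ({t} : Set G) := by
  apply le_antisymm
  · intro g hg
    obtain ⟨⟨y, hyX⟩, hy1⟩ := (Subgroup.ne_bot_iff_exists_ne_one).1 hX
    have hy1' : y ≠ 1 := fun h0 => hy1 (Subtype.ext h0)
    have h1 : g * y * g⁻¹ ∈ X := (Subgroup.mem_normalizer_iff.1 hg y).1 hyX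
    exact b.ti g y (hXK hyX) hy1' (hXK h1)
  · rw [Subgroup.le_normalizer_iff]
    intro g hg k hk
    rcases (b.mem_H g).1 hg with hgK | ⟨x, hxK, rfl⟩
    · have : g * k * g⁻¹ = k := by
        rw [b.comm g hgK k (hXK hk), mul_inv_cancel_right]
      rw [this]
      exact hk
    · rw [b.inv_coset x hxK k (hXK hk)]
      exact X.inv_mem hk

/-- module [F1e] (helper30 #3810), exact statement. -/
theorem concl_of_Q_pos [Finite G] (h : Hyp t s K) (b : Basic t s K) (Q : Subgroup G) (hcard : Nat.card G = 2 * Nat.card K * (2 * Nat.card K + 1) * (Nat.card K + 1)) (hQcard : Nat.card Q = 2 * Nat.card K + 1) (hQ : ∀ y ∈ Q, y ≠ 1 → IsOuter K y ∧ Subgroup.centralizer ({y} : Set G) = Q) (hN : Subgroup.normalizer (Q : Set G) = Q ⊔ K) : Concl G := by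
  have hKne : K ≠ ⊥ := by
    intro h0
    have := h.htK
    rw [h0, Subgroup.mem_bot] at this
    exact t_ne_one h this
  have hNK : Subgroup.normalizer (K : Set G) = Subgroup.centralizer ({t} : Set G) :=
    normalizer_eq_of_le h b K le_rfl hKne
  refine ⟨Q, K, ?_, fun x hx hx1 => (hQ x hx hx1).2, h.hKab, hQcard.symm, ?_, hN, ?_⟩
  · rw [hcard, hQcard]
    have : 2 * Nat.card K + 1 - 1 = 2 * Nat.card K := by omega
    rw [this]
    ring
  · rw [eq_bot_iff]
    intro y hy
    rw [Subgroup.mem_bot]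
    by_contra hy1
    have h1 := (hQ y hy.1 hy1).1 1
    apply h1
    simpa using hy.2
  · intro X hXK hX
    refine ⟨?_, s, h.hs, h.hsK, h.hinv, ?_⟩
    · rw [normalizer_eq_of_le h b X hXK hX, hNK]
    · rw [hNK, h.hH]

end Cfsg.Agent.Lib.Helper87.BSW
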