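/-
helper87, module S4625-[M-OM-c0] of helper72's LIE2 project (cut by helper86):
abstract end-game "a big 2-subgroup `U` of `O'` with `SqComm` gives `SqComm` for the Sylow
2-subgroups of `O' / Z(O')`" (the last part of helper72's `Lie2OPc.lean`, made generic).
-/
import Mathlib
import Cfsg.Agent.Lib.Helper72.Lie2Gen

set_option autoImplicit false

namespace Cfsg.Agent.Lib.Helper87.Lie2SylAbs

open Cfsg.Agent.Lib.Helper72

/-- `SqComm` is an isomorphism invariant of the subgroup as an abstract group. -/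
theorem sqComm_of_mulEquiv' {G H : Type*} [Group G] [Group H] {P : Subgroup G}
    {Q : Subgroup H} (e : P ≃* Q) (h : Lie2.SqComm P) : Lie2.SqComm Q := by
  intro y
  obtain ⟨x, rfl⟩ := e.surjective y
  have h1 := h x
  have h2 : e (x ^ 2) ∈ (commutator P).map e.toMonoidHom := Subgroup.mem_map_of_mem _ h1
  rw [commutator_def, Subgroup.map_commutator] at h2
  rw [← map_pow, commutator_def]
  exact Subgroup.commutator_mono le_top le_top h2

/-- [M-OM-c0] -/
theorem sqComm_sylow_quot_of_big_subgroup {O : Type*} [Group O] [Finite O]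
    (hidx : (commutator O).index = 2) (f N D : ℕ) (hD : Odd D)
    (hcard : Nat.card O = 2 * ((2 ^ f) ^ N * D)) (U : Subgroup O) (hU : U ≤ commutator O)
    (hp : IsPGroup 2 U) (hge : (2 ^ f) ^ N ≤ Nat.card U)
    (hsq : Cfsg.Agent.Lib.Helper72.Lie2.SqComm U)
    (P : Sylow 2 (commutator O ⧸ Subgroup.center (commutator O))) :
    Cfsg.Agent.Lib.Helper72.Lie2.SqComm
      (P : Subgroup (commutator O ⧸ Subgroup.center (commutator O))) := by
  have hp2 : Fact (Nat.Prime 2) := ⟨Nat.prime_two⟩
  -- order of `O'`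
  have hΩ : Nat.card (commutator O) = (2 ^ f) ^ N * D := by
    have h1 := Subgroup.card_mul_index (commutator O)
    rw [hidx, hcard] at h1
    apply Nat.eq_of_mul_eq_mul_right (by norm_num : 0 < 2)
    rw [h1]
    ring
  set U' : Subgroup (commutator O) := U.subgroupOf (commutator O) with hU'
  let e : U' ≃* U := Subgroup.subgroupOfEquivOfLe hU
  have hpU' : IsPGroup 2 U' := hp.of_equiv e.symm
  have hcardU' : (2 ^ f) ^ N ≤ Nat.card U' := by
    rw [Nat.card_congr e.toEquiv]
    exact hge
  have hsq' : Lie2.SqComm U' := sqComm_of_mulEquiv' e.symm hsq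
  have hnd : ¬ 2 ∣ U'.index := by
    intro hdvd
    obtain ⟨a, ha⟩ := hpU'.exists_card_eq
    have h1 := Subgroup.card_mul_index U'
    rw [hΩ, ha] at h1
    rw [ha, ← pow_mul] at hcardU'
    have h2 : f * N ≤ a := (Nat.pow_le_pow_iff_right (by norm_num)).1 hcardU'
    obtain ⟨t, ht⟩ := hdvd
    rw [ht, ← pow_mul] at h1
    have h3 : 2 ^ (a + 1) ∣ 2 ^ (f * N) * D := by
      refine ⟨t, ?_⟩
      rw [← h1]
      ring
    have hcop : Nat.Coprime (2 ^ (a + 1)) D := by
      apply Nat.Coprime.pow_left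
      rw [Nat.coprime_two_left]
      exact hD
    have h4 := hcop.dvd_of_dvd_mul_right h3
    have h5 := (Nat.pow_dvd_pow_iff_le_right (by norm_num : 1 < 2)).1 h4
    omega
  have hall : ∀ Q : Sylow 2 (commutator O), Lie2.SqComm (Q : Subgroup (commutator O)) := by
    apply Lie2.sqComm_all_sylow_of_one (hpU'.toSylow hnd)
    rw [IsPGroup.toSylow_coe]
    exact hsq'
  exact Lie2.sqComm_sylow_of_surjective
    (QuotientGroup.mk' (Subgroup.center (commutator O)))
    (QuotientGroup.mk'_surjective _) hall P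

end Cfsg.Agent.Lib.Helper87.Lie2SylAbs
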