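/-
helper87, module SUMD-[F-ISO] of helper43's SUMD project (S2334 + S2335):
binary hermitian forms over finite fields are isotropic, in additive-character form.
-/
import Mathlib
import Cfsg.Agent.Lib.Helper36.HermNorm

set_option autoImplicit false

namespace Cfsg.Agent.Lib.Helper87.SumdF

variable {F : Type*} [Field F]

/-- There is an element of trace one. -/
theorem exists_trace_eq_one (σ : F →+* F) (hσ : σ ≠ RingHom.id F) (hσ2 : ∀ a, σ (σ a) = a) :
    ∃ e : F, e + σ e = 1 := by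
  have h1 : ∃ y : F, y + σ y ≠ 0 := by
    by_contra hcon
    have hcon : ∀ y : F, y + σ y = 0 := fun y => by
      by_contra h
      exact hcon ⟨y, h⟩
    apply hσ
    have h2 : (1 : F) + 1 = 0 := by
      have := hcon 1
      rwa [map_one] at this
    ext x
    have h3 := hcon x
    have h4 : σ x = -x := by
      rw [add_comm] at h3
      exact eq_neg_of_add_eq_zero_left h3
    have h5 : -x = x := by
      have : x + x = 0 := by
        have : x + x = x * (1 + 1) := by ring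
        rw [this, h2, mul_zero]
      rw [neg_eq_iff_add_eq_zero]
      exact this
    rw [RingHom.id_apply, h4, h5]
  obtain ⟨y, hy⟩ := h1
  refine ⟨y / (y + σ y), ?_⟩
  have hs : σ (y + σ y) = y + σ y := by rw [map_add, hσ2, add_comm]
  rw [map_div₀, hs, ← add_div, div_self hy]

/-- The algebraic identity behind the isotropic vector. -/
theorem isotropic_identity (σ : F →+* F) (u₁ u₂ t₃ a' : F)
    (hu₁0 : u₁ ≠ 0) (hu₁ : σ u₁ = -u₁)
    (ha' : a' * σ a' = (t₃ / u₁) * σ (t₃ / u₁) - u₂ / u₁) :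
    (a' - t₃ / u₁) * σ (a' - t₃ / u₁) * u₁ + (1 : F) * σ 1 * u₂ +
      (t₃ * σ (a' - t₃ / u₁) * 1 - σ t₃ * (a' - t₃ / u₁) * σ 1) = 0 := by
  rw [map_div₀, hu₁] at ha'
  rw [map_sub, map_div₀, hu₁, map_one]
  have h1 : a' * σ a' * u₁ ^ 2 = -(t₃ * σ t₃) - u₂ * u₁ := by
    rw [ha']
    field_simp
  field_simp
  linear_combination h1

end Cfsg.Agent.Lib.Helper87.SumdF

namespace Cfsg.Agent.Lib.Helper43.SUMD

open Cfsg.Agent.Lib.Helper87.SumdF

section Fld
variable {F : Type*} [Field F] [Fintype F] (σ : F →+* F)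

/-- **[F-ISO]** binary hermitian forms are isotropic, in character form: `Λ` is a character of the
additive group `T₀ × T₀ × F` (`T₀` = trace-zero elements; junk values outside); then `Λ` is trivial
on `{(N(a) c, N(b) c, c σ(a) b) : c ∈ T₀}` for some `(a, b) ≠ 0` -/
theorem exists_isotropic_of_char (hσ : σ ≠ RingHom.id F) (hσ2 : ∀ a, σ (σ a) = a)
    (Λ : F → F → F → ℂˣ)
    (hΛ : ∀ α β γ α' β' γ', α + σ α = 0 → β + σ β = 0 → α' + σ α' = 0 → β' + σ β' = 0 →
      Λ (α + α') (β + β') (γ + γ') = Λ α β γ * Λ α' β' γ') :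
    ∃ a b : F, (a ≠ 0 ∨ b ≠ 0) ∧
      ∀ c, c + σ c = 0 → Λ (a * σ a * c) (b * σ b * c) (c * σ a * b) = 1 := by
  classical
  have h00 : (0 : F) + σ 0 = 0 := by simp
  -- `Λ 0 0 0 = 1`
  have hΛ0 : Λ 0 0 0 = 1 := by
    have h := hΛ 0 0 0 0 0 0 h00 h00 h00 h00
    rw [add_zero] at h
    have h' : Λ 0 0 0 * Λ 0 0 0 = Λ 0 0 0 * 1 := by rw [mul_one]; exact h.symm
    exact mul_left_cancel h'
  -- decomposition
  have hdec : ∀ α β γ, α + σ α = 0 → β + σ β = 0 →
      Λ α β γ = Λ α 0 0 * Λ 0 β 0 * Λ 0 0 γ := by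
    intro α β γ hα hβ
    have h1 := hΛ α 0 0 0 β γ hα h00 h00 hβ
    have h2 := hΛ 0 β 0 0 0 γ h00 hβ h00 h00
    rw [add_zero, zero_add, zero_add] at h1
    rw [add_zero, add_zero, zero_add] at h2
    rw [h1, h2, mul_assoc]
  -- the difference map lands in `T₀`
  have hD : ∀ x : F, (x - σ x) + σ (x - σ x) = 0 := by
    intro x
    rw [map_sub, hσ2]
    ring
  obtain ⟨e, he⟩ := exists_trace_eq_one σ hσ hσ2
  -- the three characters of `F`
  let θ₁ : AddChar F ℂ :=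
    { toFun := fun x => ((Λ (x - σ x) 0 0 : ℂˣ) : ℂ)
      map_zero_eq_one' := by
        simp only [map_zero, sub_zero]
        rw [hΛ0, Units.val_one]
      map_add_eq_mul' := fun x y => by
        have h := hΛ (x - σ x) 0 0 (y - σ y) 0 0 (hD x) h00 (hD y) h00
        rw [add_zero] at h
        have h2 : x + y - σ (x + y) = (x - σ x) + (y - σ y) := by rw [map_add]; ring
        rw [h2, h, Units.val_mul] }
  let θ₂ : AddChar F ℂ :=
    { toFun := fun x => ((Λ 0 (x - σ x) 0 : ℂˣ) : ℂ)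
      map_zero_eq_one' := by
        simp only [map_zero, sub_zero]
        rw [hΛ0, Units.val_one]
      map_add_eq_mul' := fun x y => by
        have h := hΛ 0 (x - σ x) 0 0 (y - σ y) 0 h00 (hD x) h00 (hD y)
        rw [add_zero] at h
        have h2 : x + y - σ (x + y) = (x - σ x) + (y - σ y) := by rw [map_add]; ring
        rw [h2, h, Units.val_mul] }
  let θ₃ : AddChar F ℂ :=
    { toFun := fun x => ((Λ 0 0 x : ℂˣ) : ℂ)
      map_zero_eq_one' := by rw [hΛ0, Units.val_one]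
      map_add_eq_mul' := fun x y => by
        have h := hΛ 0 0 x 0 0 y h00 h00 h00 h00
        rw [add_zero] at h
        rw [h, Units.val_mul] }
  have hθ₁ : ∀ x, θ₁ x = ((Λ (x - σ x) 0 0 : ℂˣ) : ℂ) := fun x => rfl
  have hθ₂ : ∀ x, θ₂ x = ((Λ 0 (x - σ x) 0 : ℂˣ) : ℂ) := fun x => rfl
  have hθ₃ : ∀ x, θ₃ x = ((Λ 0 0 x : ℂˣ) : ℂ) := fun x => rfl
  -- a primitive `σ`-invariant character
  obtain ⟨ψ', hψ'⟩ := (AddChar.exists_apply_ne_zero (α := F) (a := 1)).2 one_ne_zero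
  let trHom : F →+ F :=
    { toFun := fun x => x + σ x
      map_zero' := by simp
      map_add' := fun a b => by simp only [map_add]; ring }
  let ψ : AddChar F ℂ := ψ'.compAddMonoidHom trHom
  have hψapp : ∀ x, ψ x = ψ' (x + σ x) := fun x => rfl
  have hψne : ψ ≠ 1 := by
    intro h
    apply hψ'
    have h1 : ψ e = 1 := by rw [h]; rfl
    rw [hψapp, he] at h1
    exact h1
  have hprim : ψ.IsPrimitive := AddChar.IsPrimitive.of_ne_one hψne
  have hbij : Function.Bijective ψ.mulShift := by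
    rw [Fintype.bijective_iff_injective_and_card]
    exact ⟨AddChar.to_mulShift_inj_of_isPrimitive hprim, (AddChar.card_eq).symm⟩
  obtain ⟨t₁, ht₁⟩ := hbij.2 θ₁
  obtain ⟨t₂, ht₂⟩ := hbij.2 θ₂
  obtain ⟨t₃, ht₃⟩ := hbij.2 θ₃
  set u₁ : F := t₁ * e - σ (t₁ * e) with hu₁def
  set u₂ : F := t₂ * e - σ (t₂ * e) with hu₂def
  have hσu₁ : σ u₁ = -u₁ := by rw [hu₁def, map_sub, hσ2]; ring
  have hσu₂ : σ u₂ = -u₂ := by rw [hu₂def, map_sub, hσ2]; ring
  -- values on `T₀`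
  have hce : ∀ c : F, c + σ c = 0 → c * e - σ (c * e) = c := by
    intro c hc
    have h1 : σ c = -c := by rw [add_comm] at hc; exact eq_neg_of_add_eq_zero_left hc
    rw [map_mul, h1]
    have : c * e - -c * σ e = c * (e + σ e) := by ring
    rw [this, he, mul_one]
  have hval₁ : ∀ c : F, c + σ c = 0 → ((Λ c 0 0 : ℂˣ) : ℂ) = ψ' (c * u₁) := by
    intro c hc
    have h1 : σ c = -c := by rw [add_comm] at hc; exact eq_neg_of_add_eq_zero_left hc
    have h2 : θ₁ (c * e) = ((Λ c 0 0 : ℂˣ) : ℂ) := by rw [hθ₁, hce c hc]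
    rw [← h2, ← ht₁, AddChar.mulShift_apply, hψapp]
    congr 1
    rw [hu₁def, map_mul, map_mul, h1, map_mul]
    ring
  have hval₂ : ∀ c : F, c + σ c = 0 → ((Λ 0 c 0 : ℂˣ) : ℂ) = ψ' (c * u₂) := by
    intro c hc
    have h1 : σ c = -c := by rw [add_comm] at hc; exact eq_neg_of_add_eq_zero_left hc
    have h2 : θ₂ (c * e) = ((Λ 0 c 0 : ℂˣ) : ℂ) := by rw [hθ₂, hce c hc]
    rw [← h2, ← ht₂, AddChar.mulShift_apply, hψapp]
    congr 1
    rw [hu₂def, map_mul, map_mul, h1, map_mul]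
    ring
  have hval₃ : ∀ x : F, ((Λ 0 0 x : ℂˣ) : ℂ) = ψ' (t₃ * x + σ (t₃ * x)) := by
    intro x
    rw [← hθ₃, ← ht₃, AddChar.mulShift_apply, hψapp]
  -- the key reduction
  have hkey : ∀ a b : F,
      a * σ a * u₁ + b * σ b * u₂ + (t₃ * σ a * b - σ t₃ * a * σ b) = 0 →
      ∀ c, c + σ c = 0 → Λ (a * σ a * c) (b * σ b * c) (c * σ a * b) = 1 := by
    intro a b hW c hc
    have h1 : σ c = -c := by rw [add_comm] at hc; exact eq_neg_of_add_eq_zero_left hc
    have hN : ∀ a : F, a * σ a * c + σ (a * σ a * c) = 0 := by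
      intro a
      rw [map_mul, map_mul, hσ2, h1]
      ring
    apply Units.ext
    rw [hdec _ _ _ (hN a) (hN b), Units.val_mul, Units.val_mul, hval₁ _ (hN a), hval₂ _ (hN b),
      hval₃, ← AddChar.map_add_eq_mul, ← AddChar.map_add_eq_mul, Units.val_one]
    have h2 : a * σ a * c * u₁ + b * σ b * c * u₂ +
        (t₃ * (c * σ a * b) + σ (t₃ * (c * σ a * b))) =
        c * (a * σ a * u₁ + b * σ b * u₂ + (t₃ * σ a * b - σ t₃ * a * σ b)) := by
      rw [map_mul, map_mul, map_mul, hσ2, h1]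
      ring
    rw [h2, hW, mul_zero, AddChar.map_zero_eq_one]
  -- the isotropic vector
  by_cases hu₁0 : u₁ = 0
  · refine ⟨1, 0, Or.inl one_ne_zero, hkey 1 0 ?_⟩
    rw [hu₁0, map_zero, map_one]
    ring
  · have hs : σ (t₃ / u₁ * σ (t₃ / u₁) - u₂ / u₁) = t₃ / u₁ * σ (t₃ / u₁) - u₂ / u₁ := by
      simp only [map_sub, map_mul, map_div₀, map_neg, hσ2, hσu₁, hσu₂, neg_neg]
      rw [neg_div_neg_eq]
      ring
    obtain ⟨a', ha'⟩ := Cfsg.Agent.Lib.Helper36.exists_mul_map_eq σ hσ hσ2 _ hs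
    refine ⟨a' - t₃ / u₁, 1, Or.inr one_ne_zero, hkey (a' - t₃ / u₁) 1 ?_⟩
    exact isotropic_identity σ u₁ u₂ t₃ a' hu₁0 hσu₁ ha'

end Fld

end Cfsg.Agent.Lib.Helper43.SUMD
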