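/-
helper87, module SUMD-[F-CARD] of helper43's SUMD project (S2334 + S2335):
the trace-zero elements of `F` (`|F| = q²`, `σ x = x ^ q`) form a set of `q` elements.
-/
import Mathlib

set_option autoImplicit false

namespace Cfsg.Agent.Lib.Helper87.SumdF

open Polynomial

/-- A non-zero polynomial over a field has at most `natDegree` roots. -/
theorem card_eval_zero_le {F : Type*} [Field F] (P : F[X]) (hP : P ≠ 0) :
    Nat.card {c : F // P.eval c = 0} ≤ P.natDegree := by
  classical
  have h1 : Nat.card {c : F // P.eval c = 0} = Nat.card {c : F // c ∈ P.roots.toFinset} := by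
    apply Nat.card_congr
    apply Equiv.subtypeEquivRight
    intro c
    rw [Multiset.mem_toFinset, Polynomial.mem_roots hP, Polynomial.IsRoot.def]
  rw [h1, Nat.card_eq_fintype_card, Fintype.card_coe]
  exact le_trans (Multiset.toFinset_card_le _) (Polynomial.card_roots' P)

end Cfsg.Agent.Lib.Helper87.SumdF

namespace Cfsg.Agent.Lib.Helper43.SUMD

open Polynomial Cfsg.Agent.Lib.Helper87.SumdF

section Fld
variable {F : Type*} [Field F] [Fintype F] (σ : F →+* F)

/-- **[F-CARD]** the trace-zero elements form a set of `q` elements -/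
theorem card_trace_zero {q : ℕ} (hF : Fintype.card F = q ^ 2) (hσq : ∀ x, σ x = x ^ q) :
    Nat.card {c : F // c + σ c = 0} = q := by
  classical
  have hq2 : 1 < q := by
    have h1 : 1 < Fintype.card F := Fintype.one_lt_card
    rw [hF] at h1
    by_contra h
    have h2 : q ≤ 1 := by omega
    have h3 : q ^ 2 ≤ 1 ^ 2 := Nat.pow_le_pow_left h2 2
    omega
  -- the trace map
  let f : F →+ F :=
    { toFun := fun c => c + σ c
      map_zero' := by simp
      map_add' := fun a b => by simp only [map_add]; ring }
  have hf : ∀ c, f c = c + σ c := fun c => rfl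
  -- kernel
  have hker : Nat.card {c : F // c + σ c = 0} = Nat.card f.ker := by
    apply Nat.card_congr
    apply Equiv.subtypeEquivRight
    intro c
    rw [AddMonoidHom.mem_ker, hf]
  -- bound for the kernel
  have hP₁deg : (X ^ q + X : F[X]).natDegree = q := by
    rw [Polynomial.natDegree_add_eq_left_of_natDegree_lt]
    · exact Polynomial.natDegree_X_pow q
    · rw [Polynomial.natDegree_X_pow, Polynomial.natDegree_X]
      exact hq2
  have hP₁ : (X ^ q + X : F[X]) ≠ 0 := by
    apply Polynomial.ne_zero_of_natDegree_gt (n := 1)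
    rw [hP₁deg]
    exact hq2
  have hk : Nat.card f.ker ≤ q := by
    have h1 := card_eval_zero_le (X ^ q + X : F[X]) hP₁
    rw [hP₁deg] at h1
    refine le_trans ?_ h1
    apply Nat.card_le_card_of_injective
      (fun c : f.ker => (⟨(c : F), by
        have hc := c.2
        rw [AddMonoidHom.mem_ker, hf, hσq] at hc
        simp only [eval_add, eval_pow, eval_X]
        rw [add_comm]
        exact hc⟩ : {c : F // (X ^ q + X : F[X]).eval c = 0}))
    intro a b hab
    apply Subtype.ext
    have h3 := congrArg Subtype.val hab
    exact h3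
  -- bound for the range
  have hP₂ : (X ^ q - X : F[X]) ≠ 0 := FiniteField.X_pow_card_sub_X_ne_zero F hq2
  have hP₂deg : (X ^ q - X : F[X]).natDegree = q := FiniteField.X_pow_card_sub_X_natDegree_eq F hq2
  have hr : Nat.card f.range ≤ q := by
    have h1 := card_eval_zero_le (X ^ q - X : F[X]) hP₂
    rw [hP₂deg] at h1
    refine le_trans ?_ h1
    apply Nat.card_le_card_of_injective
      (fun c : f.range => (⟨(c : F), by
        obtain ⟨d, hd⟩ := c.2
        simp only [eval_sub, eval_pow, eval_X]
        rw [← hd, hf, ← hσq, map_add, hσq (σ d), hσq d, ← pow_mul, ← pow_two, ← hF,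
          FiniteField.pow_card]
        ring⟩ : {c : F // (X ^ q - X : F[X]).eval c = 0}))
    intro a b hab
    apply Subtype.ext
    have h3 := congrArg Subtype.val hab
    exact h3
  -- product
  have hmul : Nat.card f.ker * Nat.card f.range = q ^ 2 := by
    rw [← AddSubgroup.index_ker, AddSubgroup.card_mul_index, Nat.card_eq_fintype_card, hF]
  rw [hker]
  by_contra hne
  have hlt : Nat.card f.ker < q := lt_of_le_of_ne hk hne
  have h1 : Nat.card f.ker * Nat.card f.range ≤ Nat.card f.ker * q := Nat.mul_le_mul_left _ hr
  have h2 : Nat.card f.ker * q < q * q := Nat.mul_lt_mul_of_pos_right hlt (by omega)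
  rw [hmul, pow_two] at h1
  omega

end Fld

end Cfsg.Agent.Lib.Helper43.SUMD
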