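import Mathlib

set_option autoImplicit false

/-!
helper87, module HIG-[COMMPAIR] of helper48's S3050 project (hedge): the commutator pairing
`Q/Z × Q/Z → Z` when `Z = Z(Q)` and `Q/Z` is abelian.
-/

namespace Cfsg.Agent.Lib.Helper87.Hig

variable {G : Type*} [Group G]

/-- the commutator `a b a⁻¹ b⁻¹` -/
def cm (a b : G) : G := a * b * a⁻¹ * b⁻¹

theorem cm_self (a : G) : cm a a = 1 := by unfold cm; group

theorem cm_mul_left_of_commute (a z b : G) (hz : Commute z b) : cm (a * z) b = cm a b := by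
  unfold cm
  have h1 : z * b * z⁻¹ = b := by rw [hz.eq]; group
  calc a * z * b * (a * z)⁻¹ * b⁻¹ = a * (z * b * z⁻¹) * a⁻¹ * b⁻¹ := by group
    _ = a * b * a⁻¹ * b⁻¹ := by rw [h1]

theorem cm_mul_right_of_commute (a b z : G) (hz : Commute z a) : cm a (b * z) = cm a b := by
  unfold cm
  have h1 : z * a⁻¹ * z⁻¹ = a⁻¹ := by
    have : Commute z a⁻¹ := hz.inv_right
    rw [this.eq]; group
  calc a * (b * z) * a⁻¹ * (b * z)⁻¹ = a * b * (z * a⁻¹ * z⁻¹) * b⁻¹ := by group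
    _ = a * b * a⁻¹ * b⁻¹ := by rw [h1]

theorem cm_mul_left (a a' b : G) (h1 : Commute (cm a' b) a) (h2 : Commute (cm a' b) (cm a b)) :
    cm (a * a') b = cm a b * cm a' b := by
  have e : cm (a * a') b = a * cm a' b * a⁻¹ * cm a b := by unfold cm; group
  rw [e, ← h1.eq, ← h2.eq]; group

theorem cm_mul_right (a b b' : G) (h1 : Commute (cm a b') b) :
    cm a (b * b') = cm a b * cm a b' := by
  have e : cm a (b * b') = cm a b * (b * cm a b' * b⁻¹) := by unfold cm; group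
  rw [e, ← h1.eq]; group

section main

variable (Q : Subgroup G) (Z : Subgroup G) [Z.Normal]

omit [Z.Normal] in
theorem commute_of_mem (hZ : Z = Q ⊓ Subgroup.centralizer (Q : Set G)) {z q : G} (hz : z ∈ Z)
    (hq : q ∈ Q) : Commute z q := by
  rw [hZ] at hz
  have := (Subgroup.mem_centralizer_iff.mp hz.2) q hq
  exact this.symm

omit [Z.Normal] in
theorem cm_congr (hZ : Z = Q ⊓ Subgroup.centralizer (Q : Set G)) {a a' b b' : G}
    (ha : a ∈ Q) (hb' : b' ∈ Q)
    (haa : ((a : G) : G ⧸ Z) = (a' : G)) (hbb : ((b : G) : G ⧸ Z) = (b' : G)) :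
    cm a b = cm a' b' := by
  have h1 : a⁻¹ * a' ∈ Z := QuotientGroup.eq.mp haa
  have h2 : b⁻¹ * b' ∈ Z := QuotientGroup.eq.mp hbb
  have e1 : a' = a * (a⁻¹ * a') := by group
  have e2 : b' = b * (b⁻¹ * b') := by group
  rw [e1, cm_mul_left_of_commute _ _ _ (commute_of_mem Q Z hZ h1 hb'), e2,
    cm_mul_right_of_commute _ _ _ (commute_of_mem Q Z hZ h2 ha)]

end main

open scoped IsMulCommutative

theorem exists_comm_pairing [Finite G] (Q : Subgroup G) [Q.Normal] (Z : Subgroup G) [Z.Normal]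
    (hZ : Z = Q ⊓ Subgroup.centralizer (Q : Set G))
    (hab : ∀ a ∈ Q, ∀ b ∈ Q, a * b * a⁻¹ * b⁻¹ ∈ Z) :
    ∃ γ : ↥(Q.map (QuotientGroup.mk' Z)) → ↥(Q.map (QuotientGroup.mk' Z)) → ↥Z,
      (∀ a b c, γ (a * b) c = γ a c * γ b c) ∧ (∀ a b c, γ a (b * c) = γ a b * γ a c) ∧
      (∀ a, γ a a = 1) ∧
      (∀ (a b : G) (ha : a ∈ Q) (hb : b ∈ Q),
        ((γ ⟨(a : G ⧸ Z), Subgroup.mem_map_of_mem _ ha⟩ ⟨(b : G ⧸ Z), Subgroup.mem_map_of_mem _ hb⟩ : Z) : G)
          = a * b * a⁻¹ * b⁻¹) := by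
  classical
  -- lifts
  have hex : ∀ x : ↥(Q.map (QuotientGroup.mk' Z)), ∃ a : G, a ∈ Q ∧ ((a : G) : G ⧸ Z) = x.1 := by
    intro x
    obtain ⟨a, ha, hax⟩ := Subgroup.mem_map.mp x.2
    exact ⟨a, ha, hax⟩
  choose lift lift_mem lift_spec using hex
  have hZQ : Z ≤ Q := by rw [hZ]; exact inf_le_left
  have hcmZ : ∀ a ∈ Q, ∀ b ∈ Q, cm a b ∈ Z := hab
  refine ⟨fun x y => ⟨cm (lift x) (lift y), hcmZ _ (lift_mem x) _ (lift_mem y)⟩, ?_, ?_, ?_, ?_⟩
  · intro x y w
    apply Subtype.ext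
    show cm (lift (x * y)) (lift w) = cm (lift x) (lift w) * cm (lift y) (lift w)
    have hxy : lift x * lift y ∈ Q := Q.mul_mem (lift_mem x) (lift_mem y)
    have e1 : cm (lift (x * y)) (lift w) = cm (lift x * lift y) (lift w) := by
      apply cm_congr Q Z hZ (lift_mem _) (lift_mem _)
      · rw [lift_spec, QuotientGroup.mk_mul, lift_spec, lift_spec]; rfl
      · rfl
    rw [e1]
    apply cm_mul_left
    · exact commute_of_mem Q Z hZ (hcmZ _ (lift_mem y) _ (lift_mem w)) (lift_mem x)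
    · exact commute_of_mem Q Z hZ (hcmZ _ (lift_mem y) _ (lift_mem w))
        (hZQ (hcmZ _ (lift_mem x) _ (lift_mem w)))
  · intro x y w
    apply Subtype.ext
    show cm (lift x) (lift (y * w)) = cm (lift x) (lift y) * cm (lift x) (lift w)
    have hyw : lift y * lift w ∈ Q := Q.mul_mem (lift_mem y) (lift_mem w)
    have e1 : cm (lift x) (lift (y * w)) = cm (lift x) (lift y * lift w) := by
      apply cm_congr Q Z hZ (lift_mem _) hyw
      · rfl
      · rw [lift_spec, QuotientGroup.mk_mul, lift_spec, lift_spec]; rfl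
    rw [e1]
    apply cm_mul_right
    exact commute_of_mem Q Z hZ (hcmZ _ (lift_mem x) _ (lift_mem w)) (lift_mem y)
  · intro x
    apply Subtype.ext
    show cm (lift x) (lift x) = 1
    exact cm_self _
  · intro a b ha hb
    show cm (lift _) (lift _) = a * b * a⁻¹ * b⁻¹
    have : cm (lift ⟨(a : G ⧸ Z), Subgroup.mem_map_of_mem _ ha⟩)
        (lift ⟨(b : G ⧸ Z), Subgroup.mem_map_of_mem _ hb⟩) = cm a b := by
      apply cm_congr Q Z hZ (lift_mem _) hb
      · rw [lift_spec]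
      · rw [lift_spec]
    rw [this]; rfl

end Cfsg.Agent.Lib.Helper87.Hig
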