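import Mathlib

set_option autoImplicit false

/-!
helper87, module HIG-[CONJ3] of helper48's S3050 project (hedge): in `SL(2,K)`, `K` a finite field
of characteristic 2, any two elements of order 3 are conjugate.
-/

namespace Cfsg.Agent.Lib.Helper87.Hig

open Matrix Matrix.SpecialLinearGroup
open scoped MatrixGroups

theorem mat_ext2 {K : Type*} {x y : Matrix (Fin 2) (Fin 2) K} (h00 : x 0 0 = y 0 0)
    (h01 : x 0 1 = y 0 1) (h10 : x 1 0 = y 1 0) (h11 : x 1 1 = y 1 1) : x = y := by
  ext i j
  fin_cases i <;> fin_cases j <;> assumption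

section

variable {K : Type*} [Field K] [CharP K 2]

theorem two_eq_zero_K : (2 : K) = 0 := by
  have := CharP.cast_eq_zero K 2
  exact_mod_cast this

/-- the companion matrix of `X^2 + X + 1` -/
def C0 : SL(2, K) := ⟨!![0, 1; 1, 1], by
  rw [Matrix.det_fin_two_of]
  have h2 : (2 : K) = 0 := two_eq_zero_K
  linear_combination (-1 : K) * h2⟩

omit [CharP K 2] in
/-- polynomial core: a matrix of determinant 1 with cube 1 and trace `≠ 1` is the identity
(characteristic 2) -/
theorem poly_aux (a b c d : K) (h2 : (2 : K) = 0) (hdet : a * d - b * c = 1)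
    (e00 : (a * a + b * c) * a + (a * b + b * d) * c = 1)
    (e01 : (a * a + b * c) * b + (a * b + b * d) * d = 0)
    (e10 : (c * a + d * c) * a + (c * b + d * d) * c = 0)
    (e11 : (c * a + d * c) * b + (c * b + d * d) * d = 1)
    (ht : a + d ≠ 1) : a = 1 ∧ b = 0 ∧ c = 0 ∧ d = 1 := by
  have ht' : a + d - 1 ≠ 0 := fun h => ht (by linear_combination h)
  have kb : (a + d - 1) ^ 2 * b = 0 := by
    linear_combination e01 + b * hdet - (a + d - 1) * b * h2
  have kc : (a + d - 1) ^ 2 * c = 0 := by
    linear_combination e10 + c * hdet - (a + d - 1) * c * h2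
  have ka : (a + d - 1) ^ 2 * a = (a + d - 1) := by
    linear_combination e00 + a * hdet - (a + d - 1) * a * h2 - h2 + (a + d) * hdet + 2 * h2
  have kd : (a + d - 1) ^ 2 * d = (a + d - 1) := by
    linear_combination e11 + d * hdet - (a + d - 1) * d * h2 - h2 + (a + d) * hdet + 2 * h2
  have hsq : (a + d - 1) ^ 2 ≠ 0 := pow_ne_zero 2 ht'
  have hb : b = 0 := by
    rcases mul_eq_zero.mp kb with h | h
    · exact absurd h hsq
    · exact h
  have hc : c = 0 := by
    rcases mul_eq_zero.mp kc with h | h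
    · exact absurd h hsq
    · exact h
  have ha : (a + d - 1) * a = 1 := by
    apply mul_left_cancel₀ ht'
    linear_combination ka
  have hd : (a + d - 1) * d = 1 := by
    apply mul_left_cancel₀ ht'
    linear_combination kd
  have had : a = d := by
    apply mul_left_cancel₀ ht'
    rw [ha, hd]
  have ht0 : a + d = 0 := by rw [had]; linear_combination d * h2
  have ha1 : a = 1 := by
    have : (0 - 1) * a = 1 := by rw [← ht0]; exact ha
    linear_combination (-1 : K) * this - h2
  exact ⟨ha1, hb, hc, by rw [← had]; exact ha1⟩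

omit [CharP K 2] in
theorem det_entries (g : SL(2, K)) : g 0 0 * g 1 1 - g 0 1 * g 1 0 = 1 := by
  have := g.det_coe
  rw [Matrix.det_fin_two] at this
  exact this

/-- an element of order 3 has trace 1 -/
theorem trace_of_order_three (g : SL(2, K)) (hg : orderOf g = 3) : g 0 0 + g 1 1 = 1 := by
  have h2 : (2 : K) = 0 := two_eq_zero_K
  have hdet := det_entries g
  have h3 : (g : Matrix (Fin 2) (Fin 2) K) * g * g = 1 := by
    have : g ^ 3 = 1 := by rw [← hg]; exact pow_orderOf_eq_one g
    have h := congrArg (fun x : SL(2, K) => (x : Matrix (Fin 2) (Fin 2) K)) this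
    simpa [pow_succ] using h
  have e00 := congrFun (congrFun h3 0) 0
  have e01 := congrFun (congrFun h3 0) 1
  have e10 := congrFun (congrFun h3 1) 0
  have e11 := congrFun (congrFun h3 1) 1
  simp [Matrix.mul_apply, Fin.sum_univ_two] at e00 e01 e10 e11
  by_contra ht
  obtain ⟨h00, h01, h10, h11⟩ := poly_aux _ _ _ _ h2 hdet e00 e01 e10 e11 ht
  have hg1 : g = 1 := by
    apply Subtype.ext
    apply mat_ext2
    · simpa using h00
    · simpa using h01
    · simpa using h10
    · simpa using h11
  rw [hg1, orderOf_one] at hg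
  omega

/-- explicit conjugation: if `A P = P C0` entrywise for a matrix `P = [v | A v]` scaled to
determinant one -/
theorem conj_of_cols (g : SL(2, K)) (ht : g 0 0 + g 1 1 = 1) (x y r : K)
    (hr : r * r * (x * (g 1 0 * x + g 1 1 * y) - (g 0 0 * x + g 0 1 * y) * y) = 1) :
    ∃ P : SL(2, K), g = P * C0 * P⁻¹ := by
  have h2 : (2 : K) = 0 := two_eq_zero_K
  have hdet := det_entries g
  let P : SL(2, K) := ⟨!![r * x, r * (g 0 0 * x + g 0 1 * y); r * y, r * (g 1 0 * x + g 1 1 * y)], by
    rw [Matrix.det_fin_two_of]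
    linear_combination hr⟩
  refine ⟨P, ?_⟩
  have key : g * P = P * C0 := by
    apply Subtype.ext
    show (g : Matrix (Fin 2) (Fin 2) K) * (P : Matrix (Fin 2) (Fin 2) K)
      = (P : Matrix (Fin 2) (Fin 2) K) * ((C0 : SL(2, K)) : Matrix (Fin 2) (Fin 2) K)
    have hP : (P : Matrix (Fin 2) (Fin 2) K)
        = !![r * x, r * (g 0 0 * x + g 0 1 * y); r * y, r * (g 1 0 * x + g 1 1 * y)] := rfl
    have hC : ((C0 : SL(2, K)) : Matrix (Fin 2) (Fin 2) K) = !![0, 1; 1, 1] := rfl
    rw [hP, hC]
    apply mat_ext2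
    · simp [Matrix.mul_apply, Fin.sum_univ_two]
      ring
    · simp [Matrix.mul_apply, Fin.sum_univ_two]
      linear_combination (r * x * g 0 0 + r * y * g 0 1) * ht - r * x * hdet - r * x * h2
    · simp [Matrix.mul_apply, Fin.sum_univ_two]
      ring
    · simp [Matrix.mul_apply, Fin.sum_univ_two]
      linear_combination (r * x * g 1 0 + r * y * g 1 1) * ht - r * y * hdet - r * y * h2
  rw [← key]; group

end

section final

variable {K : Type*} [Field K] [Finite K] [CharP K 2]

theorem exists_sq_inv (δ : K) (hδ : δ ≠ 0) : ∃ r : K, r * r * δ = 1 := by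
  have hchar : ringChar K = 2 := ringChar.eq K 2
  obtain ⟨r, hr⟩ := FiniteField.isSquare_of_char_two hchar δ⁻¹
  refine ⟨r, ?_⟩
  rw [← hr, inv_mul_cancel₀ hδ]

/-- every element of order 3 is conjugate to the companion matrix `C0` -/
theorem exists_conj_C0 (g : SL(2, K)) (hg : orderOf g = 3) : ∃ P : SL(2, K), g = P * C0 * P⁻¹ := by
  have h2 : (2 : K) = 0 := two_eq_zero_K
  have ht := trace_of_order_three g hg
  have hdet := det_entries g
  by_cases hc : g 1 0 = 0
  · by_cases hb : g 0 1 = 0
    · -- diagonal: v = e1 + e2, det = d - a = 1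
      obtain ⟨r, hr⟩ := exists_sq_inv (1 : K) one_ne_zero
      apply conj_of_cols g ht 1 1 r
      rw [hc, hb]
      linear_combination hr + r * r * ht - r * r * g 0 0 * h2
    · -- v = e2, det = -b
      obtain ⟨r, hr⟩ := exists_sq_inv (g 0 1) hb
      apply conj_of_cols g ht 0 1 r
      linear_combination hr - r * r * g 0 1 * h2
  · -- v = e1, det = c
    obtain ⟨r, hr⟩ := exists_sq_inv (g 1 0) hc
    apply conj_of_cols g ht 1 0 r
    linear_combination hr

theorem conj_of_order_three (s t : SL(2, K)) (hs : orderOf s = 3) (ht : orderOf t = 3) :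
    ∃ a : SL(2, K), t = a * s * a⁻¹ := by
  obtain ⟨P, hP⟩ := exists_conj_C0 s hs
  obtain ⟨R, hR⟩ := exists_conj_C0 t ht
  refine ⟨R * P⁻¹, ?_⟩
  rw [hR, hP]; group

end final

end Cfsg.Agent.Lib.Helper87.Hig
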