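import Cfsg.Agent.Lib.Helper87.SpRegCMul

set_option autoImplicit false

/-!
helper87, module S2281-[MIX] of helper53's S2281 project: the mixed commutator and its mirror
(`n ≥ 2`).
-/

namespace Cfsg.Agent.Lib.Helper87.SpReg

open Cfsg.Agent.Lib.Helper53.SpReg

variable {F : Type*} [Field F] {G : Type*} [Group G] {n : ℕ} {R : RootSys F G n}
  {H : Subgroup G} {c : F}

theorem mix_mem (hn : 2 ≤ n) (h : Gen R H c) (r s t : F)
    (ht : R.T 0 t * R.T 1 (-t) ∈ H)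
    (hx : R.T ((n : ℤ) - 1) r * R.S n ((n : ℤ) - 1) s ∈ H) :
    R.S 0 ((n : ℤ) - 1) (-(s * t)) * R.T ((n : ℤ) - 1) (-(s ^ 2 * t)) ∈ H := by
  have _h := h
  have hn' : (2 : ℤ) ≤ (n : ℤ) := by exact_mod_cast hn
  have hrel := R.rel_TSp 0 ((n : ℤ) - 1) s t (by omega) (by omega)
  rw [zero_add] at hrel
  -- z = T 1 (-t), w = T (n-1) r, A = T 0 t, B = S n (n-1) s
  have hzw : Commute (R.T 1 (-t)) (R.T ((n : ℤ) - 1) r) := by
    apply R.TT_comm; rw [abs_lt]; constructor <;> omega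
  have hzB : Commute (R.T 1 (-t)) (R.S n ((n : ℤ) - 1) s) := by
    apply R.TS_comm <;> rw [abs_lt] <;> constructor <;> omega
  have hwA : Commute (R.T ((n : ℤ) - 1) r) (R.T 0 t) := by
    apply R.TT_comm; rw [abs_lt]; constructor <;> omega
  have hwX : Commute (R.T ((n : ℤ) - 1) r)
      (R.S 0 ((n : ℤ) - 1) (-(s * t)) * R.T ((n : ℤ) - 1) (-(s ^ 2 * t))) := by
    apply Commute.mul_right
    · apply R.TS_comm <;> rw [abs_lt] <;> constructor <;> omega
    · exact R.T_self_comm _ _ _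
  exact mem_of_comm_rel H (R.T 0 t) (R.S n ((n : ℤ) - 1) s) (R.T 1 (-t)) (R.T ((n : ℤ) - 1) r)
    _ hrel hzw hzB hwA hwX ht hx

theorem mix'_mem (hn : 2 ≤ n) (h : Gen R H c) (r s t : F)
    (ht : R.T ((n : ℤ) + 1) t * R.T n (-t) ∈ H)
    (hx : R.T 2 r * R.S 1 2 s ∈ H) :
    R.S ((n : ℤ) + 1) 2 (s * t) * R.T 2 (-(s ^ 2 * t)) ∈ H := by
  have _h := h
  have hn' : (2 : ℤ) ≤ (n : ℤ) := by exact_mod_cast hn
  have hrel := R.rel_TSm ((n : ℤ) + 1) 2 s t (by omega) (by omega)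
  have e1 : (n : ℤ) + 1 - (n : ℤ) = 1 := by ring
  rw [e1] at hrel
  -- z = T n (-t), w = T 2 r, A = T (n+1) t, B = S 1 2 s
  have hzw : Commute (R.T n (-t)) (R.T 2 r) := by
    apply R.TT_comm; rw [abs_lt]; constructor <;> omega
  have hzB : Commute (R.T n (-t)) (R.S 1 2 s) := by
    apply R.TS_comm <;> rw [abs_lt] <;> constructor <;> omega
  have hwA : Commute (R.T 2 r) (R.T ((n : ℤ) + 1) t) := by
    apply R.TT_comm; rw [abs_lt]; constructor <;> omega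
  have hwX : Commute (R.T 2 r)
      (R.S ((n : ℤ) + 1) 2 (s * t) * R.T 2 (-(s ^ 2 * t))) := by
    apply Commute.mul_right
    · apply R.TS_comm <;> rw [abs_lt] <;> constructor <;> omega
    · exact R.T_self_comm _ _ _
  exact mem_of_comm_rel H (R.T ((n : ℤ) + 1) t) (R.S 1 2 s) (R.T n (-t)) (R.T 2 r)
    _ hrel hzw hzB hwA hwX ht hx

end Cfsg.Agent.Lib.Helper87.SpReg
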