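/-
helper87: `Ω₁` of a metacyclic `p`-group, `p` odd: any two elements of order dividing `p` commute, so the elements of
order dividing `p` form an elementary abelian subgroup of order at most `p²`.
All declarations live in `Cfsg.Agent.Lib.Helper87`.
-/
import Mathlib
import Cfsg.Agent.Lib.Helper24.Metacyclic
import Cfsg.Agent.Lib.Helper24.ClassTwoExp
import Cfsg.Agent.Lib.Helper73.MetaRank

set_option autoImplicit false

namespace Cfsg.Agent.Lib.Helper87

open Cfsg
open scoped commutatorElement

universe u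

/-- a nontrivial normal subgroup of a finite `p`-group contains a nontrivial central element -/
theorem exists_central_mem_of_normal {P : Type*} [Group P] [Finite P] {p : ℕ} [Fact p.Prime]
    (hP : IsPGroup p P) (N : Subgroup P) [N.Normal] (hN : N ≠ ⊥) :
    ∃ w ∈ N, w ≠ 1 ∧ ∀ g : P, g * w = w * g := by
  have hfix := (hP.of_equiv ConjAct.toConjAct).exists_fixed_point_of_prime_dvd_card_of_fixed_point N
  have hNp : IsPGroup p N := hP.to_subgroup N
  have hnt : Nontrivial N := (Subgroup.nontrivial_iff_ne_bot N).mpr hN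
  have dvd : p ∣ Nat.card N := by
    obtain ⟨n, hn0, hn⟩ := hNp.nontrivial_iff_card.mp hnt
    exact hn.symm ▸ dvd_pow_self _ (ne_of_gt hn0)
  have h1 : (1 : N) ∈ MulAction.fixedPoints (ConjAct P) N := by
    intro g
    exact smul_one g
  obtain ⟨b, hb, hb1⟩ := hfix dvd h1
  refine ⟨b, b.2, fun h => hb1 (Subtype.ext h.symm), fun g => ?_⟩
  have := hb (ConjAct.toConjAct g)
  have h2 : g * (b : P) * g⁻¹ = b := congrArg Subtype.val this
  calc g * b = (g * b * g⁻¹) * g := by group
    _ = b * g := by rw [h2]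

/-- a metacyclic group of exponent dividing `p` has order at most `p²` -/
theorem card_le_sq_of_isMetacyclic_of_exponent {D : Type*} [Group D] [Finite D] {p : ℕ} (hp : 0 < p)
    (hm : IsMetacyclic D) (hexp : ∀ d : D, d ^ p = 1) : Nat.card D ≤ p ^ 2 := by
  obtain ⟨N, hNn, hNc, hQc⟩ := hm
  have h1 : Nat.card N ≤ p :=
    Cfsg.Agent.Lib.Helper73.card_le_of_isCyclic_of_pow_eq_one p hp (fun x => Subtype.ext (by simpa using hexp x))
  have h2 : Nat.card (D ⧸ N) ≤ p := by
    have : IsCyclic (D ⧸ N) := hQc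
    refine Cfsg.Agent.Lib.Helper73.card_le_of_isCyclic_of_pow_eq_one p hp (fun x => ?_)
    obtain ⟨d, rfl⟩ := QuotientGroup.mk_surjective x
    rw [← QuotientGroup.mk_pow, hexp d]
    rfl
  rw [Subgroup.card_eq_card_quotient_mul_card_subgroup N, sq]
  exact Nat.mul_le_mul h2 h1

/-- a finite `p`-group of order at most `p²` is commutative -/
theorem commute_of_card_le_sq {D : Type*} [Group D] [Finite D] {p : ℕ} [hp : Fact p.Prime]
    (hD : IsPGroup p D) (hcard : Nat.card D ≤ p ^ 2) (a b : D) : a * b = b * a := by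
  obtain ⟨k, hk⟩ := IsPGroup.iff_card.1 hD
  have hk2 : k ≤ 2 := by
    by_contra hlt
    push Not at hlt
    have : p ^ 3 ≤ p ^ k := Nat.pow_le_pow_right hp.out.pos hlt
    have h2 : p ^ 2 < p ^ 3 := Nat.pow_lt_pow_right hp.out.one_lt (by norm_num)
    omega
  interval_cases k
  · rw [pow_zero] at hk
    have : Subsingleton D := (Nat.card_eq_one_iff_unique.1 hk).1
    rw [Subsingleton.elim a 1, Subsingleton.elim b 1]
  · rw [pow_one] at hk
    have : IsCyclic D := isCyclic_of_prime_card hk
    obtain ⟨g, hg⟩ := IsCyclic.exists_generator (α := D)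
    obtain ⟨i, rfl⟩ := Subgroup.mem_zpowers_iff.1 (hg a)
    obtain ⟨j, rfl⟩ := Subgroup.mem_zpowers_iff.1 (hg b)
    exact (Commute.zpow_zpow_self g i j).eq
  · have := IsPGroup.isMulCommutative_of_card_eq_prime_sq hk
    exact mul_comm' a b

/-- **Lemma A.** In a finite metacyclic `p`-group, `p` odd, two elements of order dividing `p` commute. -/
theorem commute_of_pow_eq_one_of_isMetacyclic_aux {p : ℕ} [hp : Fact p.Prime] (hp2 : p ≠ 2) :
    ∀ (n : ℕ) (P : Type u) [Group P] [Finite P], Nat.card P ≤ n → IsPGroup p P → IsMetacyclic P →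
      ∀ x y : P, x ^ p = 1 → y ^ p = 1 → x * y = y * x := by
  intro n
  induction n with
  | zero =>
    intro P _ _ hcard
    have := Nat.card_pos (α := P)
    omega
  | succ n ih =>
    intro P _ _ hcard hP hm x y hx hy
    obtain ⟨N, hNn, hNc, hQc⟩ := id hm
    by_cases hN : N = ⊥
    · -- `P` is cyclic
      subst hN
      have : IsCyclic (P ⧸ (⊥ : Subgroup P)) := hQc
      have hcyc : IsCyclic P :=
        isCyclic_of_surjective (QuotientGroup.quotientBot (G := P)).toMonoidHom
          (QuotientGroup.quotientBot (G := P)).surjective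
      obtain ⟨g, hg⟩ := IsCyclic.exists_generator (α := P)
      obtain ⟨i, rfl⟩ := Subgroup.mem_zpowers_iff.1 (hg x)
      obtain ⟨j, rfl⟩ := Subgroup.mem_zpowers_iff.1 (hg y)
      exact (Commute.zpow_zpow_self g i j).eq
    · obtain ⟨w, hwN, hw1, hwc⟩ := exists_central_mem_of_normal hP N hN
      -- an element of order `p` in `⟨w⟩`
      have hdvd : p ∣ Nat.card (Subgroup.zpowers w) := by
        have hnt : Nontrivial (Subgroup.zpowers w) :=
          (Subgroup.nontrivial_iff_ne_bot _).2 (fun h => hw1 (Subgroup.zpowers_eq_bot.1 h))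
        obtain ⟨k, hk0, hk⟩ := (hP.to_subgroup (Subgroup.zpowers w)).nontrivial_iff_card.mp hnt
        exact hk.symm ▸ dvd_pow_self _ (ne_of_gt hk0)
      obtain ⟨⟨z, hzw⟩, hz⟩ := exists_prime_orderOf_dvd_card' p hdvd
      have hzo : orderOf z = p := by
        rw [← hz]
        exact (Subgroup.orderOf_mk z hzw).symm
      have hzc : ∀ g : P, g * z = z * g := by
        intro g
        obtain ⟨i, rfl⟩ := Subgroup.mem_zpowers_iff.1 hzw
        exact ((Commute.zpow_right (hwc g) i)).eq
      have hz1 : z ≠ 1 := by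
        intro h
        rw [h, orderOf_one] at hzo
        exact hp.out.one_lt.ne hzo
      have hzp : z ^ p = 1 := by rw [← hzo]; exact pow_orderOf_eq_one z
      let Z₁ : Subgroup P := Subgroup.zpowers z
      have hZ₁c : ∀ c ∈ Z₁, ∀ g : P, c * g = g * c := by
        intro c hc g
        obtain ⟨i, rfl⟩ := Subgroup.mem_zpowers_iff.1 hc
        exact ((Commute.zpow_right (hzc g) i)).eq.symm
      have hZ₁n : Z₁.Normal := ⟨fun c hc g => by
        have : g * c * g⁻¹ = c := by rw [← hZ₁c c hc g]; group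
        rw [this]; exact hc⟩
      have hZ₁exp : ∀ c ∈ Z₁, c ^ p = 1 := by
        intro c hc
        obtain ⟨i, rfl⟩ := Subgroup.mem_zpowers_iff.1 hc
        rw [← zpow_natCast, ← zpow_mul, mul_comm, zpow_mul, zpow_natCast, hzp, one_zpow]
      -- the quotient
      have hcardZ : Nat.card Z₁ = p := by rw [Nat.card_zpowers, hzo]
      have hcardQ : Nat.card (P ⧸ Z₁) ≤ n := by
        have h1 := Subgroup.card_eq_card_quotient_mul_card_subgroup Z₁
        rw [hcardZ] at h1
        have h2 : 0 < Nat.card (P ⧸ Z₁) := Nat.card_pos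
        have h3 : 2 ≤ p := hp.out.two_le
        nlinarith
      have hQm : IsMetacyclic (P ⧸ Z₁) :=
        Cfsg.Agent.Lib.Helper73.isMetacyclic_of_surjective (QuotientGroup.mk' Z₁)
          (QuotientGroup.mk'_surjective Z₁) hm
      have hQp : IsPGroup p (P ⧸ Z₁) := hP.to_quotient Z₁
      have hcomm := ih (P ⧸ Z₁) hcardQ hQp hQm (QuotientGroup.mk x) (QuotientGroup.mk y)
        (by rw [← QuotientGroup.mk_pow, hx]; rfl) (by rw [← QuotientGroup.mk_pow, hy]; rfl)
      have hxy : ⁅x, y⁆ ∈ Z₁ := by
        rw [← QuotientGroup.eq_one_iff, commutatorElement_def]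
        simp only [QuotientGroup.mk_mul, QuotientGroup.mk_inv]
        rw [hcomm]
        group
      have hyx : ⁅y, x⁆ ∈ Z₁ := by
        rw [← commutatorElement_inv]
        exact Z₁.inv_mem hxy
      have hexp := Cfsg.Agent.Lib.Helper24.pow_eq_one_of_closure p hp2 Z₁ ({x, y} : Set P) hZ₁exp
        (by
          rintro s (rfl | rfl)
          · exact hx
          · exact hy)
        (by
          rintro s (rfl | rfl) t (rfl | rfl)
          · rw [commutatorElement_self]; exact Z₁.one_mem
          · exact hxy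
          · exact hyx
          · rw [commutatorElement_self]; exact Z₁.one_mem)
        (fun c hc f _ => hZ₁c c hc f)
      -- `D = ⟨x, y⟩` has exponent `p`, is metacyclic, hence of order at most `p²`
      let D : Subgroup P := Subgroup.closure ({x, y} : Set P)
      have hDm : IsMetacyclic D :=
        Cfsg.Agent.Lib.Helper24.isMetacyclic_of_injective D.subtype D.subtype_injective hm
      have hDexp : ∀ d : D, d ^ p = 1 := fun d => Subtype.ext (by simpa using hexp d.1 d.2)
      have hDcard := card_le_sq_of_isMetacyclic_of_exponent hp.out.pos hDm hDexp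
      have hxD : x ∈ D := Subgroup.subset_closure (by simp)
      have hyD : y ∈ D := Subgroup.subset_closure (by simp)
      have := commute_of_card_le_sq (hP.to_subgroup D) hDcard ⟨x, hxD⟩ ⟨y, hyD⟩
      exact congrArg Subtype.val this

/-- **Lemma A.** In a finite metacyclic `p`-group, `p` odd, two elements of order dividing `p` commute. -/
theorem commute_of_pow_eq_one_of_isMetacyclic {p : ℕ} [Fact p.Prime] (hp2 : p ≠ 2) {P : Type u} [Group P]
    [Finite P] (hP : IsPGroup p P) (hm : IsMetacyclic P) {x y : P} (hx : x ^ p = 1) (hy : y ^ p = 1) :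
    x * y = y * x :=
  commute_of_pow_eq_one_of_isMetacyclic_aux hp2 _ P le_rfl hP hm x y hx hy

/-- The elements of order dividing `p` of a subgroup `H` in which such elements commute. -/
def omegaSub {G : Type*} [Group G] (p : ℕ) (H : Subgroup G)
    (hc : ∀ x ∈ H, ∀ y ∈ H, x ^ p = 1 → y ^ p = 1 → x * y = y * x) : Subgroup G where
  carrier := {x | x ∈ H ∧ x ^ p = 1}
  one_mem' := ⟨H.one_mem, one_pow _⟩
  mul_mem' := by
    rintro a b ⟨ha, hap⟩ ⟨hb, hbp⟩
    refine ⟨H.mul_mem ha hb, ?_⟩
    have : Commute a b := hc a ha b hb hap hbp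
    rw [this.mul_pow, hap, hbp, mul_one]
  inv_mem' := by
    rintro a ⟨ha, hap⟩
    exact ⟨H.inv_mem ha, by rw [inv_pow, hap, inv_one]⟩

theorem mem_omegaSub {G : Type*} [Group G] {p : ℕ} {H : Subgroup G}
    {hc : ∀ x ∈ H, ∀ y ∈ H, x ^ p = 1 → y ^ p = 1 → x * y = y * x} {x : G} :
    x ∈ omegaSub p H hc ↔ x ∈ H ∧ x ^ p = 1 := Iff.rfl

/-- Elements of order dividing `p` of a finite metacyclic `p`-subgroup commute (`p` odd). -/
theorem commute_of_pow_eq_one_of_isMetacyclic_subgroup {G : Type u} [Group G] {p : ℕ} [Fact p.Prime] (hp2 : p ≠ 2)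
    (H : Subgroup G) [Finite H] (hH : IsPGroup p H) (hm : IsMetacyclic H) :
    ∀ x ∈ H, ∀ y ∈ H, x ^ p = 1 → y ^ p = 1 → x * y = y * x := by
  intro x hx y hy hxp hyp
  have := commute_of_pow_eq_one_of_isMetacyclic hp2 hH hm (x := ⟨x, hx⟩) (y := ⟨y, hy⟩)
    (Subtype.ext (by simpa using hxp)) (Subtype.ext (by simpa using hyp))
  exact congrArg Subtype.val this

/-- A subgroup of exponent dividing `p` of a finite metacyclic `p`-subgroup has order at most `p²` (`p` odd). -/
theorem card_le_sq_of_le_of_exponent {G : Type u} [Group G] {p : ℕ} [hp : Fact p.Prime]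
    (H : Subgroup G) [Finite H] (hm : IsMetacyclic H) (E : Subgroup G) (hEH : E ≤ H)
    (hE : ∀ x ∈ E, x ^ p = 1) : Nat.card E ≤ p ^ 2 := by
  have hEfin : Finite E := Finite.of_injective (Subgroup.inclusion hEH) (Subgroup.inclusion_injective hEH)
  have hEm : IsMetacyclic E :=
    Cfsg.Agent.Lib.Helper24.isMetacyclic_of_injective (Subgroup.inclusion hEH)
      (Subgroup.inclusion_injective hEH) hm
  exact card_le_sq_of_isMetacyclic_of_exponent hp.out.pos hEm
    (fun d => Subtype.ext (by simpa using hE d.1 d.2))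

end Cfsg.Agent.Lib.Helper87
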