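import Mathlib
import Cfsg.Agent.Lib.Helper37.ReeW2Abel
import Cfsg.Agent.Lib.Helper86.ReeWConj

set_option autoImplicit false

/-!
helper87, module REEW2-[W2-D1A] of helper61's REEW2 project: the abelian group `D = E4 × Z_k`
(centraliser of an element of prime order dividing `k`) and its normaliser of order `24k`.
-/

namespace Cfsg.Agent.Lib.Helper87.ReeW2

open Subgroup

section gen

variable {G : Type*} [Group G]

theorem mem_Cz {x g : G} : g ∈ Subgroup.centralizer ({x} : Set G) ↔ g * x = x * g := by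
  rw [Subgroup.mem_centralizer_iff]
  constructor
  · intro h; exact (h x rfl).symm
  · intro h y hy
    rw [Set.mem_singleton_iff] at hy
    subst hy
    exact h.symm

/-- orbit–stabiliser for the conjugation action of a subgroup `M` on an element `t`, in
elementary form -/
theorem card_eq_orbit_mul [Finite G] (M : Subgroup G) (t : G) (S : Finset G)
    (hS : ∀ s ∈ S, ∃ n ∈ M, n * t * n⁻¹ = s) (hM : ∀ n ∈ M, n * t * n⁻¹ ∈ S) :
    Nat.card M = S.card * Nat.card (M ⊓ Subgroup.centralizer ({t} : Set G) : Subgroup G) := by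
  classical
  let _ : Fintype G := Fintype.ofFinite G
  set MF : Finset G := Finset.univ.filter (fun n => n ∈ M) with hMF
  set KF : Finset G := Finset.univ.filter
    (fun n => n ∈ (M ⊓ Subgroup.centralizer ({t} : Set G) : Subgroup G)) with hKF
  have cM : Nat.card M = MF.card := Nat.subtype_card MF (by intro x; simp [MF])
  have cK : Nat.card (M ⊓ Subgroup.centralizer ({t} : Set G) : Subgroup G) = KF.card :=
    Nat.subtype_card KF (by intro x; simp [KF])
  rw [cM, cK]
  have hmaps : ∀ n ∈ MF, n * t * n⁻¹ ∈ S := by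
    intro n hn
    exact hM n (by simpa [MF] using hn)
  rw [Finset.card_eq_sum_card_fiberwise hmaps]
  have hfib : ∀ s ∈ S, (MF.filter (fun n => n * t * n⁻¹ = s)).card = KF.card := by
    intro s hs
    obtain ⟨n0, hn0, hn0s⟩ := hS s hs
    have : MF.filter (fun n => n * t * n⁻¹ = s) = KF.image (fun c => n0 * c) := by
      ext n
      simp only [Finset.mem_filter, Finset.mem_image, MF, KF, Finset.mem_univ, true_and,
        Subgroup.mem_inf, mem_Cz]
      constructor
      · rintro ⟨hnM, hns⟩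
        refine ⟨n0⁻¹ * n, ⟨M.mul_mem (M.inv_mem hn0) hnM, ?_⟩, by group⟩
        have h1 : n * t * n⁻¹ = n0 * t * n0⁻¹ := by rw [hns, hn0s]
        have h2 : n0⁻¹ * (n * t * n⁻¹) * n0 = t := by rw [h1]; group
        calc n0⁻¹ * n * t = (n0⁻¹ * (n * t * n⁻¹) * n0) * (n0⁻¹ * n) := by group
          _ = t * (n0⁻¹ * n) := by rw [h2]
      · rintro ⟨c, ⟨hcM, hct⟩, rfl⟩
        refine ⟨M.mul_mem hn0 hcM, ?_⟩
        have h3 : c * t * c⁻¹ = t := by rw [hct]; group
        calc n0 * c * t * (n0 * c)⁻¹ = n0 * (c * t * c⁻¹) * n0⁻¹ := by group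
          _ = s := by rw [h3, hn0s]
    rw [this, Finset.card_image_of_injective _ (mul_right_injective n0)]
  rw [Finset.sum_congr rfl hfib, Finset.sum_const, smul_eq_mul]

/-- (i): a nontrivial `k`-torsion element of `D` has centraliser `D` -/
theorem cent_eq_of_torsion [Finite G] (k : ℕ)
    (hcent : ∀ a : G, (orderOf a).Prime → orderOf a ∣ k →
      (∀ y z : G, y * a = a * y → z * a = a * z → y * z = z * y) ∧
      Nat.card ↥(Subgroup.centralizer ({a} : Set G)) = 4 * k ∧
      ∀ x ∈ Subgroup.centralizer ({a} : Set G), orderOf x ≠ 4)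
    (D : Subgroup G) (hDab : ∀ x ∈ D, ∀ y ∈ D, x * y = y * x) (hDcard : Nat.card ↥D = 4 * k)
    {x : G} (hx : x ∈ D) (hx1 : x ≠ 1) (hxk : x ^ k = 1) :
    Subgroup.centralizer ({x} : Set G) = D := by
  have hok : orderOf x ∣ k := orderOf_dvd_of_pow_eq_one hxk
  have ho1 : orderOf x ≠ 1 := by rw [Ne, orderOf_eq_one_iff]; exact hx1
  have ho0 : orderOf x ≠ 0 := (orderOf_pos x).ne'
  have hs' : (orderOf x).minFac.Prime := Nat.minFac_prime ho1
  have hs'd : (orderOf x).minFac ∣ orderOf x := Nat.minFac_dvd _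
  set y := x ^ (orderOf x / (orderOf x).minFac) with hy
  have hyo : orderOf y = (orderOf x).minFac := orderOf_pow_orderOf_div ho0 hs'd
  have hyD : y ∈ D := D.pow_mem hx _
  obtain ⟨_, hcard', _⟩ := hcent y (by rw [hyo]; exact hs') (by rw [hyo]; exact hs'd.trans hok)
  have hDle : D ≤ Subgroup.centralizer ({y} : Set G) := by
    intro d hd
    rw [mem_Cz]
    exact hDab d hd y hyD
  have hDeq : D = Subgroup.centralizer ({y} : Set G) :=
    Subgroup.eq_of_le_of_card_ge hDle (by rw [hcard', hDcard])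
  apply le_antisymm
  · intro g hg
    rw [hDeq, mem_Cz]
    rw [mem_Cz] at hg
    have : Commute g x := hg
    exact (this.pow_right _).eq
  · intro d hd
    rw [mem_Cz]
    exact hDab d hd x hx

end gen

theorem exists_four_torus {G : Type*} [Group G] [Finite G] (k : ℕ) (hk : Odd k) (hk1 : 1 < k)
    (h16 : ¬ 16 ∣ Nat.card G)
    (hcent : ∀ a : G, (orderOf a).Prime → orderOf a ∣ k →
      (∀ y z : G, y * a = a * y → z * a = a * z → y * z = z * y) ∧
      Nat.card ↥(Subgroup.centralizer ({a} : Set G)) = 4 * k ∧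
      ∀ x ∈ Subgroup.centralizer ({a} : Set G), orderOf x ≠ 4)
    (hcyc : ∀ p : ℕ, p.Prime → p ∣ k → ∀ R : Subgroup G, IsPGroup p ↥R → IsCyclic ↥R)
    (t₁ t₂ f : G) (h1 : orderOf t₁ = 2) (h2 : orderOf t₂ = 2) (hne : t₁ ≠ t₂) (hc : t₁ * t₂ = t₂ * t₁)
    (hf1 : f * t₁ * f⁻¹ = t₂) (hf2 : f * t₂ * f⁻¹ = t₁ * t₂)
    (hC0 : Nat.card ↥(Subgroup.centralizer ({t₁} : Set G) ⊓ Subgroup.centralizer ({t₂} : Set G) : Subgroup G)
      = 8 * k) :
    ∃ D : Subgroup G, (∀ x ∈ D, ∀ y ∈ D, x * y = y * x) ∧ Nat.card ↥D = 4 * k ∧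
      (∀ x ∈ D, orderOf x ≠ 4) ∧
      Nat.card ↥(Subgroup.normalizer (D : Set G)) = 24 * k ∧
      (∀ x ∈ D, x * x ≠ 1 → Subgroup.centralizer ({x} : Set G) = D) ∧
      (∀ x : G, x * x ≠ 1 → x ^ (2 * k) = 1 → ∃ g : G, g * x * g⁻¹ ∈ D) := by
  classical
  set C0 : Subgroup G :=
    Subgroup.centralizer ({t₁} : Set G) ⊓ Subgroup.centralizer ({t₂} : Set G) with hC0def
  have hkpos : 0 < k := by omega
  have hk0 : k ≠ 1 := by omega
  set s := k.minFac with hs
  have hsp : s.Prime := Nat.minFac_prime hk0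
  have hsk : s ∣ k := Nat.minFac_dvd k
  have hsodd : Odd s := by
    rcases hsp.eq_two_or_odd' with h | h
    · exfalso
      have : 2 ∣ k := h ▸ hsk
      rcases hk with ⟨m, hm⟩
      omega
    · exact h
  have : Fact s.Prime := ⟨hsp⟩
  have hsC0 : s ∣ Nat.card C0 := by rw [hC0]; exact hsk.mul_left 8
  obtain ⟨a0, ha0⟩ := exists_prime_orderOf_dvd_card' s hsC0
  set a : G := (a0 : G) with hadef
  have hao : orderOf a = s := by rw [hadef, Subgroup.orderOf_coe]; exact ha0
  have haC0 : a ∈ C0 := a0.2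
  have hat1 : a * t₁ = t₁ * a := mem_Cz.mp haC0.1
  have hat2 : a * t₂ = t₂ * a := mem_Cz.mp haC0.2
  have ha1 : a ≠ 1 := by
    intro h
    rw [h, orderOf_one] at hao
    exact hsp.one_lt.ne hao
  have hak : a ^ k = 1 := by
    obtain ⟨m, hm⟩ := hsk
    rw [hm, pow_mul, ← hao, pow_orderOf_eq_one, one_pow]
  obtain ⟨hab, hDcard, hD4⟩ := hcent a (hao ▸ hsp) (hao ▸ hsk)
  set D : Subgroup G := Subgroup.centralizer ({a} : Set G) with hD
  have memD : ∀ g, g ∈ D ↔ g * a = a * g := fun g => mem_Cz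
  have hDab : ∀ x ∈ D, ∀ y ∈ D, x * y = y * x :=
    fun x hx y hy => hab x y ((memD x).mp hx) ((memD y).mp hy)
  have ht1D : t₁ ∈ D := (memD t₁).mpr hat1.symm
  have ht2D : t₂ ∈ D := (memD t₂).mpr hat2.symm
  have haD : a ∈ D := (memD a).mpr rfl
  have hDC0 : D ≤ C0 := by
    intro d hd
    exact ⟨mem_Cz.mpr (hDab d hd t₁ ht1D), mem_Cz.mpr (hDab d hd t₂ ht2D)⟩
  -- (i)
  have hi : ∀ x ∈ D, x ≠ 1 → x ^ k = 1 → Subgroup.centralizer ({x} : Set G) = D :=
    fun x hx hx1 hxk => cent_eq_of_torsion k hcent D hDab hDcard hx hx1 hxk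
  -- W2-ABEL on D
  have hDcomm : ∀ x y : ↥D, x * y = y * x := fun x y => Subtype.ext (hDab x x.2 y y.2)
  have hD4' : ∀ x : ↥D, orderOf x ≠ 4 := fun x => by
    rw [← Subgroup.orderOf_coe]; exact hD4 x x.2
  have hcycD : ∀ p : ℕ, p.Prime → p ∣ k → ∀ R : Subgroup ↥D, IsPGroup p ↥R → IsCyclic ↥R := by
    intro p hp hpk R hR
    have hRmap : IsPGroup p ↥(R.map D.subtype) := hR.map D.subtype
    have := hcyc p hp hpk (R.map D.subtype) hRmap
    let e := Subgroup.equivMapOfInjective R D.subtype D.subtype_injective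
    exact isCyclic_of_surjective e.symm e.symm.surjective
  obtain ⟨hcount, hord, A, hAcyc, hAcard, hAmem⟩ :=
    Cfsg.Agent.Lib.Helper37.ReeW2.card_orderOf_of_four_mul hDcomm k hk hDcard hD4' hcycD
  -- squares
  have t1sq : t₁ * t₁ = 1 := by rw [← pow_two, ← h1, pow_orderOf_eq_one]
  have t2sq : t₂ * t₂ = 1 := by rw [← pow_two, ← h2, pow_orderOf_eq_one]
  have t1ne : t₁ ≠ 1 := by intro h; rw [h, orderOf_one] at h1; omega
  have t2ne : t₂ ≠ 1 := by intro h; rw [h, orderOf_one] at h2; omega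
  have t12ne : t₁ * t₂ ≠ 1 := by
    intro h
    apply hne
    calc t₁ = t₁ * (t₂ * t₂) := by rw [t2sq, mul_one]
      _ = (t₁ * t₂) * t₂ := by group
      _ = t₂ := by rw [h, one_mul]
  have t12sq : (t₁ * t₂) * (t₁ * t₂) = 1 := by
    calc (t₁ * t₂) * (t₁ * t₂) = t₁ * (t₂ * t₁) * t₂ := by group
      _ = t₁ * (t₁ * t₂) * t₂ := by rw [hc]
      _ = (t₁ * t₁) * (t₂ * t₂) := by group
      _ = 1 := by rw [t1sq, t2sq, one_mul]
  have ht12D : t₁ * t₂ ∈ D := D.mul_mem ht1D ht2D
  have o12 : orderOf (t₁ * t₂) = 2 := by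
    have : Fact (Nat.Prime 2) := ⟨Nat.prime_two⟩
    exact orderOf_eq_prime (by rw [pow_two]; exact t12sq) t12ne
  -- involutions of D
  have hinvD : ∀ x ∈ D, orderOf x = 2 → x = t₁ ∨ x = t₂ ∨ x = t₁ * t₂ := by
    have hc3 : Nat.card {x : ↥D // orderOf x = 2 * 1} = 3 * Nat.totient 1 :=
      (hcount 1 (one_dvd k)).2
    simp only [mul_one, Nat.totient_one] at hc3
    let _ : Fintype {x : ↥D // orderOf x = 2} := Fintype.ofFinite _
    rw [Nat.card_eq_fintype_card] at hc3
    let τ₁ : {x : ↥D // orderOf x = 2} := ⟨⟨t₁, ht1D⟩, by rw [← Subgroup.orderOf_coe]; exact h1⟩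
    let τ₂ : {x : ↥D // orderOf x = 2} := ⟨⟨t₂, ht2D⟩, by rw [← Subgroup.orderOf_coe]; exact h2⟩
    let τ₃ : {x : ↥D // orderOf x = 2} := ⟨⟨t₁ * t₂, ht12D⟩, by
      rw [← Subgroup.orderOf_coe]; exact o12⟩
    have h12 : τ₁ ≠ τ₂ := by
      intro h; apply hne
      exact congrArg (fun z : {x : ↥D // orderOf x = 2} => ((z : ↥D) : G)) h
    have h13 : τ₁ ≠ τ₃ := by
      intro h
      have : t₁ = t₁ * t₂ := congrArg (fun z : {x : ↥D // orderOf x = 2} => ((z : ↥D) : G)) h
      apply t2ne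
      exact (mul_left_cancel (this.symm.trans (mul_one t₁).symm))
    have h23 : τ₂ ≠ τ₃ := by
      intro h
      have : t₂ = t₁ * t₂ := congrArg (fun z : {x : ↥D // orderOf x = 2} => ((z : ↥D) : G)) h
      apply t1ne
      exact (mul_right_cancel (this.symm.trans (one_mul t₂).symm))
    have hT : ({τ₁, τ₂, τ₃} : Finset {x : ↥D // orderOf x = 2}) = Finset.univ := by
      apply Finset.eq_univ_of_card
      rw [hc3, Finset.card_insert_of_notMem, Finset.card_insert_of_notMem, Finset.card_singleton]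
      · simpa using h23
      · simp only [Finset.mem_insert, Finset.mem_singleton, not_or]
        exact ⟨h12, h13⟩
    intro x hx hxo
    have hmem : (⟨⟨x, hx⟩, by rw [← Subgroup.orderOf_coe]; exact hxo⟩ :
        {x : ↥D // orderOf x = 2}) ∈ ({τ₁, τ₂, τ₃} : Finset {x : ↥D // orderOf x = 2}) := by
      rw [hT]; exact Finset.mem_univ _
    simp only [Finset.mem_insert, Finset.mem_singleton] at hmem
    rcases hmem with h | h | h
    · left
      exact congrArg (fun z : {x : ↥D // orderOf x = 2} => ((z : ↥D) : G)) h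
    · right; left
      exact congrArg (fun z : {x : ↥D // orderOf x = 2} => ((z : ↥D) : G)) h
    · right; right
      exact congrArg (fun z : {x : ↥D // orderOf x = 2} => ((z : ↥D) : G)) h
  -- index two
  have hidx : (D.subgroupOf C0).index = 2 := by
    have h1' := Subgroup.card_mul_index (D.subgroupOf C0)
    have h2' : Nat.card ↥(D.subgroupOf C0) = 4 * k := by
      rw [Nat.card_congr (Subgroup.subgroupOfEquivOfLe hDC0).toEquiv]; exact hDcard
    rw [h2', hC0] at h1'
    have : 4 * k * (D.subgroupOf C0).index = 4 * k * 2 := by rw [h1']; ring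
    exact Nat.eq_of_mul_eq_mul_left (by omega) this
  have hoddC0 : ∀ y ∈ C0, orderOf y = s → y ∈ D := by
    intro y hy hyo
    have hsq : y * y ∈ D := by
      have := Subgroup.mul_self_mem_of_index_two hidx (⟨y, hy⟩ : ↥C0)
      rw [Subgroup.mem_subgroupOf] at this
      exact this
    obtain ⟨m, hm⟩ := hsodd
    have : y = (y * y) ^ (m + 1) := by
      rw [← pow_two, ← pow_mul]
      have : 2 * (m + 1) = s + 1 := by omega
      rw [this, pow_succ, ← hyo, pow_orderOf_eq_one, one_mul]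
    rw [this]
    exact D.pow_mem hsq _
  -- normalizer criterion
  have hNcrit : ∀ g : G, g * a * g⁻¹ ∈ C0 → g ∈ Subgroup.normalizer (D : Set G) := by
    intro g hg
    have hyo : orderOf (g * a * g⁻¹) = s := by
      rw [← hao]
      have hsc : SemiconjBy g a (g * a * g⁻¹) := by unfold SemiconjBy; group
      exact (SemiconjBy.orderOf_eq g hsc).symm
    have hyD : g * a * g⁻¹ ∈ D := hoddC0 _ hg hyo
    have hy1 : g * a * g⁻¹ ≠ 1 := by
      intro h
      apply ha1
      have : a = g⁻¹ * (g * a * g⁻¹) * g := by group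
      rw [this, h]; group
    have hyk : (g * a * g⁻¹) ^ k = 1 := by
      rw [conj_pow, hak]; group
    have hC := hi _ hyD hy1 hyk
    rw [Subgroup.mem_normalizer_iff]
    intro h
    constructor
    · intro hh
      have hh' : h * a = a * h := (memD h).mp hh
      have : g * h * g⁻¹ ∈ Subgroup.centralizer ({g * a * g⁻¹} : Set G) := by
        rw [mem_Cz]
        calc g * h * g⁻¹ * (g * a * g⁻¹) = g * (h * a) * g⁻¹ := by group
          _ = g * (a * h) * g⁻¹ := by rw [hh']
          _ = g * a * g⁻¹ * (g * h * g⁻¹) := by group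
      rw [hC] at this
      exact this
    · intro hh
      rw [← hC, mem_Cz] at hh
      rw [memD]
      have : g⁻¹ * (g * h * g⁻¹ * (g * a * g⁻¹)) * g = g⁻¹ * (g * a * g⁻¹ * (g * h * g⁻¹)) * g := by
        rw [hh]
      calc h * a = g⁻¹ * (g * h * g⁻¹ * (g * a * g⁻¹)) * g := by group
        _ = g⁻¹ * (g * a * g⁻¹ * (g * h * g⁻¹)) * g := this
        _ = a * h := by group
  have hC0N : C0 ≤ Subgroup.normalizer (D : Set G) := by
    intro c hcm
    apply hNcrit
    exact C0.mul_mem (C0.mul_mem hcm haC0) (C0.inv_mem hcm)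
  have hfN : f ∈ Subgroup.normalizer (D : Set G) := by
    apply hNcrit
    have e2 : (f * a * f⁻¹) * t₂ = t₂ * (f * a * f⁻¹) := by
      rw [← hf1]
      calc f * a * f⁻¹ * (f * t₁ * f⁻¹) = f * (a * t₁) * f⁻¹ := by group
        _ = f * (t₁ * a) * f⁻¹ := by rw [hat1]
        _ = f * t₁ * f⁻¹ * (f * a * f⁻¹) := by group
    have e12 : (f * a * f⁻¹) * (t₁ * t₂) = (t₁ * t₂) * (f * a * f⁻¹) := by
      rw [← hf2]
      calc f * a * f⁻¹ * (f * t₂ * f⁻¹) = f * (a * t₂) * f⁻¹ := by group
        _ = f * (t₂ * a) * f⁻¹ := by rw [hat2]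
        _ = f * t₂ * f⁻¹ * (f * a * f⁻¹) := by group
    have e1 : (f * a * f⁻¹) * t₁ = t₁ * (f * a * f⁻¹) := by
      have ht1 : t₁ = (t₁ * t₂) * t₂ := by rw [mul_assoc, t2sq, mul_one]
      have hcomm : Commute (f * a * f⁻¹) ((t₁ * t₂) * t₂) :=
        Commute.mul_right e12 e2
      rw [← ht1] at hcomm
      exact hcomm.eq
    exact ⟨mem_Cz.mpr e1, mem_Cz.mpr e2⟩
  refine ⟨D, hDab, hDcard, hD4, ?_, ?_, ?_⟩
  · -- |N(D)| = 24 k
    let _ : Fintype G := Fintype.ofFinite G
    set N : Subgroup G := Subgroup.normalizer (D : Set G) with hN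
    have hconjInv : ∀ n ∈ N, ∀ τ ∈ D, orderOf τ = 2 →
        n * τ * n⁻¹ = t₁ ∨ n * τ * n⁻¹ = t₂ ∨ n * τ * n⁻¹ = t₁ * t₂ := by
      intro n hn τ hτ hτo
      apply hinvD
      · exact (Subgroup.mem_normalizer_iff.mp hn τ).mp hτ
      · rw [← hτo]
        have hsc : SemiconjBy n τ (n * τ * n⁻¹) := by unfold SemiconjBy; group
        exact (SemiconjBy.orderOf_eq n hsc).symm
    have hff : f * f * t₁ * (f * f)⁻¹ = t₁ * t₂ := by
      calc f * f * t₁ * (f * f)⁻¹ = f * (f * t₁ * f⁻¹) * f⁻¹ := by group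
        _ = t₁ * t₂ := by rw [hf1, hf2]
    have hScard : ({t₁, t₂, t₁ * t₂} : Finset G).card = 3 := by
      rw [Finset.card_insert_of_notMem, Finset.card_insert_of_notMem, Finset.card_singleton]
      · simp only [Finset.mem_singleton]
        intro h
        apply t1ne
        exact mul_right_cancel (h.symm.trans (one_mul t₂).symm)
      · simp only [Finset.mem_insert, Finset.mem_singleton, not_or]
        refine ⟨hne, ?_⟩
        intro h
        apply t2ne
        exact mul_left_cancel (h.symm.trans (mul_one t₁).symm)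
    have hN3 := card_eq_orbit_mul N t₁ ({t₁, t₂, t₁ * t₂} : Finset G)
      (by
        intro s' hs'
        simp only [Finset.mem_insert, Finset.mem_singleton] at hs'
        rcases hs' with rfl | rfl | rfl
        · exact ⟨1, N.one_mem, by group⟩
        · exact ⟨f, hfN, hf1⟩
        · exact ⟨f * f, N.mul_mem hfN hfN, hff⟩)
      (by
        intro n hn
        simp only [Finset.mem_insert, Finset.mem_singleton]
        exact hconjInv n hn t₁ ht1D h1)
    rw [hScard] at hN3
    set N1 : Subgroup G := N ⊓ Subgroup.centralizer ({t₁} : Set G) with hN1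
    set S' : Finset G := Finset.univ.filter (fun s' => ∃ n ∈ N1, n * t₂ * n⁻¹ = s') with hS'
    have hN1c := card_eq_orbit_mul N1 t₂ S'
      (by
        intro s' hs'
        simpa [S'] using hs')
      (by
        intro n hn
        simp only [S', Finset.mem_filter, Finset.mem_univ, true_and]
        exact ⟨n, hn, rfl⟩)
    have hN1C0 : (N1 ⊓ Subgroup.centralizer ({t₂} : Set G) : Subgroup G) = C0 := by
      apply le_antisymm
      · intro g hg
        exact ⟨hg.1.2, hg.2⟩
      · intro g hg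
        exact ⟨⟨hC0N hg, hg.1⟩, hg.2⟩
    rw [hN1C0, hC0] at hN1c
    have hS'sub : S' ⊆ ({t₂, t₁ * t₂} : Finset G) := by
      intro s' hs'
      simp only [S', Finset.mem_filter, Finset.mem_univ, true_and] at hs'
      obtain ⟨n, hn, rfl⟩ := hs'
      simp only [Finset.mem_insert, Finset.mem_singleton]
      rcases hconjInv n hn.1 t₂ ht2D h2 with h | h | h
      · exfalso
        have hn1 : n * t₁ = t₁ * n := mem_Cz.mp hn.2
        have : n * t₂ * n⁻¹ = n * t₁ * n⁻¹ := by rw [h, hn1]; group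
        apply hne
        have h3 : n * t₂ = n * t₁ := mul_right_cancel this
        exact (mul_left_cancel h3).symm
      · left; exact h
      · right; exact h
    have hS'le : S'.card ≤ 2 := by
      calc S'.card ≤ ({t₂, t₁ * t₂} : Finset G).card := Finset.card_le_card hS'sub
        _ ≤ 2 := Finset.card_le_two
    have hS'pos : 1 ≤ S'.card := by
      apply Finset.card_pos.mpr
      exact ⟨t₂, by
        simp only [S', Finset.mem_filter, Finset.mem_univ, true_and]
        exact ⟨1, N1.one_mem, by group⟩⟩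
    have hS'1 : S'.card = 1 := by
      rcases Nat.lt_or_ge S'.card 2 with h | h
      · omega
      · exfalso
        have h2' : S'.card = 2 := le_antisymm hS'le h
        rw [h2'] at hN1c
        have hdvd : Nat.card ↥N1 ∣ Nat.card G := Subgroup.card_subgroup_dvd_card N1
        apply h16
        rw [hN1c] at hdvd
        exact Dvd.dvd.trans ⟨k, by ring⟩ hdvd
    rw [hS'1] at hN1c
    rw [hN3, hN1c]; ring
  · intro x hx hxx
    have hx2k : x ^ (2 * k) = 1 := by
      have := hord ⟨x, hx⟩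
      rw [← Subgroup.orderOf_coe] at this
      exact orderOf_dvd_iff_pow_eq_one.mp this
    have huD : x * x ∈ D := D.mul_mem hx hx
    have huk : (x * x) ^ k = 1 := by rw [← pow_two, ← pow_mul]; exact hx2k
    have hCu := hi _ huD hxx huk
    apply le_antisymm
    · intro g hg
      rw [← hCu, mem_Cz]
      rw [mem_Cz] at hg
      have : Commute g x := hg
      exact (this.mul_right this).eq
    · intro d hd
      rw [mem_Cz]
      exact hDab d hd x hx
  · intro x hxx hx2k
    set u := x * x with hu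
    have huk : u ^ k = 1 := by rw [hu, ← pow_two, ← pow_mul]; exact hx2k
    have hok : orderOf u ∣ k := orderOf_dvd_of_pow_eq_one huk
    have ho1 : orderOf u ≠ 1 := by rw [Ne, orderOf_eq_one_iff]; exact hxx
    have ho0 : orderOf u ≠ 0 := (orderOf_pos u).ne'
    set s' := (orderOf u).minFac with hs'
    have hs'p : s'.Prime := Nat.minFac_prime ho1
    have hs'd : s' ∣ orderOf u := Nat.minFac_dvd _
    have hs'k : s' ∣ k := hs'd.trans hok
    set y := u ^ (orderOf u / s') with hy
    have hyo : orderOf y = s' := orderOf_pow_orderOf_div ho0 hs'd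
    have hy1 : y ≠ 1 := by
      intro h
      rw [h, orderOf_one] at hyo
      exact hs'p.one_lt.ne hyo
    have hyk : y ^ k = 1 := by
      obtain ⟨m, hm⟩ := hs'k
      rw [hm, pow_mul, ← hyo, pow_orderOf_eq_one, one_pow]
    have hxy : Commute x y := by
      have h1 : Commute x u := (Commute.refl x).mul_right (Commute.refl x)
      exact h1.pow_right _
    -- torsion subgroup A' of order k inside D
    set A' : Subgroup G := A.map D.subtype with hA'
    have hA'card : Nat.card ↥A' = k := by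
      rw [hA', ← hAcard]
      exact (Nat.card_congr
        (Subgroup.equivMapOfInjective A D.subtype D.subtype_injective).toEquiv).symm
    have : Fact s'.Prime := ⟨hs'p⟩
    obtain ⟨b0, hb0⟩ := exists_prime_orderOf_dvd_card' (G := ↥A') s' (by rw [hA'card]; exact hs'k)
    set b : G := (b0 : G) with hb
    have hbo : orderOf b = s' := by rw [hb, Subgroup.orderOf_coe]; exact hb0
    have hbA' : b ∈ A' := b0.2
    have hbD : b ∈ D := by
      obtain ⟨d, _, hd⟩ := Subgroup.mem_map.mp hbA'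
      rw [← hd]
      exact d.2
    -- conjugate zpowers y into zpowers b
    have hcyc' : ∀ p : ℕ, p.Prime → p ∣ s' → ∀ R : Subgroup G, IsPGroup p ↥R → IsCyclic ↥R :=
      fun p hp hps' => hcyc p hp (hps'.trans hs'k)
    have hcomm' : ∀ x : G, (orderOf x).Prime → orderOf x ∣ s' →
        ∀ y z : G, y * x = x * y → z * x = x * z → y * z = z * y :=
      fun x hxp hxs' => (hcent x hxp (hxs'.trans hs'k)).1
    obtain ⟨g, hg⟩ := Cfsg.Agent.Lib.Helper86.ReeW.conj_of_cyclic_of_comm_centralizers s' hcyc' hcomm'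
      (Subgroup.zpowers y) (Subgroup.zpowers b) (Subgroup.isCyclic_zpowers y)
      (Subgroup.isCyclic_zpowers b) (by rw [Nat.card_zpowers, hyo]) (by rw [Nat.card_zpowers, hbo])
    refine ⟨g, ?_⟩
    have hw : g * y * g⁻¹ ∈ Subgroup.zpowers b := by
      rw [hg]
      exact Subgroup.mem_map.mpr ⟨y, Subgroup.mem_zpowers y, rfl⟩
    have hwD : g * y * g⁻¹ ∈ D := (Subgroup.zpowers_le.mpr hbD) hw
    have hw1 : g * y * g⁻¹ ≠ 1 := by
      intro h
      apply hy1
      have : y = g⁻¹ * (g * y * g⁻¹) * g := by group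
      rw [this, h]; group
    have hwk : (g * y * g⁻¹) ^ k = 1 := by
      rw [conj_pow, hyk]; group
    have hCw := hi _ hwD hw1 hwk
    rw [← hCw, mem_Cz]
    calc g * x * g⁻¹ * (g * y * g⁻¹) = g * (x * y) * g⁻¹ := by group
      _ = g * (y * x) * g⁻¹ := by rw [hxy.eq]
      _ = g * y * g⁻¹ * (g * x * g⁻¹) := by group

end Cfsg.Agent.Lib.Helper87.ReeW2
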