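/-
helper87, module CH4-[ABS-C] of helper64's CH4 project (S4167): `AbSyl` passes to subgroups.
-/
import Mathlib
import Cfsg.Agent.Lib.Helper64.CH4Defs

set_option autoImplicit false

namespace Cfsg.Agent.Lib.Helper87.CH4

open Cfsg.Agent.Lib.Helper64.CH4

/-- [ABS-C] -/
theorem abSyl_subgroup {G : Type*} [Group G] [Finite G] (hab : AbSyl G) (K : Subgroup G) :
    AbSyl ↥K := by
  intro Q a ha b hb
  have hp : IsPGroup 2 ((Q : Subgroup K).map K.subtype) := Q.2.map K.subtype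
  obtain ⟨P, hP⟩ := hp.exists_le_sylow
  have ha' : (a : G) ∈ P := hP ⟨a, ha, rfl⟩
  have hb' : (b : G) ∈ P := hP ⟨b, hb, rfl⟩
  have h1 := hab P (a : G) ha' (b : G) hb'
  apply Subtype.ext
  simpa using h1

end Cfsg.Agent.Lib.Helper87.CH4
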