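/-
helper87, module CH4-[INH-Q] of helper64's CH4 project (S4167): `Hyp4` passes to quotients.
-/
import Mathlib
import Cfsg.Agent.Lib.Helper64.CH4Defs

set_option autoImplicit false

namespace Cfsg.Agent.Lib.Helper87.CH4

open Cfsg.Agent.Lib.Helper64.CH4

/-- [INH-Q] -/
theorem hyp4_quotient {G : Type*} [Group G] [Finite G] (h : Hyp4 G) (N : Subgroup G) [N.Normal] :
    Hyp4 (G ⧸ N) := by
  intro xbar h4
  obtain ⟨x, rfl⟩ := QuotientGroup.mk_surjective xbar
  apply h x
  have h1 : (Subgroup.centralizer ({x} : Set G)).map (QuotientGroup.mk' N) ≤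
      Subgroup.centralizer ({(x : G ⧸ N)} : Set (G ⧸ N)) := by
    rintro _ ⟨c, hc, rfl⟩
    have hc : c ∈ Subgroup.centralizer ({x} : Set G) := hc
    rw [Subgroup.mem_centralizer_iff] at hc ⊢
    intro y hy
    rw [Set.mem_singleton_iff] at hy
    subst hy
    have h2 := hc x (Set.mem_singleton x)
    show (x : G ⧸ N) * (QuotientGroup.mk' N c) = (QuotientGroup.mk' N c) * (x : G ⧸ N)
    rw [QuotientGroup.mk'_apply, ← QuotientGroup.mk_mul, ← QuotientGroup.mk_mul, h2]
  have h3 : (Subgroup.centralizer ({(x : G ⧸ N)} : Set (G ⧸ N))).index ∣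
      ((Subgroup.centralizer ({x} : Set G)).map (QuotientGroup.mk' N)).index :=
    Subgroup.index_dvd_of_le h1
  have h4' : ((Subgroup.centralizer ({x} : Set G)).map (QuotientGroup.mk' N)).index ∣
      (Subgroup.centralizer ({x} : Set G)).index :=
    Subgroup.index_map_dvd _ (QuotientGroup.mk'_surjective N)
  exact dvd_trans h4 (dvd_trans h3 h4')

end Cfsg.Agent.Lib.Helper87.CH4
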