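import Mathlib
import Cfsg.Prelude.Def_ChevAutomorphisms
import Cfsg.Prelude.Def_ChevG2
import Cfsg.Prelude.Def_ChevB2
import Cfsg.Prelude.Def_ChevD4
import Cfsg.Prelude.Def_ChevF4
import Cfsg.Prelude.Def_ChevE6
import Cfsg.Prelude.Def_ChevE7
import Cfsg.Prelude.Def_ChevE8

/-!
# S2156 module `[COMB1]` (helper87): a permutation of the nodes preserving adjacency preserves bonds
-/

set_option autoImplicit false

namespace Cfsg.Agent.Lib.Helper87.Aut

open Cfsg Cfsg.Lie

variable {D : ChevalleyDatum}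

/-- when all bonds are `0` or `1`, preserving adjacency is preserving bonds -/
theorem isDiagramSymmetry_of_bonds_le_one
    (h01 : ∀ i j : Fin D.rank, i ≠ j → D.bonds i j = 0 ∨ D.bonds i j = 1)
    (π : Equiv.Perm (Fin D.rank))
    (h : ∀ i j : Fin D.rank, i ≠ j → (D.bonds (π i) (π j) = 0 ↔ D.bonds i j = 0)) :
    D.IsDiagramSymmetry π := by
  intro i j hij
  have hπ : π i ≠ π j := fun e => hij (π.injective e)
  rcases h01 (π i) (π j) hπ with h1 | h1 <;> rcases h01 i j hij with h2 | h2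
  · rw [h1, h2]
  · exact absurd ((h i j hij).mp h1) (by rw [h2]; decide)
  · exact absurd ((h i j hij).mpr h2) (by rw [h1]; decide)
  · rw [h1, h2]

set_option maxRecDepth 100000 in
/-- MODULE [COMB1] -/
theorem isDiagramSymmetry_of_adj
    (hD : D ∈ [chevG2, chevB2, chevD4, chevF4, chevE6, chevE7, chevE8])
    (π : Equiv.Perm (Fin D.rank))
    (h : ∀ i j : Fin D.rank, i ≠ j → (D.bonds (π i) (π j) = 0 ↔ D.bonds i j = 0)) :
    D.IsDiagramSymmetry π := by
  simp only [List.mem_cons, List.not_mem_nil, or_false] at hD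
  rcases hD with rfl | rfl | rfl | rfl | rfl | rfl | rfl
  · exact (by decide : ∀ π : Equiv.Perm (Fin chevG2.rank),
      (∀ i j : Fin chevG2.rank, i ≠ j → (chevG2.bonds (π i) (π j) = 0 ↔ chevG2.bonds i j = 0)) →
        ∀ i j : Fin chevG2.rank, i ≠ j → chevG2.bonds (π i) (π j) = chevG2.bonds i j) π h
  · exact (by decide : ∀ π : Equiv.Perm (Fin chevB2.rank),
      (∀ i j : Fin chevB2.rank, i ≠ j → (chevB2.bonds (π i) (π j) = 0 ↔ chevB2.bonds i j = 0)) →
        ∀ i j : Fin chevB2.rank, i ≠ j → chevB2.bonds (π i) (π j) = chevB2.bonds i j) π h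
  · exact isDiagramSymmetry_of_bonds_le_one (by decide) π h
  · exact (by decide : ∀ π : Equiv.Perm (Fin chevF4.rank),
      (∀ i j : Fin chevF4.rank, i ≠ j → (chevF4.bonds (π i) (π j) = 0 ↔ chevF4.bonds i j = 0)) →
        ∀ i j : Fin chevF4.rank, i ≠ j → chevF4.bonds (π i) (π j) = chevF4.bonds i j) π h
  · exact isDiagramSymmetry_of_bonds_le_one (by decide) π h
  · exact isDiagramSymmetry_of_bonds_le_one (by decide) π h
  · exact isDiagramSymmetry_of_bonds_le_one (by decide) π h

end Cfsg.Agent.Lib.Helper87.Aut
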