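import Mathlib
import Cfsg.Prelude.Def_ChevAutomorphisms
import Cfsg.Prelude.Def_ChevG2
import Cfsg.Prelude.Def_ChevB2
import Cfsg.Prelude.Def_ChevD4
import Cfsg.Prelude.Def_ChevF4
import Cfsg.Prelude.Def_ChevE6
import Cfsg.Prelude.Def_ChevE7
import Cfsg.Prelude.Def_ChevE8

/-!
# S2156 module `[COMB2]` (helper87): the field automorphisms attached to the nodes come from one
-/

set_option autoImplicit false

namespace Cfsg.Agent.Lib.Helper87.Aut

open Cfsg Cfsg.Lie

universe u

variable {F : Type u} [Field F] {D : ChevalleyDatum}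

theorem ringEquiv_eq_of_zpow_neg_one {σ₁ σ₂ : F ≃+* F}
    (h : ∀ t : F, t ≠ 0 → (σ₁ t) ^ (-1 : ℤ) = (σ₂ t) ^ (-1 : ℤ)) : σ₁ = σ₂ := by
  ext t
  by_cases ht : t = 0
  · rw [ht, map_zero, map_zero]
  · have := h t ht
    rwa [zpow_neg_one, zpow_neg_one, inv_inj] at this

theorem apply_eq_pow_of_zpow {σ₁ σ₂ : F ≃+* F} {k : ℕ} (hk : 0 < k)
    (h : ∀ t : F, t ≠ 0 → (σ₁ t) ^ (-1 : ℤ) = (σ₂ t) ^ (-(k : ℤ))) : ∀ t, σ₁ t = (σ₂ t) ^ k := by
  intro t
  by_cases ht : t = 0
  · rw [ht, map_zero, map_zero, zero_pow hk.ne']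
  · have := h t ht
    rw [zpow_neg_one, zpow_neg, zpow_natCast, inv_inj] at this
    exact this

theorem ringChar_eq_of_prime_cast_eq_zero {p : ℕ} (hp : p.Prime) (h : ((p : ℕ) : F) = 0) :
    ringChar F = p := by
  have h1 : ringChar F ∣ p := (ringChar.spec F p).mp h
  rcases (Nat.dvd_prime hp).mp h1 with h2 | h2
  · exact absurd h2 (CharP.ringChar_ne_one)
  · exact h2

/-- if `s ↦ s ^ k` is additive on a finite field (`k = 2, 3`) then it is `s ↦ s ^ char` -/
theorem pow_eq_pow_ringChar [Finite F] {k : ℕ} (hk : k = 2 ∨ k = 3)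
    (hadd : ∀ a b : F, (a + b) ^ k = a ^ k + b ^ k) : ∀ s : F, s ^ k = s ^ ringChar F := by
  rcases hk with rfl | rfl
  · have h2 : ((2 : ℕ) : F) = 0 := by
      have := hadd 1 1
      push_cast
      linear_combination this
    have hc : ringChar F = 2 := ringChar_eq_of_prime_cast_eq_zero Nat.prime_two h2
    intro s
    rw [hc]
  · by_cases h3 : ((3 : ℕ) : F) = 0
    · have hc : ringChar F = 3 := ringChar_eq_of_prime_cast_eq_zero Nat.prime_three h3
      intro s
      rw [hc]
    · have hall : ∀ a : F, a = 0 ∨ a = -1 := by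
        intro a
        have := hadd a 1
        have h : ((3 : ℕ) : F) * (a * (a + 1)) = 0 := by
          push_cast
          linear_combination this
        rcases mul_eq_zero.mp h with h | h
        · exact absurd h h3
        · rcases mul_eq_zero.mp h with h | h
          · left; exact h
          · right; exact eq_neg_of_add_eq_zero_left h
      have h2' : (1 : F) = -1 := by
        rcases hall 1 with h | h
        · exact absurd h one_ne_zero
        · exact h
      have h2 : ((2 : ℕ) : F) = 0 := by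
        push_cast
        linear_combination h2'
      have hc : ringChar F = 2 := ringChar_eq_of_prime_cast_eq_zero Nat.prime_two h2
      intro s
      rw [hc]
      rcases hall s with rfl | rfl
      · simp
      · rw [← h2']
        simp

theorem two_length_core [Finite F] {σs σl : F ≃+* F} {k : ℕ} (hk : k = 2 ∨ k = 3)
    (h : ∀ t, σs t = (σl t) ^ k) : ∀ t, σs t = (σl t) ^ (ringChar F) := by
  have hadd : ∀ a b : F, (a + b) ^ k = a ^ k + b ^ k := by
    intro a b
    obtain ⟨t, rfl⟩ := σl.surjective a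
    obtain ⟨u, rfl⟩ := σl.surjective b
    rw [← map_add, ← h, ← h, ← h, map_add]
  intro t
  rw [h, pow_eq_pow_ringChar hk hadd]

theorem graphExp_of_long (c : ℕ) {i j : ℕ} (hj : D.isLong (D.simple j) = true)
    (hi : D.isLong (D.simple i) = false) : D.graphExp c i j = c := by
  unfold ChevalleyDatum.graphExp
  rw [hj, hi]
  rfl

theorem graphExp_of_not_long (c : ℕ) {i j : ℕ} (hj : D.isLong (D.simple j) = false) :
    D.graphExp c i j = 1 := by
  unfold ChevalleyDatum.graphExp
  rw [hj]
  rfl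

theorem graphExp_self (c : ℕ) (i : ℕ) : D.graphExp c i i = 1 := by
  unfold ChevalleyDatum.graphExp
  cases D.isLong (D.simple i) <;> rfl

/-- simply laced types -/
theorem common_simply_laced
    (hA : ∀ i j : Fin D.rank, i ≠ j → D.bonds i j ≠ 0 → D.cartan i (D.simple j) = -1)
    (hlong : ∀ i : Fin D.rank, D.isLong (D.simple i) = false)
    (root : Fin D.rank) (dep : Fin D.rank → ℕ)
    (hconn : ∀ i : Fin D.rank, i ≠ root → ∃ j : Fin D.rank, D.bonds i j ≠ 0 ∧ dep j < dep i)
    (π : Equiv.Perm (Fin D.rank)) (hπ : D.IsDiagramSymmetry π) (σ : Fin D.rank → F ≃+* F)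
    (hrel : ∀ (i j : Fin D.rank) (t : F), t ≠ 0 →
      (σ i t) ^ (D.cartan (π i) (D.simple (π j))) = (σ j t) ^ (D.cartan i (D.simple j))) :
    ∃ τ : F ≃+* F, ∀ (i : Fin D.rank) (t : F), σ i t = (τ t) ^ D.graphExp (ringChar F) i (π i) := by
  have hadj : ∀ i j : Fin D.rank, i ≠ j → D.bonds i j ≠ 0 → σ i = σ j := by
    intro i j hij hb
    apply ringEquiv_eq_of_zpow_neg_one
    intro t ht
    have h1 := hrel i j t ht
    have hb' : D.bonds (π i) (π j) ≠ 0 := by rw [hπ i j hij]; exact hb
    rw [hA (π i) (π j) (π.injective.ne hij) hb', hA i j hij hb] at h1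
    exact h1
  have hall : ∀ n : ℕ, ∀ i : Fin D.rank, dep i = n → σ i = σ root := by
    intro n
    induction n using Nat.strong_induction_on with
    | _ n ih =>
      intro i hi
      by_cases hir : i = root
      · rw [hir]
      · obtain ⟨j, hb, hlt⟩ := hconn i hir
        have hij : i ≠ j := by
          rintro rfl
          exact lt_irrefl _ hlt
        rw [hadj i j hij hb]
        exact ih (dep j) (hi ▸ hlt) j rfl
  refine ⟨σ root, fun i t => ?_⟩
  rw [graphExp_of_not_long _ (hlong (π i)), pow_one, hall _ i rfl]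

/-- rank two, two root lengths (`G2`, `B2`) -/
theorem common_rank_two [Finite F] (i0 i1 : Fin D.rank) (h01 : i0 ≠ i1)
    (hall : ∀ i : Fin D.rank, i = i0 ∨ i = i1) {k : ℕ} (hk : k = 2 ∨ k = 3)
    (hA01 : D.cartan i0 (D.simple i1) = -(k : ℤ)) (hA10 : D.cartan i1 (D.simple i0) = -1)
    (hl0 : D.isLong (D.simple i0) = false) (hl1 : D.isLong (D.simple i1) = true)
    (π : Equiv.Perm (Fin D.rank)) (σ : Fin D.rank → F ≃+* F)
    (hrel : ∀ (i j : Fin D.rank) (t : F), t ≠ 0 →
      (σ i t) ^ (D.cartan (π i) (D.simple (π j))) = (σ j t) ^ (D.cartan i (D.simple j))) :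
    ∃ τ : F ≃+* F, ∀ (i : Fin D.rank) (t : F), σ i t = (τ t) ^ D.graphExp (ringChar F) i (π i) := by
  have hkpos : 0 < k := by rcases hk with rfl | rfl <;> norm_num
  rcases hall (π i0) with h0 | h0
  · have h1 : π i1 = i1 := by
      rcases hall (π i1) with h | h
      · exact absurd (π.injective (h.trans h0.symm)) h01.symm
      · exact h
    have heq : σ i1 = σ i0 := by
      apply ringEquiv_eq_of_zpow_neg_one
      intro t ht
      have := hrel i1 i0 t ht
      rwa [h1, h0, hA10] at this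
    refine ⟨σ i0, fun i t => ?_⟩
    rcases hall i with rfl | rfl
    · rw [h0, graphExp_self, pow_one]
    · rw [h1, graphExp_self, pow_one, heq]
  · have h1 : π i1 = i0 := by
      rcases hall (π i1) with h | h
      · exact h
      · exact absurd (π.injective (h.trans h0.symm)) h01.symm
    have hpow : ∀ t, σ i0 t = (σ i1 t) ^ k := by
      apply apply_eq_pow_of_zpow hkpos
      intro t ht
      have := hrel i0 i1 t ht
      rwa [h0, h1, hA10, hA01] at this
    have hpow' := two_length_core hk hpow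
    refine ⟨σ i1, fun i t => ?_⟩
    rcases hall i with rfl | rfl
    · rw [h0, graphExp_of_long _ hl1 hl0]
      exact hpow' t
    · rw [h1, graphExp_of_not_long _ hl0, pow_one]

set_option maxRecDepth 100000 in
/-- the diagram symmetries of `F4` -/
theorem f4_symm : ∀ π : Equiv.Perm (Fin chevF4.rank),
    (∀ i j : Fin chevF4.rank, i ≠ j → chevF4.bonds (π i) (π j) = chevF4.bonds i j) →
      (∀ i, π i = i) ∨
      (π ⟨0, by decide⟩ = ⟨3, by decide⟩ ∧ π ⟨1, by decide⟩ = ⟨2, by decide⟩ ∧
        π ⟨2, by decide⟩ = ⟨1, by decide⟩ ∧ π ⟨3, by decide⟩ = ⟨0, by decide⟩) := by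
  decide

/-- type `F4` -/
theorem common_F4 [Finite F] (π : Equiv.Perm (Fin chevF4.rank)) (hπ : chevF4.IsDiagramSymmetry π)
    (σ : Fin chevF4.rank → F ≃+* F)
    (hrel : ∀ (i j : Fin chevF4.rank) (t : F), t ≠ 0 →
      (σ i t) ^ (chevF4.cartan (π i) (chevF4.simple (π j))) =
        (σ j t) ^ (chevF4.cartan i (chevF4.simple j))) :
    ∃ τ : F ≃+* F, ∀ (i : Fin chevF4.rank) (t : F),
      σ i t = (τ t) ^ chevF4.graphExp (ringChar F) i (π i) := by
  obtain ⟨i0, hi0⟩ : ∃ i0 : Fin chevF4.rank, i0 = ⟨0, by decide⟩ := ⟨_, rfl⟩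
  obtain ⟨i1, hi1⟩ : ∃ i1 : Fin chevF4.rank, i1 = ⟨1, by decide⟩ := ⟨_, rfl⟩
  obtain ⟨i2, hi2⟩ : ∃ i2 : Fin chevF4.rank, i2 = ⟨2, by decide⟩ := ⟨_, rfl⟩
  obtain ⟨i3, hi3⟩ : ∃ i3 : Fin chevF4.rank, i3 = ⟨3, by decide⟩ := ⟨_, rfl⟩
  have hall : ∀ i : Fin chevF4.rank, i = i0 ∨ i = i1 ∨ i = i2 ∨ i = i3 := by
    rw [hi0, hi1, hi2, hi3]
    decide
  have A01 : chevF4.cartan i0 (chevF4.simple i1) = -1 := by rw [hi0, hi1]; decide
  have A10 : chevF4.cartan i1 (chevF4.simple i0) = -1 := by rw [hi0, hi1]; decide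
  have A12 : chevF4.cartan i1 (chevF4.simple i2) = -((2 : ℕ) : ℤ) := by rw [hi1, hi2]; decide
  have A21 : chevF4.cartan i2 (chevF4.simple i1) = -1 := by rw [hi1, hi2]; decide
  have A23 : chevF4.cartan i2 (chevF4.simple i3) = -1 := by rw [hi2, hi3]; decide
  have A32 : chevF4.cartan i3 (chevF4.simple i2) = -1 := by rw [hi2, hi3]; decide
  have l0 : chevF4.isLong (chevF4.simple i0) = false := by rw [hi0]; decide
  have l1 : chevF4.isLong (chevF4.simple i1) = false := by rw [hi1]; decide
  have l2 : chevF4.isLong (chevF4.simple i2) = true := by rw [hi2]; decide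
  have l3 : chevF4.isLong (chevF4.simple i3) = true := by rw [hi3]; decide
  rcases f4_symm π hπ with hid | ⟨p0, p1, p2, p3⟩
  · have e01 : σ i0 = σ i1 := by
      apply ringEquiv_eq_of_zpow_neg_one
      intro t ht
      have := hrel i0 i1 t ht
      rwa [hid, hid, A01] at this
    have e21 : σ i2 = σ i1 := by
      apply ringEquiv_eq_of_zpow_neg_one
      intro t ht
      have := hrel i2 i1 t ht
      rwa [hid, hid, A21] at this
    have e23 : σ i2 = σ i3 := by
      apply ringEquiv_eq_of_zpow_neg_one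
      intro t ht
      have := hrel i2 i3 t ht
      rwa [hid, hid, A23] at this
    refine ⟨σ i1, fun i t => ?_⟩
    rw [hid, graphExp_self, pow_one]
    rcases hall i with rfl | rfl | rfl | rfl
    · rw [e01]
    · rfl
    · rw [e21]
    · rw [← e23, e21]
  · rw [← hi0, ← hi3] at p0 p3
    rw [← hi1, ← hi2] at p1 p2
    have e01 : σ i0 = σ i1 := by
      apply ringEquiv_eq_of_zpow_neg_one
      intro t ht
      have := hrel i0 i1 t ht
      rwa [p0, p1, A32, A01] at this
    have e23 : σ i2 = σ i3 := by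
      apply ringEquiv_eq_of_zpow_neg_one
      intro t ht
      have := hrel i2 i3 t ht
      rwa [p2, p3, A10, A23] at this
    have hpow : ∀ t, σ i1 t = (σ i2 t) ^ 2 := by
      apply apply_eq_pow_of_zpow (by norm_num)
      intro t ht
      have := hrel i1 i2 t ht
      rwa [p1, p2, A21, A12] at this
    have hpow' := two_length_core (Or.inl rfl) hpow
    refine ⟨σ i2, fun i t => ?_⟩
    rcases hall i with rfl | rfl | rfl | rfl
    · rw [p0, graphExp_of_long _ l3 l0, e01]
      exact hpow' t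
    · rw [p1, graphExp_of_long _ l2 l1]
      exact hpow' t
    · rw [p2, graphExp_of_not_long _ l1, pow_one]
    · rw [p3, graphExp_of_not_long _ l0, pow_one, e23]

set_option maxRecDepth 100000 in
/-- MODULE [COMB2] -/
theorem exists_common_sigma [Finite F]
    (hD : D ∈ [chevG2, chevB2, chevD4, chevF4, chevE6, chevE7, chevE8])
    (π : Equiv.Perm (Fin D.rank)) (hπ : D.IsDiagramSymmetry π) (σ : Fin D.rank → F ≃+* F)
    (hrel : ∀ (i j : Fin D.rank) (t : F), t ≠ 0 →
      (σ i t) ^ (D.cartan (π i) (D.simple (π j))) = (σ j t) ^ (D.cartan i (D.simple j))) :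
    ∃ τ : F ≃+* F, ∀ (i : Fin D.rank) (t : F), σ i t = (τ t) ^ D.graphExp (ringChar F) i (π i) := by
  simp only [List.mem_cons, List.not_mem_nil, or_false] at hD
  rcases hD with rfl | rfl | rfl | rfl | rfl | rfl | rfl
  · exact common_rank_two (D := chevG2) ⟨0, by decide⟩ ⟨1, by decide⟩ (by decide) (by decide)
      (k := 3) (Or.inr rfl) (by decide) (by decide) (by decide) (by decide) π σ hrel
  · exact common_rank_two (D := chevB2) ⟨0, by decide⟩ ⟨1, by decide⟩ (by decide) (by decide)
      (k := 2) (Or.inl rfl) (by decide) (by decide) (by decide) (by decide) π σ hrel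
  · exact common_simply_laced (D := chevD4) (by decide) (by decide) ⟨0, by decide⟩
      (fun i => [0, 1, 2, 2].getD i.val 0) (by decide) π hπ σ hrel
  · exact common_F4 π hπ σ hrel
  · exact common_simply_laced (D := chevE6) (by decide) (by decide) ⟨0, by decide⟩
      (fun i => [0, 3, 1, 2, 3, 4].getD i.val 0) (by decide) π hπ σ hrel
  · exact common_simply_laced (D := chevE7) (by decide) (by decide) ⟨0, by decide⟩
      (fun i => [0, 3, 1, 2, 3, 4, 5].getD i.val 0) (by decide) π hπ σ hrel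
  · exact common_simply_laced (D := chevE8) (by decide) (by decide) ⟨0, by decide⟩
      (fun i => [0, 3, 1, 2, 3, 4, 5, 6].getD i.val 0) (by decide) π hπ σ hrel

end Cfsg.Agent.Lib.Helper87.Aut
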