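/-
helper87: `Ω₁`-criterion for normality of a strongly closed subgroup, `p` odd: `fix_of_fix_omega` (automorphism/subgroup form of the
`Ω₁`-lemma, Gorenstein 5.3.10), `le_of_centric_radical_of_omega_chain`, `stronglyClosed_omegaOne_of_isNormal`.
All declarations live in `Cfsg.Agent.Lib.Helper87`.
-/
import Cfsg.Agent.Lib.Helper87.FusionNormal
import Cfsg.Agent.Lib.Helper24.Omega
import Cfsg.Agent.Lib.Helper97.Cores
import Cfsg.Prelude.Def_PLocal

set_option autoImplicit false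

namespace Cfsg.Agent.Lib.Helper87
open Cfsg Cfsg.FusionSystem Cfsg.Agent.Lib.Helper97
open scoped commutatorElement

/-- **Ω₁-lemma, automorphism and subgroup form.** For `p` odd, an automorphism of order prime to `p` of a finite group that
preserves a `p`-subgroup `H` and fixes every `x ∈ H` with `x ^ p = 1` fixes `H` pointwise. -/
theorem fix_of_fix_omega {G : Type*} [Group G] [Finite G] {p : ℕ} [Fact p.Prime] (hp : p ≠ 2) (H : Subgroup G)
    (hH : IsPGroup p H) (a : MulAut G) (haH : ∀ x ∈ H, a x ∈ H) (ha : Nat.Coprime (orderOf a) p)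
    (h : ∀ x ∈ H, x ^ p = 1 → a x = x) : ∀ x ∈ H, a x = x := by
  classical
  let Γ := G ⋊[MonoidHom.id (MulAut G)] MulAut G
  have : Finite (MulAut G) := by
    apply Finite.of_injective (fun f : MulAut G => (f : G → G))
    intro f g hfg
    exact DFunLike.coe_injective hfg
  have : Finite Γ := Finite.of_equiv _ SemidirectProduct.equivProd.symm
  let K : Subgroup Γ := H.map (SemidirectProduct.inl : G →* Γ)
  let b : Γ := SemidirectProduct.inr a
  have hK : IsPGroup p K := hH.map _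
  have hconj : ∀ g : G, b * SemidirectProduct.inl g * b⁻¹ = SemidirectProduct.inl (a g) := by
    intro g
    have := SemidirectProduct.inl_aut (φ := MonoidHom.id (MulAut G)) a g
    simpa [b] using this.symm
  have hbN : b ∈ Subgroup.normalizer (K : Set Γ) := by
    apply Subgroup.mem_normalizer_fintype
    rintro _ ⟨g, hg, rfl⟩
    exact ⟨a g, haH g hg, (hconj g).symm⟩
  have hord : orderOf b = orderOf a := orderOf_injective _ SemidirectProduct.inr_injective a
  have hcop : (orderOf b).Coprime p := by rw [hord]; exact ha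
  have hfix : ∀ x ∈ K, x ^ p = 1 → b * x = x * b := by
    rintro _ ⟨g, hg, rfl⟩ hgp
    have hg1 : g ^ p = 1 := by
      apply SemidirectProduct.inl_injective (φ := MonoidHom.id (MulAut G))
      rw [map_pow, hgp, map_one]
    have := hconj g
    rw [h g hg hg1] at this
    calc b * SemidirectProduct.inl g = (b * SemidirectProduct.inl g * b⁻¹) * b := by
          rw [inv_mul_cancel_right]
      _ = SemidirectProduct.inl g * b := by rw [this]
  have hall := Cfsg.Agent.Lib.Helper24.centralizes_of_centralizes_omega p hp b hcop K hK hbN hfix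
  intro x hx
  apply SemidirectProduct.inl_injective (φ := MonoidHom.id (MulAut G))
  rw [← hconj x, hall _ ⟨x, hx, rfl⟩, mul_inv_cancel_right]

/-- A subgroup of a finite group whose elements of order prime to `p` are trivial is a `p`-group. -/
theorem isPGroup_of_coprime_eq_one {G : Type*} [Group G] [Finite G] {p : ℕ} [Fact p.Prime] (K : Subgroup G)
    (h : ∀ g ∈ K, (orderOf g).Coprime p → g = 1) : IsPGroup p K := by
  rintro ⟨g, hg⟩
  have hp : p.Prime := Fact.out
  obtain ⟨k, m', hm', hgm⟩ := Nat.exists_eq_pow_mul_and_not_dvd (orderOf_pos g).ne' p hp.ne_one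
  have h1 : (g ^ (p ^ k)) ^ m' = 1 := by
    rw [← pow_mul, ← hgm]
    exact pow_orderOf_eq_one g
  have h2 : orderOf (g ^ (p ^ k)) ∣ m' := orderOf_dvd_of_pow_eq_one h1
  have h3 : Nat.Coprime m' p := ((Nat.Prime.coprime_iff_not_dvd hp).2 hm').symm
  have h4 := h (g ^ (p ^ k)) (K.pow_mem hg _) (Nat.Coprime.coprime_dvd_left h2 h3)
  exact ⟨k, Subtype.ext h4⟩

/-- If `γ` has order prime to `p` on a finite `p`-group and fixes `r⁻¹ γ(r)`, then it fixes `r`. -/
theorem fix_of_coprime_of_fix_comm {G : Type*} [Group G] [Finite G] {p : ℕ} [Fact p.Prime] (hG : IsPGroup p G)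
    (γ : MulAut G) (hγ : (orderOf γ).Coprime p) {r : G} (hfix : γ (r⁻¹ * γ r) = r⁻¹ * γ r) : γ r = r := by
  have hxb : γ r = r * (r⁻¹ * γ r) := by group
  have h1 := pow_apply_mul_pow' γ r _ hxb hfix (orderOf γ)
  rw [pow_orderOf_eq_one, MulAut.one_apply] at h1
  have h2 : (r⁻¹ * γ r) ^ orderOf γ = 1 := by
    have := mul_left_cancel (a := r) (b := 1) (c := (r⁻¹ * γ r) ^ orderOf γ) (by rw [mul_one]; exact h1)
    exact this.symm
  obtain ⟨k, hk⟩ := hG (r⁻¹ * γ r)
  have h3 : orderOf (r⁻¹ * γ r) ∣ orderOf γ := orderOf_dvd_of_pow_eq_one h2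
  have h4 : orderOf (r⁻¹ * γ r) ∣ p ^ k := orderOf_dvd_of_pow_eq_one hk
  have h5 : Nat.Coprime (orderOf γ) (p ^ k) := Nat.Coprime.pow_right k hγ
  have h6 : orderOf (r⁻¹ * γ r) = 1 := Nat.eq_one_of_dvd_coprimes h5 h3 h4
  rw [orderOf_eq_one_iff] at h6
  rw [hxb, h6, mul_one]

variable {Ω : Type*} [Group Ω] {S : Subgroup Ω}

/-- The chain `R ≥ R ∩ P`. -/
def chainTop (P R : Subgroup Ω) : ℕ → Subgroup R
  | 0 => ⊤
  | _ => P.subgroupOf R

/-- Let `p` be odd and `P` strongly closed in `F`, with a series `1 = c₀ ≤ ⋯ ≤ cₙ = Ω₁(P)` of strongly closed subgroups with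
`[c_{k+1}, P] ≤ c_k`. Then `P` lies in every centric radical subgroup. -/
theorem le_of_centric_radical_of_omega_chain (F : FusionSystem S) [Finite S] {p : ℕ} [Fact p.Prime]
    (hS : IsPGroup p S) (hp : p ≠ 2) {P : Subgroup Ω} (hP : F.StronglyClosed P) (n : ℕ) (c : ℕ → Subgroup Ω)
    (hc0 : c 0 = ⊥) (hcn : c n = omegaOne p P) (hsc : ∀ k, F.StronglyClosed (c k))
    (hcomm : ∀ k < n, ⁅c (k + 1), P⁆ ≤ c k) {R : Subgroup Ω} (hRc : F.IsCentric R) (hRr : F.IsRadical p R) :
    P ≤ R := by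
  have hPS := hP.1
  have hRS := hRc.1
  have hPn : ∀ g ∈ S, ∀ x ∈ P, g * x * g⁻¹ ∈ P := fun g hg x hx => StronglyClosed_conj_mem hP hg hx
  by_contra hPR
  obtain ⟨x, hxP, hxN, hxR⟩ := exists_mem_normalizer_not_mem hS hPS hRS hPn hPR
  have hxS := hPS hxP
  have hfinR : Finite R := finite_of_le hRS
  have hRp : IsPGroup p R := hS.to_le hRS
  have hinv₁ : ∀ j ≤ 1, ∀ β ∈ F.autGroup R, ∀ y ∈ chainTop P R j, β y ∈ chainTop P R j := by
    intro j hj β hβ y hy
    match j, hy with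
    | 0, _ => exact Subgroup.mem_top _
    | (k + 1), hy =>
      exact Subgroup.mem_subgroupOf.2 (StronglyClosed_aut_mem hP hRS hβ (Subgroup.mem_subgroupOf.1 hy))
  have hinv₂ : ∀ j ≤ n, ∀ β ∈ F.autGroup R, ∀ y ∈ (fun j => (c (n - j)).subgroupOf R) j,
      β y ∈ (fun j => (c (n - j)).subgroupOf R) j :=
    fun j _ β hβ y hy =>
      Subgroup.mem_subgroupOf.2 (StronglyClosed_aut_mem (hsc _) hRS hβ (Subgroup.mem_subgroupOf.1 hy))
  -- the stabilizer is a `p`-group
  have hKp : IsPGroup p ↥(chainStab (F.autGroup R) 1 (chainTop P R) hinv₁ ⊓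
      chainStab (F.autGroup R) n (fun j => (c (n - j)).subgroupOf R) hinv₂) := by
    apply isPGroup_of_coprime_eq_one
    rintro γ ⟨⟨hγF, hγ1⟩, ⟨-, hγ2⟩⟩ hγcop
    have hA : ∀ j ≤ n, ∀ r : R, (r : Ω) ∈ c j → γ r = r := by
      intro j
      induction j with
      | zero =>
        intro _ r hr
        rw [hc0, Subgroup.mem_bot] at hr
        have : r = 1 := Subtype.ext hr
        rw [this, map_one]
      | succ j ih =>
        intro hj r hr
        apply fix_of_coprime_of_fix_comm hRp γ hγcop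
        apply ih (by omega)
        have hidx1 : n - (n - (j + 1)) = j + 1 := by omega
        have hidx2 : n - (n - (j + 1) + 1) = j := by omega
        have hr' : r ∈ (c (n - (n - (j + 1)))).subgroupOf R := by
          rw [Subgroup.mem_subgroupOf, hidx1]
          exact hr
        have h1 : r⁻¹ * γ r ∈ (c (n - (n - (j + 1) + 1))).subgroupOf R := hγ2 (n - (j + 1)) (by omega) r hr'
        rw [hidx2] at h1
        exact Subgroup.mem_subgroupOf.1 h1
    have hC : ∀ y ∈ P.subgroupOf R, γ y = y := by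
      apply fix_of_fix_omega hp (P.subgroupOf R) (hRp.to_subgroup _) γ _ hγcop
      · intro y hy hyp
        apply hA n le_rfl
        rw [hcn]
        apply Subgroup.subset_closure
        refine ⟨Subgroup.mem_subgroupOf.1 hy, ?_⟩
        have := congrArg (fun z : R => (z : Ω)) hyp
        simpa using this
      · intro y hy
        exact Subgroup.mem_subgroupOf.2 (StronglyClosed_aut_mem hP hRS hγF (Subgroup.mem_subgroupOf.1 hy))
    ext r
    have h1 : r⁻¹ * γ r ∈ P.subgroupOf R := hγ1 0 (by omega) r (Subgroup.mem_top _)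
    rw [fix_of_coprime_of_fix_comm hRp γ hγcop (hC _ h1)]
    rfl
  -- conjugation by `x` lies in the stabilizer
  have hcxF : conjAut R x hxN ∈ F.autGroup R :=
    autInducedBy_le_autGroup F hRS (mem_autInducedBy_iff.2 ⟨x, hxS, fun y => rfl⟩)
  have hval : ∀ r : R, ((r⁻¹ * conjAut R x hxN r : R) : Ω) = ⁅(r : Ω)⁻¹, x⁆ := by
    intro r
    show (r : Ω)⁻¹ * (x * (r : Ω) * x⁻¹) = _
    rw [commutatorElement_def]
    group
  have hcx : conjAut R x hxN ∈ chainStab (F.autGroup R) 1 (chainTop P R) hinv₁ ⊓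
      chainStab (F.autGroup R) n (fun j => (c (n - j)).subgroupOf R) hinv₂ := by
    refine ⟨⟨hcxF, fun j hj r _ => ?_⟩, ⟨hcxF, fun j hj r hr => ?_⟩⟩
    · show r⁻¹ * conjAut R x hxN r ∈ P.subgroupOf R
      rw [Subgroup.mem_subgroupOf, hval, commutatorElement_def]
      have h1 : (r : Ω)⁻¹ * x * (r : Ω)⁻¹⁻¹ ∈ P := hPn _ (S.inv_mem (hRS r.2)) x hxP
      exact P.mul_mem h1 (P.inv_mem hxP)
    · show r⁻¹ * conjAut R x hxN r ∈ (c (n - (j + 1))).subgroupOf R
      rw [Subgroup.mem_subgroupOf, hval]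
      have hr' : (r : Ω) ∈ c (n - j) := Subgroup.mem_subgroupOf.1 hr
      have hidx : n - (j + 1) + 1 = n - j := by omega
      have h1 : ⁅(r : Ω)⁻¹, x⁆ ∈ ⁅c (n - j), P⁆ :=
        Subgroup.commutator_mem_commutator ((c (n - j)).inv_mem hr') hxP
      have h2 := hcomm (n - (j + 1)) (by omega)
      rw [hidx] at h2
      exact h2 h1
  have hn : ((chainStab (F.autGroup R) 1 (chainTop P R) hinv₁ ⊓
      chainStab (F.autGroup R) n (fun j => (c (n - j)).subgroupOf R) hinv₂).subgroupOf (F.autGroup R)).Normal := by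
    constructor
    intro β hβ g
    rw [Subgroup.mem_subgroupOf] at hβ ⊢
    exact ⟨chainStab_conj_mem _ _ _ hinv₁ g.2 hβ.1, chainStab_conj_mem _ _ _ hinv₂ g.2 hβ.2⟩
  have hle := le_pCore_of_normal hn hKp.comap_subtype
  have hcore : conjAut R x hxN ∈
      ((pCore p ↥(F.autGroup R)).map (F.autGroup R).subtype : Subgroup (MulAut R)) :=
    ⟨⟨_, hcxF⟩, hle (Subgroup.mem_subgroupOf.2 hcx), rfl⟩
  rw [hRr.2] at hcore
  obtain ⟨z, hz⟩ := hcore
  have hkey : ∀ y : R, x * (y : Ω) * x⁻¹ = (z : Ω) * (y : Ω) * (z : Ω)⁻¹ := by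
    intro y
    have h1 : MulAut.conj z y = conjAut R x hxN y := by rw [hz]
    have h2 := congrArg (fun w : R => (w : Ω)) h1
    simpa [conjAut_apply, MulAut.conj_apply] using h2.symm
  have hmem : (z : Ω)⁻¹ * x ∈ centralizerIn S R := by
    refine ⟨S.mul_mem (S.inv_mem (hRS z.2)) hxS, ?_⟩
    show _ ∈ Subgroup.centralizer (R : Set Ω)
    rw [Subgroup.mem_centralizer_iff]
    intro y hy
    have h1 := hkey ⟨y, hy⟩
    have h1' : x * y * x⁻¹ = (z : Ω) * y * (z : Ω)⁻¹ := h1
    calc y * ((z : Ω)⁻¹ * x) = (z : Ω)⁻¹ * ((z : Ω) * y * (z : Ω)⁻¹) * x := by group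
      _ = (z : Ω)⁻¹ * (x * y * x⁻¹) * x := by rw [h1']
      _ = (z : Ω)⁻¹ * x * y := by group
  have hfin := hRc.2 R (isConj_refl F hRS) hmem
  apply hxR
  have e5 : x = (z : Ω) * ((z : Ω)⁻¹ * x) := by group
  rw [e5]
  exact R.mul_mem z.2 hfin

/-- The trivial subgroup is strongly closed. -/
theorem stronglyClosed_bot (F : FusionSystem S) : F.StronglyClosed (⊥ : Subgroup Ω) := by
  refine ⟨bot_le, fun R hR φ _ x => ?_⟩
  have hx : (x : Ω) ∈ (⊥ : Subgroup Ω) := hR x.2
  rw [Subgroup.mem_bot] at hx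
  have : x = 1 := Subtype.ext hx
  rw [this, map_one]
  exact Subgroup.one_mem _

/-- The intersection of two strongly closed subgroups is strongly closed. -/
theorem stronglyClosed_inf {F : FusionSystem S} {A B : Subgroup Ω} (hA : F.StronglyClosed A)
    (hB : F.StronglyClosed B) : F.StronglyClosed (A ⊓ B) :=
  ⟨inf_le_left.trans hA.1, fun R hR φ hφ x =>
    ⟨hA.2 R (hR.trans inf_le_left) φ hφ x, hB.2 R (hR.trans inf_le_right) φ hφ x⟩⟩

theorem omegaOne_le' (p : ℕ) (P : Subgroup Ω) : omegaOne p P ≤ P :=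
  (Subgroup.closure_le _).2 (fun _ hx => hx.1)

/-- `Ω₁(P)` is strongly closed when `P` is normal in the system. -/
theorem stronglyClosed_omegaOne_of_isNormal (F : FusionSystem S) (p : ℕ) {P : Subgroup Ω} (hN : F.IsNormal P) :
    F.StronglyClosed (omegaOne p P) := by
  refine ⟨(omegaOne_le' p P).trans hN.1, fun R hR φ hφ x => ?_⟩
  obtain ⟨ψ, hψ, hψR, hψP⟩ := hN.2 R φ hφ
  rw [map_subgroupOf_eq_iff] at hψP
  have hB : omegaOne p P ≤ ((omegaOne p P).comap ψ).map (R ⊔ P).subtype := by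
    have : omegaOne p P = Subgroup.closure {x : Ω | x ∈ P ∧ x ^ p = 1} := rfl
    rw [this, Subgroup.closure_le]
    rintro z ⟨hzP, hzp⟩
    refine ⟨⟨z, (le_sup_right : P ≤ R ⊔ P) hzP⟩, ?_, rfl⟩
    show ψ ⟨z, _⟩ ∈ Subgroup.closure {x : Ω | x ∈ P ∧ x ^ p = 1}
    apply Subgroup.subset_closure
    refine ⟨hψP.1 _ hzP, ?_⟩
    rw [← map_pow]
    have h1 : (⟨z, (le_sup_right : P ≤ R ⊔ P) hzP⟩ : ↥(R ⊔ P)) ^ p = 1 := Subtype.ext (by simpa using hzp)
    rw [h1, map_one]
  obtain ⟨y, hy, hyx⟩ := hB (hR x.2)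
  have h2 : y = Subgroup.inclusion le_sup_left x := Subtype.ext hyx
  rw [← hψR, ← h2]
  exact hy

end Cfsg.Agent.Lib.Helper87
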