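/-
helper87: project DSQW (helper84, statement S5248), module [MC-AUT]:
the automorphism group of a dihedral / generalized quaternion / quasi-dihedral 2-group `MC x y n η δ` is a 2-group.
The main theorem `MC.isPGroup_mulAut` lives in `Cfsg.Agent.Lib.Helper84.DSQW` (dot-notation on `MC`),
the auxiliary lemmas in `Cfsg.Agent.Lib.Helper87.DSQW`.
-/
import Mathlib
import Cfsg.Agent.Lib.Helper84.DSQW.MCBasic
import Cfsg.Agent.Lib.Helper98.OddAutTwoGroups

set_option autoImplicit false

namespace Cfsg.Agent.Lib.Helper87.DSQW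

open Cfsg Cfsg.Agent.Lib.Helper20.QD Cfsg.Agent.Lib.Helper98.OddAut Cfsg.Agent.Lib.Helper84.DSQW
  Cfsg.Agent.Lib.Helper84.DSQW.MC

variable {X : Type*} [Group X] {x y : X} {n η δ : ℕ}

/-- a multiple of `hf n` is `0` or `hf n` -/
theorem mul_hf_cases (h : MC x y n η δ) (t : ZMod (2 ^ n)) : t * hf n = 0 ∨ t * hf n = hf n := by
  rcases even_or_odd t with ⟨j, rfl⟩ | ⟨j, rfl⟩
  · left; rw [mul_comm]; exact hf_mul_even (one_le_n h) j
  · right; rw [mul_comm]; exact hf_mul_odd (one_le_n h) j

/-- the square of an element outside `⟨x⟩` is `1` or `z` -/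
theorem out_sq_cases (h : MC x y n η δ) (w : X) (hw : w ∉ Subgroup.zpowers x) :
    w * w = 1 ∨ w * w = x ^ 2 ^ (n - 1) := by
  obtain ⟨i, rfl⟩ := (not_mem_iff h w).1 hw
  rw [pwy_sq h]
  rcases mul_hf_cases h ((η : ZMod (2 ^ n)) * i + (δ : ZMod (2 ^ n))) with h0 | h1
  · left; rw [h0, pw_zero h]
  · right; rw [h1, pw_hf h]

/-- an automorphism maps `x` into `⟨x⟩` -/
theorem aut_x_mem (h : MC x y n η δ) (α : MulAut X) : α x ∈ Subgroup.zpowers x := by
  by_contra hout
  obtain ⟨i, hi⟩ := (not_mem_iff h _).1 hout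
  have hsq := pwy_sq h i
  rw [← hi, ← map_mul] at hsq
  -- `α (x * x) = pw (t * hf)`
  have hn := h.hn
  rcases Nat.lt_or_ge n 3 with hlt | hge
  · -- `n = 2`: `η = 0 = δ`
    have hn2 : n = 2 := by omega
    have hη : η = 0 := by
      rcases eta_cases h with h0 | h1
      · exact h0
      · have := (h.hsd h1).2; omega
    have hδ : δ = 0 := by
      rcases delta_cases h with h0 | h1
      · exact h0
      · have := h.hq h1; omega
    rw [hη, hδ] at hsq
    simp only [Nat.cast_zero, zero_mul, add_zero] at hsq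
    rw [pw_zero h] at hsq
    have hxx : x * x = 1 := by
      have := α.injective (hsq.trans (map_one α).symm)
      exact this
    have hd : orderOf x ∣ 2 := orderOf_dvd_of_pow_eq_one (by rw [pow_two]; exact hxx)
    rw [h.ox, hn2] at hd
    have := Nat.le_of_dvd (by norm_num) hd
    omega
  · -- `n ≥ 3`: fourth power is trivial
    have h4 : α ((x * x) * (x * x)) = 1 := by
      rw [map_mul, hsq, ← pw_add h, pw_eq_one_iff h]
      have := two_mul_hf (one_le_n h)
      linear_combination ((η : ZMod (2 ^ n)) * i + (δ : ZMod (2 ^ n))) * this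
    have hx4 : x ^ 4 = 1 := by
      have := α.injective (h4.trans (map_one α).symm)
      rw [← this]; simp only [pow_succ, pow_zero, one_mul, mul_assoc]
    have hd : orderOf x ∣ 4 := orderOf_dvd_of_pow_eq_one hx4
    rw [h.ox] at hd
    have h8 : 8 ≤ 2 ^ n := by
      calc 8 = 2 ^ 3 := by norm_num
        _ ≤ 2 ^ n := Nat.pow_le_pow_right (by norm_num) hge
    have := Nat.le_of_dvd (by norm_num) hd
    omega

theorem aut_pow_x (h : MC x y n η δ) (α : MulAut X) (i : ZMod (2 ^ n)) (hi : α x = pw x n i) (k : ℕ) :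
    (α ^ k) x = pw x n (i ^ k) := by
  induction k with
  | zero => simp [pw_one h]
  | succ k ih =>
    rw [pow_succ_apply, ih]
    show α (x ^ (i ^ k).val) = _
    rw [map_pow, hi, pw_pow h, ZMod.natCast_zmod_val, pow_succ]

/-- An automorphism of odd order of `X` is trivial. -/
theorem aut_trivial (h : MC x y n η δ) (α : MulAut X) (hodd : Odd (orderOf α)) : α = 1 := by
  set m := orderOf α with hmdef
  have hαm : α ^ m = 1 := pow_orderOf_eq_one α
  have hx : α x = x := by
    obtain ⟨i, hi⟩ := (mem_zpowers_iff h _).1 (aut_x_mem h α)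
    have h1 := aut_pow_x h α i hi m
    rw [hαm, MulAut.one_apply] at h1
    have h2 : pw x n 1 = pw x n (i ^ m) := by rw [pw_one h]; exact h1
    have h3 := pw_injective h h2
    have hi1 := zmod_eq_one_of_pow_odd (one_le_n h) i m hodd h3.symm
    rw [hi, hi1, pw_one h]
  have hf : ∀ i, α (pw x n i) = pw x n i := by
    intro i
    show α (x ^ i.val) = x ^ i.val
    rw [map_pow, hx]
  obtain ⟨j, hj⟩ : ∃ j, α y = pw x n j * y := by
    rcases normal_form h (α y) with ⟨i, hi⟩ | hh
    · exfalso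
      have : α y = α (pw x n i) := by rw [hf, hi]
      apply h.hyx
      rw [α.injective this]; exact pw_mem i
    · exact hh
  have hy : α y = y := by
    have := pow_apply_of_shift α y (pw x n j) (hf j) hj m
    rw [hαm, MulAut.one_apply] at this
    have hfm : (pw x n j) ^ m = 1 := by
      have := congrArg (· * y⁻¹) this
      simpa using this.symm
    have h2 : (pw x n j) ^ 2 ^ n = 1 := by
      show (x ^ j.val) ^ 2 ^ n = 1
      rw [← pow_mul, mul_comm, pow_mul, pow_eq_one h, one_pow]
    rw [hj, eq_one_of_pow_odd_of_pow_two _ m n hodd hfm h2, one_mul]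
  ext s
  rw [MulAut.one_apply]
  rcases normal_form h s with ⟨i, rfl⟩ | ⟨i, rfl⟩
  · exact hf i
  · rw [map_mul, hf, hy]

end Cfsg.Agent.Lib.Helper87.DSQW

namespace Cfsg.Agent.Lib.Helper84.DSQW

open Cfsg Cfsg.Agent.Lib.Helper20.QD Cfsg.Agent.Lib.Helper87.DSQW

variable {X : Type*} [Group X] {x y : X} {n η δ : ℕ}

namespace MC

/-- **[MC-AUT]** The automorphism group of `X` is a 2-group. -/
theorem isPGroup_mulAut (h : MC x y n η δ) : IsPGroup 2 (MulAut X) := by
  have := finite h
  intro α
  have hpos : 0 < orderOf α := orderOf_pos α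
  obtain ⟨k, m, hm, hkm⟩ := Nat.exists_eq_two_pow_mul_odd (Nat.pos_iff_ne_zero.1 hpos)
  refine ⟨k, ?_⟩
  have ho : orderOf (α ^ 2 ^ k) = m := by
    rw [orderOf_pow' α (by positivity), hkm, Nat.gcd_eq_right (Dvd.intro _ rfl)]
    exact Nat.mul_div_cancel_left m (by positivity)
  exact aut_trivial h (α ^ 2 ^ k) (by rw [ho]; exact hm)

end MC

end Cfsg.Agent.Lib.Helper84.DSQW
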