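/-
helper87: project DSQW (helper84, statement S5248), module [MC-CAND]:
a proper subgroup `E` of a dihedral / generalized quaternion / quasi-dihedral 2-group `MC x y n η δ` whose
automorphism group is not a 2-group is a four-group `⟨z, w⟩` or a quaternion group `⟨c, w⟩` with `w ∉ ⟨x⟩`.
The main theorem `MC.cand` lives in `Cfsg.Agent.Lib.Helper84.DSQW` (dot-notation on `MC`),
the auxiliary lemmas in `Cfsg.Agent.Lib.Helper87.DSQW`.
-/
import Mathlib
import Cfsg.Agent.Lib.Helper84.DSQW.MCBasic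
import Cfsg.Agent.Lib.Helper87.DSQWAut

set_option autoImplicit false

namespace Cfsg.Agent.Lib.Helper87.DSQW

open Cfsg Cfsg.Agent.Lib.Helper20.QD Cfsg.Agent.Lib.Helper84.DSQW Cfsg.Agent.Lib.Helper84.DSQW.MC

variable {X : Type*} [Group X] {x y : X} {n η δ : ℕ}

/-- The automorphism group of a finite cyclic 2-group is a 2-group. -/
theorem isPGroup_mulAut_of_isCyclic (C : Type*) [Group C] [Finite C] [IsCyclic C] (hC : IsPGroup 2 C) :
    IsPGroup 2 (MulAut C) := by
  have : Fact (Nat.Prime 2) := ⟨Nat.prime_two⟩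
  obtain ⟨a, ha⟩ := IsPGroup.iff_card.1 hC
  have hcard := IsCyclic.card_mulAut C
  rw [ha] at hcard
  rcases Nat.eq_zero_or_pos a with rfl | hpos
  · rw [pow_zero, Nat.totient_one] at hcard
    exact IsPGroup.of_card (n := 0) (by rw [hcard, pow_zero])
  · rw [Nat.totient_prime_pow Nat.prime_two hpos] at hcard
    exact IsPGroup.of_card (n := a - 1) (by rw [hcard]; simp)

theorem isPGroup_mulAut_of_le (h : MC x y n η δ) (E : Subgroup X) (hle : E ≤ Subgroup.zpowers x) :
    IsPGroup 2 (MulAut E) := by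
  have := finite h
  have : IsCyclic E :=
    isCyclic_of_injective (Subgroup.inclusion hle) (Subgroup.inclusion_injective hle)
  exact isPGroup_mulAut_of_isCyclic E ((IsPGroup.of_card h.card).to_subgroup E)

theorem isPGroup_mulAut_zpowers (h : MC x y n η δ) (w : X) :
    IsPGroup 2 (MulAut (Subgroup.zpowers w)) := by
  have := finite h
  exact isPGroup_mulAut_of_isCyclic _ ((IsPGroup.of_card h.card).to_subgroup _)

/-- `E ∩ ⟨x⟩` is cyclic. -/
theorem exists_gen (E : Subgroup X) (x : X) :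
    ∃ g : X, g ∈ E ∧ g ∈ Subgroup.zpowers x ∧
      ∀ u ∈ E, u ∈ Subgroup.zpowers x → u ∈ Subgroup.zpowers g := by
  have hle : E ⊓ Subgroup.zpowers x ≤ Subgroup.zpowers x := inf_le_right
  have : IsCyclic ↥(E ⊓ Subgroup.zpowers x) :=
    isCyclic_of_injective (Subgroup.inclusion hle) (Subgroup.inclusion_injective hle)
  obtain ⟨g, hg⟩ := IsCyclic.exists_generator (α := ↥(E ⊓ Subgroup.zpowers x))
  refine ⟨g, g.2.1, g.2.2, fun u hu hux => ?_⟩
  obtain ⟨k, hk⟩ := Subgroup.mem_zpowers_iff.1 (hg ⟨u, hu, hux⟩)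
  refine Subgroup.mem_zpowers_iff.2 ⟨k, ?_⟩
  have := congrArg Subtype.val hk
  simpa using this

theorem eq_closure (h : MC x y n η δ) (E : Subgroup X) (g w : X) (hgE : g ∈ E)
    (hgen : ∀ u ∈ E, u ∈ Subgroup.zpowers x → u ∈ Subgroup.zpowers g) (hwE : w ∈ E)
    (hwx : w ∉ Subgroup.zpowers x) : E = Subgroup.closure {g, w} := by
  apply le_antisymm
  · intro u hu
    by_cases hux : u ∈ Subgroup.zpowers x
    · have := hgen u hu hux
      exact (Subgroup.zpowers_le.2 (Subgroup.subset_closure (by simp))) this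
    · have hm : u * w⁻¹ ∈ Subgroup.zpowers x := by
        rw [Subgroup.mul_mem_iff_of_index_two (index_zpowers h)]
        exact ⟨fun hh => absurd hh hux, fun hh => absurd ((Subgroup.inv_mem_iff _).1 hh) hwx⟩
      have h1 := hgen _ (E.mul_mem hu (E.inv_mem hwE)) hm
      have h2 : u * w⁻¹ ∈ Subgroup.closure {g, w} :=
        (Subgroup.zpowers_le.2 (Subgroup.subset_closure (by simp))) h1
      have h3 : w ∈ Subgroup.closure {g, w} := Subgroup.subset_closure (by simp)
      have := Subgroup.mul_mem _ h2 h3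
      simpa using this
  · rw [Subgroup.closure_le]
    rintro u (rfl | rfl)
    · exact hgE
    · exact hwE

theorem eq_top_of_mem (h : MC x y n η δ) (E : Subgroup X) (hxE : x ∈ E) (w : X) (hwE : w ∈ E)
    (hwx : w ∉ Subgroup.zpowers x) : E = ⊤ := by
  rw [eq_top_iff]
  intro s _
  have hxle : Subgroup.zpowers x ≤ E := Subgroup.zpowers_le.2 hxE
  by_cases hs : s ∈ Subgroup.zpowers x
  · exact hxle hs
  · have hm : s * w⁻¹ ∈ Subgroup.zpowers x := by
      rw [Subgroup.mul_mem_iff_of_index_two (index_zpowers h)]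
      exact ⟨fun hh => absurd hh hs, fun hh => absurd ((Subgroup.inv_mem_iff _).1 hh) hwx⟩
    have := E.mul_mem (hxle hm) hwE
    simpa using this

theorem orderOf_of_mem (h : MC x y n η δ) (g : X) (hgx : g ∈ Subgroup.zpowers x) :
    ∃ a, a ≤ n ∧ orderOf g = 2 ^ a := by
  obtain ⟨i, rfl⟩ := (mem_zpowers_iff h g).1 hgx
  have h1 : (pw x n i) ^ 2 ^ n = 1 := by
    show (x ^ i.val) ^ 2 ^ n = 1
    rw [← pow_mul, mul_comm, pow_mul, pow_eq_one h, one_pow]
  exact (Nat.dvd_prime_pow Nat.prime_two).1 (orderOf_dvd_of_pow_eq_one h1)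

theorem lt_of_ne_top (h : MC x y n η δ) (E : Subgroup X) (hE : E ≠ ⊤) (g w : X) (hgE : g ∈ E)
    (hgx : g ∈ Subgroup.zpowers x) (hwE : w ∈ E) (hwx : w ∉ Subgroup.zpowers x) (a : ℕ) (ha : a ≤ n)
    (hga : orderOf g = 2 ^ a) : a < n := by
  rcases Nat.lt_or_ge a n with hlt | hge
  · exact hlt
  · exfalso
    have han : a = n := le_antisymm ha hge
    subst han
    have hle : Subgroup.zpowers g ≤ Subgroup.zpowers x := Subgroup.zpowers_le.2 hgx
    have := finite h
    have hcard : Nat.card (Subgroup.zpowers x) ≤ Nat.card (Subgroup.zpowers g) := by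
      rw [Nat.card_zpowers, Nat.card_zpowers, h.ox, hga]
    have heq := Subgroup.eq_of_le_of_card_ge hle hcard
    have hxg : x ∈ Subgroup.zpowers g := by rw [heq]; exact Subgroup.mem_zpowers x
    exact hE (eq_top_of_mem h E ((Subgroup.zpowers_le.2 hgE) hxg) w hwE hwx)

theorem cast_mul_eq_zero (h : MC x y n η δ) (i : ZMod (2 ^ n)) (a : ℕ)
    (hga : orderOf (pw x n i) = 2 ^ a) : ((2 ^ a : ℕ) : ZMod (2 ^ n)) * i = 0 := by
  have h1 : (pw x n i) ^ 2 ^ a = 1 := by rw [← hga]; exact pow_orderOf_eq_one _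
  rw [pw_pow h] at h1
  exact (pw_eq_one_iff h _).1 h1

theorem hf_mul_eq_zero (h : MC x y n η δ) (i : ZMod (2 ^ n)) (a : ℕ) (han : a < n)
    (hga : orderOf (pw x n i) = 2 ^ a) : hf n * i = 0 := by
  have h1 := cast_mul_eq_zero h i a hga
  have h2 : hf n = ((2 ^ (n - 1 - a) : ℕ) : ZMod (2 ^ n)) * ((2 ^ a : ℕ) : ZMod (2 ^ n)) := by
    unfold hf
    rw [← Nat.cast_mul, ← pow_add]
    congr 2; omega
  rw [h2, mul_assoc, h1, mul_zero]

theorem pow_half_eq (h : MC x y n η δ) (i : ZMod (2 ^ n)) (a : ℕ) (ha1 : 1 ≤ a)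
    (hga : orderOf (pw x n i) = 2 ^ a) : (pw x n i) ^ 2 ^ (a - 1) = x ^ 2 ^ (n - 1) := by
  have h1 := cast_mul_eq_zero h i a hga
  rw [pw_pow h, ← pw_hf h]
  congr 1
  have h2 : (2 : ZMod (2 ^ n)) * (((2 ^ (a - 1) : ℕ) : ZMod (2 ^ n)) * i) = 0 := by
    rw [← mul_assoc, ← h1]
    congr 1
    have : (2 ^ a : ℕ) = 2 * 2 ^ (a - 1) := by rw [← pow_succ']; congr 1; omega
    rw [this]; push_cast; ring
  rcases (two_mul_eq_zero_iff (one_le_n h) _).1 h2 with h0 | h0
  · exfalso
    have h3 : (pw x n i) ^ 2 ^ (a - 1) = 1 := by rw [pw_pow h, h0, pw_zero h]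
    have hd := orderOf_dvd_of_pow_eq_one h3
    rw [hga] at hd
    have h4 := Nat.le_of_dvd (by positivity) hd
    have h5 : 2 ^ (a - 1) < 2 ^ a := Nat.pow_lt_pow_right (by norm_num) (by omega)
    omega
  · exact h0

theorem conj_gen (h : MC x y n η δ) (i j : ZMod (2 ^ n)) (a : ℕ) (han : a < n)
    (hga : orderOf (pw x n i) = 2 ^ a) :
    (pw x n j * y) * pw x n i * (pw x n j * y)⁻¹ = (pw x n i)⁻¹ := by
  rw [conj_pwy_pw h, ← pw_neg h]
  congr 1
  have := hf_mul_eq_zero h i a han hga
  unfold ee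
  linear_combination (η : ZMod (2 ^ n)) * this

/-- The subgroup `E = ⟨g, w⟩` (`⟨g⟩ = E ∩ ⟨x⟩` of order `2^a`, `2 ≤ a < n`) is again of type `MC`. -/
theorem mc_sub (h : MC x y n η δ) (E : Subgroup X) (g w : X) (hgE : g ∈ E)
    (hgx : g ∈ Subgroup.zpowers x)
    (hgen : ∀ u ∈ E, u ∈ Subgroup.zpowers x → u ∈ Subgroup.zpowers g) (hwE : w ∈ E)
    (hwx : w ∉ Subgroup.zpowers x) (a : ℕ) (han : a < n) (hga : orderOf g = 2 ^ a) (ha2 : 2 ≤ a)
    (δ' : ℕ) (hδ' : δ' ≤ 1) (hδ3 : δ' = 1 → 3 ≤ a) (hsq : w * w = (x ^ 2 ^ (n - 1)) ^ δ') :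
    MC (⟨g, hgE⟩ : E) ⟨w, hwE⟩ a 0 δ' := by
  have := finite h
  obtain ⟨i, hi⟩ := (mem_zpowers_iff h g).1 hgx
  obtain ⟨j, hj⟩ := (not_mem_iff h w).1 hwx
  have hga' : orderOf (pw x n i) = 2 ^ a := by rw [← hi]; exact hga
  have hK : Subgroup.zpowers (⟨g, hgE⟩ : E) = (Subgroup.zpowers x).subgroupOf E := by
    ext u
    rw [Subgroup.mem_subgroupOf]
    constructor
    · intro hu
      obtain ⟨k, hk⟩ := Subgroup.mem_zpowers_iff.1 hu
      have : (u : X) = g ^ k := by rw [← hk]; simp
      rw [this]; exact Subgroup.zpow_mem _ hgx k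
    · intro hu
      obtain ⟨k, hk⟩ := Subgroup.mem_zpowers_iff.1 (hgen u u.2 hu)
      refine Subgroup.mem_zpowers_iff.2 ⟨k, Subtype.ext ?_⟩
      rw [← hk]; simp
  have hoE : orderOf (⟨g, hgE⟩ : E) = 2 ^ a := by rw [← hga]; exact Subgroup.orderOf_mk g hgE
  have hidx : (Subgroup.zpowers (⟨g, hgE⟩ : E)).index = 2 := by
    rw [hK]
    have hdvd : (Subgroup.zpowers x).relIndex E ∣ 2 := by
      have : (Subgroup.zpowers x).Normal := Subgroup.normal_of_index_eq_two (index_zpowers h)
      have := Subgroup.relIndex_dvd_index_of_normal (Subgroup.zpowers x) E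
      rwa [index_zpowers h] at this
    have hne : (Subgroup.zpowers x).relIndex E ≠ 1 := by
      rw [Ne, Subgroup.relIndex_eq_one]
      intro hle; exact hwx (hle hwE)
    rcases (Nat.dvd_prime Nat.prime_two).1 hdvd with h1 | h2
    · exact absurd h1 hne
    · exact h2
  have hcard : Nat.card E = 2 ^ (a + 1) := by
    rw [← (Subgroup.zpowers (⟨g, hgE⟩ : E)).card_mul_index, hidx, Nat.card_zpowers, hoE, pow_succ]
  refine ⟨ha2, hcard, hoE, ?_, ?_, ?_, by norm_num, hδ', ?_, hδ3⟩
  · rw [hK, Subgroup.mem_subgroupOf]; exact hwx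
  · apply Subtype.ext
    simp only [Subgroup.coe_mul, Subgroup.coe_inv, pow_zero, mul_one]
    rw [hi, hj]
    exact conj_gen h i j a han hga'
  · apply Subtype.ext
    simp only [Subgroup.coe_mul, Subgroup.coe_pow]
    rw [hsq, hi, pow_half_eq h i a (by omega) hga']
  · intro h0; exact absurd h0 (by norm_num)

end Cfsg.Agent.Lib.Helper87.DSQW

namespace Cfsg.Agent.Lib.Helper84.DSQW

open Cfsg Cfsg.Agent.Lib.Helper20.QD Cfsg.Agent.Lib.Helper87.DSQW

variable {X : Type*} [Group X] {x y : X} {n η δ : ℕ}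

namespace MC

/-- **[MC-CAND]** -/
theorem cand (h : MC x y n η δ) (E : Subgroup X) (hE : E ≠ ⊤) (hA : ¬ IsPGroup 2 (MulAut E)) :
    ∃ w : X, w ∉ Subgroup.zpowers x ∧
      ((w * w = 1 ∧ E = Subgroup.closure {x ^ 2 ^ (n - 1), w}) ∨
       (w * w = x ^ 2 ^ (n - 1) ∧ 3 ≤ n ∧ E = Subgroup.closure {x ^ 2 ^ (n - 2), w})) := by
  by_cases hle : E ≤ Subgroup.zpowers x
  · exact absurd (isPGroup_mulAut_of_le h E hle) hA
  obtain ⟨w, hwE, hwx⟩ := SetLike.not_le_iff_exists.1 hle
  obtain ⟨g, hgE, hgx, hgen⟩ := exists_gen E x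
  obtain ⟨a, han', hga⟩ := orderOf_of_mem h g hgx
  have han : a < n := lt_of_ne_top h E hE g w hgE hgx hwE hwx a han' hga
  have hEcl := eq_closure h E g w hgE hgen hwE hwx
  obtain ⟨i, hi⟩ := (mem_zpowers_iff h g).1 hgx
  have hga' : orderOf (pw x n i) = 2 ^ a := by rw [← hi]; exact hga
  refine ⟨w, hwx, ?_⟩
  -- the cyclic case
  have hcyc : g ∈ Subgroup.zpowers w → False := by
    intro hgw
    have hEw : E = Subgroup.zpowers w := by
      rw [hEcl]
      apply le_antisymm
      · rw [Subgroup.closure_le]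
        rintro u (rfl | rfl)
        · exact hgw
        · exact Subgroup.mem_zpowers _
      · exact Subgroup.zpowers_le.2 (Subgroup.subset_closure (by simp))
    apply hA
    rw [hEw]
    exact isPGroup_mulAut_zpowers h w
  have hg1 : a = 0 → g ∈ Subgroup.zpowers w := by
    intro ha0
    have : g = 1 := orderOf_eq_one_iff.1 (by rw [hga, ha0, pow_zero])
    rw [this]; exact Subgroup.one_mem _
  have hgz : a = 1 → g = x ^ 2 ^ (n - 1) := by
    intro ha1
    have := pow_half_eq h i 1 le_rfl (by have h' := hga'; rw [ha1] at h'; exact h')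
    rw [← hi] at this
    simpa using this
  rcases out_sq_cases h w hwx with hw1 | hwz
  · -- `w * w = 1`
    left
    refine ⟨hw1, ?_⟩
    rcases Nat.lt_or_ge a 2 with ha | ha
    · rcases Nat.eq_zero_or_pos a with ha0 | hapos
      · exact absurd (hg1 ha0) hcyc
      · have ha1 : a = 1 := by omega
        rw [← hgz ha1]; exact hEcl
    · exfalso
      exact hA (MC.isPGroup_mulAut (mc_sub h E g w hgE hgx hgen hwE hwx a han hga ha 0 (by norm_num)
        (by norm_num) (by rw [pow_zero]; exact hw1)))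
  · -- `w * w = z`
    right
    rcases Nat.lt_or_ge a 3 with ha | ha
    · rcases Nat.eq_zero_or_pos a with ha0 | hapos
      · exact absurd (hg1 ha0) hcyc
      · rcases Nat.lt_or_ge a 2 with ha' | ha'
        · have ha1 : a = 1 := by omega
          exfalso; apply hcyc
          rw [hgz ha1, ← hwz, ← pow_two]
          exact Subgroup.pow_mem _ (Subgroup.mem_zpowers w) 2
        · have ha2 : a = 2 := by omega
          refine ⟨hwz, by omega, ?_⟩
          have h2i : 2 * i = hf n := by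
            have := pow_half_eq h i 2 (by norm_num) (by have h' := hga'; rw [ha2] at h'; exact h')
            rw [pw_pow h, ← pw_hf h] at this
            have := pw_injective h this
            simpa using this
          rcases (two_mul_eq_hf_iff h.hn i).1 h2i with hq | hq
          · rw [hEcl, hi, hq, pw_qt h]
          · have hgc : g = x ^ 2 ^ (n - 2) * (w * w) := by
              rw [hi, hq, pw_add h, pw_qt h, pw_hf h, hwz]
            rw [hEcl]
            apply le_antisymm
            · rw [Subgroup.closure_le]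
              rintro u (rfl | rfl)
              · rw [hgc]
                have hc : x ^ 2 ^ (n - 2) ∈ Subgroup.closure {x ^ 2 ^ (n - 2), w} :=
                  Subgroup.subset_closure (by simp)
                have hw : w ∈ Subgroup.closure {x ^ 2 ^ (n - 2), w} :=
                  Subgroup.subset_closure (by simp)
                exact Subgroup.mul_mem _ hc (Subgroup.mul_mem _ hw hw)
              · exact Subgroup.subset_closure (by simp)
            · rw [Subgroup.closure_le]
              rintro u (rfl | rfl)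
              · have hc : x ^ 2 ^ (n - 2) = g * (w * w)⁻¹ := by rw [hgc]; group
                rw [hc]
                have hg' : g ∈ Subgroup.closure {g, w} := Subgroup.subset_closure (by simp)
                have hw : w ∈ Subgroup.closure {g, w} := Subgroup.subset_closure (by simp)
                exact Subgroup.mul_mem _ hg' (Subgroup.inv_mem _ (Subgroup.mul_mem _ hw hw))
              · exact Subgroup.subset_closure (by simp)
    · exfalso
      exact hA (MC.isPGroup_mulAut (mc_sub h E g w hgE hgx hgen hwE hwx a han hga (by omega) 1 le_rfl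
        (fun _ => ha) (by rw [pow_one]; exact hwz)))

end MC

end Cfsg.Agent.Lib.Helper84.DSQW
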