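/-
helper87: fusion systems over a nonabelian `p`-group `S` with an abelian subgroup `A` of index `p`
(after Oliver, "Simple fusion systems over p-groups with abelian subgroup of index p: I", Lemma 2.3).
All declarations live in `Cfsg.Agent.Lib.Helper87`.
-/
import Cfsg.Agent.Lib.Helper87.OliverAut
import Cfsg.Agent.Lib.Helper87.FusionFully
import Cfsg.Agent.Lib.Helper88.FusionEssential
import Cfsg.Agent.Lib.Helper88.FusionAlperinCR
import Cfsg.Agent.Lib.Helper84.Alperin2
import Cfsg.Agent.Lib.Helper86.EssChain2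

set_option autoImplicit false

namespace Cfsg.Agent.Lib.Helper87

open Cfsg Cfsg.FusionSystem

section Basic

variable {Ω : Type*} [Group Ω] {S : Subgroup Ω} [Finite S] {p : ℕ} [Fact p.Prime]

/-- A subgroup of index `p` in a finite `p`-group is normal (relative form). -/
theorem conj_mem_of_relIndex_prime (hS : IsPGroup p S) {A : Subgroup Ω} (hAi : A.relIndex S = p)
    {g a : Ω} (hg : g ∈ S) (haS : a ∈ S) (ha : a ∈ A) : g * a * g⁻¹ ∈ A := by
  have hp : p.Prime := Fact.out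
  obtain ⟨n, hn⟩ := IsPGroup.iff_card.1 hS
  have hn0 : n ≠ 0 := by
    rintro rfl
    rw [pow_zero] at hn
    have h1 : A.relIndex S ∣ Nat.card S := Subgroup.relIndex_dvd_card A S
    rw [hAi, hn] at h1
    exact hp.one_lt.ne' (Nat.dvd_one.1 h1)
  have hnorm : (A.subgroupOf S).Normal := by
    apply Subgroup.normal_of_index_eq_minFac_card
    rw [hn, hp.pow_minFac hn0]
    exact hAi
  have := hnorm.conj_mem ⟨a, haS⟩ ha ⟨g, hg⟩
  exact this

/-- `S = A⟨x⟩` for `x ∈ S ∖ A`. -/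
theorem exists_decomp_of_relIndex_prime (hS : IsPGroup p S) {A : Subgroup Ω} (hAS : A ≤ S) (hAi : A.relIndex S = p)
    {x : Ω} (hxS : x ∈ S) (hxA : x ∉ A) {s : Ω} (hs : s ∈ S) :
    ∃ a ∈ A, ∃ u ∈ Subgroup.zpowers x, s = a * u := by
  have hBS : A ⊔ Subgroup.zpowers x ≤ S := sup_le hAS (by rwa [Subgroup.zpowers_le])
  have htop : (A ⊔ Subgroup.zpowers x).subgroupOf S = ⊤ := by
    refine Cfsg.Agent.Lib.Helper86.eq_top_of_index_prime (A.subgroupOf S) _ ?_ hAi ⟨x, hxS⟩ ?_ hxA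
    · exact Subgroup.subgroupOf_mono _ le_sup_left |>.trans le_rfl
    · exact (le_sup_right : Subgroup.zpowers x ≤ A ⊔ Subgroup.zpowers x) (Subgroup.mem_zpowers x)
  have hsB : s ∈ A ⊔ Subgroup.zpowers x := (Subgroup.subgroupOf_eq_top.1 htop) hs
  refine exists_mul_of_mem_sup ?_ hsB
  intro k hk a ha
  exact conj_mem_of_relIndex_prime hS hAi ((Subgroup.zpowers_le.2 hxS) hk) (hAS ha) ha

end Basic

section Oliver

variable {Ω : Type*} [Group Ω] {S : Subgroup Ω} [Finite S] {p : ℕ} [Fact p.Prime]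

/-- Standing hypotheses: `S` is a nonabelian `p`-group with an abelian subgroup `A` of index `p`. -/
structure IndexPData (p : ℕ) (S A : Subgroup Ω) : Prop where
  pgroup : IsPGroup p S
  le : A ≤ S
  comm : ∀ a ∈ A, ∀ b ∈ A, a * b = b * a
  idx : A.relIndex S = p
  nonab : ∃ s ∈ S, ∃ s' ∈ S, s * s' ≠ s' * s

variable {A : Subgroup Ω}

theorem IndexPData.conj_mem (h : IndexPData p S A) {g a : Ω} (hg : g ∈ S) (ha : a ∈ A) : g * a * g⁻¹ ∈ A :=
  conj_mem_of_relIndex_prime h.pgroup h.idx hg (h.le ha) ha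

theorem IndexPData.decomp (h : IndexPData p S A) {x : Ω} (hxS : x ∈ S) (hxA : x ∉ A) {s : Ω} (hs : s ∈ S) :
    ∃ a ∈ A, ∃ u ∈ Subgroup.zpowers x, s = a * u :=
  exists_decomp_of_relIndex_prime h.pgroup h.le h.idx hxS hxA hs

/-- `Z(S) ≤ A`. -/
theorem IndexPData.center_le (h : IndexPData p S A) : centralizerIn S S ≤ A := by
  intro z hz
  by_contra hzA
  obtain ⟨s, hs, s', hs', hne⟩ := h.nonab
  apply hne
  obtain ⟨a, ha, u, hu, rfl⟩ := h.decomp hz.1 hzA hs
  obtain ⟨a', ha', u', hu', rfl⟩ := h.decomp hz.1 hzA hs'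
  have hzc : Subgroup.zpowers z ≤ Subgroup.centralizer (S : Set Ω) := by
    rw [Subgroup.zpowers_le]; exact hz.2
  have hzS : Subgroup.zpowers z ≤ S := by
    rw [Subgroup.zpowers_le]; exact hz.1
  have hu1 : a' * u = u * a' := Subgroup.mem_centralizer_iff.1 (hzc hu) a' (h.le ha')
  have hu2 : a * u' = u' * a := Subgroup.mem_centralizer_iff.1 (hzc hu') a (h.le ha)
  have hu3 : u' * u = u * u' := Subgroup.mem_centralizer_iff.1 (hzc hu) u' (hzS hu')
  calc a * u * (a' * u') = a * (u * a') * u' := by group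
    _ = a * (a' * u) * u' := by rw [hu1]
    _ = (a * a') * (u * u') := by group
    _ = (a' * a) * (u' * u) := by rw [h.comm a ha a' ha', hu3]
    _ = a' * (a * u') * u := by group
    _ = a' * (u' * a) * u := by rw [hu2]
    _ = a' * u' * (a * u) := by group

/-- `C_A(x) = Z(S)` for `x ∈ S ∖ A`. -/
theorem IndexPData.mem_center_of_comm (h : IndexPData p S A) {a x : Ω} (ha : a ∈ A) (hxS : x ∈ S) (hxA : x ∉ A)
    (hc : a * x = x * a) : a ∈ centralizerIn S S := by
  refine ⟨h.le ha, ?_⟩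
  show a ∈ Subgroup.centralizer (S : Set Ω)
  rw [Subgroup.mem_centralizer_iff]
  intro s hs
  obtain ⟨a', ha', u, hu, rfl⟩ := h.decomp hxS hxA hs
  have hu1 : u * a = a * u := by
    obtain ⟨k, rfl⟩ := Subgroup.mem_zpowers_iff.1 hu
    have : Commute a x := hc
    exact (this.zpow_right k).eq.symm
  calc a' * u * a = a' * (u * a) := by group
    _ = a' * (a * u) := by rw [hu1]
    _ = (a' * a) * u := by group
    _ = (a * a') * u := by rw [h.comm a' ha' a ha]
    _ = a * (a' * u) := by group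

omit [Finite S] [Fact p.Prime] in
/-- A commutator computation: if `b, a ∈ A` and `[b, u] ∈ Z(S)` then `[b, a u] ∈ Z(S)`. -/
theorem IndexPData.comm_mem_center_of_decomp (h : IndexPData p S A) {b a u : Ω} (hb : b ∈ A) (ha : a ∈ A)
    (hz : b * u * b⁻¹ * u⁻¹ ∈ centralizerIn S S) : b * (a * u) * b⁻¹ * (a * u)⁻¹ ∈ centralizerIn S S := by
  have h1 : a * (b * u * b⁻¹ * u⁻¹) = (b * u * b⁻¹ * u⁻¹) * a :=
    Subgroup.mem_centralizer_iff.1 hz.2 a (h.le ha)
  have e : b * (a * u) * b⁻¹ * (a * u)⁻¹ = (b * a) * (u * b⁻¹ * u⁻¹) * a⁻¹ := by group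
  rw [e, h.comm b hb a ha]
  have e2 : a * b * (u * b⁻¹ * u⁻¹) * a⁻¹ = a * (b * u * b⁻¹ * u⁻¹) * a⁻¹ := by group
  rw [e2, h1]
  have e3 : b * u * b⁻¹ * u⁻¹ * a * a⁻¹ = b * u * b⁻¹ * u⁻¹ := by group
  rw [e3]
  exact hz

theorem autInducedBy_mono {K L P : Subgroup Ω} (hKL : K ≤ L) : autInducedBy K P ≤ autInducedBy L P := by
  intro α hα
  obtain ⟨g, hg, hgα⟩ := mem_autInducedBy_iff.1 hα
  exact mem_autInducedBy_iff.2 ⟨g, hKL hg, hgα⟩

/-- **Key lemma on essential subgroups other than `A`.** -/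
theorem IndexPData.essential_key (h : IndexPData p S A) (F : FusionSystem S) (hF : F.IsSaturated p)
    {P : Subgroup Ω} (hP : F.IsEssential p P) (hPA : P ≠ A) :
    (¬ P ≤ A) ∧
      (∃ α ∈ F.autGroup P, ¬ ∀ y : P, α y ∈ A.subgroupOf P ↔ y ∈ A.subgroupOf P) ∧
      (Inn P).relIndex (autInducedBy S P) = p := by
  have hp : p.Prime := Fact.out
  have hS := h.pgroup
  obtain ⟨hcen, hfn, hN, M, hM⟩ := hP
  have hPS : P ≤ S := hcen.1
  have hfinP : Finite P := finite_of_le hPS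
  have hPp : IsPGroup p P := hS.to_le hPS
  have hPne : P ≠ S := Cfsg.Agent.Lib.Helper88.ne_top_of_essential F hF ⟨hcen, hfn, hN, M, hM⟩
  have hcP : centralizerIn S P ≤ P := hcen.2 P (isConj_refl F hPS)
  -- `P ≰ A`
  have hnle : ¬ P ≤ A := by
    intro hle
    apply hPA
    apply le_antisymm hle
    intro a ha
    apply hcP
    refine ⟨h.le ha, ?_⟩
    show a ∈ Subgroup.centralizer (P : Set Ω)
    rw [Subgroup.mem_centralizer_iff]
    intro y hy
    exact h.comm y (hle hy) a ha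
  refine ⟨hnle, ?_⟩
  obtain ⟨x, hxP, hxA⟩ := SetLike.not_le_iff_exists.1 hnle
  have hxS : x ∈ S := hPS hxP
  -- the subgroup `P₀ = P ∩ A` of `P`
  have hP₀n : (A.subgroupOf P).Normal := by
    refine ⟨fun a ha g => ?_⟩
    exact h.conj_mem (hPS g.2) ha
  have hidx : (A.subgroupOf P).index = p := by
    have h1 : A.relIndex P ≤ A.relIndex S := Subgroup.relIndex_le_of_le_right hPS (by rw [h.idx]; exact hp.ne_zero)
    rw [h.idx] at h1
    have h2 : A.relIndex P ∣ Nat.card P := Subgroup.relIndex_dvd_card A P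
    obtain ⟨n, hn⟩ := IsPGroup.iff_card.1 hPp
    rw [hn] at h2
    obtain ⟨k, -, hk⟩ := (Nat.dvd_prime_pow hp).1 h2
    have hk0 : k ≠ 0 := by
      rintro rfl
      rw [pow_zero] at hk
      exact hnle (Subgroup.relIndex_eq_one.1 hk)
    show A.relIndex P = p
    rw [hk] at h1 ⊢
    have : k = 1 := by
      by_contra hk1
      have h3 : p ^ 2 ≤ p ^ k := Nat.pow_le_pow_right hp.pos (by omega)
      have h4 : p < p ^ 2 := by nlinarith [hp.two_le]
      omega
    rw [this, pow_one]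
  -- Sylow data
  obtain ⟨⟨-, R, hR⟩, -⟩ := fullyAutomized_receptive_of_fullyNormalized F hS hF hfn
  have hfinA : Finite (MulAut P) := inferInstance
  have hTG : autInducedBy S P ≤ F.autGroup P := autInducedBy_le_autGroup F hPS
  have hTp : IsPGroup p (autInducedBy S P) := autInducedBy_isPGroup hS P
  have hTmax : ∀ Q : Subgroup (MulAut P), Q ≤ F.autGroup P → IsPGroup p Q → autInducedBy S P ≤ Q →
      Q = autInducedBy S P := by
    intro Q hQG hQp hTQ
    have h1 : (R : Subgroup (F.autGroup P)) ≤ Q.subgroupOf (F.autGroup P) := by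
      rw [hR]; exact Subgroup.subgroupOf_mono _ hTQ |>.trans le_rfl
    have h2 := R.is_maximal' hQp.comap_subtype h1
    rw [hR] at h2
    have h3 := Subgroup.subgroupOf_inj.1 h2
    rwa [inf_eq_left.2 hQG, inf_eq_left.2 hTG] at h3
  have hconj : ∀ Q : Subgroup (MulAut P), Q ≤ F.autGroup P → IsPGroup p Q →
      ∃ c ∈ F.autGroup P, ∀ q ∈ Q, c * q * c⁻¹ ∈ autInducedBy S P := by
    intro Q hQG hQp
    obtain ⟨c, hc⟩ := exists_conj_mem_sylow R (hQp.comap_subtype : IsPGroup p (Q.subgroupOf (F.autGroup P)))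
    refine ⟨c, c.2, fun q hq => ?_⟩
    have h1 : c * ⟨q, hQG hq⟩ * c⁻¹ ∈ (R : Subgroup (F.autGroup P)) := hc ⟨q, hQG hq⟩ hq
    rw [hR] at h1
    exact h1
  obtain ⟨H, hTH, hnot, hctrl⟩ := Cfsg.Agent.Lib.Helper88.exists_control_subgroup F hS hPS hN M hM
  -- `T = TA · Inn(P)`
  have hT : autInducedBy S P = autInducedBy A P ⊔ Inn P := by
    apply le_antisymm
    · intro α hα
      obtain ⟨g, hg, hgα⟩ := mem_autInducedBy_iff.1 hα
      obtain ⟨a, ha, u, hu, rfl⟩ := h.decomp hxS hxA hg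
      have huP : u ∈ P := (Subgroup.zpowers_le.2 hxP) hu
      have h1 : α * (MulAut.conj (⟨u, huP⟩ : P))⁻¹ ∈ autInducedBy A P := by
        rw [mem_autInducedBy_iff]
        refine ⟨a, ha, fun y => ?_⟩
        have e : (((MulAut.conj (⟨u, huP⟩ : P))⁻¹ y : P) : Ω) = u⁻¹ * (y : Ω) * u := by
          rw [MulAut.conj_inv_apply]; rfl
        rw [MulAut.mul_apply, hgα, e]
        group
      have h2 : MulAut.conj (⟨u, huP⟩ : P) ∈ Inn P := ⟨_, rfl⟩
      have h3 : α = (α * (MulAut.conj (⟨u, huP⟩ : P))⁻¹) * MulAut.conj (⟨u, huP⟩ : P) := by group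
      rw [h3]
      exact Subgroup.mul_mem_sup h1 h2
    · exact sup_le (autInducedBy_mono h.le) (Cfsg.Agent.Lib.Helper88.inn_le_autInducedBy hPS)
  have hfix : ∀ t ∈ autInducedBy A P, ∀ b ∈ A.subgroupOf P, t b = b := by
    intro t ht b hb
    obtain ⟨g, hg, hgt⟩ := mem_autInducedBy_iff.1 ht
    apply Subtype.ext
    rw [hgt, h.comm g hg b hb]
    group
  have hne : autInducedBy S P ≠ Inn P := by
    intro heq
    apply Cfsg.Agent.Lib.Helper84.autInducedBy_not_le_inn F hS hcen hPne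
    rw [heq]
  exact oliver_key hPp (F.autGroup P) (autInducedBy S P) H (autInducedBy A P) (A.subgroupOf P)
    hTG hTp hTmax hconj hTH hnot hctrl hidx hT hfix hne

end Oliver

section Index

variable {Ω : Type*} [Group Ω]

/-- `|Aut_K(P) : Aut_K(P) ∩ Inn(P)| = |N_K(P) : N_K(P) ∩ P|` when every element of `N_K(P)` inducing an inner
automorphism of `P` lies in `P`. -/
theorem relIndex_autInducedBy (K P : Subgroup Ω)
    (hcen : ∀ g ∈ K ⊓ Subgroup.normalizer (P : Set Ω), ∀ u ∈ P, (∀ y ∈ P, g * y * g⁻¹ = u * y * u⁻¹) → g ∈ P) :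
    (Inn P).relIndex (autInducedBy K P) = P.relIndex (K ⊓ Subgroup.normalizer (P : Set Ω)) := by
  set N : Subgroup Ω := K ⊓ Subgroup.normalizer (P : Set Ω) with hN
  let c : N →* MulAut P := (Subgroup.normalizerMonoidHom P).comp (Subgroup.inclusion (inf_le_right : N ≤ _))
  have hc : ∀ (n : N) (y : P), ((c n y : P) : Ω) = (n : Ω) * (y : Ω) * (n : Ω)⁻¹ := fun n y => rfl
  have hrange : c.range = autInducedBy K P := by
    apply le_antisymm
    · rintro _ ⟨n, rfl⟩
      exact mem_autInducedBy_iff.2 ⟨n, n.2.1, fun y => hc n y⟩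
    · intro α hα
      obtain ⟨g, hg, hgα⟩ := mem_autInducedBy_iff.1 hα
      have hgN : g ∈ N := ⟨hg, Cfsg.Agent.Lib.Helper84.mem_normalizer_of_induces hgα⟩
      refine ⟨⟨g, hgN⟩, ?_⟩
      ext y
      rw [hc, hgα]
  have hcomap : (Inn P).comap c = P.subgroupOf N := by
    ext n
    rw [Subgroup.mem_comap, Subgroup.mem_subgroupOf]
    constructor
    · rintro ⟨u, hu⟩
      refine hcen n n.2 u u.2 (fun y hy => ?_)
      have := congrArg (fun f : MulAut P => ((f ⟨y, hy⟩ : P) : Ω)) hu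
      simp only [MulAut.conj_apply] at this
      rw [hc] at this
      exact this.symm
    · intro hn
      refine ⟨⟨n, hn⟩, ?_⟩
      ext y
      rw [hc]
      rfl
  calc (Inn P).relIndex (autInducedBy K P) = (Inn P).relIndex c.range := by rw [hrange]
    _ = ((Inn P).comap c).index := (Subgroup.index_comap (Inn P) c).symm
    _ = (P.subgroupOf N).index := by rw [hcomap]
    _ = P.relIndex N := rfl

end Index

section Oliver2

variable {Ω : Type*} [Group Ω] {S : Subgroup Ω} [Finite S] {p : ℕ} [Fact p.Prime] {A : Subgroup Ω}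

omit [Finite S] in
/-- For a centric `P ≤ S`, elements of `S` inducing inner automorphisms of `P` lie in `P`. -/
theorem mem_of_induces_inner (F : FusionSystem S) {P : Subgroup Ω} (hcen : F.IsCentric P) {g u : Ω} (hg : g ∈ S)
    (hu : u ∈ P) (h : ∀ y ∈ P, g * y * g⁻¹ = u * y * u⁻¹) : g ∈ P := by
  have hPS : P ≤ S := hcen.1
  have hcP : centralizerIn S P ≤ P := hcen.2 P (isConj_refl F hPS)
  have h1 : u⁻¹ * g ∈ centralizerIn S P := by
    refine ⟨S.mul_mem (S.inv_mem (hPS hu)) hg, ?_⟩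
    show u⁻¹ * g ∈ Subgroup.centralizer (P : Set Ω)
    rw [Subgroup.mem_centralizer_iff]
    intro y hy
    calc y * (u⁻¹ * g) = u⁻¹ * (u * y * u⁻¹) * g := by group
      _ = u⁻¹ * (g * y * g⁻¹) * g := by rw [h y hy]
      _ = u⁻¹ * g * y := by group
  have h2 : g = u * (u⁻¹ * g) := by group
  rw [h2]
  exact P.mul_mem hu (hcP h1)

/-- `|N_S(P) : P| = p` for an essential subgroup `P ≠ A`. -/
theorem IndexPData.essential_index (h : IndexPData p S A) (F : FusionSystem S) (hF : F.IsSaturated p)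
    {P : Subgroup Ω} (hP : F.IsEssential p P) (hPA : P ≠ A) :
    P.relIndex (S ⊓ Subgroup.normalizer (P : Set Ω)) = p := by
  rw [← relIndex_autInducedBy S P (fun g hg u hu hh => mem_of_induces_inner F hP.1 hg.1 hu hh)]
  exact (h.essential_key F hF hP hPA).2.2

/-- `|N_A(P) : P ∩ A| = p` for an essential subgroup `P ≠ A`. -/
theorem IndexPData.essential_index_A (h : IndexPData p S A) (F : FusionSystem S) (hF : F.IsSaturated p)
    {P : Subgroup Ω} (hP : F.IsEssential p P) (hPA : P ≠ A) :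
    P.relIndex (A ⊓ Subgroup.normalizer (P : Set Ω)) = p := by
  rw [← relIndex_autInducedBy A P (fun g hg u hu hh => mem_of_induces_inner F hP.1 (h.le hg.1) hu hh)]
  have h1 := (h.essential_key F hF hP hPA).2.2
  obtain ⟨x, hxP, hxA⟩ := SetLike.not_le_iff_exists.1 (h.essential_key F hF hP hPA).1
  have hPS : P ≤ S := hP.1.1
  -- `T = TA · Inn(P)`
  have hT : autInducedBy S P = autInducedBy A P ⊔ Inn P := by
    apply le_antisymm
    · intro α hα
      obtain ⟨g, hg, hgα⟩ := mem_autInducedBy_iff.1 hα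
      obtain ⟨a, ha, u, hu, rfl⟩ := h.decomp (hPS hxP) hxA hg
      have huP : u ∈ P := (Subgroup.zpowers_le.2 hxP) hu
      have h1 : α * (MulAut.conj (⟨u, huP⟩ : P))⁻¹ ∈ autInducedBy A P := by
        rw [mem_autInducedBy_iff]
        refine ⟨a, ha, fun y => ?_⟩
        have e : (((MulAut.conj (⟨u, huP⟩ : P))⁻¹ y : P) : Ω) = u⁻¹ * (y : Ω) * u := by
          rw [MulAut.conj_inv_apply]; rfl
        rw [MulAut.mul_apply, hgα, e]
        group
      have h2 : MulAut.conj (⟨u, huP⟩ : P) ∈ Inn P := ⟨_, rfl⟩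
      have h3 : α = (α * (MulAut.conj (⟨u, huP⟩ : P))⁻¹) * MulAut.conj (⟨u, huP⟩ : P) := by group
      rw [h3]
      exact Subgroup.mul_mem_sup h1 h2
    · exact sup_le (autInducedBy_mono h.le) (Cfsg.Agent.Lib.Helper88.inn_le_autInducedBy hPS)
  rw [hT, Subgroup.relIndex_sup_right] at h1
  exact h1

end Oliver2

section Oliver3

variable {Ω : Type*} [Group Ω] {S : Subgroup Ω} [Finite S] {p : ℕ} [Fact p.Prime] {A : Subgroup Ω}

omit [Finite S] [Fact p.Prime] in
/-- Membership in the second centre `Z₂(S)`, seen inside `Ω`. -/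
theorem mem_Z2_iff {y : Ω} : y ∈ (upperCentralSeries ↥S 2).map S.subtype ↔
    y ∈ S ∧ ∀ s ∈ S, y * s * y⁻¹ * s⁻¹ ∈ centralizerIn S S := by
  have hcen : ∀ z : S, z ∈ Subgroup.center ↥S ↔ (z : Ω) ∈ centralizerIn S S := by
    intro z
    rw [Subgroup.mem_center_iff]
    constructor
    · intro h
      refine ⟨z.2, ?_⟩
      show (z : Ω) ∈ Subgroup.centralizer (S : Set Ω)
      rw [Subgroup.mem_centralizer_iff]
      intro s hs
      exact congrArg Subtype.val (h ⟨s, hs⟩)
    · intro h g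
      apply Subtype.ext
      exact Subgroup.mem_centralizer_iff.1 h.2 g g.2
  constructor
  · rintro ⟨y', hy', rfl⟩
    refine ⟨y'.2, fun s hs => ?_⟩
    have hy'' : y' ∈ Subgroup.upperCentralSeries ↥S (1 + 1) := hy'
    rw [Subgroup.mem_upperCentralSeries_succ_iff] at hy''
    have := hy'' ⟨s, hs⟩
    rw [Subgroup.upperCentralSeries_one, hcen] at this
    exact this
  · rintro ⟨hyS, hy⟩
    refine ⟨⟨y, hyS⟩, ?_, rfl⟩
    show (⟨y, hyS⟩ : S) ∈ Subgroup.upperCentralSeries ↥S (1 + 1)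
    rw [Subgroup.mem_upperCentralSeries_succ_iff]
    intro s
    rw [Subgroup.upperCentralSeries_one, hcen]
    exact hy s s.2

omit [Finite S] [Fact p.Prime] in
theorem Z2_le : (upperCentralSeries ↥S 2).map S.subtype ≤ S := fun _ hy => (mem_Z2_iff.1 hy).1

/-- `P = (P ∩ A)⟨x⟩` for `x ∈ P ∖ A`. -/
theorem IndexPData.eq_sup (h : IndexPData p S A) {P : Subgroup Ω} (hPS : P ≤ S) {x : Ω} (hxP : x ∈ P) (hxA : x ∉ A) :
    P = (P ⊓ A) ⊔ Subgroup.zpowers x := by
  apply le_antisymm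
  · intro y hy
    obtain ⟨a, ha, u, hu, rfl⟩ := h.decomp (hPS hxP) hxA (hPS hy)
    have huP : u ∈ P := (Subgroup.zpowers_le.2 hxP) hu
    have haP : a ∈ P := by
      have : a = a * u * u⁻¹ := by group
      rw [this]
      exact P.mul_mem hy (P.inv_mem huP)
    exact Subgroup.mul_mem_sup ⟨haP, ha⟩ hu
  · exact sup_le inf_le_left (Subgroup.zpowers_le.2 hxP)

omit [Finite S] [Fact p.Prime] in
/-- `Z(S) ≤ P` for `P` centric. -/
theorem center_le_of_centric (F : FusionSystem S) {P : Subgroup Ω} (hcen : F.IsCentric P) :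
    centralizerIn S S ≤ P := by
  have hPS : P ≤ S := hcen.1
  intro z hz
  exact hcen.2 P (isConj_refl F hPS) ⟨hz.1, Subgroup.centralizer_le (SetLike.coe_subset_coe.2 hPS) hz.2⟩

/-- **Abelian case.** An abelian essential subgroup `P ≠ A` meets `A` in `Z(S)`. -/
theorem IndexPData.inf_eq_center_of_comm (h : IndexPData p S A) (F : FusionSystem S)
    {P : Subgroup Ω} (hcen : F.IsCentric P) (hnle : ¬ P ≤ A) (hab : ∀ y ∈ P, ∀ z ∈ P, y * z = z * y) :
    P ⊓ A = centralizerIn S S := by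
  have hPS : P ≤ S := hcen.1
  obtain ⟨x, hxP, hxA⟩ := SetLike.not_le_iff_exists.1 hnle
  apply le_antisymm
  · rintro a ⟨haP, haA⟩
    exact h.mem_center_of_comm haA (hPS hxP) hxA (hab a haP x hxP)
  · exact le_inf (center_le_of_centric F hcen) h.center_le

end Oliver3

section Oliver4

variable {Ω : Type*} [Group Ω] {S : Subgroup Ω} [Finite S] {p : ℕ} [Fact p.Prime] {A : Subgroup Ω}

/-- **Nonabelian case.** For a nonabelian essential subgroup `P ≠ A`: `Z(P) = Z(S)`, `P ∩ A = Z₂(S) ≤ A`,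
`|Z₂(S) : Z(S)| = p` and commutators of `P` lie in `Z(S)`. -/
theorem IndexPData.essential_nonab (h : IndexPData p S A) (F : FusionSystem S) (hF : F.IsSaturated p)
    {P : Subgroup Ω} (hP : F.IsEssential p P) (hPA : P ≠ A) (hnab : ¬ ∀ y ∈ P, ∀ z ∈ P, y * z = z * y) :
    (Subgroup.center ↥P).map P.subtype = centralizerIn S S ∧
      (upperCentralSeries ↥S 2).map S.subtype ≤ A ∧
      P ⊓ A = (upperCentralSeries ↥S 2).map S.subtype ∧
      (centralizerIn S S).relIndex (P ⊓ A) = p ∧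
      ∀ y ∈ P, ∀ z ∈ P, y⁻¹ * (z * y * z⁻¹) ∈ centralizerIn S S := by
  have hp : p.Prime := Fact.out
  have hS := h.pgroup
  obtain ⟨hnle, ⟨α, hαG, hαmove⟩, -⟩ := h.essential_key F hF hP hPA
  have hPess := hP
  obtain ⟨hcen, hfn, hN, M, hM⟩ := hP
  have hPS : P ≤ S := hcen.1
  have hfinP : Finite P := finite_of_le hPS
  have hPp : IsPGroup p P := hS.to_le hPS
  have hPne : P ≠ S := Cfsg.Agent.Lib.Helper88.ne_top_of_essential F hF hPess
  obtain ⟨x, hxP, hxA⟩ := SetLike.not_le_iff_exists.1 hnle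
  have hxS : x ∈ S := hPS hxP
  have hZP : centralizerIn S S ≤ P := center_le_of_centric F hcen
  have hP₀n : (A.subgroupOf P).Normal := ⟨fun a ha g => h.conj_mem (hPS g.2) ha⟩
  have hidx : (A.subgroupOf P).index = p := by
    have h1 : A.relIndex P ≤ A.relIndex S := Subgroup.relIndex_le_of_le_right hPS (by rw [h.idx]; exact hp.ne_zero)
    rw [h.idx] at h1
    have h2 : A.relIndex P ∣ Nat.card P := Subgroup.relIndex_dvd_card A P
    obtain ⟨n, hn⟩ := IsPGroup.iff_card.1 hPp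
    rw [hn] at h2
    obtain ⟨k, -, hk⟩ := (Nat.dvd_prime_pow hp).1 h2
    have hk0 : k ≠ 0 := by
      rintro rfl
      rw [pow_zero] at hk
      exact hnle (Subgroup.relIndex_eq_one.1 hk)
    show A.relIndex P = p
    rw [hk] at h1 ⊢
    have : k = 1 := by
      by_contra hk1
      have h3 : p ^ 2 ≤ p ^ k := Nat.pow_le_pow_right hp.pos (by omega)
      have h4 : p < p ^ 2 := by nlinarith [hp.two_le]
      omega
    rw [this, pow_one]
  obtain ⟨hsup, hrel⟩ := moved_facts (A.subgroupOf P) hidx α hαmove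
  set P₀ : Subgroup P := A.subgroupOf P with hP₀
  set P₀' : Subgroup P := P₀.map α.toMonoidHom with hP₀'
  -- `Z(P) ≤ P₀`
  have hcenP₀ : Subgroup.center ↥P ≤ P₀ := by
    intro y hy
    by_contra hyA
    apply hnab
    have hyA' : (y : Ω) ∉ A := hyA
    have hPeq := h.eq_sup hPS y.2 hyA'
    have hdec : ∀ w ∈ P, ∃ a ∈ P ⊓ A, ∃ u ∈ Subgroup.zpowers (y : Ω), w = a * u := by
      intro w hw
      rw [hPeq] at hw
      refine exists_mul_of_mem_sup ?_ hw
      rintro k hk a ⟨haP, haA⟩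
      have hkP : k ∈ P := (Subgroup.zpowers_le.2 y.2) hk
      exact ⟨P.mul_mem (P.mul_mem hkP haP) (P.inv_mem hkP), h.conj_mem (hPS hkP) haA⟩
    have hyc : ∀ u ∈ Subgroup.zpowers (y : Ω), ∀ w ∈ P, w * u = u * w := by
      intro u hu w hw
      obtain ⟨k, rfl⟩ := Subgroup.mem_zpowers_iff.1 hu
      have h1 : Commute w (y : Ω) := by
        have := Subgroup.mem_center_iff.1 hy ⟨w, hw⟩
        exact congrArg Subtype.val this
      exact (h1.zpow_right k).eq
    intro w hw w' hw'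
    obtain ⟨a, ha, u, hu, rfl⟩ := hdec w hw
    obtain ⟨a', ha', u', hu', rfl⟩ := hdec w' hw'
    have hu1 : a' * u = u * a' := hyc u hu a' ha'.1
    have hu2 : a * u' = u' * a := hyc u' hu' a ha.1
    have hu3 : u' * u = u * u' := hyc u hu u' ((Subgroup.zpowers_le.2 y.2) hu')
    calc a * u * (a' * u') = a * (u * a') * u' := by group
      _ = a * (a' * u) * u' := by rw [hu1]
      _ = (a * a') * (u * u') := by group
      _ = (a' * a) * (u' * u) := by rw [h.comm a ha.2 a' ha'.2, hu3]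
      _ = a' * (a * u') * u := by group
      _ = a' * (u' * a) * u := by rw [hu2]
      _ = a' * u' * (a * u) := by group
  -- `Z(P) ≤ P₀'`
  have hcenP₀' : Subgroup.center ↥P ≤ P₀' := by
    intro y hy
    have h1 : α⁻¹ y ∈ Subgroup.center ↥P := by
      rw [Subgroup.mem_center_iff]
      intro g
      have := Subgroup.mem_center_iff.1 hy (α g)
      have h2 := congrArg (fun w => α⁻¹ w) this
      simpa using h2
    exact ⟨α⁻¹ y, hcenP₀ h1, MulAut.apply_inv_self P α y⟩
  -- `P₀ ∩ P₀' ≤ Z(P)`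
  have hP₀c : ∀ a ∈ P₀, ∀ b ∈ P₀, a * b = b * a := by
    intro a ha b hb
    apply Subtype.ext
    exact h.comm a ha b hb
  have hP₀'c : ∀ a ∈ P₀', ∀ b ∈ P₀', a * b = b * a := by
    rintro _ ⟨a, ha, rfl⟩ _ ⟨b, hb, rfl⟩
    show α a * α b = α b * α a
    rw [← map_mul, ← map_mul, hP₀c a ha b hb]
  have hDc : P₀ ⊓ P₀' ≤ Subgroup.center ↥P := by
    rintro d ⟨hd, hd'⟩
    rw [Subgroup.mem_center_iff]
    have h1 : P₀' ⊔ P₀ ≤ Subgroup.centralizer ({d} : Set P) := by
      apply sup_le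
      · intro b hb
        rw [Subgroup.mem_centralizer_iff]
        rintro _ rfl
        exact hP₀'c _ hd' b hb
      · intro b hb
        rw [Subgroup.mem_centralizer_iff]
        rintro _ rfl
        exact hP₀c _ hd b hb
    rw [hsup] at h1
    intro g
    have := Subgroup.mem_centralizer_iff.1 (h1 (Subgroup.mem_top g)) d rfl
    exact this.symm
  have hDeq : P₀ ⊓ P₀' = Subgroup.center ↥P := le_antisymm hDc (le_inf hcenP₀ hcenP₀')
  -- `Z(P) = Z(S)`
  have hcenZ : (Subgroup.center ↥P).map P.subtype = centralizerIn S S := by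
    apply le_antisymm
    · rintro _ ⟨y, hy, rfl⟩
      refine h.mem_center_of_comm (hcenP₀ hy) hxS hxA ?_
      have := Subgroup.mem_center_iff.1 hy ⟨x, hxP⟩
      exact (congrArg Subtype.val this).symm
    · intro z hz
      have hzc : (⟨z, hZP hz⟩ : P) ∈ Subgroup.center ↥P := by
        rw [Subgroup.mem_center_iff]
        intro g
        apply Subtype.ext
        exact Subgroup.mem_centralizer_iff.1 hz.2 g (hPS g.2)
      exact ⟨⟨z, hZP hz⟩, hzc, rfl⟩
  have hmemZ : ∀ y : P, y ∈ Subgroup.center ↥P → (y : Ω) ∈ centralizerIn S S := by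
    intro y hy
    rw [← hcenZ]
    exact ⟨y, hy, rfl⟩
  -- commutators of `P` lie in `Z(S)`
  have hn' : P₀'.Normal := Subgroup.Normal.map inferInstance _ (MulEquiv.surjective α)
  have hidx' : P₀'.index = p := by
    rw [hP₀', ← hidx]
    exact Subgroup.index_map_equiv P₀ α
  have hcomm : ∀ y ∈ P, ∀ z ∈ P, y⁻¹ * (z * y * z⁻¹) ∈ centralizerIn S S := by
    intro y hy z hz
    have h1 := comm_mem_of_index_prime hPp P₀ hidx ⟨y, hy⟩ ⟨z, hz⟩
    have h2 := comm_mem_of_index_prime hPp P₀' hidx' ⟨y, hy⟩ ⟨z, hz⟩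
    have h3 : (⟨y, hy⟩ : P)⁻¹ * (⟨z, hz⟩ * ⟨y, hy⟩ * (⟨z, hz⟩ : P)⁻¹) ∈ Subgroup.center ↥P := by
      rw [← hDeq]; exact ⟨h1, h2⟩
    exact hmemZ _ h3
  -- `|P ∩ A : Z(S)| = p`
  have hrelZ : (centralizerIn S S).relIndex (P ⊓ A) = p := by
    have h1 : (P₀ ⊓ P₀').map P.subtype = centralizerIn S S := by rw [hDeq, hcenZ]
    have h2 : P₀.map P.subtype = P ⊓ A := by
      rw [hP₀, Subgroup.subgroupOf_map_subtype, inf_comm]
    rw [← h1, ← h2, Subgroup.relIndex_map_map_of_injective _ _ P.subtype_injective]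
    exact hrel
  have hmemZ' : ∀ y : P, (y : Ω) ∈ centralizerIn S S → y ∈ Subgroup.center ↥P := by
    intro y hy
    rw [← hcenZ] at hy
    obtain ⟨w, hw, hwy⟩ := hy
    have : w = y := Subtype.ext hwy
    rwa [this] at hw
  -- `P ∩ A ≤ Z₂(S)`
  have hle2 : P ⊓ A ≤ (upperCentralSeries ↥S 2).map S.subtype := by
    rintro b ⟨hbP, hbA⟩
    rw [mem_Z2_iff]
    refine ⟨hPS hbP, fun s hs => ?_⟩
    obtain ⟨a, ha, u, hu, rfl⟩ := h.decomp hxS hxA hs
    have huP : u ∈ P := (Subgroup.zpowers_le.2 hxP) hu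
    have h1 : b * u * b⁻¹ * u⁻¹ ∈ centralizerIn S S := by
      have := hcomm b⁻¹ (P.inv_mem hbP) u huP
      rw [inv_inv] at this
      have e : b * u * b⁻¹ * u⁻¹ = b * (u * b⁻¹ * u⁻¹) := by group
      rw [e]; exact this
    exact h.comm_mem_center_of_decomp hbA ha h1
  -- `Z₂(S) ∩ A ≤ P`
  have hle3 : ∀ b ∈ A, b ∈ (upperCentralSeries ↥S 2).map S.subtype → b ∈ P := by
    intro b hbA hb2
    have hbS : b ∈ S := h.le hbA
    have hconjP : ∀ c ∈ (upperCentralSeries ↥S 2).map S.subtype, ∀ y ∈ P, c * y * c⁻¹ ∈ P := by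
      intro c hc y hy
      have h1 := (mem_Z2_iff.1 hc).2 y (hPS hy)
      have e : c * y * c⁻¹ = (c * y * c⁻¹ * y⁻¹) * y := by group
      rw [e]
      exact P.mul_mem (hZP h1) hy
    have hbN : b ∈ Subgroup.normalizer (P : Set Ω) := by
      rw [Subgroup.mem_normalizer_iff]
      intro y
      constructor
      · exact hconjP b hb2 y
      · intro hy
        have := hconjP b⁻¹ (Subgroup.inv_mem _ hb2) _ hy
        have e : b⁻¹ * (b * y * b⁻¹) * b⁻¹⁻¹ = y := by group
        rwa [e] at this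
    have hβS : conjAut P b hbN ∈ autInducedBy S P := mem_autInducedBy_iff.2 ⟨b, hbS, fun _ => rfl⟩
    have hβG : conjAut P b hbN ∈ F.autGroup P := autInducedBy_le_autGroup F hPS hβS
    have hβK : conjAut P b hbN ∈ stabGroup (F.autGroup P) (Subgroup.center ↥P) := by
      refine mem_stabGroup_of hβG (fun y => hmemZ' _ ?_) (fun d hd => ?_)
      · show (y : Ω)⁻¹ * (b * (y : Ω) * b⁻¹) ∈ centralizerIn S S
        have h1 := (mem_Z2_iff.1 hb2).2 y (hPS y.2)
        have h2 : (y : Ω) * (b * (y : Ω) * b⁻¹ * (y : Ω)⁻¹) = (b * (y : Ω) * b⁻¹ * (y : Ω)⁻¹) * (y : Ω) :=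
          Subgroup.mem_centralizer_iff.1 h1.2 y (hPS y.2)
        have e : (y : Ω)⁻¹ * (b * (y : Ω) * b⁻¹) = (y : Ω)⁻¹ * ((b * (y : Ω) * b⁻¹ * (y : Ω)⁻¹) * (y : Ω)) := by group
        rw [e, ← h2]
        have e2 : (y : Ω)⁻¹ * ((y : Ω) * (b * (y : Ω) * b⁻¹ * (y : Ω)⁻¹)) = b * (y : Ω) * b⁻¹ * (y : Ω)⁻¹ := by group
        rw [e2]; exact h1
      · apply Subtype.ext
        show b * (d : Ω) * b⁻¹ = d
        have h1 := (hmemZ d hd).2
        have h2 : b * (d : Ω) = (d : Ω) * b := Subgroup.mem_centralizer_iff.1 h1 b hbS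
        rw [h2]; group
    have hKn : ∀ γ ∈ F.autGroup P, ∀ δ ∈ stabGroup (F.autGroup P) (Subgroup.center ↥P),
        γ * δ * γ⁻¹ ∈ stabGroup (F.autGroup P) (Subgroup.center ↥P) := by
      intro γ hγ δ hδ
      refine stabGroup_conj_mem ⟨hγ, fun y => ?_⟩ hδ
      constructor
      · intro hy
        rw [Subgroup.mem_center_iff] at hy ⊢
        intro g
        have := hy (γ g)
        have h2 := congrArg (fun w => γ⁻¹ w) this
        simpa using h2
      · intro hy
        rw [Subgroup.mem_center_iff] at hy ⊢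
        intro g
        have := hy (γ⁻¹ g)
        have h2 := congrArg (fun w => γ w) this
        simpa using h2
    have hKI := Cfsg.Agent.Lib.Helper86.normal_pSubgroup_le_inn (F.autGroup P) M hM
      (stabGroup (F.autGroup P) (Subgroup.center ↥P)) (stabGroup_le _ _) (stabGroup_isPGroup hPp _ _) hKn
    obtain ⟨u, hu⟩ := hKI hβK
    refine mem_of_induces_inner F hcen hbS u.2 (fun y hy => ?_)
    have := congrArg (fun f : MulAut P => ((f ⟨y, hy⟩ : P) : Ω)) hu
    simp only [MulAut.conj_apply] at this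
    exact this.symm
  -- `Z₂(S) ≤ A`
  have h2A : (upperCentralSeries ↥S 2).map S.subtype ≤ A := by
    intro y hy
    by_contra hyA
    have hyS : y ∈ S := Z2_le hy
    have hAP : A ≤ P := by
      intro b hbA
      refine hle3 b hbA ?_
      rw [mem_Z2_iff]
      refine ⟨h.le hbA, fun s hs => ?_⟩
      obtain ⟨a, ha, u, hu, rfl⟩ := h.decomp hyS hyA hs
      have hu2 : u ∈ (upperCentralSeries ↥S 2).map S.subtype := (Subgroup.zpowers_le.2 hy) hu
      have h1 : b * u * b⁻¹ * u⁻¹ ∈ centralizerIn S S := by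
        have := (mem_Z2_iff.1 hu2).2 b (h.le hbA)
        have e : b * u * b⁻¹ * u⁻¹ = (u * b * u⁻¹ * b⁻¹)⁻¹ := by group
        rw [e]
        exact Subgroup.inv_mem _ this
      exact h.comm_mem_center_of_decomp hbA ha h1
    apply hPne
    apply le_antisymm hPS
    intro s hs
    obtain ⟨a, ha, u, hu, rfl⟩ := h.decomp hxS hxA hs
    exact P.mul_mem (hAP ha) ((Subgroup.zpowers_le.2 hxP) hu)
  refine ⟨hcenZ, h2A, le_antisymm hle2 ?_, hrelZ, hcomm⟩
  intro b hb
  exact ⟨hle3 b (h2A hb) hb, h2A hb⟩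

end Oliver4

end Cfsg.Agent.Lib.Helper87
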