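/-
helper87: project DSQW (helper84, statement S5248), module [W-MAIN], part 1:
saturated fusion systems over a wreathed 2-group `X` (`IsWr x y z n`), viewed over `⊤ : Subgroup X`:
generic lemmas on conjugacy of elements, the essential subgroups, `Aut_F(X) = Inn(X)`, the subgroup `A`.
-/
import Mathlib
import Cfsg.Agent.Lib.Helper84.DSQW.Defs
import Cfsg.Agent.Lib.Helper84.Alperin2
import Cfsg.Agent.Lib.Helper87.FusionCore
import Cfsg.Agent.Lib.Helper87.FusionFully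
import Cfsg.Agent.Lib.Helper38.WreathedInv
import Cfsg.Agent.Lib.Helper38.WreathedMore
import Cfsg.Agent.Lib.Helper54.DSQWEssBasic
import Cfsg.Agent.Lib.Helper13.DSQWAgx
import Cfsg.Agent.Lib.Helper13.DSQWConjAut
import Cfsg.Agent.Lib.Helper66.DSQWAutTop
import Cfsg.Agent.Lib.Helper20.DSQWAut
import Cfsg.Agent.Lib.Helper20.DSQWCand
import Cfsg.Agent.Lib.Helper65.DSQWWrA

set_option autoImplicit false

universe u

namespace Cfsg.Agent.Lib.Helper87.DSQWWr

open Cfsg Cfsg.FusionSystem Cfsg.Agent.Lib.Helper84 Cfsg.Agent.Lib.Helper84.DSQW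
  Cfsg.Agent.Lib.Helper38 Cfsg.Agent.Lib.Helper87 Cfsg.Agent.Lib.Helper20.DSQWCand
  Cfsg.Agent.Lib.Helper65.DSQWWrA

/-! ### Generic lemmas -/

section generic

variable {Ω : Type*} [Group Ω] {S : Subgroup Ω}

theorem isConjElt_of_hom (F : FusionSystem S) {P : Subgroup Ω} {φ : P →* Ω} (hφ : φ ∈ F.Hom P)
    (u : P) : F.IsConjElt (u : Ω) (φ u) := by
  have hle : Subgroup.zpowers (u : Ω) ≤ P := Subgroup.zpowers_le.2 u.2
  exact ⟨φ.comp (Subgroup.inclusion hle), restrict_mem F hφ hle, rfl⟩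

theorem isConjElt_of_aut (F : FusionSystem S) {P : Subgroup Ω} (hP : P ≤ S) {α : MulAut P}
    (hα : α ∈ F.autGroup P) (u : P) : F.IsConjElt (u : Ω) ((α u : P) : Ω) :=
  isConjElt_of_hom F ((mem_autGroup_iff F hP).1 hα) u

theorem hom_zpowers_mem {a : Ω} (φ : Subgroup.zpowers a →* Ω) (u : Subgroup.zpowers a) :
    φ u ∈ Subgroup.zpowers (φ ⟨a, Subgroup.mem_zpowers a⟩) := by
  obtain ⟨u, hu⟩ := u
  obtain ⟨k, rfl⟩ := Subgroup.mem_zpowers_iff.1 hu
  have : (⟨a ^ k, hu⟩ : Subgroup.zpowers a) =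
      (⟨a, Subgroup.mem_zpowers a⟩ : Subgroup.zpowers a) ^ k := Subtype.ext rfl
  rw [this, map_zpow]
  exact Subgroup.zpow_mem_zpowers _ k

theorem isConjElt_trans (F : FusionSystem S) {a b c : Ω} (h₁ : F.IsConjElt a b)
    (h₂ : F.IsConjElt b c) : F.IsConjElt a c := by
  obtain ⟨φ, hφm, hφ⟩ := h₁
  obtain ⟨ψ, hψm, hψ⟩ := h₂
  have hr : ∀ u : Subgroup.zpowers a, φ u ∈ Subgroup.zpowers b := by
    intro u
    have := hom_zpowers_mem φ u
    rwa [hφ] at this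
  refine ⟨ψ.comp (φ.codRestrict _ hr), F.comp_mem hφm hψm hr, ?_⟩
  change ψ ⟨φ ⟨a, _⟩, _⟩ = c
  rw [← hψ]
  congr 1
  exact Subtype.ext hφ

theorem isConjElt_conj (F : FusionSystem S) {a g : Ω} (ha : a ∈ S) (hg : g ∈ S) :
    F.IsConjElt a (g * a * g⁻¹) :=
  ⟨conjHom _ g, F.conj_mem (Subgroup.zpowers_le.2 ha) hg, rfl⟩

/-- a set respected by all maps of the system is respected by conjugacy of elements -/
theorem mem_iff_of_isConjElt (F : FusionSystem S) (Y : Set Ω)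
    (hY : ∀ (P : Subgroup Ω) (φ : P →* Ω), φ ∈ F.Hom P → ∀ u : P, ((u : Ω) ∈ Y ↔ φ u ∈ Y))
    {a b : Ω} (hab : F.IsConjElt a b) : a ∈ Y ↔ b ∈ Y := by
  obtain ⟨φ, hφ, rfl⟩ := hab
  exact hY _ φ hφ ⟨a, Subgroup.mem_zpowers a⟩

/-- transport of "is a `p`-group" along an isomorphism of the ambient automorphism groups -/
theorem isPGroup_of_map_equiv {M N : Type*} [Group M] [Group N] {p : ℕ} (e : M ≃* N) (K : Subgroup M)
    (h : IsPGroup p (K.map e.toMonoidHom)) : IsPGroup p K :=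
  h.of_equiv (Subgroup.equivMapOfInjective K e.toMonoidHom e.injective).symm

end generic

/-! ### The wreathed group -/

variable {X : Type u} [Group X] {x y z : X} {n : ℕ}

theorem isPGroup_top (h : IsWr x y z n) : IsPGroup 2 ↥(⊤ : Subgroup X) :=
  (IsPGroup.of_card h.card).to_subgroup ⊤

theorem finite_top (h : IsWr x y z n) : Finite ↥(⊤ : Subgroup X) := by
  have := h.finite
  infer_instance

theorem isPGroup_mulAut_top (h : IsWr x y z n) : IsPGroup 2 (MulAut ↥(⊤ : Subgroup X)) :=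
  (Cfsg.Agent.Lib.Helper20.DSQWAut.wr_isPGroup_mulAut h).of_equiv
    (MulAut.congr (Subgroup.topEquiv : (⊤ : Subgroup X) ≃* X)).symm

/-- `Aut_F(X) = Inn(X)`: every `F`-automorphism of `X` is a conjugation. -/
theorem exists_conj_of_mem_autGroup_top (h : IsWr x y z n) (F : FusionSystem (⊤ : Subgroup X))
    (hF : F.IsSaturated 2) {α : MulAut ↥(⊤ : Subgroup X)} (hα : α ∈ F.autGroup ⊤) :
    ∃ g : X, ∀ u : ↥(⊤ : Subgroup X), ((α u : ↥(⊤ : Subgroup X)) : X) = g * (u : X) * g⁻¹ := by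
  have := finite_top h
  have : Fact (Nat.Prime 2) := ⟨Nat.prime_two⟩
  have hinn := Cfsg.Agent.Lib.Helper66.DSQWAutTop.autGroup_top_eq_inn F (isPGroup_top h) hF
    (isPGroup_mulAut_top h)
  rw [hinn] at hα
  obtain ⟨g, rfl⟩ := hα
  exact ⟨(g : X), fun u => rfl⟩

/-! ### elements -/

theorem x0_mem_A (h : IsWr x y z n) : x ^ 2 ^ (n - 1) ∈ h.A := by
  rw [← x0_coe h]; exact (x0 h).2

theorem x0_ne_z0 (h : IsWr x y z n) : x ^ 2 ^ (n - 1) ≠ (x * y) ^ 2 ^ (n - 1) := by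
  rw [← x0_coe h, ← z0_coe h]
  intro h1
  have h2 : al x y ((2 ^ (n - 1) : ℕ) : ℤ) 0 =
      al x y ((2 ^ (n - 1) : ℕ) : ℤ) ((2 ^ (n - 1) : ℕ) : ℤ) := h1
  rw [h.al_eq_al_iff] at h2
  have h3 := h2.2
  rw [zero_sub, dvd_neg] at h3
  exact h.not_N_dvd_M h3

theorem orderOf_x0 (h : IsWr x y z n) : orderOf (x ^ 2 ^ (n - 1)) = 2 := by
  rw [← x0_coe h]; exact h.orderOf_a

theorem orderOf_z0 (h : IsWr x y z n) : orderOf ((x * y) ^ 2 ^ (n - 1)) = 2 := by
  rw [← z0_coe h]; exact h.orderOf_ab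

theorem z0_central (h : IsWr x y z n) (g : X) :
    g * (x * y) ^ 2 ^ (n - 1) * g⁻¹ = (x * y) ^ 2 ^ (n - 1) := by
  have hc : (x * y) ^ 2 ^ (n - 1) ∈ Subgroup.center X := by
    rw [h.center_eq]; exact Subgroup.pow_mem _ (Subgroup.mem_zpowers _) _
  rw [Subgroup.mem_center_iff] at hc
  rw [hc g, mul_inv_cancel_right]

theorem conj_z_x0_ne (h : IsWr x y z n) : z * x ^ 2 ^ (n - 1) * z⁻¹ ≠ x ^ 2 ^ (n - 1) := by
  rw [← x0_coe h]
  intro h1
  have h2 : z * al x y ((2 ^ (n - 1) : ℕ) : ℤ) 0 * z⁻¹ = al x y ((2 ^ (n - 1) : ℕ) : ℤ) 0 := h1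
  rw [conj_z_al h, h.al_eq_al_iff] at h2
  have h3 := h2.1
  rw [zero_sub, dvd_neg] at h3
  exact h.not_N_dvd_M h3

theorem conj_z_x_ne (h : IsWr x y z n) : z * x * z⁻¹ ≠ x := by
  rw [h.hzx]
  intro h1
  have h2 : al x y 0 1 = al x y 1 0 := by simp [al, h1]
  rw [h.al_eq_al_iff] at h2
  have h3 := h2.2
  rw [sub_zero] at h3
  exact h.not_dvd_one h3

/-- the only central involution is `z₀` -/
theorem eq_z0_of_central (h : IsWr x y z n) {t : X} (ht : orderOf t = 2)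
    (hc : ∀ g : X, g * t * g⁻¹ = t) : t = (x * y) ^ 2 ^ (n - 1) := by
  rcases h.involution_cases ht with rfl | rfl | rfl | ⟨i, rfl⟩
  · exfalso
    have := hc z
    rw [conj_z_al h, h.al_eq_al_iff] at this
    have h3 := this.1
    rw [zero_sub, dvd_neg] at h3
    exact h.not_N_dvd_M h3
  · exfalso
    have := hc z
    rw [conj_z_al h, h.al_eq_al_iff] at this
    have h3 := this.1
    rw [sub_zero] at h3
    exact h.not_N_dvd_M h3
  · exact z0_coe h
  · exfalso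
    apply h.alz_notMem_center i (-i)
    rw [Subgroup.mem_center_iff]
    intro g
    have := hc g
    calc g * (al x y i (-i) * z) = (g * (al x y i (-i) * z) * g⁻¹) * g := by group
      _ = al x y i (-i) * z * g := by rw [this]

/-! ### The subgroup `A` -/

theorem eq_A_of_isConj (h : IsWr x y z n) (F : FusionSystem (⊤ : Subgroup X)) {Q : Subgroup X}
    (hQ : F.IsConj h.A Q) : Q = h.A := by
  obtain ⟨e, -⟩ := (isConj_iff F).1 hQ
  have hcomm : IsMulCommutative Q := by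
    refine ⟨⟨fun a b => ?_⟩⟩
    have h1 : e.symm a * e.symm b = e.symm b * e.symm a := Subtype.ext (h.A_comm (e.symm a).2 (e.symm b).2)
    rw [← map_mul, ← map_mul] at h1
    exact e.symm.injective h1
  have hcard : Nat.card Q = 2 ^ (2 * n) := by
    rw [← Nat.card_congr e.toEquiv, h.card_A]
  exact eq_A_of_comm_card h Q hcomm hcard

theorem isFullyNormalized_A (h : IsWr x y z n) (F : FusionSystem (⊤ : Subgroup X)) :
    F.IsFullyNormalized h.A := by
  refine ⟨le_top, fun Q hQ => ?_⟩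
  rw [eq_A_of_isConj h F hQ]

theorem isCentric_A (h : IsWr x y z n) (F : FusionSystem (⊤ : Subgroup X)) : F.IsCentric h.A := by
  refine ⟨le_top, fun Q hQ => ?_⟩
  rw [eq_A_of_isConj h F hQ]
  intro g hg
  have : g ∈ Subgroup.centralizer (h.A : Set X) := hg.2
  rwa [wr_centralizer_A h] at this

theorem isFullyAutomized_A (h : IsWr x y z n) (F : FusionSystem (⊤ : Subgroup X))
    (hF : F.IsSaturated 2) :
    ∃ R : Sylow 2 (F.autGroup h.A),
      (R : Subgroup (F.autGroup h.A)) = (autInducedBy ⊤ h.A).subgroupOf (F.autGroup h.A) := by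
  have := finite_top h
  have : Fact (Nat.Prime 2) := ⟨Nat.prime_two⟩
  exact (fullyAutomized_receptive_of_fullyNormalized F (isPGroup_top h) hF
    (isFullyNormalized_A h F)).1.2

/-! ### Essential subgroups -/

theorem essential_cases (h : IsWr x y z n) (F : FusionSystem (⊤ : Subgroup X))
    (hF : F.IsSaturated 2) {E : Subgroup X} (hE : F.IsEssential 2 E) :
    (E = h.A ∨ WrE E) ∧ ¬ IsPGroup 2 (F.autGroup E) := by
  have := finite_top h
  have : Fact (Nat.Prime 2) := ⟨Nat.prime_two⟩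
  obtain ⟨-, hne, hC, hA⟩ :=
    Cfsg.Agent.Lib.Helper54.DSQW.essential_basic F (isPGroup_top h) hF hE
  refine ⟨wr_cand h E hne (fun g hg => hC ⟨Subgroup.mem_top g, hg⟩) (fun hp => hA (hp.to_subgroup _)), hA⟩

theorem essential_fullyAutomized (h : IsWr x y z n) (F : FusionSystem (⊤ : Subgroup X))
    (hF : F.IsSaturated 2) {E : Subgroup X} (hE : F.IsEssential 2 E) :
    ∃ R : Sylow 2 (F.autGroup E),
      (R : Subgroup (F.autGroup E)) = (autInducedBy ⊤ E).subgroupOf (F.autGroup E) := by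
  have := finite_top h
  have : Fact (Nat.Prime 2) := ⟨Nat.prime_two⟩
  exact (fullyAutomized_receptive_of_fullyNormalized F (isPGroup_top h) hF hE.2.1).1.2

/-- **TwoClasses**: among three essential subgroups two are conjugate. -/
theorem twoClasses (h : IsWr x y z n) (F : FusionSystem (⊤ : Subgroup X)) (hF : F.IsSaturated 2) :
    TwoClasses F := by
  have key : ∀ E E' : Subgroup X, F.IsEssential 2 E → F.IsEssential 2 E' →
      ((E = h.A ∧ E' = h.A) ∨ (WrE E ∧ WrE E')) → ∃ φ ∈ F.Hom E, φ.range = E' := by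
    intro E E' _ _ hc
    rcases hc with ⟨rfl, rfl⟩ | ⟨hE, hE'⟩
    · exact ⟨_, subtype_mem F le_top, Subgroup.range_subtype _⟩
    · obtain ⟨s, rfl⟩ := wr_cand_conj h E E' hE hE'
      refine ⟨conjHom E s, F.conj_mem le_top (Subgroup.mem_top s), ?_⟩
      unfold conjHom
      rw [MonoidHom.range_comp, Subgroup.range_subtype]
  intro E₁ E₂ E₃ h₁ h₂ h₃
  rcases (essential_cases h F hF h₁).1 with a₁ | a₁ <;>
  rcases (essential_cases h F hF h₂).1 with a₂ | a₂ <;>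
  rcases (essential_cases h F hF h₃).1 with a₃ | a₃
  · exact Or.inl (key _ _ h₁ h₂ (Or.inl ⟨a₁, a₂⟩))
  · exact Or.inl (key _ _ h₁ h₂ (Or.inl ⟨a₁, a₂⟩))
  · exact Or.inr (Or.inl (key _ _ h₁ h₃ (Or.inl ⟨a₁, a₃⟩)))
  · exact Or.inr (Or.inr (key _ _ h₂ h₃ (Or.inr ⟨a₂, a₃⟩)))
  · exact Or.inr (Or.inr (key _ _ h₂ h₃ (Or.inl ⟨a₂, a₃⟩)))
  · exact Or.inr (Or.inl (key _ _ h₁ h₃ (Or.inr ⟨a₁, a₃⟩)))
  · exact Or.inl (key _ _ h₁ h₂ (Or.inr ⟨a₁, a₂⟩))
  · exact Or.inl (key _ _ h₁ h₂ (Or.inr ⟨a₁, a₂⟩))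

/-! ### Activity and fusion, the part about `A` -/

/-- `A` active `⇒` `x₀ ∼ z₀`. -/
theorem fusedA_of_act (h : IsWr x y z n) (F : FusionSystem (⊤ : Subgroup X))
    (hact : ¬ IsPGroup 2 (F.autGroup h.A)) :
    F.IsConjElt (x ^ 2 ^ (n - 1)) ((x * y) ^ 2 ^ (n - 1)) := by
  obtain ⟨α, hα, u, hu, hαu⟩ := wrA_move h (F.autGroup h.A) hact
  have := isConjElt_of_aut F le_top hα u
  rwa [hu, hαu] at this

/-- conjugacy of `WrE` subgroups transports activity -/
theorem act_of_conj (h : IsWr x y z n) (F : FusionSystem (⊤ : Subgroup X)) {E E' : Subgroup X}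
    (hE : WrE E) (hE' : WrE E') (hact : ¬ IsPGroup 2 (F.autGroup E)) :
    ¬ IsPGroup 2 (F.autGroup E') := by
  obtain ⟨s, rfl⟩ := wr_cand_conj h E E' hE hE'
  obtain ⟨e, he, -⟩ := Cfsg.Agent.Lib.Helper13.DSQW.exists_autGroup_conj F (le_top : E ≤ ⊤) s
    (Subgroup.mem_top s)
  intro hp
  apply hact
  rw [← he] at hp
  exact isPGroup_of_map_equiv e _ hp

end Cfsg.Agent.Lib.Helper87.DSQWWr
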