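/-
helper87: project DSQW (helper84, statement S5248), module [W-MAIN], part 2:
saturated fusion systems over a wreathed 2-group: activity of `A` / of the subgroups `Q ∗ Z` is detected by fusion of
involutions, and a saturated system is determined by its fusion pattern and `Aut_F(A)`.
-/
import Mathlib
import Cfsg.Agent.Lib.Helper87.DSQWWrBasic
import Cfsg.Agent.Lib.Helper86.DSQW.WrEStr

set_option autoImplicit false

universe u

namespace Cfsg.Agent.Lib.Helper87.DSQWWr

open Cfsg Cfsg.FusionSystem Cfsg.Agent.Lib.Helper84 Cfsg.Agent.Lib.Helper84.DSQW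
  Cfsg.Agent.Lib.Helper38 Cfsg.Agent.Lib.Helper87 Cfsg.Agent.Lib.Helper20.DSQWCand
  Cfsg.Agent.Lib.Helper65.DSQWWrA

variable {X : Type u} [Group X] {x y z : X} {n : ℕ}

/-- some `WrE` subgroup active `⇒` `x₀ ∼ z`. -/
theorem fusedE_of_act (h : IsWr x y z n) (F : FusionSystem (⊤ : Subgroup X)) {E : Subgroup X}
    (hE : WrE E) (hact : ¬ IsPGroup 2 (F.autGroup E)) : F.IsConjElt (x ^ 2 ^ (n - 1)) z := by
  obtain ⟨α, hα, u, hu, hαu⟩ := Cfsg.Agent.Lib.Helper86.DSQW.wrE_move h E hE (F.autGroup E) hact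
  have h1 := isConjElt_of_aut F le_top hα u
  rw [hu] at h1
  have hord : orderOf ((α u : E) : X) = 2 := by
    rw [Subgroup.orderOf_coe, MulEquiv.orderOf_eq, ← Subgroup.orderOf_coe, hu, orderOf_x0 h]
  have h2 : F.IsConjElt ((α u : E) : X) z := by
    rcases h.involution_cases hord with h3 | h3 | h3 | ⟨i, h3⟩
    · exact absurd (h3 ▸ h.al_mem_A _ _) hαu
    · exact absurd (h3 ▸ h.al_mem_A _ _) hαu
    · exact absurd (h3 ▸ h.al_mem_A _ _) hαu
    · rw [h3]
      have := isConjElt_conj F (a := al x y i (-i) * z) (g := al x y (-i) 0)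
        (Subgroup.mem_top _) (Subgroup.mem_top _)
      rwa [h.conj_to_z] at this
  exact isConjElt_trans F h1 h2

/-- `A` not active `⇒` `x₀ ≁ z₀`. -/
theorem not_fusedA_of_not_act (h : IsWr x y z n) (F : FusionSystem (⊤ : Subgroup X))
    (hF : F.IsSaturated 2) (hnact : IsPGroup 2 (F.autGroup h.A)) :
    ¬ F.IsConjElt (x ^ 2 ^ (n - 1)) ((x * y) ^ 2 ^ (n - 1)) := by
  have := finite_top h
  have : Fact (Nat.Prime 2) := ⟨Nat.prime_two⟩
  intro hfus
  have hY := Cfsg.Agent.Lib.Helper13.DSQW.closed_of_essential F (isPGroup_top h) hF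
    ({(x * y) ^ 2 ^ (n - 1)} : Set X) ?_
  · have := (mem_iff_of_isConjElt F _ hY hfus).2 rfl
    exact x0_ne_z0 h this
  · intro P hP α hα u
    simp only [Set.mem_singleton_iff]
    rcases hP with rfl | hP
    · obtain ⟨g, hg⟩ := exists_conj_of_mem_autGroup_top h F hF hα
      rw [hg u]
      constructor
      · intro hu; rw [hu, z0_central h]
      · intro hu
        have : (u : X) = g⁻¹ * (g * (u : X) * g⁻¹) * g⁻¹⁻¹ := by group
        rw [this, hu, z0_central h]
    · obtain ⟨hc, hact⟩ := essential_cases h F hF hP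
      rcases hc with rfl | hc
      · exact absurd hnact hact
      · constructor
        · intro hu; exact Cfsg.Agent.Lib.Helper86.DSQW.wrE_fix h P hc α u hu
        · intro hu
          have := Cfsg.Agent.Lib.Helper86.DSQW.wrE_fix h P hc α⁻¹ (α u) hu
          rwa [MulAut.inv_apply_self] at this

/-- no `WrE` subgroup active `⇒` `x₀ ≁ z`. -/
theorem not_fusedE_of_not_act (h : IsWr x y z n) (F : FusionSystem (⊤ : Subgroup X))
    (hF : F.IsSaturated 2) (hnact : ∀ E : Subgroup X, WrE E → IsPGroup 2 (F.autGroup E)) :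
    ¬ F.IsConjElt (x ^ 2 ^ (n - 1)) z := by
  have := finite_top h
  have : Fact (Nat.Prime 2) := ⟨Nat.prime_two⟩
  have hAn := h.A_normal
  intro hfus
  have hY := Cfsg.Agent.Lib.Helper13.DSQW.closed_of_essential F (isPGroup_top h) hF
    (h.A : Set X) ?_
  · have := (mem_iff_of_isConjElt F _ hY hfus).1 (x0_mem_A h)
    exact h.z_notMem_A this
  · intro P hP α hα u
    simp only [SetLike.mem_coe]
    rcases hP with rfl | hP
    · obtain ⟨g, hg⟩ := exists_conj_of_mem_autGroup_top h F hF hα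
      rw [hg u]
      constructor
      · intro hu; exact hAn.conj_mem _ hu g
      · intro hu
        have : (u : X) = g⁻¹ * (g * (u : X) * g⁻¹) * g⁻¹⁻¹ := by group
        rw [this]
        exact hAn.conj_mem _ hu g⁻¹
    · obtain ⟨hc, hact⟩ := essential_cases h F hF hP
      rcases hc with rfl | hc
      · exact ⟨fun _ => (α u).2, fun _ => u.2⟩
      · exact absurd (hnact P hc) hact

/-- `x₀ ∼ z` `⇒` every `WrE` subgroup is active -/
theorem act_of_fusedE (h : IsWr x y z n) (F : FusionSystem (⊤ : Subgroup X))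
    (hF : F.IsSaturated 2) (hfus : F.IsConjElt (x ^ 2 ^ (n - 1)) z) {E : Subgroup X} (hE : WrE E) :
    ¬ IsPGroup 2 (F.autGroup E) := by
  by_contra hp
  apply not_fusedE_of_not_act h F hF _ hfus
  intro E' hE'
  by_contra hact
  exact act_of_conj h F hE' hE hact hp

/-- the rigidity statement `wrE_rigid` of module [W-ESTR], as a hypothesis -/
def Rigid (_h : IsWr x y z n) : Prop :=
  ∀ (E : Subgroup X), WrE E → ∀ (K₁ K₂ : Subgroup (MulAut E)),
    autInducedBy ⊤ E ≤ K₁ → autInducedBy ⊤ E ≤ K₂ →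
    (∃ R : Sylow 2 K₁, (R : Subgroup K₁) = (autInducedBy ⊤ E).subgroupOf K₁) →
    ¬ IsPGroup 2 K₁ → ¬ IsPGroup 2 K₂ → K₁ ≤ K₂

/-- **[W-EQ]**, one inclusion. -/
theorem hom_subset (h : IsWr x y z n) (hrig : Rigid h) (F F' : FusionSystem (⊤ : Subgroup X))
    (hF : F.IsSaturated 2) (hF' : F'.IsSaturated 2)
    (hA : ¬ IsPGroup 2 (F.autGroup h.A) → F.autGroup h.A ≤ F'.autGroup h.A)
    (hE : F.IsConjElt (x ^ 2 ^ (n - 1)) z → F'.IsConjElt (x ^ 2 ^ (n - 1)) z) :
    ∀ P : Subgroup X, F.Hom P ⊆ F'.Hom P := by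
  have := finite_top h
  have : Fact (Nat.Prime 2) := ⟨Nat.prime_two⟩
  apply alperin_goldschmidt F F' (isPGroup_top h) hF
  intro P hP
  rcases hP with rfl | hP
  · intro α hα
    obtain ⟨g, hg⟩ := exists_conj_of_mem_autGroup_top h F hF hα
    apply autInducedBy_le_autGroup F' le_rfl
    rw [mem_autInducedBy_iff]
    exact ⟨g, Subgroup.mem_top g, hg⟩
  · obtain ⟨hc, hact⟩ := essential_cases h F hF hP
    rcases hc with rfl | hc
    · exact hA hact
    · have hact' : ¬ IsPGroup 2 (F'.autGroup P) :=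
        act_of_fusedE h F' hF' (hE (fusedE_of_act h F hc hact)) hc
      exact hrig P hc (F.autGroup P) (F'.autGroup P) (autInducedBy_le_autGroup F le_top)
        (autInducedBy_le_autGroup F' le_top) (essential_fullyAutomized h F hF hP) hact hact'

/-- **[W-EQ]**: a saturated fusion system over a wreathed 2-group is determined by its fusion pattern and by
`Aut_F(A)`. -/
theorem hom_eq (h : IsWr x y z n) (hrig : Rigid h) (F F' : FusionSystem (⊤ : Subgroup X))
    (hF : F.IsSaturated 2) (hF' : F'.IsSaturated 2)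
    (hA : (¬ IsPGroup 2 (F.autGroup h.A) ∨ ¬ IsPGroup 2 (F'.autGroup h.A)) →
      F.autGroup h.A = F'.autGroup h.A)
    (hE : F.IsConjElt (x ^ 2 ^ (n - 1)) z ↔ F'.IsConjElt (x ^ 2 ^ (n - 1)) z) :
    ∀ P : Subgroup X, F.Hom P = F'.Hom P := by
  intro P
  apply Set.Subset.antisymm
  · exact hom_subset h hrig F F' hF hF' (fun ha => (hA (Or.inl ha)).le) hE.1 P
  · exact hom_subset h hrig F' F hF' hF (fun ha => (hA (Or.inr ha)).ge) hE.2 P

end Cfsg.Agent.Lib.Helper87.DSQWWr
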