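/-
helper87: project DSQW (helper84, statement S5248), module [W-MAIN], part 3:
every saturated fusion system over a wreathed 2-group is realizable; the main theorem `wr_main`.
-/
import Mathlib
import Cfsg.Agent.Lib.Helper87.DSQWWrFus
import Cfsg.Agent.Lib.Helper65.DSQWWrNorm
import Cfsg.Agent.Lib.Helper20.DSQWIso
import Cfsg.Agent.Lib.Helper54.DSQWPullback
import Cfsg.Agent.Lib.Helper98.DSQWPsl3
import Cfsg.Agent.Lib.Helper49.DSQWWRQ
import Cfsg.Agent.S5090

set_option autoImplicit false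

universe u

namespace Cfsg.Agent.Lib.Helper87.DSQWWr

open Cfsg Cfsg.FusionSystem Cfsg.Agent.Lib.Helper84 Cfsg.Agent.Lib.Helper84.DSQW
  Cfsg.Agent.Lib.Helper38 Cfsg.Agent.Lib.Helper87 Cfsg.Agent.Lib.Helper20.DSQWCand
  Cfsg.Agent.Lib.Helper65.DSQWWrA Cfsg.Agent.Lib.Helper54.DSQW

/-! ### Normalization of the generators (helper65's `wr_norm` without its unused hypothesis) -/

section norm

variable {X : Type*} [Group X] {x y z : X} {n : ℕ}

theorem wr_norm' (h : IsWr x y z n) (K : Subgroup (MulAut h.A)) (hU : autInducedBy ⊤ h.A ≤ K)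
    (hs : ∃ R : Sylow 2 K, (R : Subgroup K) = (autInducedBy ⊤ h.A).subgroupOf K)
    (hK : ¬ IsPGroup 2 K) :
    ∃ (x' : X) (σ : MulAut h.A), IsWr x' (z * x' * z⁻¹) z n ∧ σ ∈ K ∧ orderOf σ = 3 ∧
      ∀ u v : h.A, (u : X) = x' → (v : X) = z * x' * z⁻¹ →
        ((σ u : h.A) : X) = z * x' * z⁻¹ ∧ ((σ v : h.A) : X) = x'⁻¹ * (z * x' * z⁻¹)⁻¹ := by
  have T := tri h
  have hN := T.fixN_inf (tau h) (tau_x0 h) _ K (mem_autInduced h) hs
  obtain ⟨σ, hσK, hσ⟩ := T.exists_cycle K hK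
  obtain ⟨hord, hxy, hσy, hinf⟩ := T.norm_core (tau h) σ (tau_x0 h) (tau_y0 h) (tau_mul_tau h) K hN
    (hU (tau_mem h)) hσK hσ (w0 h) (tau_w0 h)
  have hy' : z * ((σ (w0 h) : h.A) : X) * z⁻¹ = ((tau h (σ (w0 h)) : h.A) : X) :=
    (tau_coe h _).symm
  refine ⟨((σ (w0 h) : h.A) : X), σ, ?_, hσK, hord, ?_⟩
  · refine ⟨h.hn, h.card, ?_, ?_, ?_, h.hz, rfl⟩
    · rw [Subgroup.orderOf_coe, MulEquiv.orderOf_eq, ← Subgroup.orderOf_coe, w0_coe, h.orderOf_xy]
    · rw [hy']
      exact h.A_comm (σ (w0 h)).2 (tau h (σ (w0 h))).2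
    · rw [Subgroup.eq_bot_iff_forall]
      intro g hg
      rw [Subgroup.mem_inf, Subgroup.mem_zpowers_iff, Subgroup.mem_zpowers_iff] at hg
      obtain ⟨⟨i, hi⟩, ⟨j, hj⟩⟩ := hg
      rw [hy'] at hj
      have hij : (σ (w0 h)) ^ i = (tau h (σ (w0 h))) ^ j := by
        apply Subtype.ext
        rw [Subgroup.coe_zpow, Subgroup.coe_zpow, hi, hj]
      have h1 := hinf i j hij
      rw [← hi, ← Subgroup.coe_zpow, h1]
      rfl
  · intro u v hu hv
    have hu' : u = σ (w0 h) := Subtype.ext hu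
    have hv' : v = tau h (σ (w0 h)) := Subtype.ext (by rw [hv, hy'])
    rw [hu', hv', hxy, hσy, hy']
    refine ⟨rfl, ?_⟩
    rw [Subgroup.coe_mul, Subgroup.coe_inv, Subgroup.coe_inv]

/-- the value of an automorphism of a subgroup on `x₁^i y₁^j` -/
theorem aut_apply_al {x₁ y₁ : X} (B : Subgroup X) (σ : MulAut B) (hx : x₁ ∈ B) (hy : y₁ ∈ B) (a b : X)
    (hσx : ((σ ⟨x₁, hx⟩ : B) : X) = a) (hσy : ((σ ⟨y₁, hy⟩ : B) : X) = b) (i j : ℤ)
    (hu : al x₁ y₁ i j ∈ B) : ((σ ⟨al x₁ y₁ i j, hu⟩ : B) : X) = a ^ i * b ^ j := by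
  have : (⟨al x₁ y₁ i j, hu⟩ : B) = (⟨x₁, hx⟩ : B) ^ i * (⟨y₁, hy⟩ : B) ^ j := by
    apply Subtype.ext
    rw [Subgroup.coe_mul, Subgroup.coe_zpow, Subgroup.coe_zpow]
    rfl
  rw [this, map_mul, map_zpow, map_zpow, Subgroup.coe_mul, Subgroup.coe_zpow, Subgroup.coe_zpow,
    hσx, hσy]

end norm

open scoped Pointwise in
/-- a central involution lies in every Sylow 2-subgroup -/
theorem central_mem_sylow {G : Type*} [Group G] [Finite G] (T : Sylow 2 G) (t : G)
    (ht : t ∈ Subgroup.center G) (ho : orderOf t = 2) : t ∈ (T : Subgroup G) := by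
  have : Fact (Nat.Prime 2) := ⟨Nat.prime_two⟩
  have hp : IsPGroup 2 (Subgroup.zpowers t) :=
    IsPGroup.of_card (n := 1) (by rw [Nat.card_zpowers, ho, pow_one])
  obtain ⟨Q, hQ⟩ := hp.exists_le_sylow
  obtain ⟨g, rfl⟩ := MulAction.exists_smul_eq G Q T
  have htQ : t ∈ (Q : Subgroup G) := hQ (Subgroup.mem_zpowers t)
  rw [Sylow.coe_subgroup_smul]
  have h1 : MulAut.conj g • t ∈ MulAut.conj g • (Q : Subgroup G) :=
    Subgroup.smul_mem_pointwise_smul _ _ _ htQ
  have h2 : MulAut.conj g • t = t := by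
    rw [MulAut.smul_def, MulAut.conj_apply]
    rw [Subgroup.mem_center_iff] at ht
    rw [ht g, mul_inv_cancel_right]
  rwa [h2] at h1

variable {X : Type u} [Group X] {x y z : X} {n : ℕ}

/-! ### no `WrE` subgroup active: the system is constrained -/

theorem isNormal_A (h : IsWr x y z n) (F : FusionSystem (⊤ : Subgroup X)) (hF : F.IsSaturated 2)
    (hnact : ∀ E : Subgroup X, WrE E → IsPGroup 2 (F.autGroup E)) : F.IsNormal h.A := by
  have := finite_top h
  have : Fact (Nat.Prime 2) := ⟨Nat.prime_two⟩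
  have hAn := h.A_normal
  apply isNormal_of_forall_essential F (isPGroup_top h) hF
  intro P hP
  rcases hP with rfl | hP
  · refine ⟨le_top, fun α hα => ?_⟩
    obtain ⟨g, hg⟩ := exists_conj_of_mem_autGroup_top h F hF hα
    ext u
    rw [Subgroup.mem_map, Subgroup.mem_subgroupOf]
    constructor
    · rintro ⟨v, hv, rfl⟩
      rw [Subgroup.mem_subgroupOf] at hv
      show ((α v : ↥(⊤ : Subgroup X)) : X) ∈ h.A
      rw [hg v]
      exact hAn.conj_mem _ hv g
    · intro hu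
      refine ⟨α⁻¹ u, ?_, by simp⟩
      rw [Subgroup.mem_subgroupOf]
      have h1 := hg (α⁻¹ u)
      rw [MulAut.apply_inv_self] at h1
      have h2 : ((α⁻¹ u : ↥(⊤ : Subgroup X)) : X) = g⁻¹ * (u : X) * g⁻¹⁻¹ := by
        rw [h1]; group
      rw [h2]
      exact hAn.conj_mem _ hu g⁻¹
  · obtain ⟨hc, hact⟩ := essential_cases h F hF hP
    rcases hc with rfl | hc
    · refine ⟨le_rfl, fun α _ => ?_⟩
      have htop : (h.A).subgroupOf h.A = ⊤ := Subgroup.subgroupOf_self _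
      rw [htop]
      exact Subgroup.map_top_of_surjective _ α.surjective
    · exact absurd (hnact P hc) hact

theorem realizable_constrained (h : IsWr x y z n) (F : FusionSystem (⊤ : Subgroup X))
    (hF : F.IsSaturated 2) (hnact : ∀ E : Subgroup X, WrE E → IsPGroup 2 (F.autGroup E)) :
    F.IsRealizable 2 := by
  have := finite_top h
  have : Fact (Nat.Prime 2) := ⟨Nat.prime_two⟩
  have hcons : F.IsConstrained 2 := ⟨hF, h.A, isNormal_A h F hF hnact, isCentric_A h F⟩
  obtain ⟨G, hG, ι, hfin, hreal, hsyl, -⟩ := Cfsg.Agent.S5090.result 2 (isPGroup_top h) F hcons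
  exact ⟨G, hG, hfin, ι, hreal, hsyl⟩

/-! ### the groups -/

section groups

variable {G : Type} [Group G] {T : Sylow 2 G}

theorem orderOf_e_coe (e : X ≃* (T : Subgroup G)) (a : X) : orderOf ((e a : (T : Subgroup G)) : G) = orderOf a := by
  rw [Subgroup.orderOf_coe, MulEquiv.orderOf_eq]

theorem e_conj_coe (e : X ≃* (T : Subgroup G)) (a b : X) :
    ((e (a * b * a⁻¹) : (T : Subgroup G)) : G) = (e a : G) * (e b : G) * (e a : G)⁻¹ := by
  rw [map_mul, map_mul, map_inv, Subgroup.coe_mul, Subgroup.coe_mul, Subgroup.coe_inv]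

/-- `A` not active, some `WrE` active: realized by the group of [WRQ]. -/
theorem realizable_quat (h : IsWr x y z n) (hrig : Rigid h) (F : FusionSystem (⊤ : Subgroup X))
    (hF : F.IsSaturated 2) (hnA : IsPGroup 2 (F.autGroup h.A)) {E : Subgroup X} (hE : WrE E)
    (hactE : ¬ IsPGroup 2 (F.autGroup E)) : F.IsRealizable 2 := by
  obtain ⟨G, _, _, T, hTw, hTc, ⟨t, htc, hto⟩, hconj⟩ :=
    Cfsg.Agent.Lib.Helper49.DSQWWRQ.exists_group_wr_quat n h.hn
  obtain ⟨x', y', z', h'⟩ := exists_isWr_of_card hTw n hTc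
  obtain ⟨e, hex, hey, hez⟩ := Cfsg.Agent.Lib.Helper20.DSQWIso.wr_exists_equiv h h'
  apply isRealizable_of_hom_eq_pb T e F
  apply hom_eq h hrig F (pb e) hF (pb_isSaturated T e)
  · rintro (ha | ha)
    · exact absurd hnA ha
    · exfalso
      have hfus := fusedA_of_act h (pb e) ha
      rw [isConjElt_pb_iff] at hfus
      obtain ⟨g, hg⟩ := hfus
      have htT : t ∈ (T : Subgroup G) := central_mem_sylow T t htc hto
      have hcen : ∀ g : G, g * t * g⁻¹ = t := by
        intro g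
        rw [Subgroup.mem_center_iff] at htc
        rw [htc g, mul_inv_cancel_right]
      have ht' : e.symm ⟨t, htT⟩ = (x * y) ^ 2 ^ (n - 1) := by
        apply eq_z0_of_central h
        · rw [MulEquiv.orderOf_eq, ← Subgroup.orderOf_coe]; exact hto
        · intro a
          apply e.injective
          apply Subtype.ext
          rw [e_conj_coe, MulEquiv.apply_symm_apply]
          exact hcen _
      have hez0 : ((e ((x * y) ^ 2 ^ (n - 1)) : (T : Subgroup G)) : G) = t := by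
        rw [← ht', MulEquiv.apply_symm_apply]
      rw [hez0] at hg
      have h1 : ((e (x ^ 2 ^ (n - 1)) : (T : Subgroup G)) : G) = t := by
        have : ((e (x ^ 2 ^ (n - 1)) : (T : Subgroup G)) : G) = g⁻¹ * t * g⁻¹⁻¹ := by
          rw [← hg]; group
        rw [this, hcen]
      rw [← hez0] at h1
      exact x0_ne_z0 h (e.injective (Subtype.ext h1))
  · constructor
    · intro _
      rw [isConjElt_pb_iff]
      apply _root_.isConj_iff.1
      apply hconj
      · rw [orderOf_e_coe, orderOf_x0 h]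
      · rw [orderOf_e_coe, h.hz]
      · intro hc
        rw [Subgroup.mem_center_iff] at hc
        apply conj_z_x0_ne h
        apply e.injective
        apply Subtype.ext
        rw [e_conj_coe, hc, mul_inv_cancel_right]
      · intro hc
        rw [Subgroup.mem_center_iff] at hc
        apply conj_z_x_ne h
        apply e.injective
        apply Subtype.ext
        rw [e_conj_coe, ← hc, mul_inv_cancel_right]
    · intro _
      exact fusedE_of_act h F hE hactE

theorem map_expr {Y : Type*} [Group Y] (e : X ≃* Y) (a b : X) (i j : ℤ) :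
    e (b ^ i * (a⁻¹ * b⁻¹) ^ j) = (e b) ^ i * ((e a)⁻¹ * (e b)⁻¹) ^ j := by
  rw [map_mul, map_zpow, map_zpow, map_mul, map_inv, map_inv]

/-- `A` active, some `WrE` active: realized by the group of [WRA]. -/
theorem realizable_all (h : IsWr x y z n) (hrig : Rigid h) (F : FusionSystem (⊤ : Subgroup X))
    (hF : F.IsSaturated 2) (hactA : ¬ IsPGroup 2 (F.autGroup h.A)) {E : Subgroup X} (hE : WrE E)
    (hactE : ¬ IsPGroup 2 (F.autGroup E)) : F.IsRealizable 2 := by
  obtain ⟨G, _, _, T, hTw, hTc, hconj⟩ := Cfsg.Agent.Lib.Helper98.DSQW.exists_group_wr_all n h.hn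
  obtain ⟨x', y', z', h'⟩ := exists_isWr_of_card hTw n hTc
  -- the system of `G` on `T`
  have hFTsat : (pb (MulEquiv.refl ↥(T : Subgroup G))).IsSaturated 2 :=
    pb_isSaturated T (MulEquiv.refl _)
  have hactT : ¬ IsPGroup 2 ((pb (MulEquiv.refl ↥(T : Subgroup G))).autGroup h'.A) := by
    intro hp
    apply not_fusedA_of_not_act h' _ hFTsat hp
    rw [isConjElt_pb_iff]
    apply _root_.isConj_iff.1
    apply hconj
    · rw [orderOf_e_coe, orderOf_x0 h']
    · rw [orderOf_e_coe, orderOf_z0 h']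
  obtain ⟨x₁, σ, h₁, hσK, hσ3, hσ⟩ := wr_norm' h (F.autGroup h.A)
    (autInducedBy_le_autGroup F le_top) (isFullyAutomized_A h F hF) hactA
  obtain ⟨x₂, σ', h₂, hσ'K, hσ'3, hσ'⟩ := wr_norm' h' _
    (autInducedBy_le_autGroup (pb (MulEquiv.refl ↥(T : Subgroup G))) le_top)
    (isFullyAutomized_A h' _ hFTsat) hactT
  obtain ⟨e, hex, hey, hez⟩ := Cfsg.Agent.Lib.Helper20.DSQWIso.wr_exists_equiv h₁ h₂
  apply isRealizable_of_hom_eq_pb T e F
  have hFsat' : (pb e).IsSaturated 2 := pb_isSaturated T e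
  apply hom_eq h hrig F (pb e) hF hFsat'
  · intro _
    have hA₁ : h₁.A = h.A := wr_A_eq h h₁
    have hA₂ : h₂.A = h'.A := wr_A_eq h' h₂
    have hx₁ : x₁ ∈ h.A := by
      rw [← hA₁]
      have := h₁.al_mem_A 1 0
      simpa [al] using this
    have hy₁ : z * x₁ * z⁻¹ ∈ h.A := by
      rw [← hA₁]
      have := h₁.al_mem_A 0 1
      simpa [al] using this
    have hx₂ : x₂ ∈ h'.A := by
      rw [← hA₂]
      have := h₂.al_mem_A 1 0
      simpa [al] using this
    have hy₂ : z' * x₂ * z'⁻¹ ∈ h'.A := by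
      rw [← hA₂]
      have := h₂.al_mem_A 0 1
      simpa [al] using this
    obtain ⟨hσx, hσy⟩ := hσ ⟨x₁, hx₁⟩ ⟨z * x₁ * z⁻¹, hy₁⟩ rfl rfl
    obtain ⟨hσ'x, hσ'y⟩ := hσ' ⟨x₂, hx₂⟩ ⟨z' * x₂ * z'⁻¹, hy₂⟩ rfl rfl
    have hσ2 : σ ∈ (pb e).autGroup h.A := by
      rw [mem_autGroup_pb_iff]
      rw [mem_autGroup_pb_iff] at hσ'K
      obtain ⟨g, hg⟩ := hσ'K
      refine ⟨g, fun u => ?_⟩
      obtain ⟨u, huA⟩ := u
      obtain ⟨i, j, rfl⟩ : ∃ i j : ℤ, u = al x₁ (z * x₁ * z⁻¹) i j :=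
        (h₁.mem_A u).1 (by rw [hA₁]; exact huA)
      have hmem : al x₂ (z' * x₂ * z'⁻¹) i j ∈ h'.A := by
        rw [← hA₂]; exact h₂.al_mem_A i j
      have h1 := aut_apply_al h.A σ hx₁ hy₁ _ _ hσx hσy i j huA
      have h2 := aut_apply_al h'.A σ' hx₂ hy₂ _ _ hσ'x hσ'y i j hmem
      have h3 := hg ⟨al x₂ (z' * x₂ * z'⁻¹) i j, hmem⟩
      simp only [MulEquiv.refl_apply] at h3
      have h4 : e (al x₁ (z * x₁ * z⁻¹) i j) = al x₂ (z' * x₂ * z'⁻¹) i j := by
        unfold al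
        rw [map_mul, map_zpow, map_zpow, hex, hey]
      have h5 : e ((z * x₁ * z⁻¹) ^ i * (x₁⁻¹ * (z * x₁ * z⁻¹)⁻¹) ^ j) =
          (z' * x₂ * z'⁻¹) ^ i * (x₂⁻¹ * (z' * x₂ * z'⁻¹)⁻¹) ^ j := by
        rw [map_expr, hex, hey]
      show ((e ((σ ⟨al x₁ (z * x₁ * z⁻¹) i j, huA⟩ : h.A) : X) : (T : Subgroup G)) : G) =
        g * ((e (al x₁ (z * x₁ * z⁻¹) i j) : (T : Subgroup G)) : G) * g⁻¹
      rw [h1, h5, h4, ← h2]
      exact h3
    exact wrA_rigid h _ _ (autInducedBy_le_autGroup F le_top)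
      (autInducedBy_le_autGroup (pb e) le_top) (isFullyAutomized_A h F hF)
      (isFullyAutomized_A h (pb e) hFsat') σ hσK hσ2 hσ3
  · constructor
    · intro _
      rw [isConjElt_pb_iff]
      apply _root_.isConj_iff.1
      apply hconj
      · rw [orderOf_e_coe, orderOf_x0 h]
      · rw [orderOf_e_coe, h.hz]
    · intro _
      exact fusedE_of_act h F hE hactE

end groups

/-- **[W-MAIN]**, modulo the rigidity statement `wrE_rigid` of [W-ESTR]: saturated fusion systems over a wreathed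
2-group have at most two classes of essential subgroups and are realizable. -/
theorem wr_main_of_rigid (h : IsWr x y z n) (hrig : Rigid h) (F : FusionSystem (⊤ : Subgroup X))
    (hF : F.IsSaturated 2) :
    TwoClasses F ∧ F.IsRealizable 2 := by
  refine ⟨twoClasses h F hF, ?_⟩
  by_cases hE : ∀ E : Subgroup X, WrE E → IsPGroup 2 (F.autGroup E)
  · exact realizable_constrained h F hF hE
  · push Not at hE
    obtain ⟨E, hE, hactE⟩ := hE
    by_cases hA : IsPGroup 2 (F.autGroup h.A)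
    · exact realizable_quat h hrig F hF hA hE hactE
    · exact realizable_all h hrig F hF hA hE hactE

end Cfsg.Agent.Lib.Helper87.DSQWWr
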