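import Cfsg.Prelude.Def_ChevAutomorphisms
import Cfsg.Prelude.Def_ChevG2
import Cfsg.Prelude.Def_ChevB2
import Cfsg.Prelude.Def_ChevD4
import Cfsg.Prelude.Def_ChevF4
import Cfsg.Prelude.Def_ChevE6
import Cfsg.Prelude.Def_ChevE7
import Cfsg.Prelude.Def_ChevE8

/-!
# S2156 module `[CARTAN2]` (helper87): the diagonal Cartan integers are `2`
-/

set_option autoImplicit false

namespace Cfsg.Agent.Lib.Helper87.Aut

open Cfsg Cfsg.Lie

variable {D : ChevalleyDatum}

set_option maxRecDepth 100000 in
/-- MODULE [CARTAN2] -/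
theorem cartan_self (hD : D ∈ [chevG2, chevB2, chevD4, chevF4, chevE6, chevE7, chevE8]) (i : ℕ)
    (hi : i < D.rank) : D.cartan i (D.simple i) = 2 := by
  simp only [List.mem_cons, List.not_mem_nil, or_false] at hD
  rcases hD with rfl | rfl | rfl | rfl | rfl | rfl | rfl
  · exact (by decide : ∀ i, i < chevG2.rank → chevG2.cartan i (chevG2.simple i) = 2) i hi
  · exact (by decide : ∀ i, i < chevB2.rank → chevB2.cartan i (chevB2.simple i) = 2) i hi
  · exact (by decide : ∀ i, i < chevD4.rank → chevD4.cartan i (chevD4.simple i) = 2) i hi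
  · exact (by decide : ∀ i, i < chevF4.rank → chevF4.cartan i (chevF4.simple i) = 2) i hi
  · exact (by decide : ∀ i, i < chevE6.rank → chevE6.cartan i (chevE6.simple i) = 2) i hi
  · exact (by decide : ∀ i, i < chevE7.rank → chevE7.cartan i (chevE7.simple i) = 2) i hi
  · exact (by decide : ∀ i, i < chevE8.rank → chevE8.cartan i (chevE8.simple i) = 2) i hi

end Cfsg.Agent.Lib.Helper87.Aut
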