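/-
helper87: normal `p`-subgroups of a group `𝔄` of automorphisms of a finite `p`-group `G` (`p` odd) defined through an
invariant subgroup `H` and `W = Ω₁(H)` (assumed to be a subgroup): the elements of `𝔄` acting trivially on `G/H` and
inducing on `W` an element of a `p`-group `T` normalized by `𝔄` form a normal `p`-subgroup.
All declarations live in `Cfsg.Agent.Lib.Helper87`.
-/
import Cfsg.Agent.Lib.Helper87.FusionOmega
import Cfsg.Agent.Lib.Helper73.AutChainTwo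

set_option autoImplicit false

namespace Cfsg.Agent.Lib.Helper87

open Cfsg
open Cfsg.Agent.Lib.Helper73 (resAut chainTwo resAut_apply)

theorem exists_normal_pgroup_of_omega {G : Type*} [Group G] [Finite G] {p : ℕ} [Fact p.Prime] (hp2 : p ≠ 2)
    (hG : IsPGroup p G) (𝔄 : Subgroup (MulAut G)) (H W : Subgroup G)
    (hinvH : ∀ α ∈ 𝔄, ∀ x ∈ H, α x ∈ H) (hW : ∀ x, x ∈ W ↔ x ∈ H ∧ x ^ p = 1)
    (hinvW : ∀ α ∈ 𝔄, ∀ x ∈ W, α x ∈ W)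
    (T : Subgroup (MulAut W)) (hTp : IsPGroup p T)
    (hTn : ∀ α : 𝔄, ∀ τ ∈ T, resAut 𝔄 W hinvW α * τ * (resAut 𝔄 W hinvW α)⁻¹ ∈ T) :
    ∃ K : Subgroup (MulAut G), K ≤ 𝔄 ∧ (∀ α ∈ 𝔄, ∀ β ∈ K, α * β * α⁻¹ ∈ K) ∧ IsPGroup p K ∧
      ∀ β (hβ : β ∈ 𝔄), (∀ r : G, r⁻¹ * β r ∈ H) → resAut 𝔄 W hinvW ⟨β, hβ⟩ ∈ T → β ∈ K := by
  classical
  have hfinA : Finite (MulAut G) := by
    apply Finite.of_injective (fun f : MulAut G => (f : G → G))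
    intro f g hfg
    exact DFunLike.coe_injective hfg
  have hinv1 : ∀ j ≤ 1, ∀ α ∈ 𝔄, ∀ x ∈ chainTwo H j, α x ∈ chainTwo H j := by
    intro j hj α hα x hx
    match j, hj, hx with
    | 0, _, _ => trivial
    | 1, _, hx => exact hinvH α hα x hx
  let K₀ : Subgroup (MulAut G) := chainStab 𝔄 1 (chainTwo H) hinv1
  let K : Subgroup (MulAut G) := K₀ ⊓ ((T.comap (resAut 𝔄 W hinvW)).map 𝔄.subtype)
  have hmemK : ∀ β, β ∈ K ↔ β ∈ K₀ ∧ ∃ hβ : β ∈ 𝔄, resAut 𝔄 W hinvW ⟨β, hβ⟩ ∈ T := by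
    intro β
    constructor
    · rintro ⟨h1, b, hb, rfl⟩
      exact ⟨h1, b.2, hb⟩
    · rintro ⟨h1, hβ, hb⟩
      exact ⟨h1, ⟨β, hβ⟩, hb, rfl⟩
  have hK₀ : ∀ β, β ∈ K₀ ↔ β ∈ 𝔄 ∧ ∀ r : G, r⁻¹ * β r ∈ H := by
    intro β
    constructor
    · rintro ⟨h1, h2⟩
      exact ⟨h1, fun r => h2 0 (by norm_num) r trivial⟩
    · rintro ⟨h1, h2⟩
      refine ⟨h1, fun j hj r _ => ?_⟩
      have hj0 : j = 0 := by omega
      subst hj0
      exact h2 r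
  refine ⟨K, fun β hβ => hβ.1.1, ?_, ?_, ?_⟩
  · intro α hα β hβ
    obtain ⟨h1, hβ𝔄, hb⟩ := (hmemK β).1 hβ
    rw [hmemK]
    refine ⟨chainStab_conj_mem _ _ _ hinv1 hα h1, 𝔄.mul_mem (𝔄.mul_mem hα hβ𝔄) (𝔄.inv_mem hα), ?_⟩
    have := hTn ⟨α, hα⟩ _ hb
    rw [← map_inv, ← map_mul, ← map_mul] at this
    exact this
  · apply isPGroup_of_coprime_eq_one
    intro γ hγ hcop
    obtain ⟨h1, hγ𝔄, hb⟩ := (hmemK γ).1 hγ
    obtain ⟨-, hγH⟩ := (hK₀ γ).1 h1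
    -- the restriction to `W` is trivial
    have hρ1 : resAut 𝔄 W hinvW ⟨γ, hγ𝔄⟩ = 1 := by
      obtain ⟨c, hc⟩ := hTp ⟨_, hb⟩
      have hc' : (resAut 𝔄 W hinvW ⟨γ, hγ𝔄⟩) ^ p ^ c = 1 := congrArg Subtype.val hc
      have h2 : (resAut 𝔄 W hinvW ⟨γ, hγ𝔄⟩) ^ orderOf γ = 1 := by
        rw [← map_pow]
        have : (⟨γ, hγ𝔄⟩ : 𝔄) ^ orderOf γ = 1 := Subtype.ext (pow_orderOf_eq_one γ)
        rw [this, map_one]
      have d1 := orderOf_dvd_of_pow_eq_one hc'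
      have d2 := orderOf_dvd_of_pow_eq_one h2
      have hcop' : Nat.Coprime (orderOf γ) (p ^ c) := Nat.Coprime.pow_right c hcop
      have d3 := Nat.dvd_gcd d2 d1
      rw [hcop'] at d3
      exact orderOf_eq_one_iff.1 (Nat.dvd_one.1 d3)
    have hfixW : ∀ x ∈ W, γ x = x := by
      intro x hx
      have := congrArg (fun f : MulAut W => ((f ⟨x, hx⟩ : W) : G)) hρ1
      exact this
    have hfixH : ∀ x ∈ H, γ x = x :=
      fix_of_fix_omega hp2 H (hG.to_subgroup H) γ (hinvH γ hγ𝔄) hcop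
        (fun x hx hxp => hfixW x ((hW x).2 ⟨hx, hxp⟩))
    ext r
    exact fix_of_coprime_of_fix_comm hG γ hcop (hfixH _ (hγH r))
  · intro β hβ h1 h2
    rw [hmemK]
    exact ⟨(hK₀ β).2 ⟨hβ, h1⟩, hβ, h2⟩

end Cfsg.Agent.Lib.Helper87
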