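/-
helper87: Glauberman's ZJ-theorem for an *axiomatic* family `𝒜` of abelian subgroups of a Sylow `p`-subgroup `P`:
`axInf 𝒜 Q` is the intersection of the members of `𝒜` inside `Q`; under invariance (`N_G(Q)` normalizes `axInf 𝒜 Q`
whenever `Q ≤ P` contains a member of `𝒜`) and replacement (class-two form), in a group with `C_G(O_p(G)) ≤ O_p(G)` that
is `p`-stable in the element form of helper11's `ZJ2`, the subgroup `axInf 𝒜 P` is normal.
Adapted from `Cfsg.Agent.Lib.Helper11.famInf_inf_normal'`.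
-/
import Cfsg.Agent.Lib.Helper11.ZJ2

set_option autoImplicit false
open Cfsg

namespace Cfsg.Agent.Lib.Helper87

open scoped commutatorElement
open Cfsg.Agent.Lib.Helper11

section AxZJ

variable {G : Type*} [Group G]

/-- The intersection of the members of `𝒜` contained in `Q`. -/
def axInf (𝒜 : Set (Subgroup G)) (Q : Subgroup G) : Subgroup G :=
  ⨅ A ∈ {A : Subgroup G | A ∈ 𝒜 ∧ A ≤ Q}, A

theorem mem_axInf_iff (𝒜 : Set (Subgroup G)) (Q : Subgroup G) (x : G) :
    x ∈ axInf 𝒜 Q ↔ ∀ A ∈ 𝒜, A ≤ Q → x ∈ A := by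
  unfold axInf
  simp only [Subgroup.mem_iInf, Set.mem_ofPred_eq]
  exact ⟨fun h A hA hAQ => h A ⟨hA, hAQ⟩, fun h A hA => h A hA.1 hA.2⟩

theorem axInf_le_mem {𝒜 : Set (Subgroup G)} {Q A : Subgroup G} (hA : A ∈ 𝒜) (hAQ : A ≤ Q) : axInf 𝒜 Q ≤ A :=
  fun x hx => (mem_axInf_iff 𝒜 Q x).1 hx A hA hAQ

theorem axInf_mono {𝒜 : Set (Subgroup G)} {Q R : Subgroup G} (hQR : Q ≤ R) : axInf 𝒜 R ≤ axInf 𝒜 Q :=
  fun x hx => (mem_axInf_iff 𝒜 Q x).2 fun A hA hAQ => (mem_axInf_iff 𝒜 R x).1 hx A hA (hAQ.trans hQR)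

/-- The axioms on the family, in a group. -/
structure AxFam (P : Subgroup G) (𝒜 : Set (Subgroup G)) : Prop where
  le : ∀ A ∈ 𝒜, A ≤ P
  comm : ∀ A ∈ 𝒜, IsMulCommutative A
  ne : 𝒜.Nonempty
  inv : ∀ Q : Subgroup G, Q ≤ P → (∃ A ∈ 𝒜, A ≤ Q) →
    Subgroup.normalizer (Q : Set G) ≤ Subgroup.normalizer ((axInf 𝒜 Q : Subgroup G) : Set G)
  rep : ∀ B : Subgroup G, B ≤ P → ⁅⁅B, B⁆, B⁆ = ⊥ → (∃ A ∈ 𝒜, ⁅B, B⁆ ≤ A ∧ ¬ B ≤ A) →
    ∃ A ∈ 𝒜, ⁅B, B⁆ ≤ A ∧ ¬ B ≤ A ∧ B ≤ Subgroup.normalizer (A : Set G)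

theorem AxFam.axInf_le {P : Subgroup G} {𝒜 : Set (Subgroup G)} (h : AxFam P 𝒜) : axInf 𝒜 P ≤ P := by
  obtain ⟨A, hA⟩ := h.ne
  exact (axInf_le_mem hA (h.le A hA)).trans (h.le A hA)

theorem AxFam.axInf_comm {P : Subgroup G} {𝒜 : Set (Subgroup G)} (h : AxFam P 𝒜) :
    IsMulCommutative (axInf 𝒜 P) := by
  obtain ⟨A, hA⟩ := h.ne
  have hle := axInf_le_mem hA (h.le A hA)
  have hc := h.comm A hA
  refine ⟨⟨fun x y => ?_⟩⟩
  apply Subtype.ext
  have := hc.is_comm.comm ⟨x.1, hle x.2⟩ ⟨y.1, hle y.2⟩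
  rw [Subgroup.coe_mul, Subgroup.coe_mul]
  exact congrArg Subtype.val this

theorem AxFam.le_normalizer {P : Subgroup G} {𝒜 : Set (Subgroup G)} (h : AxFam P 𝒜) :
    P ≤ Subgroup.normalizer ((axInf 𝒜 P : Subgroup G) : Set G) := by
  obtain ⟨A, hA⟩ := h.ne
  exact Subgroup.le_normalizer.trans (h.inv P le_rfl ⟨A, hA, h.le A hA⟩)

/-- The key step of the ZJ-theorem: `I ⊓ B` is normal for every normal `p`-subgroup `B`. -/
theorem axInf_inf_normal [Finite G] {p : ℕ} [Fact p.Prime] (P : Sylow p G) {𝒜 : Set (Subgroup G)}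
    (h𝒜 : AxFam (P : Subgroup G) 𝒜)
    (hst : ∀ (V : Subgroup G) [V.Normal], IsPGroup p V → ∀ a : G, IsPGroup p (Subgroup.zpowers a) →
      ⁅⁅V, Subgroup.zpowers a⁆, Subgroup.zpowers a⁆ = ⊥ →
      (QuotientGroup.mk a : G ⧸ Subgroup.centralizer (V : Set G)) ∈
        pCore p (G ⧸ Subgroup.centralizer (V : Set G))) :
    ∀ (n : ℕ) (B : Subgroup G), Nat.card B ≤ n → B.Normal → IsPGroup p B →
      (axInf 𝒜 (P : Subgroup G) ⊓ B).Normal := by
  intro n
  induction n with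
  | zero =>
    intro B hn
    have := Nat.card_pos (α := B)
    omega
  | succ n ih =>
    intro B hcard hBn hBp
    have := hBn
    have hZP : axInf 𝒜 (P : Subgroup G) ≤ P := h𝒜.axInf_le
    have hPNZ : (P : Subgroup G) ≤ Subgroup.normalizer (axInf 𝒜 (P : Subgroup G) : Set G) := h𝒜.le_normalizer
    have hBP : B ≤ P := hBp.le_sylow_of_normal P
    by_cases hBbot : B = ⊥
    · rw [hBbot, inf_bot_eq]; infer_instance
    have hB₁B : Subgroup.normalClosure ((axInf 𝒜 (P : Subgroup G) ⊓ B : Subgroup G) : Set G) ≤ B :=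
      Subgroup.normalClosure_le_normal (fun x hx => hx.2)
    have hZ₁B₁ : axInf 𝒜 (P : Subgroup G) ⊓ B ≤
        Subgroup.normalClosure ((axInf 𝒜 (P : Subgroup G) ⊓ B : Subgroup G) : Set G) :=
      Subgroup.subset_normalClosure
    by_cases hB₁ : Subgroup.normalClosure ((axInf 𝒜 (P : Subgroup G) ⊓ B : Subgroup G) : Set G) = B
    swap
    · have hlt : Nat.card (Subgroup.normalClosure
          ((axInf 𝒜 (P : Subgroup G) ⊓ B : Subgroup G) : Set G)) < Nat.card B :=
        card_lt_of_lt (lt_of_le_of_ne hB₁B hB₁)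
      have hn1 := ih _ (by omega) Subgroup.normalClosure_normal (hBp.to_le hB₁B)
      have : axInf 𝒜 (P : Subgroup G) ⊓ Subgroup.normalClosure
          ((axInf 𝒜 (P : Subgroup G) ⊓ B : Subgroup G) : Set G) =
          axInf 𝒜 (P : Subgroup G) ⊓ B :=
        le_antisymm (inf_le_inf_left _ hB₁B) (le_inf inf_le_left hZ₁B₁)
      rw [this] at hn1; exact hn1
    -- now B is the normal closure of I ⊓ B
    have hDlt : ⁅B, B⁆ < B := commutator_lt_of_isPGroup B hBp hBbot
    have hDn : (⁅B, B⁆).Normal := Subgroup.commutator_normal B B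
    have hDcard : Nat.card ↥⁅B, B⁆ < Nat.card B := card_lt_of_lt hDlt
    have hYn : (axInf 𝒜 (P : Subgroup G) ⊓ ⁅B, B⁆).Normal :=
      ih _ (by omega) hDn (hBp.to_le hDlt.le)
    -- Claim 1
    have hc1 : ∀ z ∈ axInf 𝒜 (P : Subgroup G) ⊓ B, ∀ b ∈ B,
        ⁅z, b⁆ ∈ axInf 𝒜 (P : Subgroup G) ⊓ ⁅B, B⁆ := by
      intro z hz b hb
      refine ⟨?_, Subgroup.commutator_mem_commutator hz.2 hb⟩
      have hbN : b ∈ Subgroup.normalizer (axInf 𝒜 (P : Subgroup G) : Set G) := hPNZ (hBP hb)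
      have h1 : b * z⁻¹ * b⁻¹ ∈ axInf 𝒜 (P : Subgroup G) :=
        (Subgroup.mem_normalizer_iff.mp hbN z⁻¹).mp (Subgroup.inv_mem _ hz.1)
      have h2 : ⁅z, b⁆ = z * (b * z⁻¹ * b⁻¹) := by rw [commutatorElement_def]; group
      show ⁅z, b⁆ ∈ axInf 𝒜 (P : Subgroup G)
      rw [h2]; exact Subgroup.mul_mem _ hz.1 h1
    -- Claim 2
    have hc2 : ⁅B, B⁆ ≤ axInf 𝒜 (P : Subgroup G) ⊓ ⁅B, B⁆ := by
      have hcl : Subgroup.closure (Group.conjugatesOfSet
          ((axInf 𝒜 (P : Subgroup G) ⊓ B : Subgroup G) : Set G)) = B := hB₁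
      have key := Cfsg.Agent.S0648.commutator_closure_le (Group.conjugatesOfSet
          ((axInf 𝒜 (P : Subgroup G) ⊓ B : Subgroup G) : Set G))
          (axInf 𝒜 (P : Subgroup G) ⊓ ⁅B, B⁆)
          (by rw [Subgroup.normalizer_eq_top]; exact le_top) ?_
      · rwa [hcl] at key
      · intro x hx y hy
        have hyB : y ∈ B := by rw [← hcl]; exact Subgroup.subset_closure hy
        rw [Group.mem_conjugatesOfSet_iff] at hx
        obtain ⟨z, hz, hzx⟩ := hx
        obtain ⟨g, rfl⟩ := isConj_iff.mp hzx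
        have h1 := hc1 z hz (g⁻¹ * y * g) (by
          have := hBn.conj_mem y hyB g⁻¹
          simpa using this)
        have h2 : ⁅g * z * g⁻¹, y⁆ = g * ⁅z, g⁻¹ * y * g⁆ * g⁻¹ := by
          simp only [commutatorElement_def]; group
        rw [h2]; exact hYn.conj_mem _ h1 g
    -- `B` centralizes `Y = I ⊓ ⁅B, B⁆`, hence has class at most two
    have hBcent : B ≤ Subgroup.centralizer ((axInf 𝒜 (P : Subgroup G) ⊓ ⁅B, B⁆ : Subgroup G) : Set G) := by
      have := hYn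
      have hCn : (Subgroup.centralizer ((axInf 𝒜 (P : Subgroup G) ⊓ ⁅B, B⁆ : Subgroup G) : Set G)).Normal :=
        Subgroup.normal_centralizer
      have h1 : Subgroup.normalClosure ((axInf 𝒜 (P : Subgroup G) ⊓ B : Subgroup G) : Set G) ≤
          Subgroup.centralizer ((axInf 𝒜 (P : Subgroup G) ⊓ ⁅B, B⁆ : Subgroup G) : Set G) := by
        apply Subgroup.normalClosure_le_normal
        intro x hx
        rw [SetLike.mem_coe, Subgroup.mem_centralizer_iff]
        intro y hy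
        have hcomm := h𝒜.axInf_comm
        have := hcomm.is_comm.comm ⟨y, hy.1⟩ ⟨x, hx.1⟩
        exact congrArg Subtype.val this
      rwa [hB₁] at h1
    have hclass : ⁅⁅B, B⁆, B⁆ = ⊥ := by
      rw [eq_bot_iff, Subgroup.commutator_le]
      intro y hy b hb
      rw [Subgroup.mem_bot, commutatorElement_eq_one_iff_mul_comm]
      exact (Subgroup.mem_centralizer_iff.1 (hBcent hb)) y (hc2 hy)
    -- Claim 3
    by_cases hall : ∀ U ∈ 𝒜, B ≤ U
    · have hBZ : B ≤ axInf 𝒜 (P : Subgroup G) :=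
        fun x hx => (mem_axInf_iff 𝒜 _ x).2 fun U hU _ => hall U hU hx
      rw [inf_of_le_right hBZ]; exact hBn
    push Not at hall
    obtain ⟨U, hU, hnBU⟩ := hall
    have hDU : ⁅B, B⁆ ≤ U := hc2.trans (inf_le_left.trans (axInf_le_mem hU (h𝒜.le U hU)))
    obtain ⟨A, hA, hDA, hnBA, hBNA⟩ := h𝒜.rep B hBP hclass ⟨U, hU, hDU, hnBU⟩
    exfalso; apply hnBA
    have hAc : IsMulCommutative A := h𝒜.comm A hA
    have hAP : A ≤ P := h𝒜.le A hA
    -- p-stability
    have hquad : ∀ a ∈ A, (QuotientGroup.mk a : G ⧸ Subgroup.centralizer (B : Set G)) ∈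
        pCore p (G ⧸ Subgroup.centralizer (B : Set G)) := by
      intro a ha
      have hza : Subgroup.zpowers a ≤ A := (Subgroup.zpowers_le).mpr ha
      apply hst B hBp a (P.isPGroup'.to_le (hza.trans hAP))
      have h1 : ⁅B, Subgroup.zpowers a⁆ ≤ A :=
        (Subgroup.commutator_mono le_rfl hza).trans
          (Subgroup.le_normalizer_iff_commutator_le_right.mp hBNA)
      rw [eq_bot_iff]
      calc ⁅⁅B, Subgroup.zpowers a⁆, Subgroup.zpowers a⁆ ≤ ⁅A, A⁆ := Subgroup.commutator_mono h1 hza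
        _ = ⊥ := Subgroup.commutator_self_eq_bot_iff.mpr hAc
    have hCn : (Subgroup.centralizer (B : Set G)).Normal := Subgroup.normal_centralizer
    have hKn : ((pCore p (G ⧸ Subgroup.centralizer (B : Set G))).comap
        (QuotientGroup.mk' (Subgroup.centralizer (B : Set G)))).Normal := inferInstance
    have hAK : A ≤ (pCore p (G ⧸ Subgroup.centralizer (B : Set G))).comap
        (QuotientGroup.mk' (Subgroup.centralizer (B : Set G))) := fun a ha => hquad a ha
    have hCK : Subgroup.centralizer (B : Set G) ≤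
        (pCore p (G ⧸ Subgroup.centralizer (B : Set G))).comap
        (QuotientGroup.mk' (Subgroup.centralizer (B : Set G))) := by
      intro c hc
      rw [Subgroup.mem_comap, QuotientGroup.mk'_apply, (QuotientGroup.eq_one_iff c).mpr hc]
      exact one_mem _
    generalize hK : (pCore p (G ⧸ Subgroup.centralizer (B : Set G))).comap
        (QuotientGroup.mk' (Subgroup.centralizer (B : Set G))) = K at hKn hAK hCK
    have := hKn
    obtain ⟨T', hT'⟩ := Cfsg.Agent.Lib.Helper47.exists_sylow_eq_subgroupOf_of_normal P K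
    have hfrat := Sylow.normalizer_sup_eq_top T'
    have hTmap : (T' : Subgroup ↥K).map K.subtype = (P : Subgroup G) ⊓ K := by
      rw [hT', Subgroup.subgroupOf_map_subtype]
    rw [hTmap] at hfrat
    have hAT : A ≤ (P : Subgroup G) ⊓ K := le_inf hAP hAK
    have hTP : (P : Subgroup G) ⊓ K ≤ P := inf_le_left
    have hKTC : K ≤ ((P : Subgroup G) ⊓ K) ⊔ Subgroup.centralizer (B : Set G) := by
      intro k hk
      have hk' : (QuotientGroup.mk k : G ⧸ Subgroup.centralizer (B : Set G)) ∈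
          pCore p (G ⧸ Subgroup.centralizer (B : Set G)) := by
        rw [← hK] at hk; exact hk
      obtain ⟨s, hs, c, hc, rfl⟩ := Cfsg.Agent.Lib.Helper97.exists_mem_sylow_mk_eq
        (Subgroup.centralizer (B : Set G)) (pCore p (G ⧸ Subgroup.centralizer (B : Set G)))
        (Cfsg.Agent.Lib.Helper97.isPGroup_pCore p _) P hk'
      have hsK : s ∈ K := by
        have : s = (s * c) * c⁻¹ := by group
        rw [this]; exact K.mul_mem hk (K.inv_mem (hCK hc))
      exact Subgroup.mul_mem_sup ⟨hs, hsK⟩ hc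
    have hZX : axInf 𝒜 (P : Subgroup G) ≤ axInf 𝒜 ((P : Subgroup G) ⊓ K) := axInf_mono hTP
    have hXA : axInf 𝒜 ((P : Subgroup G) ⊓ K) ≤ A := axInf_le_mem hA hAT
    have hNT : Subgroup.normalizer (((P : Subgroup G) ⊓ K : Subgroup G) : Set G) ≤
        Subgroup.normalizer ((axInf 𝒜 ((P : Subgroup G) ⊓ K) ⊓ B : Subgroup G) : Set G) := by
      intro g hg
      have hgX := h𝒜.inv _ hTP ⟨A, hA, hAT⟩ hg
      rw [Subgroup.mem_normalizer_iff] at hgX ⊢
      intro x
      constructor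
      · rintro ⟨hx1, hx2⟩; exact ⟨(hgX x).mp hx1, hBn.conj_mem x hx2 g⟩
      · rintro ⟨hx1, hx2⟩
        refine ⟨(hgX x).mpr hx1, ?_⟩
        have := hBn.conj_mem _ hx2 g⁻¹
        simpa [mul_assoc] using this
    have hNC : Subgroup.centralizer (B : Set G) ≤
        Subgroup.normalizer ((axInf 𝒜 ((P : Subgroup G) ⊓ K) ⊓ B : Subgroup G) : Set G) := by
      intro c hc
      apply Subgroup.mem_normalizer_fintype
      intro x hx
      have hxB : x ∈ B := hx.2
      have h1 : x * c = c * x := Subgroup.mem_centralizer_iff.mp hc x hxB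
      have : c * x * c⁻¹ = x := by rw [← h1]; group
      rw [this]; exact hx
    have hNX : (axInf 𝒜 ((P : Subgroup G) ⊓ K) ⊓ B).Normal := by
      rw [← Subgroup.normalizer_eq_top_iff, eq_top_iff, ← hfrat]
      apply sup_le hNT
      exact hKTC.trans (sup_le (Subgroup.le_normalizer.trans hNT) hNC)
    have hfin := Subgroup.normalClosure_le_normal (N := axInf 𝒜 ((P : Subgroup G) ⊓ K) ⊓ B)
      (s := ((axInf 𝒜 (P : Subgroup G) ⊓ B : Subgroup G) : Set G))
      (fun x hx => ⟨hZX hx.1, hx.2⟩)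
    rw [hB₁] at hfin
    exact hfin.trans (inf_le_left.trans hXA)

/-- The axiomatic ZJ-theorem, normal version. -/
theorem axInf_normal [Finite G] {p : ℕ} [Fact p.Prime] (P : Sylow p G) {𝒜 : Set (Subgroup G)}
    (h𝒜 : AxFam (P : Subgroup G) 𝒜)
    (hc : Subgroup.centralizer (pCore p G : Set G) ≤ pCore p G)
    (hst : ∀ (V : Subgroup G) [V.Normal], IsPGroup p V → ∀ a : G, IsPGroup p (Subgroup.zpowers a) →
      ⁅⁅V, Subgroup.zpowers a⁆, Subgroup.zpowers a⁆ = ⊥ →
      (QuotientGroup.mk a : G ⧸ Subgroup.centralizer (V : Set G)) ∈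
        pCore p (G ⧸ Subgroup.centralizer (V : Set G))) :
    (axInf 𝒜 (P : Subgroup G)).Normal := by
  have hQn : (pCore p G).Normal := inferInstance
  have hQp : IsPGroup p (pCore p G) := Cfsg.Agent.Lib.Helper97.isPGroup_pCore p G
  have h1 := axInf_inf_normal P h𝒜 hst _ (pCore p G) le_rfl hQn hQp
  have hPNZ : (P : Subgroup G) ≤ Subgroup.normalizer (axInf 𝒜 (P : Subgroup G) : Set G) := h𝒜.le_normalizer
  have hQP : pCore p G ≤ P := Cfsg.Agent.Lib.Helper97.pCore_le_sylow' P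
  have hZc := h𝒜.axInf_comm
  have hZQ : axInf 𝒜 (P : Subgroup G) ≤ pCore p G := by
    intro z hz
    have hquad : ⁅⁅pCore p G, Subgroup.zpowers z⁆, Subgroup.zpowers z⁆ = ⊥ := by
      have hzz : Subgroup.zpowers z ≤ axInf 𝒜 (P : Subgroup G) := (Subgroup.zpowers_le).mpr hz
      have h2 : ⁅pCore p G, Subgroup.zpowers z⁆ ≤ axInf 𝒜 (P : Subgroup G) :=
        (Subgroup.commutator_mono le_rfl hzz).trans
          (Subgroup.le_normalizer_iff_commutator_le_right.mp (hQP.trans hPNZ))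
      rw [eq_bot_iff]
      calc ⁅⁅pCore p G, Subgroup.zpowers z⁆, Subgroup.zpowers z⁆
          ≤ ⁅axInf 𝒜 (P : Subgroup G), axInf 𝒜 (P : Subgroup G)⁆ :=
            Subgroup.commutator_mono h2 hzz
        _ = ⊥ := Subgroup.commutator_self_eq_bot_iff.mpr hZc
    have hmk := hst (pCore p G) hQp z
      (P.isPGroup'.to_le (((Subgroup.zpowers_le).mpr hz).trans h𝒜.axInf_le)) hquad
    have hCn : (Subgroup.centralizer (pCore p G : Set G)).Normal := Subgroup.normal_centralizer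
    have hLn : ((pCore p (G ⧸ Subgroup.centralizer (pCore p G : Set G))).comap
        (QuotientGroup.mk' (Subgroup.centralizer (pCore p G : Set G)))).Normal := inferInstance
    have hLp : IsPGroup p ((pCore p (G ⧸ Subgroup.centralizer (pCore p G : Set G))).comap
        (QuotientGroup.mk' (Subgroup.centralizer (pCore p G : Set G)))) := by
      apply (Cfsg.Agent.Lib.Helper97.isPGroup_pCore p _).comap_of_ker_isPGroup
      rw [QuotientGroup.ker_mk']
      exact hQp.to_le hc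
    exact Cfsg.Agent.Lib.Helper97.le_pCore_of_normal hLn hLp hmk
  rw [inf_of_le_left hZQ] at h1; exact h1

end AxZJ

end Cfsg.Agent.Lib.Helper87
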