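/-
helper87: the axiomatic Glauberman–Thompson theorem in a finite group of characteristic `p` (`p` odd): if `𝒜` is an
axiomatic family (`AxFam`) in the Sylow `p`-subgroup `P`, `C_G(O_p(G)) ≤ O_p(G)` and `N_G(axInf 𝒜 P)` has a normal
`p`-complement, then `G = P`.  The proof passes to a minimal subgroup `M > P` (in which `P` is a maximal subgroup),
gets `p`-stability there from helper11's `hst_of_coatom_sylow` (with `M / O_p(M)` `p`-nilpotent by the classical
Glauberman–Thompson theorem S0659), and applies the axiomatic ZJ-theorem `axInf_normal`.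
-/
import Cfsg.Agent.Lib.Helper87.AxZJ
import Cfsg.Agent.Lib.Helper11.ZJLocal
import Cfsg.Agent.S0659

set_option autoImplicit false
open Cfsg

namespace Cfsg.Agent.Lib.Helper87

open scoped commutatorElement
open Cfsg.Agent.Lib.Helper11 Cfsg.Agent.Lib.Helper97

section AxGT

variable {G : Type*} [Group G]

/-- Transport of the family to a subgroup `M`. -/
def axSub (M : Subgroup G) (𝒜 : Set (Subgroup G)) : Set (Subgroup ↥M) := {A' | A'.map M.subtype ∈ 𝒜}

theorem axInf_axSub (M : Subgroup G) (𝒜 : Set (Subgroup G)) (Q' : Subgroup ↥M) :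
    axInf (axSub M 𝒜) Q' = (axInf 𝒜 (Q'.map M.subtype)).subgroupOf M := by
  ext x
  rw [Subgroup.mem_subgroupOf, mem_axInf_iff, mem_axInf_iff]
  constructor
  · intro h A hA hAQ
    have hAM : A ≤ M := hAQ.trans (Subgroup.map_subtype_le _)
    have hmap : (A.subgroupOf M).map M.subtype = A := Subgroup.map_subgroupOf_eq_of_le hAM
    have h1 : A.subgroupOf M ∈ axSub M 𝒜 := by
      show (A.subgroupOf M).map M.subtype ∈ 𝒜
      rw [hmap]; exact hA
    have h2 : A.subgroupOf M ≤ Q' := by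
      intro y hy
      obtain ⟨z, hz, hzy⟩ := hAQ (Subgroup.mem_subgroupOf.1 hy)
      have : z = y := Subtype.ext hzy
      rw [← this]; exact hz
    exact Subgroup.mem_subgroupOf.1 (h _ h1 h2)
  · intro h A' hA' hAQ
    obtain ⟨z, hz, hzx⟩ := h _ hA' (Subgroup.map_mono hAQ)
    have : z = x := Subtype.ext hzx
    rw [← this]; exact hz

theorem AxFam.sub {P : Subgroup G} {𝒜 : Set (Subgroup G)} (h : AxFam P 𝒜) (M : Subgroup G) (hPM : P ≤ M) :
    AxFam (P.subgroupOf M) (axSub M 𝒜) where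
  le := by
    intro A' hA' x hx
    rw [Subgroup.mem_subgroupOf]
    exact h.le _ hA' ⟨x, hx, rfl⟩
  comm := fun A' hA' => isMulCommutative_of_map_subtype M A' (h.comm _ hA')
  ne := by
    obtain ⟨A, hA⟩ := h.ne
    refine ⟨A.subgroupOf M, ?_⟩
    show (A.subgroupOf M).map M.subtype ∈ 𝒜
    rw [Subgroup.map_subgroupOf_eq_of_le ((h.le A hA).trans hPM)]
    exact hA
  inv := by
    rintro Q' hQ' ⟨A', hA', hAQ⟩ g hg
    rw [axInf_axSub]
    have hQP : Q'.map M.subtype ≤ P := by
      rintro _ ⟨y, hy, rfl⟩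
      exact Subgroup.mem_subgroupOf.1 (hQ' hy)
    have hgN : (g : G) ∈ Subgroup.normalizer ((Q'.map M.subtype : Subgroup G) : Set G) :=
      Subgroup.le_normalizer_map M.subtype ⟨g, hg, rfl⟩
    have h1 := h.inv _ hQP ⟨_, hA', Subgroup.map_mono hAQ⟩ hgN
    rw [Subgroup.mem_normalizer_iff] at h1 ⊢
    intro x
    rw [Subgroup.mem_subgroupOf, Subgroup.mem_subgroupOf]
    exact h1 x
  rep := by
    rintro B' hB' hcl ⟨A', hA', hDA, hnBA⟩
    have hmapc : ∀ X Y : Subgroup ↥M, (⁅X, Y⁆).map M.subtype = ⁅X.map M.subtype, Y.map M.subtype⁆ :=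
      fun X Y => Subgroup.map_commutator X Y M.subtype
    have hBP : B'.map M.subtype ≤ P := by
      rintro _ ⟨y, hy, rfl⟩
      exact Subgroup.mem_subgroupOf.1 (hB' hy)
    have hcl' : ⁅⁅B'.map M.subtype, B'.map M.subtype⁆, B'.map M.subtype⁆ = ⊥ := by
      rw [← hmapc, ← hmapc, hcl, Subgroup.map_bot]
    have hDA' : ⁅B'.map M.subtype, B'.map M.subtype⁆ ≤ A'.map M.subtype := by
      rw [← hmapc]; exact Subgroup.map_mono hDA
    have hnBA' : ¬ B'.map M.subtype ≤ A'.map M.subtype :=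
      fun hle => hnBA ((Subgroup.map_le_map_iff_of_injective M.subtype_injective).1 hle)
    obtain ⟨A₁, hA₁, h1, h2, h3⟩ := h.rep _ hBP hcl' ⟨_, hA', hDA', hnBA'⟩
    have hA₁M : A₁ ≤ M := (h.le A₁ hA₁).trans hPM
    have hmap : (A₁.subgroupOf M).map M.subtype = A₁ := Subgroup.map_subgroupOf_eq_of_le hA₁M
    refine ⟨A₁.subgroupOf M, ?_, ?_, ?_, ?_⟩
    · show (A₁.subgroupOf M).map M.subtype ∈ 𝒜
      rw [hmap]; exact hA₁
    · rw [← Subgroup.map_le_map_iff_of_injective M.subtype_injective, hmapc, hmap]; exact h1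
    · intro hle; apply h2; rw [← hmap]; exact Subgroup.map_mono hle
    · intro x hx
      have hx' : (x : G) ∈ Subgroup.normalizer (A₁ : Set G) := h3 ⟨x, hx, rfl⟩
      rw [Subgroup.mem_normalizer_iff] at hx' ⊢
      intro y
      rw [Subgroup.mem_subgroupOf, Subgroup.mem_subgroupOf]
      exact hx' y

/-- A finite `p`-group has a normal `p`-complement. -/
theorem hasNormalPComplement_of_isPGroup {Y : Type*} [Group Y] [Finite Y] {p : ℕ} [Fact p.Prime]
    (h : IsPGroup p Y) : HasNormalPComplement p Y := by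
  obtain ⟨Q⟩ : Nonempty (Sylow p Y) := inferInstance
  have htop : (⊤ : Subgroup Y) = Q := Q.is_maximal' (h.to_subgroup ⊤) le_top
  refine ⟨Q, ⊥, inferInstance, ?_⟩
  rw [← htop]
  exact Subgroup.isComplement'_bot_top

/-- **Axiomatic Glauberman–Thompson, characteristic `p` case.** -/
theorem sylow_eq_top_of_axFam [Finite G] {p : ℕ} [Fact p.Prime] (hp : p ≠ 2) (P : Sylow p G)
    {𝒜 : Set (Subgroup G)} (h𝒜 : AxFam (P : Subgroup G) 𝒜)
    (hc : Subgroup.centralizer (pCore p G : Set G) ≤ pCore p G)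
    (hN : HasNormalPComplement p
      ↥(Subgroup.normalizer ((axInf 𝒜 (P : Subgroup G) : Subgroup G) : Set G))) :
    (P : Subgroup G) = ⊤ := by
  by_contra hne
  have hfin : {M : Subgroup G | (P : Subgroup G) < M}.Finite := Set.toFinite _
  obtain ⟨M, hPM, hMmin⟩ := Set.exists_min_image _ (fun M : Subgroup G => Nat.card M) hfin
    ⟨⊤, lt_top_iff_ne_top.2 hne⟩
  have hPM' : (P : Subgroup G) ≤ M := le_of_lt hPM
  set T : Sylow p ↥M := P.subtype hPM' with hT
  have hTcoe : (T : Subgroup ↥M) = (P : Subgroup G).subgroupOf M := Sylow.coe_subtype _ _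
  have hTmap : (T : Subgroup ↥M).map M.subtype = P := by
    rw [hTcoe]; exact Subgroup.map_subgroupOf_eq_of_le hPM'
  have hcoatom : IsCoatom (T : Subgroup ↥M) := by
    constructor
    · intro htop
      have : M ≤ P := by
        intro x hx
        have h1 : (⟨x, hx⟩ : ↥M) ∈ (T : Subgroup ↥M) := by rw [htop]; trivial
        rw [hTcoe, Subgroup.mem_subgroupOf] at h1; exact h1
      exact lt_irrefl _ (lt_of_lt_of_le hPM this)
    · intro B hB
      have h1 : (P : Subgroup G) < B.map M.subtype := by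
        rw [← hTmap]
        refine lt_of_le_of_ne (Subgroup.map_mono hB.le) ?_
        intro heq
        exact hB.ne (Subgroup.map_injective M.subtype_injective heq)
      have h2 : B.map M.subtype ≤ M := Subgroup.map_subtype_le B
      have h3 : Nat.card M ≤ Nat.card (B.map M.subtype) := hMmin _ h1
      have h4 : B.map M.subtype = M := Subgroup.eq_of_le_of_card_ge h2 h3
      rw [eq_top_iff]
      intro x _
      have h5 : (x : G) ∈ B.map M.subtype := by rw [h4]; exact x.2
      obtain ⟨y, hy, hyx⟩ := h5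
      have : y = x := Subtype.ext hyx
      rw [← this]; exact hy
  -- `M` has characteristic `p`
  have hOM : (pCore p G).subgroupOf M ≤ pCore p ↥M :=
    le_pCore_of_normal inferInstance ((isPGroup_pCore p G).comap_subtype)
  have hcM : Subgroup.centralizer (pCore p ↥M : Set ↥M) ≤ pCore p ↥M := by
    intro x hx
    apply hOM
    rw [Subgroup.mem_subgroupOf]
    apply hc
    rw [Subgroup.mem_centralizer_iff]
    intro y hy
    have hyM : y ∈ M := hPM' (pCore_le_sylow' P hy)
    have h1 : (⟨y, hyM⟩ : ↥M) ∈ pCore p ↥M := hOM (Subgroup.mem_subgroupOf.2 hy)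
    have h2 := (Subgroup.mem_centralizer_iff.1 hx) _ h1
    exact congrArg Subtype.val h2
  -- `M / O_p(M)` has a normal `p`-complement
  have hqM : HasNormalPComplement p (↥M ⧸ pCore p ↥M) := by
    have hsurj := QuotientGroup.mk'_surjective (pCore p ↥M)
    set T' : Sylow p (↥M ⧸ pCore p ↥M) := Sylow.mapSurjective hsurj T with hT'
    have hT'c : IsCoatom (T' : Subgroup (↥M ⧸ pCore p ↥M)) := by
      rw [hT', Sylow.coe_mapSurjective]; exact isCoatom_map_mk_pCore T hcoatom
    have hle : (T' : Subgroup (↥M ⧸ pCore p ↥M)) ≤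
        Subgroup.normalizer ((zj (T' : Subgroup (↥M ⧸ pCore p ↥M)) : Subgroup (↥M ⧸ pCore p ↥M)) :
          Set (↥M ⧸ pCore p ↥M)) :=
      Subgroup.le_normalizer.trans (normalizer_le_normalizer_zj _)
    rcases hT'c.le_iff.1 hle with htop | heq
    · -- `Z(J(T'))` is normal, hence trivial
      have hn : (zj (T' : Subgroup (↥M ⧸ pCore p ↥M))).Normal := Subgroup.normalizer_eq_top_iff.1 htop
      have hzp : IsPGroup p (zj (T' : Subgroup (↥M ⧸ pCore p ↥M))) := T'.isPGroup'.to_le (zj_le _)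
      have hz : zj (T' : Subgroup (↥M ⧸ pCore p ↥M)) = ⊥ := by
        rw [← le_bot_iff, ← pCore_quotient_pCore (G := ↥M) p]
        exact le_pCore_of_normal hn hzp
      have hT'bot : (T' : Subgroup (↥M ⧸ pCore p ↥M)) = ⊥ := by
        by_contra hnb
        exact zj_ne_bot _ T'.isPGroup' hnb hz
      refine ⟨T', ⊤, inferInstance, ?_⟩
      rw [hT'bot]
      exact Subgroup.isComplement'_top_bot
    · apply Cfsg.Agent.S0659.result hp T'
      rw [Cfsg.Agent.S0653.centerThompsonAOf_eq_famInf]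
      apply hasNormalPComplement_of_isPGroup
      have h3 : IsPGroup p ↥(Subgroup.normalizer
          ((zj (T' : Subgroup (↥M ⧸ pCore p ↥M)) : Subgroup (↥M ⧸ pCore p ↥M)) : Set (↥M ⧸ pCore p ↥M))) := by
        rw [heq]; exact T'.isPGroup'
      exact h3
  have hstM := hst_of_coatom_sylow hp hqM T hcoatom
  have hAxM : AxFam (T : Subgroup ↥M) (axSub M 𝒜) := by
    rw [hTcoe]; exact h𝒜.sub M hPM'
  have hnorm := axInf_normal T hAxM hcM hstM
  rw [axInf_axSub, hTmap] at hnorm
  have hMN : M ≤ Subgroup.normalizer ((axInf 𝒜 (P : Subgroup G) : Subgroup G) : Set G) :=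
    (Subgroup.normal_subgroupOf_iff_le_normalizer (h𝒜.axInf_le.trans hPM')).1 hnorm
  -- the normal `p`-complement of `N_G(I)` meets `M` trivially
  have hPN : (P : Subgroup G) ≤ Subgroup.normalizer ((axInf 𝒜 (P : Subgroup G) : Subgroup G) : Set G) :=
    h𝒜.le_normalizer
  obtain ⟨K, hKn, hK⟩ :=
    Cfsg.Agent.Lib.Helper2.exists_normal_complement_of_hasNormalPComplement hN (P.subtype hPN)
  have hKcop : (Nat.card K).Coprime p :=
    Cfsg.Agent.Lib.Helper34.card_coprime_of_isComplement' (P.subtype hPN) K hK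
  have hKMn : ((K.map (Subgroup.subtype _)).subgroupOf M).Normal := by
    constructor
    intro k hk m
    rw [Subgroup.mem_subgroupOf] at hk ⊢
    obtain ⟨k₀, hk₀, hk₀k⟩ := hk
    have h1 := hKn.conj_mem k₀ hk₀ ⟨(m : G), hMN m.2⟩
    refine ⟨_, h1, ?_⟩
    simp only [Subgroup.coe_subtype, Subgroup.coe_mul, Subgroup.coe_inv] at hk₀k ⊢
    rw [hk₀k]
  have hdisj : Disjoint ((K.map (Subgroup.subtype _)).subgroupOf M) (pCore p ↥M) := by
    rw [Subgroup.disjoint_def]
    intro x hx1 hx2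
    rw [Subgroup.mem_subgroupOf] at hx1
    obtain ⟨k₀, hk₀, hk₀x⟩ := hx1
    obtain ⟨n, hn⟩ := (isPGroup_pCore p ↥M) ⟨x, hx2⟩
    have hn' : x ^ p ^ n = 1 := by
      have := congrArg Subtype.val hn
      simpa using this
    have h1 : k₀ ^ p ^ n = 1 := by
      apply Subtype.ext
      have h2 : ((k₀ : G)) = (x : G) := hk₀x
      rw [Subgroup.coe_pow, h2, ← Subgroup.coe_pow, hn']
      rfl
    have h3 : k₀ ^ Nat.card K = 1 := by
      have h4 : ((⟨k₀, hk₀⟩ : K) ^ Nat.card K : K) = 1 := pow_card_eq_one'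
      have h5 := congrArg Subtype.val h4
      rwa [Subgroup.coe_pow, Subgroup.coe_one] at h5
    have h5 : orderOf k₀ ∣ Nat.gcd (p ^ n) (Nat.card K) :=
      Nat.dvd_gcd (orderOf_dvd_of_pow_eq_one h1) (orderOf_dvd_of_pow_eq_one h3)
    have h6 : Nat.gcd (p ^ n) (Nat.card K) = 1 := Nat.Coprime.pow_left n hKcop.symm
    rw [h6, Nat.dvd_one, orderOf_eq_one_iff] at h5
    apply Subtype.ext
    rw [← hk₀x, h5]
    rfl
  have hKMbot : (K.map (Subgroup.subtype _)).subgroupOf M = ⊥ := by
    rw [eq_bot_iff]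
    intro x hx
    have hxc : x ∈ Subgroup.centralizer (pCore p ↥M : Set ↥M) := by
      rw [Subgroup.mem_centralizer_iff]
      intro y hy
      exact (Subgroup.commute_of_normal_of_disjoint _ _ hKMn inferInstance hdisj x y hx hy).eq.symm
    exact (Subgroup.disjoint_def.1 hdisj) hx (hcM hxc)
  apply lt_irrefl (P : Subgroup G)
  refine lt_of_lt_of_le hPM ?_
  intro m hm
  obtain ⟨⟨k, t⟩, hkt, -⟩ := hK.existsUnique ⟨m, hMN hm⟩
  have hkt' : ((k : ↥(Subgroup.normalizer ((axInf 𝒜 (P : Subgroup G) : Subgroup G) : Set G))) : G) *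
      ((t : ↥(Subgroup.normalizer ((axInf 𝒜 (P : Subgroup G) : Subgroup G) : Set G))) : G) = m :=
    congrArg Subtype.val hkt
  have htP : ((t : ↥(Subgroup.normalizer ((axInf 𝒜 (P : Subgroup G) : Subgroup G) : Set G))) : G) ∈
      (P : Subgroup G) := by
    have h1 := (SetLike.ext_iff.1 (Sylow.coe_subtype P hPN)
      (t : ↥(Subgroup.normalizer ((axInf 𝒜 (P : Subgroup G) : Subgroup G) : Set G)))).1 t.2
    exact Subgroup.mem_subgroupOf.1 h1
  have hkM : ((k : ↥(Subgroup.normalizer ((axInf 𝒜 (P : Subgroup G) : Subgroup G) : Set G))) : G) ∈ M := by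
    have : ((k : ↥(Subgroup.normalizer ((axInf 𝒜 (P : Subgroup G) : Subgroup G) : Set G))) : G) =
        m * ((t : ↥(Subgroup.normalizer ((axInf 𝒜 (P : Subgroup G) : Subgroup G) : Set G))) : G)⁻¹ := by
      rw [← hkt']; group
    rw [this]
    exact M.mul_mem hm (M.inv_mem (hPM' htP))
  have hk1 : (⟨_, hkM⟩ : ↥M) ∈ (K.map (Subgroup.subtype _)).subgroupOf M := by
    rw [Subgroup.mem_subgroupOf]
    exact ⟨k, k.2, rfl⟩
  rw [hKMbot, Subgroup.mem_bot] at hk1
  have hk1' : ((k : ↥(Subgroup.normalizer ((axInf 𝒜 (P : Subgroup G) : Subgroup G) : Set G))) : G) = 1 :=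
    congrArg Subtype.val hk1
  rw [hk1', one_mul] at hkt'
  rw [← hkt']
  exact htP

end AxGT

end Cfsg.Agent.Lib.Helper87
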