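/-
helper87: the axiomatic Glauberman–Thompson nilpotency criterion for saturated fusion systems (`p` odd).
`𝒜` is a nonempty family of abelian subgroups of `S`, `axInf 𝒜 Q` the intersection of its members inside `Q`, with
invariance (`Aut_F(Q)` preserves `axInf 𝒜 Q` when `Q` contains a member) and replacement (class-two form).  If the
automorphisms of the normalizer system of `axInf 𝒜 S` are `p`-elements (`NPAut`), then all `Aut_F(P)` are `p`-groups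
(`paut_of_npaut_axFam`).  Route: helper88's `exists_constrained_subsystem_zj` gives a constrained non-`PAut` subsystem
over `S`; its model (S5090) carries the image family, an `AxFam`; then `sylow_eq_top_of_axFam`.
-/
import Cfsg.Agent.Lib.Helper87.AxGT
import Cfsg.Agent.Lib.Helper88.FusionNilpSub
import Cfsg.Agent.Lib.Helper88.FusionNilpModel
import Cfsg.Agent.S5090

set_option autoImplicit false
open Cfsg

universe u

namespace Cfsg.Agent.Lib.Helper87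

open scoped commutatorElement
open Cfsg.FusionSystem Cfsg.Agent.Lib.Helper88 Cfsg.Agent.Lib.Helper88.NilpRed Cfsg.Agent.Lib.Helper85

section Image

variable {Ω : Type*} [Group Ω] {S : Subgroup Ω} {G : Type*} [Group G] (ι : S →* G)

theorem imageAlong_mono' {X Y : Subgroup Ω} (h : X ≤ Y) : imageAlong ι X ≤ imageAlong ι Y :=
  Subgroup.map_mono (fun _ hs => h hs)

theorem imageAlong_le_iff' (hι : Function.Injective ι) {X Y : Subgroup Ω} (hX : X ≤ S) :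
    imageAlong ι X ≤ imageAlong ι Y ↔ X ≤ Y := by
  constructor
  · intro h x hx
    have h1 : ι ⟨x, hX hx⟩ ∈ imageAlong ι Y := h ⟨⟨x, hX hx⟩, Subgroup.mem_subgroupOf.2 hx, rfl⟩
    exact (coe_mem_iff_map_mem_imageAlong ι hι Y ⟨x, hX hx⟩).2 h1
  · exact imageAlong_mono' ι

theorem imageAlong_preimageAlong' {Q' : Subgroup G} (hQ' : Q' ≤ ι.range) :
    imageAlong ι (preimageAlong ι Q') = Q' := by
  ext y
  constructor
  · rintro ⟨s, hs, rfl⟩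
    obtain ⟨_, h⟩ := (mem_preimageAlong_iff ι Q' s).1 (Subgroup.mem_subgroupOf.1 hs)
    exact h
  · intro hy
    obtain ⟨s, rfl⟩ := hQ' hy
    exact ⟨s, Subgroup.mem_subgroupOf.2 ((mem_preimageAlong_iff ι Q' s).2 ⟨s.2, hy⟩), rfl⟩

theorem commutator_le_of_le {X Y : Subgroup Ω} (hX : X ≤ S) (hY : Y ≤ S) : ⁅X, Y⁆ ≤ S := by
  rw [Subgroup.commutator_le]
  intro x hx y hy
  rw [commutatorElement_def]
  exact S.mul_mem (S.mul_mem (S.mul_mem (hX hx) (hY hy)) (S.inv_mem (hX hx))) (S.inv_mem (hY hy))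

theorem imageAlong_commutator' {X Y : Subgroup Ω} (hX : X ≤ S) (hY : Y ≤ S) :
    imageAlong ι ⁅X, Y⁆ = ⁅imageAlong ι X, imageAlong ι Y⁆ := by
  have hXY : ⁅X, Y⁆ ≤ S := commutator_le_of_le hX hY
  unfold imageAlong
  have h1 : (⁅X, Y⁆).subgroupOf S = ⁅X.subgroupOf S, Y.subgroupOf S⁆ := by
    apply Subgroup.map_injective S.subtype_injective
    rw [Subgroup.map_commutator, Subgroup.map_subgroupOf_eq_of_le hXY, Subgroup.map_subgroupOf_eq_of_le hX,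
      Subgroup.map_subgroupOf_eq_of_le hY]
  rw [h1, Subgroup.map_commutator]

theorem imageAlong_eq_bot_iff' (hι : Function.Injective ι) {X : Subgroup Ω} (hX : X ≤ S) :
    imageAlong ι X = ⊥ ↔ X = ⊥ := by
  unfold imageAlong
  rw [Subgroup.map_eq_bot_iff_of_injective _ hι, Subgroup.subgroupOf_eq_bot, disjoint_iff, inf_of_le_left hX]

theorem imageAlong_le_normalizer' {X Y : Subgroup Ω}
    (h : X ≤ Subgroup.normalizer (Y : Set Ω)) :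
    imageAlong ι X ≤ Subgroup.normalizer ((imageAlong ι Y : Subgroup G) : Set G) := by
  unfold imageAlong
  refine (Subgroup.map_mono ?_).trans (Subgroup.le_normalizer_map ι)
  intro s hs
  have h1 : (s : Ω) ∈ Subgroup.normalizer (Y : Set Ω) := h (Subgroup.mem_subgroupOf.1 hs)
  rw [Subgroup.mem_normalizer_iff] at h1 ⊢
  intro y
  rw [Subgroup.mem_subgroupOf, Subgroup.mem_subgroupOf]
  exact h1 y

/-- The image family in the realizing group. -/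
def axImage (𝒜 : Set (Subgroup Ω)) : Set (Subgroup G) := (fun A => imageAlong ι A) '' 𝒜

theorem axInf_axImage (hι : Function.Injective ι) {𝒜 : Set (Subgroup Ω)} (h𝒜S : ∀ A ∈ 𝒜, A ≤ S)
    {Q' : Subgroup G} (hQ' : Q' ≤ ι.range) (hex : ∃ A ∈ 𝒜, imageAlong ι A ≤ Q') :
    axInf (axImage ι 𝒜) Q' = imageAlong ι (axInf 𝒜 (preimageAlong ι Q')) := by
  have key : ∀ A ∈ 𝒜, imageAlong ι A ≤ Q' ↔ A ≤ preimageAlong ι Q' := by
    intro A hA
    rw [← imageAlong_le_iff' ι hι (h𝒜S A hA), imageAlong_preimageAlong' ι hQ']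
  ext y
  rw [mem_axInf_iff]
  constructor
  · intro h
    obtain ⟨A₀, hA₀, hA₀Q⟩ := hex
    obtain ⟨s, hs, rfl⟩ := h _ ⟨A₀, hA₀, rfl⟩ hA₀Q
    refine ⟨s, Subgroup.mem_subgroupOf.2 ?_, rfl⟩
    rw [mem_axInf_iff]
    intro A hA hAQ
    have := h _ ⟨A, hA, rfl⟩ ((key A hA).2 hAQ)
    exact (coe_mem_iff_map_mem_imageAlong ι hι A s).2 this
  · rintro ⟨s, hs, rfl⟩ A' ⟨A, hA, rfl⟩ hAQ
    have hs' := (mem_axInf_iff _ _ _).1 (Subgroup.mem_subgroupOf.1 hs) A hA ((key A hA).1 hAQ)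
    exact (coe_mem_iff_map_mem_imageAlong ι hι A s).1 hs'

end Image

section Main

variable {Ω : Type u} [Group Ω] {S : Subgroup Ω}

theorem axInf_top_eq {𝒜 : Set (Subgroup Ω)} (h𝒜S : ∀ A ∈ 𝒜, A ≤ S) : axInf 𝒜 S = ⨅ A ∈ 𝒜, A := by
  ext x
  rw [mem_axInf_iff]
  simp only [Subgroup.mem_iInf]
  exact ⟨fun h A hA => h A hA (h𝒜S A hA), fun h A hA _ => h A hA⟩

/-- The image family is an `AxFam` in a group realizing the system. -/
theorem axFam_axImage [Finite S] (E : FusionSystem S) {G : Type u} [Group G] [Finite G] (ι : S →* G)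
    (hR : E.IsRealizedBy ι) (T : Subgroup G) (hTr : T = ι.range) (𝒜 : Set (Subgroup Ω))
    (h𝒜 : ∀ A ∈ 𝒜, A ≤ S ∧ IsMulCommutative ↥A) (hne : 𝒜.Nonempty)
    (hinv : ∀ Q : Subgroup Ω, Q ≤ S → (∃ A ∈ 𝒜, A ≤ Q) → ∀ α ∈ E.autGroup Q, ∀ x : ↥Q,
      (x : Ω) ∈ axInf 𝒜 Q → (((α : MulAut ↥Q) x : ↥Q) : Ω) ∈ axInf 𝒜 Q)
    (hrep : ∀ B : Subgroup Ω, B ≤ S → ⁅⁅B, B⁆, B⁆ = ⊥ → (∃ A ∈ 𝒜, ⁅B, B⁆ ≤ A ∧ ¬ B ≤ A) →
      ∃ A ∈ 𝒜, ⁅B, B⁆ ≤ A ∧ ¬ B ≤ A ∧ B ≤ Subgroup.normalizer (A : Set Ω)) :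
    AxFam T (axImage ι 𝒜) := by
  have hι : Function.Injective ι := hR.1
  have h𝒜S : ∀ A ∈ 𝒜, A ≤ S := fun A hA => (h𝒜 A hA).1
  refine ⟨?_, ?_, ?_, ?_, ?_⟩
  · rintro _ ⟨A, hA, rfl⟩
    rw [hTr]
    exact imageAlong_le_range ι A
  · rintro _ ⟨A, hA, rfl⟩
    have := (h𝒜 A hA).2
    have : IsMulCommutative ↥(A.subgroupOf S) := Subgroup.subgroupOf_isMulCommutative S A
    exact Subgroup.map_isMulCommutative _ _
  · obtain ⟨A, hA⟩ := hne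
    exact ⟨_, A, hA, rfl⟩
  · rintro Q' hQ' ⟨_, ⟨A, hA, rfl⟩, hAQ⟩ g hg
    have hQ'r : Q' ≤ ι.range := hTr ▸ hQ'
    rw [axInf_axImage ι hι h𝒜S hQ'r ⟨A, hA, hAQ⟩]
    have hQS : preimageAlong ι Q' ≤ S := preimageAlong_le ι Q'
    have hAQ' : A ≤ preimageAlong ι Q' := by
      rw [← imageAlong_le_iff' ι hι (h𝒜S A hA), imageAlong_preimageAlong' ι hQ'r]
      exact hAQ
    have hmemQ : ∀ x : ↥(preimageAlong ι Q'), ι ⟨x, hQS x.2⟩ ∈ Q' :=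
      fun x => ((mem_preimageAlong_iff ι Q' x).1 x.2).2
    have hconj' : ∀ x : ↥(preimageAlong ι Q'), g * ι ⟨x, hQS x.2⟩ * g⁻¹ ∈ Q' :=
      fun x => (Subgroup.mem_normalizer_iff.1 hg _).1 (hmemQ x)
    have hconj : ∀ x : ↥(preimageAlong ι Q'), g * ι ⟨x, hQS x.2⟩ * g⁻¹ ∈ ι.range :=
      fun x => hQ'r (hconj' x)
    have hφ := Model.conjThrough_mem_hom E hR hQS g hconj
    have hφQ : ∀ x, Model.conjThrough ι hι hQS g hconj x ∈ preimageAlong ι Q' := by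
      intro x
      rw [mem_preimageAlong_iff]
      refine ⟨Model.conjThrough_mem ι hι hQS g hconj x, ?_⟩
      rw [Model.ι_conjThrough]
      exact hconj' x
    have : Finite ↥(preimageAlong ι Q') := finite_of_le hQS
    obtain ⟨β, hβ, hβx⟩ := exists_aut_of_maps_into' E hφ hφQ
    apply mem_normalizer_of_conj_mem_of_finite
    rintro _ ⟨s, hs, rfl⟩
    have hsI : (s : Ω) ∈ axInf 𝒜 (preimageAlong ι Q') := Subgroup.mem_subgroupOf.1 hs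
    have hsQ : (s : Ω) ∈ preimageAlong ι Q' := hAQ' (axInf_le_mem hA hAQ' hsI)
    have h1 := hinv _ hQS ⟨A, hA, hAQ'⟩ β hβ ⟨s, hsQ⟩ hsI
    have h2 : ι ⟨((β ⟨s, hsQ⟩ : ↥(preimageAlong ι Q')) : Ω), hQS (β ⟨s, hsQ⟩).2⟩ = g * ι s * g⁻¹ := by
      have h3 : (⟨((β ⟨s, hsQ⟩ : ↥(preimageAlong ι Q')) : Ω), hQS (β ⟨s, hsQ⟩).2⟩ : S) =
          ⟨Model.conjThrough ι hι hQS g hconj ⟨s, hsQ⟩,
            Model.conjThrough_mem ι hι hQS g hconj ⟨s, hsQ⟩⟩ := Subtype.ext (hβx _)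
      rw [h3]
      exact Model.ι_conjThrough ι hι hQS g hconj ⟨s, hsQ⟩
    rw [← h2]
    exact ⟨_, Subgroup.mem_subgroupOf.2 h1, rfl⟩
  · rintro B' hB' hcl ⟨_, ⟨A, hA, rfl⟩, hDA, hnBA⟩
    have hB'r : B' ≤ ι.range := hTr ▸ hB'
    have hBS : preimageAlong ι B' ≤ S := preimageAlong_le ι B'
    have hBim : imageAlong ι (preimageAlong ι B') = B' := imageAlong_preimageAlong' ι hB'r
    have hDS : ⁅preimageAlong ι B', preimageAlong ι B'⁆ ≤ S := commutator_le_of_le hBS hBS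
    have hDim : imageAlong ι ⁅preimageAlong ι B', preimageAlong ι B'⁆ = ⁅B', B'⁆ := by
      rw [imageAlong_commutator' ι hBS hBS, hBim]
    have hcl' : ⁅⁅preimageAlong ι B', preimageAlong ι B'⁆, preimageAlong ι B'⁆ = ⊥ := by
      rw [← imageAlong_eq_bot_iff' ι hι (commutator_le_of_le hDS hBS), imageAlong_commutator' ι hDS hBS, hDim,
        hBim, hcl]
    have hDA' : ⁅preimageAlong ι B', preimageAlong ι B'⁆ ≤ A := by
      rw [← imageAlong_le_iff' ι hι hDS, hDim]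
      exact hDA
    have hnBA' : ¬ preimageAlong ι B' ≤ A := by
      intro hle
      apply hnBA
      rw [← hBim]
      exact imageAlong_mono' ι hle
    obtain ⟨A₁, hA₁, h1, h2, h3⟩ := hrep _ hBS hcl' ⟨A, hA, hDA', hnBA'⟩
    refine ⟨imageAlong ι A₁, ⟨A₁, hA₁, rfl⟩, ?_, ?_, ?_⟩
    · rw [← hDim]
      exact imageAlong_mono' ι h1
    · intro hle
      apply h2
      rw [← hBim] at hle
      exact (imageAlong_le_iff' ι hι hBS).1 hle
    · rw [← hBim]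
      exact imageAlong_le_normalizer' ι h3

theorem npaut_of_subsystem {p : ℕ} (E F : FusionSystem S) (hEF : ∀ P : Subgroup Ω, E.Hom P ⊆ F.Hom P)
    {U : Subgroup Ω} (h : NPAut F p U) : NPAut E p U := by
  intro R hUR hRN β hβ hβU
  have hRS : R ≤ S := hRN.trans inf_le_left
  refine h R hUR hRN β ?_ hβU
  rw [mem_autGroup_iff F hRS]
  exact hEF R ((mem_autGroup_iff E hRS).1 hβ)

/-- `S` normalizes `axInf 𝒜 S` (invariance for `Q = S` and the inner automorphisms). -/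
theorem le_normalizerIn_axInf [Finite S] (F : FusionSystem S) (𝒜 : Set (Subgroup Ω))
    (h𝒜S : ∀ A ∈ 𝒜, A ≤ S) (hne : 𝒜.Nonempty)
    (hinv : ∀ Q : Subgroup Ω, Q ≤ S → (∃ A ∈ 𝒜, A ≤ Q) → ∀ α ∈ F.autGroup Q, ∀ x : ↥Q,
      (x : Ω) ∈ axInf 𝒜 Q → (((α : MulAut ↥Q) x : ↥Q) : Ω) ∈ axInf 𝒜 Q) :
    S ≤ normalizerIn S (axInf 𝒜 S) := by
  obtain ⟨A, hA⟩ := hne
  have hIS : axInf 𝒜 S ≤ S := (axInf_le_mem hA (h𝒜S A hA)).trans (h𝒜S A hA)
  intro s hs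
  refine ⟨hs, ?_⟩
  have hinn : conjAut S s (Subgroup.le_normalizer hs) ∈ F.autGroup S :=
    autInducedBy_le_autGroup F le_rfl (mem_autInducedBy_iff.2 ⟨s, hs, fun y => rfl⟩)
  have : Finite ↥(axInf 𝒜 S) := finite_of_le hIS
  apply mem_normalizer_of_conj_mem_of_finite (P := axInf 𝒜 S)
  intro y hy
  exact hinv S le_rfl ⟨A, hA, h𝒜S A hA⟩ _ hinn ⟨y, hIS hy⟩ hy

/-- **Axiomatic Glauberman–Thompson for fusion systems**, in `PAut`/`NPAut` form. -/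
theorem paut_of_npaut_axFam {p : ℕ} [Fact p.Prime] (hp : p ≠ 2) [Finite S] (hS : IsPGroup p S)
    (F : FusionSystem S) (hF : F.IsSaturated p) (𝒜 : Set (Subgroup Ω))
    (h𝒜 : ∀ A ∈ 𝒜, A ≤ S ∧ IsMulCommutative ↥A) (hne : 𝒜.Nonempty)
    (hinv : ∀ Q : Subgroup Ω, Q ≤ S → (∃ A ∈ 𝒜, A ≤ Q) → ∀ α ∈ F.autGroup Q, ∀ x : ↥Q,
      (x : Ω) ∈ axInf 𝒜 Q → (((α : MulAut ↥Q) x : ↥Q) : Ω) ∈ axInf 𝒜 Q)
    (hrep : ∀ B : Subgroup Ω, B ≤ S → ⁅⁅B, B⁆, B⁆ = ⊥ → (∃ A ∈ 𝒜, ⁅B, B⁆ ≤ A ∧ ¬ B ≤ A) →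
      ∃ A ∈ 𝒜, ⁅B, B⁆ ≤ A ∧ ¬ B ≤ A ∧ B ≤ Subgroup.normalizer (A : Set Ω))
    (h : NPAut F p (axInf 𝒜 S)) : PAut F p := by
  by_contra hnot
  obtain ⟨E, hEF, hcon, hEnot⟩ := exists_constrained_subsystem_zj hp hS F hF hnot
  obtain ⟨G, _, ι, hM⟩ := Cfsg.Agent.S5090.result p hS E hcon
  obtain ⟨hfin, hR, ⟨T, hTr⟩, hc⟩ := hM
  have := hfin
  have hι : Function.Injective ι := hR.1
  have h𝒜S : ∀ A ∈ 𝒜, A ≤ S := fun A hA => (h𝒜 A hA).1
  have hinvE : ∀ Q : Subgroup Ω, Q ≤ S → (∃ A ∈ 𝒜, A ≤ Q) → ∀ α ∈ E.autGroup Q, ∀ x : ↥Q,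
      (x : Ω) ∈ axInf 𝒜 Q → (((α : MulAut ↥Q) x : ↥Q) : Ω) ∈ axInf 𝒜 Q := by
    intro Q hQS hex α hα
    apply hinv Q hQS hex α
    rw [mem_autGroup_iff F hQS]
    exact hEF Q ((mem_autGroup_iff E hQS).1 hα)
  have hAx : AxFam (T : Subgroup G) (axImage ι 𝒜) :=
    axFam_axImage E ι hR T hTr 𝒜 h𝒜 hne hinvE hrep
  have hIS : axInf 𝒜 S ≤ S := by
    obtain ⟨A, hA⟩ := hne
    exact (axInf_le_mem hA (h𝒜S A hA)).trans (h𝒜S A hA)
  -- `S` normalizes `I(S)`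
  have hSN : S ≤ normalizerIn S (axInf 𝒜 S) := le_normalizerIn_axInf F 𝒜 h𝒜S hne hinv
  have hE_np : NPAut E p (axInf 𝒜 S) := npaut_of_subsystem E F hEF h
  have h1 := hasNPC_normalizer_of_npaut E ι hR T hTr (axInf 𝒜 S) hIS hSN hE_np
  have h2 : imageAlong ι (axInf 𝒜 S) = axInf (axImage ι 𝒜) (T : Subgroup G) := by
    obtain ⟨A, hA⟩ := hne
    rw [axInf_axImage ι hι h𝒜S (le_of_eq hTr) ⟨A, hA, hTr ▸ imageAlong_le_range ι A⟩]
    congr 1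
    have : preimageAlong ι (T : Subgroup G) = S := by
      apply le_antisymm (preimageAlong_le ι _)
      intro s hs
      rw [mem_preimageAlong_iff]
      exact ⟨hs, hTr ▸ ⟨⟨s, hs⟩, rfl⟩⟩
    rw [this]
  rw [h2] at h1
  have htop := sylow_eq_top_of_axFam hp T hAx hc h1
  apply hEnot
  apply paut_of_hasNPC E ι hR T hTr
  refine ⟨T, ⊥, inferInstance, ?_⟩
  rw [htop]
  exact Subgroup.isComplement'_bot_top

end Main

end Cfsg.Agent.Lib.Helper87
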