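import Mathlib
import Cfsg.Agent.Lib.Helper70.Cube

/-!
# Ideals of filtrations in the Host–Kra cube group (helper87)

Complements to `Cfsg.Agent.Lib.Helper70.Cube`: if `M` is an ideal for the family `B`
(`⁅B i, M j⁆ ≤ M (i + j)`, `M` antitone), then the cube group of `B` normalizes the cube group of `M`;
if moreover `⁅B i, B j⁆ ≤ M (i + j)` then commutators of the cube group of `B` lie in the cube group
of `M`.
-/

set_option autoImplicit false

namespace Cfsg.Agent.Lib.Helper87

open Cfsg.Agent.Lib.Helper70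
open scoped commutatorElement

section ideal
variable {ι : Type*} [DecidableEq ι] {G : Type*} [Group G]

/-- `M` is an ideal for the family `B`. -/
structure IsCubeIdeal (B M : ℕ → Subgroup G) : Prop where
  anti : Antitone M
  comm : ∀ i j, ⁅B i, M j⁆ ≤ M (i + j)

theorem hkGroup_mono_family {B B' : ℕ → Subgroup G} (h : ∀ i, B i ≤ B' i) (A : Finset ι) :
    hkGroup B A ≤ hkGroup B' A := by
  unfold hkGroup
  apply Subgroup.closure_mono
  rintro v ⟨S, hS, g, hg, rfl⟩
  exact ⟨S, hS, g, h _ hg, rfl⟩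

/-- the cube group of `B` normalizes the cube group of an ideal `M` -/
theorem hkGroup_conj_mem_ideal {B M : ℕ → Subgroup G} (hM : IsCubeIdeal B M) (A : Finset ι)
    {u : Finset ι → G} (hu : u ∈ hkGroup B A) :
    (∀ n ∈ hkGroup M A, u * n * u⁻¹ ∈ hkGroup M A) ∧
    (∀ n ∈ hkGroup M A, u⁻¹ * n * u ∈ hkGroup M A) := by
  have hgen : ∀ (T : Finset ι), T ⊆ A → ∀ h ∈ B T.card,
      ∀ n ∈ hkGroup M A, cubeGen T h * n * (cubeGen T h)⁻¹ ∈ hkGroup M A := by
    intro T hT h hh n hn
    unfold hkGroup at hn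
    induction hn using Subgroup.closure_induction with
    | mem n hn =>
      obtain ⟨S, hS, g, hg, rfl⟩ := hn
      rw [cubeGen_conj]
      refine mul_mem ?_ (cubeGen_mem_hkGroup _ hS hg)
      refine cubeGen_mem_hkGroup _ (Finset.union_subset hT hS) ?_
      have h1 : ⁅h, g⁆ ∈ M (T.card + S.card) :=
        hM.comm _ _ (Subgroup.commutator_mem_commutator hh hg)
      exact hM.anti (Finset.card_union_le T S) h1
    | one => simp
    | mul a b _ _ ha hb =>
      have : cubeGen T h * (a * b) * (cubeGen T h)⁻¹ =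
          (cubeGen T h * a * (cubeGen T h)⁻¹) * (cubeGen T h * b * (cubeGen T h)⁻¹) := by group
      rw [this]
      exact mul_mem ha hb
    | inv a _ ha =>
      have : cubeGen T h * a⁻¹ * (cubeGen T h)⁻¹ = (cubeGen T h * a * (cubeGen T h)⁻¹)⁻¹ := by
        group
      rw [this]
      exact inv_mem ha
  unfold hkGroup at hu
  induction hu using Subgroup.closure_induction with
  | mem u hu =>
    obtain ⟨T, hT, h, hh, rfl⟩ := hu
    refine ⟨hgen T hT h hh, ?_⟩
    intro n hn
    have := hgen T hT h⁻¹ (inv_mem hh) n hn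
    rwa [map_inv, inv_inv] at this
  | one => simp
  | mul a b _ _ ha hb =>
    refine ⟨fun n hn => ?_, fun n hn => ?_⟩
    · have : a * b * n * (a * b)⁻¹ = a * (b * n * b⁻¹) * a⁻¹ := by group
      rw [this]
      exact ha.1 _ (hb.1 n hn)
    · have : (a * b)⁻¹ * n * (a * b) = b⁻¹ * (a⁻¹ * n * a) * b := by group
      rw [this]
      exact hb.2 _ (ha.2 n hn)
  | inv a _ ha =>
    refine ⟨fun n hn => ?_, fun n hn => ?_⟩
    · have : a⁻¹ * n * a⁻¹⁻¹ = a⁻¹ * n * a := by group
      rw [this]
      exact ha.2 n hn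
    · have : a⁻¹⁻¹ * n * a⁻¹ = a * n * a⁻¹ := by group
      rw [this]
      exact ha.1 n hn

theorem cubeGen_commutator (S T : Finset ι) (g h : G) :
    ⁅(cubeGen T h : Finset ι → G), cubeGen S g⁆ = cubeGen (T ∪ S) ⁅h, g⁆ := by
  rw [commutatorElement_def, cubeGen_conj]
  group

/-- commutators of the cube group of `B` lie in the cube group of `M` -/
theorem commutator_mem_hkGroup {B M : ℕ → Subgroup G} (hM : IsCubeIdeal B M)
    (hBB : ∀ i j, ⁅B i, B j⁆ ≤ M (i + j)) (A : Finset ι) {u v : Finset ι → G}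
    (hu : u ∈ hkGroup B A) (hv : v ∈ hkGroup B A) : ⁅u, v⁆ ∈ hkGroup M A := by
  -- first: `u` a generator
  have hgen : ∀ (T : Finset ι), T ⊆ A → ∀ h ∈ B T.card, ∀ v ∈ hkGroup B A,
      ⁅(cubeGen T h : Finset ι → G), v⁆ ∈ hkGroup M A := by
    intro T hT h hh v hv
    have hv' := hv
    unfold hkGroup at hv
    induction hv using Subgroup.closure_induction with
    | mem v hv =>
      obtain ⟨S, hS, g, hg, rfl⟩ := hv
      rw [cubeGen_commutator]
      refine cubeGen_mem_hkGroup _ (Finset.union_subset hT hS) ?_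
      have h1 : ⁅h, g⁆ ∈ M (T.card + S.card) :=
        hBB _ _ (Subgroup.commutator_mem_commutator hh hg)
      exact hM.anti (Finset.card_union_le T S) h1
    | one => simp
    | mul a b ha' hb' ha hb =>
      have ha'' : a ∈ hkGroup B A := ha'
      have hb'' : b ∈ hkGroup B A := hb'
      have : ⁅(cubeGen T h : Finset ι → G), a * b⁆ =
          ⁅(cubeGen T h : Finset ι → G), a⁆ * (a * ⁅(cubeGen T h : Finset ι → G), b⁆ * a⁻¹) := by
        simp only [commutatorElement_def]; group
      rw [this]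
      exact mul_mem (ha ha'') ((hkGroup_conj_mem_ideal hM A ha'').1 _ (hb hb''))
    | inv a ha' ha =>
      have ha'' : a ∈ hkGroup B A := ha'
      have : ⁅(cubeGen T h : Finset ι → G), a⁻¹⁆ =
          a⁻¹ * (⁅(cubeGen T h : Finset ι → G), a⁆)⁻¹ * a := by
        simp only [commutatorElement_def]; group
      rw [this]
      exact (hkGroup_conj_mem_ideal hM A ha'').2 _ (inv_mem (ha ha''))
  have hu' := hu
  unfold hkGroup at hu
  induction hu using Subgroup.closure_induction with
  | mem u hu =>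
    obtain ⟨T, hT, h, hh, rfl⟩ := hu
    exact hgen T hT h hh v hv
  | one => simp
  | mul a b ha' hb' ha hb =>
    have ha'' : a ∈ hkGroup B A := ha'
    have hb'' : b ∈ hkGroup B A := hb'
    have : ⁅a * b, v⁆ = (a * ⁅b, v⁆ * a⁻¹) * ⁅a, v⁆ := by
      simp only [commutatorElement_def]; group
    rw [this]
    exact mul_mem ((hkGroup_conj_mem_ideal hM A ha'').1 _ (hb hb'')) (ha ha'')
  | inv a ha' ha =>
    have ha'' : a ∈ hkGroup B A := ha'
    have : ⁅a⁻¹, v⁆ = a⁻¹ * (⁅a, v⁆)⁻¹ * a := by
      simp only [commutatorElement_def]; group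
    rw [this]
    exact (hkGroup_conj_mem_ideal hM A ha'').2 _ (inv_mem (ha ha''))

end ideal

end Cfsg.Agent.Lib.Helper87
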