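import Mathlib
import Cfsg.Agent.Lib.Helper70.HallPetrescu
import Cfsg.Agent.Lib.Helper87.CubeIdeal

/-!
# The leading term of the collection formula (helper87)

For `x a : G` and families `B`, `M` of subgroups with `a ∈ B 1`, `⁅x, B j⁆ ⊆ B (j+1)`,
`M` an ideal for `B` and `⁅B i, B j⁆ ≤ M (i+j)`:
`(a x)^k x^{-k} = (∏_i l_i^{C(k,i)}) (∏_j q_j^{C(k,j)})` with `l_1 = a`, `l_{i+1} = ⁅x, l_i⁆` and `q_j ∈ M j`,
`q_0 = 1`.  The proof computes in the Host–Kra cube group modulo the cube group of `M`, where the
cube group of `B` is abelian.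
-/

set_option autoImplicit false

namespace Cfsg.Agent.Lib.Helper87

open Cfsg.Agent.Lib.Helper70
open scoped commutatorElement

section lists

/-- the nonempty subsets of `range t`, in the order produced by the collection process -/
def collList : ℕ → List (Finset ℕ)
  | 0 => []
  | t + 1 => {t} :: (collList t).flatMap (fun S => [insert t S, S])

theorem collList_mem (t : ℕ) : ∀ S ∈ collList t, S ⊆ Finset.range t ∧ S.Nonempty := by
  induction t with
  | zero => intro S hS; simp [collList] at hS
  | succ t ih =>
    intro S hS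
    rw [collList, List.mem_cons] at hS
    rcases hS with rfl | hS
    · exact ⟨by simp, Finset.singleton_nonempty t⟩
    · rw [List.mem_flatMap] at hS
      obtain ⟨S', hS', hSS'⟩ := hS
      obtain ⟨h1, h2⟩ := ih S' hS'
      have hsub : Finset.range t ⊆ Finset.range (t + 1) :=
        Finset.range_subset_range.mpr (Nat.le_succ t)
      simp only [List.mem_cons, List.not_mem_nil, or_false] at hSS'
      rcases hSS' with rfl | rfl
      · refine ⟨?_, Finset.insert_nonempty _ _⟩
        intro y hy
        rcases Finset.mem_insert.mp hy with rfl | hy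
        · simp
        · exact hsub (h1 hy)
      · exact ⟨h1.trans hsub, h2⟩

theorem flatMap_pair_prod {α H : Type*} [Monoid H] (l : List α) (g : α → α) (f : α → H) :
    ((l.flatMap (fun S => [g S, S])).map f).prod = (l.map (fun S => f (g S) * f S)).prod := by
  induction l with
  | nil => simp
  | cons s l ih =>
    rw [List.flatMap_cons, List.map_append, List.prod_append, ih]
    simp [mul_assoc]

theorem collList_prod {C : Type*} [CommMonoid C] (t : ℕ) :
    ∀ f : Finset ℕ → C,
      ((collList t).map f).prod * f ∅ = ∏ S ∈ (Finset.range t).powerset, f S := by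
  induction t with
  | zero => intro f; simp [collList]
  | succ t ih =>
    intro f
    have h1 := ih f
    have h2 := ih (fun S => f (insert t S))
    rw [collList, List.map_cons, List.prod_cons, flatMap_pair_prod, List.prod_map_mul]
    rw [Finset.range_add_one, Finset.prod_powerset_insert Finset.notMem_range_self, ← h1, ← h2]
    simp only [insert_empty_eq]
    ac_rfl

theorem list_range_prod_eq {C : Type*} [CommMonoid C] (n : ℕ) (f : ℕ → C) :
    ((List.range n).map f).prod = ∏ i ∈ Finset.range n, f i := by
  induction n with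
  | zero => simp
  | succ n ih =>
    rw [List.range_succ, List.map_append, List.prod_append, ih, Finset.prod_range_succ]
    simp

end lists

section elements
variable {G : Type*} [Group G]

/-- iterated commutators: `1, a, ⁅x,a⁆, ⁅x,⁅x,a⁆⁆, …` -/
def ltSeq (x a : G) : ℕ → G
  | 0 => 1
  | 1 => a
  | k + 2 => ⁅x, ltSeq x a (k + 1)⁆

@[simp] theorem ltSeq_zero (x a : G) : ltSeq x a 0 = 1 := rfl
@[simp] theorem ltSeq_one (x a : G) : ltSeq x a 1 = a := rfl
theorem ltSeq_succ_succ (x a : G) (k : ℕ) : ltSeq x a (k + 2) = ⁅x, ltSeq x a (k + 1)⁆ := rfl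

theorem ltSeq_mem {B : ℕ → Subgroup G} (x a : G) (hx : ∀ j, ∀ b ∈ B j, ⁅x, b⁆ ∈ B (j + 1))
    (ha : a ∈ B 1) : ∀ i, ltSeq x a i ∈ B i := by
  intro i
  induction i using Nat.strong_induction_on with
  | _ i ih =>
    match i with
    | 0 => exact one_mem _
    | 1 => exact ha
    | k + 2 => exact hx _ _ (ih (k + 1) (by omega))

/-- the cube element `T ↦ (a x)^{|T ∩ range t|} x^{-|T ∩ range t|}`, built by collection -/
def nuCube (x a : G) : ℕ → (Finset ℕ → G)
  | 0 => 1
  | t + 1 => cubeGen {t} a * (cubeGen {t} x * nuCube x a t * (cubeGen {t} x)⁻¹)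

theorem card_inter_range_succ (T : Finset ℕ) (t : ℕ) :
    (T ∩ Finset.range (t + 1)).card = (T ∩ Finset.range t).card + if t ∈ T then 1 else 0 := by
  rw [Finset.range_add_one]
  by_cases h : t ∈ T
  · rw [Finset.inter_insert_of_mem h, Finset.card_insert_of_notMem, if_pos h]
    intro h'
    exact Finset.notMem_range_self (Finset.mem_inter.mp h').2
  · rw [Finset.inter_insert_of_notMem h, if_neg h, add_zero]

theorem nuCube_apply (x a : G) (t : ℕ) (T : Finset ℕ) :
    nuCube x a t T = (a * x) ^ (T ∩ Finset.range t).card * (x ^ (T ∩ Finset.range t).card)⁻¹ := by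
  induction t with
  | zero => simp [nuCube]
  | succ t ih =>
    rw [nuCube, card_inter_range_succ]
    simp only [Pi.mul_apply, Pi.inv_apply, cubeGen_apply, Finset.singleton_subset_iff, ih]
    by_cases h : t ∈ T
    · simp only [h, if_true]
      rw [pow_succ' (a * x), pow_succ x]
      group
    · simp [h]

theorem conj_list_prod {H : Type*} [Group H] (g : H) (l : List H) :
    g * l.prod * g⁻¹ = (l.map (fun y => g * y * g⁻¹)).prod := by
  induction l with
  | nil => simp
  | cons y l ih =>
    rw [List.prod_cons, List.map_cons, List.prod_cons, ← ih]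
    group

theorem nuCube_eq_list (x a : G) (t : ℕ) :
    nuCube x a t = ((collList t).map (fun S => (cubeGen S (ltSeq x a S.card) : Finset ℕ → G))).prod := by
  induction t with
  | zero => simp [nuCube, collList]
  | succ t ih =>
    rw [nuCube, ih, conj_list_prod, collList, List.map_cons, List.prod_cons, flatMap_pair_prod,
      List.map_map]
    congr 1
    congr 1
    apply List.map_congr_left
    intro S hS
    obtain ⟨hsub, hne⟩ := collList_mem t S hS
    have htS : t ∉ S := fun h => Finset.notMem_range_self (hsub h)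
    have hcard : (insert t S).card = S.card + 1 := Finset.card_insert_of_notMem htS
    obtain ⟨k, hk⟩ : ∃ k, S.card = k + 1 := ⟨S.card - 1, by
      have := Finset.card_pos.mpr hne
      omega⟩
    simp only [Function.comp]
    rw [cubeGen_conj, hcard, hk, ltSeq_succ_succ]
    congr 2

/-- the layer `∏_{S ⊆ A, |S| = j} cubeGen S g` -/
noncomputable def cubeLayerOn (A : Finset ℕ) (j : ℕ) (g : G) : Finset ℕ → G :=
  (((Finset.powersetCard j A).toList).map (fun S => (cubeGen S g : Finset ℕ → G))).prod

theorem cubeLayerOn_apply (A : Finset ℕ) (j : ℕ) (g : G) (T : Finset ℕ) :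
    cubeLayerOn A j g T = g ^ ((T ∩ A).card.choose j) := by
  rw [cubeLayerOn, list_prod_cubeGen_apply, countP_toList']
  congr 1
  rw [← Finset.card_powersetCard]
  congr 1
  ext S
  simp only [Finset.mem_filter, Finset.mem_powersetCard, Finset.subset_inter_iff]
  tauto

theorem cubeLayerOn_mem (F : ℕ → Subgroup G) (A : Finset ℕ) (j : ℕ) {g : G} (hg : g ∈ F j) :
    cubeLayerOn A j g ∈ hkGroup F A := by
  rw [cubeLayerOn]
  apply Subgroup.list_prod_mem
  intro v hv
  obtain ⟨S, hS, rfl⟩ := List.mem_map.mp hv
  rw [Finset.mem_toList, Finset.mem_powersetCard] at hS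
  exact cubeGen_mem_hkGroup F hS.1 (by rw [hS.2]; exact hg)

/-- the linear part `T ↦ ∏_i l_i^{C(|T ∩ range t|, i)}` -/
noncomputable def lamCube (x a : G) (t : ℕ) : Finset ℕ → G :=
  ((List.range (t + 1)).map (fun i => cubeLayerOn (Finset.range t) i (ltSeq x a i))).prod

theorem lamCube_apply (x a : G) (t : ℕ) (T : Finset ℕ) :
    lamCube x a t T =
      ((List.range (t + 1)).map
        (fun i => ltSeq x a i ^ ((T ∩ Finset.range t).card.choose i))).prod := by
  rw [lamCube, Pi.list_prod_apply, List.map_map]
  congr 1
  apply List.map_congr_left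
  intro i _
  simp [cubeLayerOn_apply]

end elements

end Cfsg.Agent.Lib.Helper87
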