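import Mathlib
import Cfsg.Agent.Lib.Helper87.CubeLead

/-!
# Taylor coefficients of polynomial sequences (helper87)

If the cube functions `T ↦ g |T ∩ range t|` lie in the Host–Kra cube groups of a filtration `M`, then
`g k = ∏_{j ≤ k} q_j^{C(k,j)}` with `q_j ∈ M j` (generalization of Helper70's Hall–Petrescu argument).
-/

set_option autoImplicit false

namespace Cfsg.Agent.Lib.Helper87

open Cfsg.Agent.Lib.Helper70
open scoped commutatorElement

section taylor
variable {G : Type*} [Group G]

/-- the Taylor coefficients of a sequence -/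
noncomputable def taylorCoeff (g : ℕ → G) (k : ℕ) : G :=
  (((List.range k).attach.map (fun j => taylorCoeff g j.1 ^ Nat.choose k j.1)).prod)⁻¹ * g k
termination_by k
decreasing_by exact List.mem_range.mp j.2

/-- the ordered partial products `∏_{j<m} q_j^{C(k,j)}` -/
noncomputable def taylorProd (g : ℕ → G) (k m : ℕ) : G :=
  ((List.range m).map (fun j => taylorCoeff g j ^ Nat.choose k j)).prod

theorem taylorCoeff_eq (g : ℕ → G) (k : ℕ) :
    taylorCoeff g k = (taylorProd g k k)⁻¹ * g k := by
  rw [taylorCoeff, taylorProd]
  congr 3
  exact List.attach_map_val (l := List.range k) (f := fun j => taylorCoeff g j ^ Nat.choose k j)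

theorem taylorProd_succ (g : ℕ → G) (k m : ℕ) :
    taylorProd g k (m + 1) = taylorProd g k m * taylorCoeff g m ^ Nat.choose k m := by
  rw [taylorProd, taylorProd, List.range_succ, List.map_append, List.prod_append]
  simp

theorem taylorProd_self_succ (g : ℕ → G) (k : ℕ) : taylorProd g k (k + 1) = g k := by
  rw [taylorProd_succ, Nat.choose_self, pow_one, taylorCoeff_eq]
  group

theorem taylorProd_of_lt (g : ℕ → G) {k m : ℕ} (h : k < m) : taylorProd g k m = g k := by
  induction m with
  | zero => omega
  | succ m ih =>
    rcases Nat.lt_succ_iff_lt_or_eq.mp h with h' | h'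
    · rw [taylorProd_succ, ih h', Nat.choose_eq_zero_of_lt h', pow_zero, mul_one]
    · subst h'
      exact taylorProd_self_succ g k

theorem taylorCoeff_zero (g : ℕ → G) : taylorCoeff g 0 = g 0 := by
  rw [taylorCoeff_eq, taylorProd]
  simp

/-- The Taylor coefficients of a polynomial sequence lie in the filtration. -/
theorem taylorCoeff_mem {M : ℕ → Subgroup G} (hM : IsFiltration M) (g : ℕ → G)
    (hg : ∀ t, (fun T : Finset ℕ => g (T ∩ Finset.range t).card) ∈ hkGroup M (Finset.range t))
    (k : ℕ) : taylorCoeff g k ∈ M k := by
  induction k using Nat.strong_induction_on with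
  | _ k ih =>
  let w : Finset ℕ → G := fun T => g (T ∩ Finset.range k).card
  let D : Finset ℕ → G :=
    ((List.range k).map (fun j => cubeLayerOn (Finset.range k) j (taylorCoeff g j))).prod
  have hw : w ∈ hkGroup M (Finset.range k) := hg k
  have hD : D ∈ hkGroup M (Finset.range k) := by
    apply Subgroup.list_prod_mem
    intro v hv
    obtain ⟨j, hj, rfl⟩ := List.mem_map.mp hv
    exact cubeLayerOn_mem _ _ j (ih j (List.mem_range.mp hj))
  have hDT : ∀ T : Finset ℕ, D T = taylorProd g (T ∩ Finset.range k).card k := by
    intro T
    simp only [D]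
    rw [Pi.list_prod_apply, List.map_map, taylorProd]
    congr 1
    apply List.map_congr_left
    intro j _
    simp [cubeLayerOn_apply]
  have key := hkGroup_top_mem (Finset.range k) hM (D⁻¹ * w) (mul_mem (inv_mem hD) hw) (by
    intro T hT
    have hcard : (T ∩ Finset.range k).card < k := by
      have h1 : T ∩ Finset.range k = T := Finset.inter_eq_left.mpr hT.1
      have := Finset.card_lt_card hT
      rw [h1]
      simpa using this
    rw [Pi.mul_apply, Pi.inv_apply, hDT, taylorProd_of_lt g hcard]
    simp [w])
  rw [Pi.mul_apply, Pi.inv_apply, hDT] at key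
  simp only [w, Finset.inter_self, Finset.card_range] at key
  rw [← taylorCoeff_eq] at key
  exact key

end taylor

end Cfsg.Agent.Lib.Helper87
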