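import Mathlib
import Cfsg.Agent.Lib.Helper87.CubeTaylor

/-!
# The leading-term theorem (helper87)

`(a x)^k x^{-k} = (∏_{i ≤ k} l_i^{C(k,i)}) (∏_{j ≤ k} q_j^{C(k,j)})` with `l_1 = a`, `l_{i+1} = ⁅x, l_i⁆`,
`q_j ∈ M j`, `q_0 = 1`, whenever `a ∈ B 1`, `⁅x, B j⁆ ⊆ B (j+1)`, `M` is an ideal for `B` with `M ≤ B`
and `⁅B i, B j⁆ ≤ M (i+j)`.
-/

set_option autoImplicit false

namespace Cfsg.Agent.Lib.Helper87

open Cfsg.Agent.Lib.Helper70
open scoped commutatorElement

section main
variable {G : Type*} [Group G]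

/-- In the cube group, the collected element and its linear part agree modulo the cube group of `M`. -/
theorem cube_congruence {B M : ℕ → Subgroup G} (hM : IsCubeIdeal B M)
    (hBB : ∀ i j, ⁅B i, B j⁆ ≤ M (i + j)) (x a : G)
    (hx : ∀ j, ∀ b ∈ B j, ⁅x, b⁆ ∈ B (j + 1)) (ha : a ∈ B 1) (t : ℕ) :
    (lamCube x a t)⁻¹ * nuCube x a t ∈ hkGroup M (Finset.range t) := by
  classical
  set 𝓑 : Subgroup (Finset ℕ → G) := hkGroup B (Finset.range t) with h𝓑
  have hl : ∀ i, ltSeq x a i ∈ B i := ltSeq_mem x a hx ha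
  let gen : Finset ℕ → ↥𝓑 := fun S =>
    if h : S ⊆ Finset.range t then
      ⟨cubeGen S (ltSeq x a S.card), cubeGen_mem_hkGroup B h (hl _)⟩
    else 1
  have hgen : ∀ S, S ⊆ Finset.range t →
      ((gen S : ↥𝓑) : Finset ℕ → G) = cubeGen S (ltSeq x a S.card) := by
    intro S hS
    simp only [gen, dif_pos hS]
  set νB : ↥𝓑 := ((collList t).map gen).prod with hνB
  set lamB : ↥𝓑 := ((List.range (t + 1)).map
    (fun i => (((Finset.powersetCard i (Finset.range t)).toList).map gen).prod)).prod with hlamB
  have hν : ((νB : ↥𝓑) : Finset ℕ → G) = nuCube x a t := by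
    rw [nuCube_eq_list, hνB]
    have := map_list_prod 𝓑.subtype ((collList t).map gen)
    simp only [Subgroup.coe_subtype] at this
    rw [this, List.map_map]
    congr 1
    apply List.map_congr_left
    intro S hS
    exact hgen S (collList_mem t S hS).1
  have hlam : ((lamB : ↥𝓑) : Finset ℕ → G) = lamCube x a t := by
    rw [lamCube, hlamB]
    have := map_list_prod 𝓑.subtype ((List.range (t + 1)).map
      (fun i => (((Finset.powersetCard i (Finset.range t)).toList).map gen).prod))
    simp only [Subgroup.coe_subtype] at this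
    rw [this, List.map_map]
    congr 1
    apply List.map_congr_left
    intro i _
    simp only [Function.comp]
    have h2 := map_list_prod 𝓑.subtype
      (((Finset.powersetCard i (Finset.range t)).toList).map gen)
    simp only [Subgroup.coe_subtype] at h2
    rw [h2, List.map_map, cubeLayerOn]
    congr 1
    apply List.map_congr_left
    intro S hS
    rw [Finset.mem_toList, Finset.mem_powersetCard] at hS
    simp only [Function.comp]
    rw [hgen S hS.1, hS.2]
  -- compare in the abelianization of `𝓑`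
  let f : Finset ℕ → Abelianization ↥𝓑 := fun S => Abelianization.of (gen S)
  have hf0 : f ∅ = 1 := by
    have h1 : gen ∅ = 1 := by
      apply Subtype.ext
      rw [hgen ∅ (Finset.empty_subset _)]
      simp
    simp only [f, h1, map_one]
  have e1 : Abelianization.of νB = ∏ S ∈ (Finset.range t).powerset, f S := by
    rw [hνB, map_list_prod, List.map_map, ← collList_prod t f, hf0, mul_one]
    rfl
  have e2 : Abelianization.of lamB = ∏ S ∈ (Finset.range t).powerset, f S := by
    rw [hlamB, map_list_prod, List.map_map, Finset.prod_powerset, Finset.card_range,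
      ← list_range_prod_eq]
    congr 1
    apply List.map_congr_left
    intro i _
    simp only [Function.comp]
    rw [map_list_prod, List.map_map, ← Finset.prod_map_toList]
    rfl
  have e3 : lamB⁻¹ * νB ∈ _root_.commutator ↥𝓑 := by
    rw [← Abelianization.ker_of, MonoidHom.mem_ker, map_mul, map_inv, e1, e2, inv_mul_cancel]
  have e4 : ((lamB⁻¹ * νB : ↥𝓑) : Finset ℕ → G) ∈ ⁅𝓑, 𝓑⁆ := by
    rw [← Subgroup.map_subtype_commutator]
    exact ⟨_, e3, rfl⟩
  have e5 : ⁅𝓑, 𝓑⁆ ≤ hkGroup M (Finset.range t) :=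
    Subgroup.commutator_le.mpr (fun u hu v hv => commutator_mem_hkGroup hM hBB _ hu hv)
  have e6 := e5 e4
  rw [Subgroup.coe_mul, Subgroup.coe_inv, hν, hlam] at e6
  exact e6

/-- the linear part `∏_{i<N} l_i^{C(k,i)}` -/
noncomputable def linPart (x a : G) (k N : ℕ) : G :=
  ((List.range N).map (fun i => ltSeq x a i ^ Nat.choose k i)).prod

theorem linPart_succ (x a : G) (k N : ℕ) :
    linPart x a k (N + 1) = linPart x a k N * ltSeq x a N ^ Nat.choose k N := by
  rw [linPart, linPart, List.range_succ, List.map_append, List.prod_append]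
  simp

theorem linPart_of_lt (x a : G) {k N : ℕ} (h : k < N) : linPart x a k N = linPart x a k (k + 1) := by
  induction N with
  | zero => omega
  | succ N ih =>
    rcases Nat.lt_succ_iff_lt_or_eq.mp h with h' | h'
    · rw [linPart_succ, ih h', Nat.choose_eq_zero_of_lt h', pow_zero, mul_one]
    · subst h'; rfl

/-- the remainder sequence -/
noncomputable def remSeq (x a : G) (k : ℕ) : G :=
  (linPart x a k (k + 1))⁻¹ * ((a * x) ^ k * (x ^ k)⁻¹)

/-- **Leading-term theorem.** -/
theorem leading_term {B M : ℕ → Subgroup G} (hMB : ∀ i, M i ≤ B i) (hM : IsCubeIdeal B M)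
    (hBB : ∀ i j, ⁅B i, B j⁆ ≤ M (i + j)) (x a : G)
    (hx : ∀ j, ∀ b ∈ B j, ⁅x, b⁆ ∈ B (j + 1)) (ha : a ∈ B 1) :
    taylorCoeff (remSeq x a) 0 = 1 ∧ (∀ j, taylorCoeff (remSeq x a) j ∈ M j) ∧
      ∀ k, (a * x) ^ k * (x ^ k)⁻¹ =
        linPart x a k (k + 1) * taylorProd (remSeq x a) k (k + 1) := by
  have hMfil : IsFiltration M :=
    { anti := hM.anti
      comm := fun i j => (Subgroup.commutator_mono (hMB i) le_rfl).trans (hM.comm i j) }
  refine ⟨?_, ?_, ?_⟩
  · rw [taylorCoeff_zero, remSeq, linPart]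
    simp
  · apply taylorCoeff_mem hMfil
    intro t
    have h1 := cube_congruence hM hBB x a hx ha t
    have h2 : (fun T : Finset ℕ => remSeq x a (T ∩ Finset.range t).card) =
        (lamCube x a t)⁻¹ * nuCube x a t := by
      funext T
      rw [Pi.mul_apply, Pi.inv_apply, lamCube_apply, nuCube_apply, remSeq]
      have hle : (T ∩ Finset.range t).card < t + 1 := by
        have := Finset.card_le_card (Finset.inter_subset_right (s₁ := T) (s₂ := Finset.range t))
        rw [Finset.card_range] at this
        omega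
      rw [← linPart_of_lt x a hle]
      rfl
    rw [h2]
    exact h1
  · intro k
    rw [taylorProd_self_succ, remSeq]
    group

end main

end Cfsg.Agent.Lib.Helper87
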