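import Mathlib
import Cfsg.Agent.Lib.Helper87.CubeLeadMain

/-!
# The exact power structure of `γ₂` of a `p`-group with a uniserially acting element of order `p`
(helper87)

Let `x ∈ G` with `x ^ p = 1` such that every element of the coset `x γ₂(G)` is conjugate to `x`, and
`γ_n(G) = 1`.  Then `u ∈ γ_{k+1}` implies `u ^ p ∈ γ_{k+p}` (`k ≥ 1`), and if moreover `x` acts
uniserially, `u ^ p ∈ γ_{k+p+1}` forces `u ∈ γ_{k+2}` (as long as `k + p ≤ n - 1`).
Indices below are Mathlib's: `Γ k = (⊤ : Subgroup G).lowerCentralSeries k = γ_{k+1}(G)`.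
-/

set_option autoImplicit false

namespace Cfsg.Agent.Lib.Helper87

open Cfsg.Agent.Lib.Helper70
open scoped commutatorElement

section power
variable {G : Type*} [Group G]

local notation "Γ" => Subgroup.lowerCentralSeries (⊤ : Subgroup G)

theorem lcs_anti {i j : ℕ} (h : i ≤ j) : Γ j ≤ Γ i :=
  Subgroup.lowerCentralSeries_antitone _ h

theorem comm_mem_lcs_succ (x : G) {m : ℕ} {b : G} (hb : b ∈ Γ m) : ⁅x, b⁆ ∈ Γ (m + 1) := by
  rw [Subgroup.lowerCentralSeries_succ]
  have h1 : ⁅b, x⁆ ∈ ⁅Γ m, (⊤ : Subgroup G)⁆ :=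
    Subgroup.commutator_mem_commutator hb (Subgroup.mem_top x)
  have h2 : ⁅x, b⁆ = ⁅b, x⁆⁻¹ := (commutatorElement_inv b x).symm
  rw [h2]
  exact inv_mem h1

/-- the families used in the leading-term theorem -/
def famB (k : ℕ) (j : ℕ) : Subgroup G := Γ (k + (j - 1))
def famM (k : ℕ) (j : ℕ) : Subgroup G := Γ (2 * k + 1 + (j - 2))

theorem famM_le_famB (k i : ℕ) : (famM k i : Subgroup G) ≤ famB k i :=
  lcs_anti (by omega)

theorem famM_ideal (k : ℕ) : IsCubeIdeal (famB (G := G) k) (famM k) where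
  anti := fun i j h => lcs_anti (by omega)
  comm := fun i j => (lcs_comm_le (G := G) _ _).trans (lcs_anti (by omega))

theorem famB_comm (k i j : ℕ) : ⁅(famB (G := G) k i : Subgroup G), famB (G := G) k j⁆ ≤ famM (G := G) k (i + j) :=
  (lcs_comm_le (G := G) _ _).trans (lcs_anti (by omega))

theorem famB_x (k : ℕ) (x : G) : ∀ j, ∀ b ∈ (famB k j : Subgroup G), ⁅x, b⁆ ∈ famB k (j + 1) := by
  intro j b hb
  exact lcs_anti (by omega) (comm_mem_lcs_succ x hb)

/-- the key congruence: `a ^ p * l_p ∈ Γ (k + p)` provided `p`-th powers of deeper terms are deep -/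
theorem pow_mul_ltSeq_mem {p : ℕ} (hp : p.Prime) (x : G) (hxp : x ^ p = 1)
    (hconj : ∀ c ∈ Γ 1, ∃ g : G, g * x * g⁻¹ = x * c)
    (k : ℕ) (hk : 1 ≤ k)
    (ih : ∀ k', k < k' → ∀ u ∈ Γ k', u ^ p ∈ Γ (k' + p - 1))
    (a : G) (ha : a ∈ Γ k) : a ^ p * ltSeq x a p ∈ Γ (k + p) := by
  have hp2 : 2 ≤ p := hp.two_le
  obtain ⟨hq0, hq, hform⟩ := leading_term (famM_le_famB k) (famM_ideal k) (famB_comm k) x a
    (famB_x k x) (by simpa [famB] using ha)
  have hl : ∀ i, ltSeq x a i ∈ (famB k i : Subgroup G) :=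
    ltSeq_mem x a (famB_x k x) (by simpa [famB] using ha)
  -- `(a x)^p = 1`
  have hax : (a * x) ^ p = 1 := by
    have hc : x⁻¹ * a * x ∈ Γ 1 := by
      have h1 : a ∈ Γ 1 := lcs_anti hk ha
      have hn : (Γ 1).Normal := inferInstance
      have := hn.conj_mem a h1 x⁻¹
      simpa using this
    obtain ⟨g, hg⟩ := hconj _ hc
    have e : a * x = g * x * g⁻¹ := by rw [hg]; group
    rw [e]
    have : (g * x * g⁻¹) ^ p = g * x ^ p * g⁻¹ := by
      have h1 : g * x * g⁻¹ = MulAut.conj g x := rfl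
      rw [h1, ← map_pow]; rfl
    rw [this, hxp]; group
  have hform' := hform p
  rw [hax, hxp] at hform'
  set N : Subgroup G := Γ (k + p) with hN
  have hNn : N.Normal := inferInstance
  -- deeper powers land in `N`
  have hdeep : ∀ m, k < m → ∀ u ∈ Γ m, ∀ c, p ∣ c → u ^ c ∈ N := by
    intro m hm u hu c hc
    obtain ⟨d, rfl⟩ := hc
    rw [pow_mul']
    exact lcs_anti (by omega) (ih m hm _ (pow_mem hu d))
  -- the linear part
  have hlin : ∀ m, 2 ≤ m → m ≤ p →
      ((linPart x a p m : G) : G ⧸ N) = ((a ^ p : G) : G ⧸ N) := by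
    intro m hm2 hmp
    induction m with
    | zero => omega
    | succ m ihm =>
      rcases Nat.lt_or_ge m 2 with hlt | hge
      · have hm1 : m = 1 := by omega
        subst hm1
        rw [linPart_succ, linPart_succ]
        simp [linPart]
      · rw [linPart_succ, QuotientGroup.mk_mul, ihm hge (by omega)]
        have h1 : ltSeq x a m ^ Nat.choose p m ∈ N := by
          apply hdeep (k + (m - 1)) (by omega) _ (hl m)
          exact hp.dvd_choose_self (by omega) (by omega)
        rw [(QuotientGroup.eq_one_iff _).mpr h1, mul_one]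
  -- the remainder part
  have hrem : ∀ m, m ≤ p + 1 → taylorProd (remSeq x a) p m ∈ N := by
    intro m hm
    induction m with
    | zero => simp [taylorProd]
    | succ m ihm =>
      rw [taylorProd_succ]
      refine mul_mem (ihm (by omega)) ?_
      rcases Nat.eq_zero_or_pos m with rfl | hm0
      · rw [hq0]; simp
      · rcases Nat.lt_or_ge m p with hlt | hge
        · apply hdeep (2 * k + 1 + (m - 2)) (by omega) _ (hq m)
          exact hp.dvd_choose_self (by omega) hlt
        · have hmp : m = p := by omega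
          subst hmp
          rw [Nat.choose_self, pow_one]
          exact lcs_anti (by omega) (hq m)
  have h1 : ((linPart x a p (p + 1) * taylorProd (remSeq x a) p (p + 1) : G) : G ⧸ N) = 1 := by
    rw [← hform']; simp
  rw [QuotientGroup.mk_mul, (QuotientGroup.eq_one_iff _).mpr (hrem (p + 1) le_rfl), mul_one,
    linPart_succ, QuotientGroup.mk_mul, hlin p hp2 le_rfl, Nat.choose_self, pow_one,
    ← QuotientGroup.mk_mul, QuotientGroup.eq_one_iff] at h1
  exact h1

/-- **Upper bound of the power structure.** -/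
theorem pow_mem_lcs {p : ℕ} (hp : p.Prime) (n : ℕ) (hbot : Γ (n - 1) = ⊥) (x : G) (hxp : x ^ p = 1)
    (hconj : ∀ c ∈ Γ 1, ∃ g : G, g * x * g⁻¹ = x * c) :
    ∀ k, 1 ≤ k → ∀ u ∈ Γ k, u ^ p ∈ Γ (k + p - 1) := by
  have key : ∀ d k, 1 ≤ k → n - 1 ≤ k + d → ∀ u ∈ Γ k, u ^ p ∈ Γ (k + p - 1) := by
    intro d
    induction d with
    | zero =>
      intro k _ hkn u hu
      have : u ∈ Γ (n - 1) := lcs_anti (by omega) hu
      rw [hbot, Subgroup.mem_bot] at this
      rw [this, one_pow]; exact one_mem _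
    | succ d ihd =>
      intro k hk hkn u hu
      have ih : ∀ k', k < k' → ∀ u ∈ Γ k', u ^ p ∈ Γ (k' + p - 1) :=
        fun k' hk' => ihd k' (by omega) (by omega)
      have h1 := pow_mul_ltSeq_mem hp x hxp hconj k hk ih u hu
      have h2 : ltSeq x u p ∈ Γ (k + p - 1) := by
        have := ltSeq_mem x u (famB_x k x) (by simpa [famB] using hu) p
        simpa [famB, Nat.add_sub_assoc hp.one_lt.le] using this
      have h3 : u ^ p * ltSeq x u p ∈ Γ (k + p - 1) := lcs_anti (by omega) h1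
      have := mul_mem h3 (inv_mem h2)
      simpa using this
  intro k hk
  exact key n k hk (by omega)

/-- **Lower bound of the power structure.** -/
theorem mem_lcs_of_pow_mem {p : ℕ} (hp : p.Prime) (n : ℕ) (hbot : Γ (n - 1) = ⊥) (x : G)
    (hxp : x ^ p = 1) (hconj : ∀ c ∈ Γ 1, ∃ g : G, g * x * g⁻¹ = x * c)
    (huni : ∀ k, 1 ≤ k → k + 3 ≤ n → ∀ u ∈ Γ k, ⁅x, u⁆ ∈ Γ (k + 2) → u ∈ Γ (k + 1)) :
    ∀ k, 1 ≤ k → k + p ≤ n - 1 → ∀ u ∈ Γ k, u ^ p ∈ Γ (k + p) → u ∈ Γ (k + 1) := by
  intro k hk hkp u hu hup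
  have hP1 := pow_mem_lcs hp n hbot x hxp hconj
  have h1 := pow_mul_ltSeq_mem hp x hxp hconj k hk (fun k' hk' => hP1 k' (by omega)) u hu
  have h2 : ltSeq x u p ∈ Γ (k + p) := by
    have := mul_mem (inv_mem hup) h1
    simpa using this
  have hl : ∀ i, ltSeq x u i ∈ (famB k i : Subgroup G) :=
    ltSeq_mem x u (famB_x k x) (by simpa [famB] using hu)
  -- descend
  have hdesc : ∀ d, d + 1 ≤ p → ltSeq x u (p - d) ∈ Γ (k + (p - d)) := by
    intro d
    induction d with
    | zero => intro _; simpa using h2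
    | succ d ihd =>
      intro hd
      have h3 := ihd (by omega)
      obtain ⟨i, hi⟩ : ∃ i, p - (d + 1) = i + 1 := ⟨p - (d + 1) - 1, by omega⟩
      have hi' : p - d = i + 2 := by omega
      rw [hi'] at h3
      rw [ltSeq_succ_succ] at h3
      have h4 : ltSeq x u (i + 1) ∈ Γ (k + i) := by
        have := hl (i + 1)
        simpa [famB] using this
      have h5 := huni (k + i) (by omega) (by omega) _ h4 (by
        have e : k + i + 2 = k + (i + 2) := by ring
        rw [e]; exact h3)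
      rw [hi]
      have e : k + (i + 1) = k + i + 1 := by ring
      rw [e]; exact h5
  have hp1 : 1 ≤ p := hp.one_lt.le
  have := hdesc (p - 1) (by omega)
  have e : p - (p - 1) = 1 := by omega
  rw [e] at this
  simpa using this

end power

end Cfsg.Agent.Lib.Helper87
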