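import Mathlib
import Cfsg.Agent.Lib.Helper87.PowerStructure
import Cfsg.Agent.Lib.Helper59.MaxClassStructure
import Cfsg.Agent.Lib.Helper87.OliverIndexP

/-!
# 3-groups of maximal class with an element of order 3 whose centralizer has order 9 (helper87)

The standing context `B3.Ctx n x` for S5239 and the elementary facts on the levels `Γ k` (Mathlib-indexed lower
central series, `Γ k = γ_{k+1}`).
-/

set_option autoImplicit false
set_option linter.unusedSectionVars false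

namespace Cfsg.Agent.Lib.Helper87.B3

open Cfsg.Agent.Lib.Helper70
open scoped commutatorElement

variable {G : Type*} [Group G] [Finite G]

local notation "Γ" => Subgroup.lowerCentralSeries (⊤ : Subgroup G)

/-- The standing context. -/
structure Ctx (n : ℕ) (x : G) : Prop where
  hn : 4 ≤ n
  card : Nat.card G = 3 ^ n
  lcard : ∀ k, 1 ≤ k → k ≤ n - 1 → Nat.card (Γ k) = 3 ^ (n - 1 - k)
  xpow : x ^ 3 = 1
  xnot : x ∉ Γ 1
  conj : ∀ c ∈ Γ 1, ∃ g : G, g * x * g⁻¹ = x * c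
  uni : ∀ k, 1 ≤ k → k + 3 ≤ n → ∀ u ∈ Γ k, ⁅x, u⁆ ∈ Γ (k + 2) → u ∈ Γ (k + 1)
  powU : ∀ k, 1 ≤ k → ∀ u ∈ Γ k, u ^ 3 ∈ Γ (k + 2)
  powL : ∀ k, 1 ≤ k → k + 3 ≤ n - 1 → ∀ u ∈ Γ k, u ^ 3 ∈ Γ (k + 3) → u ∈ Γ (k + 1)

/-- The context from the raw hypotheses. -/
theorem Ctx.of_raw (n : ℕ) (hn : 4 ≤ n) (hG : Nat.card G = 3 ^ n) (hcl : Group.nilpotencyClass G = n - 1)
    (x : G) (hx : x ^ 3 = 1) (hC : Nat.card (Subgroup.centralizer ({x} : Set G)) = 3 ^ 2) : Ctx n x := by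
  obtain ⟨hcard, hxn, hconj, huni⟩ :=
    Cfsg.Agent.Lib.Helper59.MaxClassStructure.maxclass_structure (p := 3) n (by omega) hG hcl x hx hC
  have hbot : (⊤ : Subgroup G).lowerCentralSeries (n - 1) = ⊥ := by
    have h1 := hcard (n - 1) (by omega) le_rfl
    rw [Nat.sub_self, pow_zero] at h1
    exact Subgroup.card_eq_one.mp h1
  have hU := pow_mem_lcs Nat.prime_three n hbot x hx hconj
  have hL := mem_lcs_of_pow_mem Nat.prime_three n hbot x hx hconj huni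
  exact ⟨hn, hG, hcard, hx, hxn, hconj, huni, fun k hk u hu => by simpa using hU k hk u hu,
    fun k hk hk' u hu hu3 => hL k hk hk' u hu hu3⟩

/-- The context for `x⁻¹`. -/
theorem Ctx.of_raw_inv (n : ℕ) (hn : 4 ≤ n) (hG : Nat.card G = 3 ^ n) (hcl : Group.nilpotencyClass G = n - 1)
    (x : G) (hx : x ^ 3 = 1) (hC : Nat.card (Subgroup.centralizer ({x} : Set G)) = 3 ^ 2) : Ctx n x⁻¹ := by
  apply Ctx.of_raw n hn hG hcl x⁻¹ (by rw [inv_pow, hx, inv_one])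
  have : Subgroup.centralizer ({x⁻¹} : Set G) = Subgroup.centralizer ({x} : Set G) := by
    ext g
    simp only [Subgroup.mem_centralizer_iff, Set.mem_singleton_iff, forall_eq]
    constructor
    · intro h
      have h1 : x * (x⁻¹ * g) * x = x * (g * x⁻¹) * x := by rw [h]
      have h2 : x * (x⁻¹ * g) * x = g * x := by group
      have h3 : x * (g * x⁻¹) * x = x * g := by group
      rw [h2, h3] at h1
      exact h1.symm
    · intro h
      have h1 : x⁻¹ * (x * g) * x⁻¹ = x⁻¹ * (g * x) * x⁻¹ := by rw [h]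
      have h2 : x⁻¹ * (x * g) * x⁻¹ = g * x⁻¹ := by group
      have h3 : x⁻¹ * (g * x) * x⁻¹ = x⁻¹ * g := by group
      rw [h2, h3] at h1
      exact h1.symm
  rw [this]; exact hC

section Levels

variable {n : ℕ} {x : G}

theorem Ctx.isPGroup (c : Ctx n x) : IsPGroup 3 G := IsPGroup.of_card c.card

theorem Ctx.bot (c : Ctx n x) {m : ℕ} (hm : n - 1 ≤ m) : Γ m = ⊥ := by
  have h1 := c.lcard (n - 1) (by have := c.hn; omega) le_rfl
  rw [Nat.sub_self, pow_zero] at h1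
  have h2 : Γ (n - 1) = ⊥ := Subgroup.card_eq_one.mp h1
  exact le_bot_iff.mp (h2 ▸ lcs_anti hm)

/-- `|Γ k : Γ (k+1)| = 3` for `1 ≤ k ≤ n - 2`. -/
theorem Ctx.relIndex (c : Ctx n x) {k : ℕ} (hk : 1 ≤ k) (hk' : k + 2 ≤ n) : (Γ (k + 1)).relIndex (Γ k) = 3 := by
  have h1 := Subgroup.relIndex_mul_relIndex (⊥ : Subgroup G) (Γ (k + 1)) (Γ k) bot_le (lcs_anti (Nat.le_succ k))
  rw [Subgroup.relIndex_bot_left, Subgroup.relIndex_bot_left, c.lcard (k + 1) (by omega) (by omega),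
    c.lcard k hk (by omega)] at h1
  have h2 : (3 : ℕ) ^ (n - 1 - k) = 3 ^ (n - 1 - (k + 1)) * 3 := by
    rw [← pow_succ]; congr 1; omega
  rw [h2] at h1
  exact Nat.eq_of_mul_eq_mul_left (by positivity) h1

/-- There is an element of exact level `k` for `1 ≤ k ≤ n - 2`. -/
theorem Ctx.exists_level (c : Ctx n x) {k : ℕ} (hk : 1 ≤ k) (hk' : k + 2 ≤ n) : ∃ u ∈ Γ k, u ∉ Γ (k + 1) := by
  by_contra h
  push Not at h
  have h1 : (Γ (k + 1)).relIndex (Γ k) = 1 := Subgroup.relIndex_eq_one.mpr h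
  rw [c.relIndex hk hk'] at h1
  omega

/-- Decomposition of `Γ k` along an element of exact level `k`. -/
theorem Ctx.decomp (c : Ctx n x) {k : ℕ} (hk : 1 ≤ k) (hk' : k + 2 ≤ n) {u₀ : G} (hu₀ : u₀ ∈ Γ k)
    (hu₀' : u₀ ∉ Γ (k + 1)) {u : G} (hu : u ∈ Γ k) : ∃ v ∈ Γ (k + 1), ∃ j : ℤ, u = v * u₀ ^ j := by
  have hp : IsPGroup 3 (Γ k) := c.isPGroup.to_subgroup _
  obtain ⟨a, ha, w, hw, rfl⟩ := exists_decomp_of_relIndex_prime (p := 3) hp (lcs_anti (Nat.le_succ k))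
    (c.relIndex hk hk') hu₀ hu₀' hu
  obtain ⟨j, rfl⟩ := Subgroup.mem_zpowers_iff.mp hw
  exact ⟨a, ha, j, rfl⟩

/-- `|G : Γ 1| = 9`. -/
theorem Ctx.index_one (c : Ctx n x) : (Γ 1).index = 9 := by
  have h1 := Subgroup.card_mul_index (Γ 1)
  rw [c.lcard 1 le_rfl (by have := c.hn; omega), c.card] at h1
  have h2 : (3 : ℕ) ^ n = 3 ^ (n - 1 - 1) * 9 := by
    have := c.hn
    have : n = (n - 1 - 1) + 2 := by omega
    conv_lhs => rw [this]
    rw [pow_add]; norm_num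
  rw [h2] at h1
  exact Nat.eq_of_mul_eq_mul_left (by positivity) h1

/-- `⁅g, u⁆ ∈ Γ (k+1)` for `u ∈ Γ k`. -/
theorem comm_mem_succ (g : G) {k : ℕ} {u : G} (hu : u ∈ Γ k) : ⁅g, u⁆ ∈ Γ (k + 1) :=
  comm_mem_lcs_succ g hu

/-- `⁅a, b⁆ ∈ N ↔` the images commute. -/
theorem comm_mem_iff_commute (N : Subgroup G) [N.Normal] (a b : G) :
    ⁅a, b⁆ ∈ N ↔ Commute (QuotientGroup.mk' N a) (QuotientGroup.mk' N b) := by
  rw [← commutatorElement_eq_one_iff_commute, ← map_commutatorElement]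
  exact (QuotientGroup.eq_one_iff _).symm

end Levels

end Cfsg.Agent.Lib.Helper87.B3
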