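import Mathlib
import Cfsg.Agent.Lib.Helper87.B3Ctx

/-!
# The two-step centralizers of a 3-group of maximal class (helper87)

`twoStep k = {g | ⁅g, Γ k⁆ ≤ Γ (k+2)}`; `twoStep 1 = C_G(γ₂/γ₄)` is the subgroup `γ₁` of Blackburn's theory.
-/

set_option autoImplicit false
set_option linter.unusedSectionVars false

namespace Cfsg.Agent.Lib.Helper87.B3

open Cfsg.Agent.Lib.Helper70
open scoped commutatorElement

variable {G : Type*} [Group G] [Finite G]

local notation "Γ" => Subgroup.lowerCentralSeries (⊤ : Subgroup G)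
local notation "π" => fun m => QuotientGroup.mk' (Subgroup.lowerCentralSeries (⊤ : Subgroup G) m)

/-- The two-step centralizer `C_G(Γ k / Γ (k+2))`. -/
def twoStep (k : ℕ) : Subgroup G where
  carrier := {g | ∀ u ∈ Γ k, ⁅g, u⁆ ∈ Γ (k + 2)}
  one_mem' := by
    intro u _
    rw [commutatorElement_one_left]
    exact one_mem _
  mul_mem' := by
    intro a b ha hb u hu
    have h1 := (comm_mem_iff_commute (Γ (k + 2)) a u).mp (ha u hu)
    have h2 := (comm_mem_iff_commute (Γ (k + 2)) b u).mp (hb u hu)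
    rw [comm_mem_iff_commute, map_mul]
    exact h1.mul_left h2
  inv_mem' := by
    intro a ha u hu
    have h1 := (comm_mem_iff_commute (Γ (k + 2)) a u).mp (ha u hu)
    rw [comm_mem_iff_commute, map_inv]
    exact h1.inv_left

theorem mem_twoStep {k : ℕ} {g : G} :
    g ∈ twoStep (G := G) k ↔ ∀ u ∈ Γ k, Commute (π (k + 2) g) (π (k + 2) u) := by
  constructor
  · intro h u hu
    exact (comm_mem_iff_commute (Γ (k + 2)) g u).mp (h u hu)
  · intro h u hu
    exact (comm_mem_iff_commute (Γ (k + 2)) g u).mpr (h u hu)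

/-- elements of `Γ (m+1)`... are central modulo `Γ (m+2)`: images of `Γ m` commute with everything mod `Γ (m+1)` -/
theorem commute_of_mem {m : ℕ} {v : G} (hv : v ∈ Γ m) (g : G) : Commute (π (m + 1) g) (π (m + 1) v) :=
  (comm_mem_iff_commute (Γ (m + 1)) g v).mp (comm_mem_succ g hv)

theorem lcs_one_le_twoStep {k : ℕ} (hk : 1 ≤ k) : Γ 1 ≤ twoStep (G := G) k := by
  intro a ha u hu
  have h1 : ⁅a, u⁆ ∈ ⁅Γ 1, Γ k⁆ := Subgroup.commutator_mem_commutator ha hu
  have h2 := lcs_comm_le (G := G) 1 k h1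
  exact lcs_anti (by omega) h2

section ctx

variable {n : ℕ} {x : G}

theorem Ctx.x_not_mem_twoStep (c : Ctx n x) {k : ℕ} (hk : 1 ≤ k) (hk' : k + 3 ≤ n) : x ∉ twoStep (G := G) k := by
  intro hx
  obtain ⟨u, hu, hu'⟩ := c.exists_level hk (by omega)
  exact hu' (c.uni k hk hk' u hu (hx u hu))

/-- Membership in a two-step centralizer can be tested on one element of exact level. -/
theorem Ctx.mem_twoStep_of (c : Ctx n x) {k : ℕ} (hk : 1 ≤ k) (hk' : k + 2 ≤ n) {u₀ : G} (hu₀ : u₀ ∈ Γ k)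
    (hu₀' : u₀ ∉ Γ (k + 1)) {g : G} (hg : ⁅g, u₀⁆ ∈ Γ (k + 2)) : g ∈ twoStep (G := G) k := by
  rw [mem_twoStep]
  intro u hu
  obtain ⟨v, hv, j, rfl⟩ := c.decomp hk hk' hu₀ hu₀' hu
  rw [map_mul, map_zpow]
  refine Commute.mul_right ?_ (Commute.zpow_right ?_ j)
  · exact commute_of_mem hv g
  · exact (comm_mem_iff_commute (Γ (k + 2)) g u₀).mp hg

end ctx

end Cfsg.Agent.Lib.Helper87.B3
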