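import Mathlib
import Cfsg.Agent.Lib.Helper87.B3Two

/-!
# The subgroup `γ₁ = C_G(γ₂/γ₄)` of a 3-group of maximal class with a uniform element of order 3 (helper87)
-/

set_option autoImplicit false
set_option linter.unusedSectionVars false

namespace Cfsg.Agent.Lib.Helper87.B3

open Cfsg.Agent.Lib.Helper70
open scoped commutatorElement

variable {G : Type*} [Group G] [Finite G]

local notation "Γ" => Subgroup.lowerCentralSeries (⊤ : Subgroup G)
local notation "π" => fun m => QuotientGroup.mk' (Subgroup.lowerCentralSeries (⊤ : Subgroup G) m)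

/-- `⁅A * B, U⁆ = ⁅B, U⁆ * ⁅A, U⁆` when `⁅B, U⁆` commutes with `A`. -/
theorem comm_mul_left_of_commute {Q : Type*} [Group Q] (A B U : Q) (h : Commute ⁅B, U⁆ A) :
    ⁅A * B, U⁆ = ⁅B, U⁆ * ⁅A, U⁆ := by
  have h1 : ⁅A * B, U⁆ = A * ⁅B, U⁆ * A⁻¹ * ⁅A, U⁆ := by
    simp only [commutatorElement_def]; group
  rw [h1, ← h.eq]
  simp only [commutatorElement_def]; group

/-- `⁅A ^ m, U⁆ = ⁅A, U⁆ ^ m` when `⁅A, U⁆` commutes with `A`. -/
theorem comm_pow_left_of_commute {Q : Type*} [Group Q] (A U : Q) (h : Commute ⁅A, U⁆ A) (m : ℕ) :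
    ⁅A ^ m, U⁆ = ⁅A, U⁆ ^ m := by
  induction m with
  | zero => simp
  | succ m ih =>
    rw [pow_succ', comm_mul_left_of_commute A (A ^ m) U (by rw [ih]; exact (h.pow_left m)), ih, pow_succ]

section ctx

variable {n : ℕ} {x : G}

/-- natural-number version of the decomposition -/
theorem Ctx.decomp_nat (c : Ctx n x) {k : ℕ} (hk : 1 ≤ k) (hk' : k + 2 ≤ n) {u₀ : G} (hu₀ : u₀ ∈ Γ k)
    (hu₀' : u₀ ∉ Γ (k + 1)) {u : G} (hu : u ∈ Γ k) : ∃ v ∈ Γ (k + 1), ∃ j : ℕ, u = v * u₀ ^ j := by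
  obtain ⟨v, hv, j, rfl⟩ := c.decomp hk hk' hu₀ hu₀' hu
  have h1 : u₀ ^ j ∈ Subgroup.zpowers u₀ := ⟨j, rfl⟩
  obtain ⟨i, hi⟩ := mem_powers_iff_mem_zpowers.mpr h1
  exact ⟨v, hv, i, by rw [← hi]⟩

/-- `G = ⟨x⟩ γ₁`. -/
theorem Ctx.exists_pow_mul_mem (c : Ctx n x) (t : G) : ∃ j : ℕ, x ^ j * t ∈ twoStep (G := G) 1 := by
  have hn := c.hn
  obtain ⟨u₁, hu₁, hu₁'⟩ := c.exists_level (k := 1) le_rfl (by omega)
  have hu₂ : ⁅x, u₁⁆ ∈ Γ 2 := comm_mem_succ x hu₁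
  have hu₂' : ⁅x, u₁⁆ ∉ Γ 3 := fun h => hu₁' (c.uni 1 le_rfl (by omega) u₁ hu₁ h)
  obtain ⟨w, hw, i, hi⟩ := c.decomp_nat (k := 2) (by omega) (by omega) hu₂ hu₂' (comm_mem_succ t hu₁)
  refine ⟨2 * i, c.mem_twoStep_of le_rfl (by omega) hu₁ hu₁' ?_⟩
  -- compute in `G ⧸ Γ 3`
  rw [← QuotientGroup.eq_one_iff]
  show π 3 ⁅x ^ (2 * i) * t, u₁⁆ = 1
  rw [map_commutatorElement, map_mul, map_pow]
  set X := π 3 x with hX
  set T := π 3 t with hT
  set U := π 3 u₁ with hU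
  have hV : ∀ g : G, Commute ⁅X, U⁆ (π 3 g) := by
    intro g
    have := commute_of_mem (m := 2) hu₂ g
    rw [map_commutatorElement] at this
    exact this.symm
  have hTU : ⁅T, U⁆ = ⁅X, U⁆ ^ i := by
    have h1 := congrArg (π 3) hi
    rw [map_commutatorElement, map_mul, map_pow, map_commutatorElement] at h1
    have h2 : π 3 w = 1 := (QuotientGroup.eq_one_iff w).mpr hw
    rw [h2, one_mul] at h1
    exact h1
  have hcube : ⁅X, U⁆ ^ 3 = 1 := by
    have h1 : ⁅x, u₁⁆ ^ 3 ∈ Γ 3 := lcs_anti (by omega) (c.powU 2 (by omega) _ hu₂)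
    have h2 := (QuotientGroup.eq_one_iff (N := Γ 3) (⁅x, u₁⁆ ^ 3)).mpr h1
    have h3 : π 3 (⁅x, u₁⁆ ^ 3) = 1 := h2
    rw [map_pow, map_commutatorElement] at h3
    exact h3
  rw [comm_mul_left_of_commute (X ^ (2 * i)) T U (by rw [hTU]; exact ((hV x).pow_left i).pow_right (2 * i)),
    comm_pow_left_of_commute X U (hV x) (2 * i), hTU, ← pow_add]
  have : i + 2 * i = 3 * i := by ring
  rw [this, pow_mul, hcube, one_pow]

theorem Ctx.x_not_mem_gamma (c : Ctx n x) : x ∉ twoStep (G := G) 1 :=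
  c.x_not_mem_twoStep le_rfl (by have := c.hn; omega)

/-- `|G : γ₁| = 3`. -/
theorem Ctx.index_gamma (c : Ctx n x) : (twoStep (G := G) 1).index = 3 := by
  set C := twoStep (G := G) 1 with hC
  have hle : C.index ≤ 3 := by
    rw [Subgroup.index_eq_card]
    have hsurj : Function.Surjective (fun j : Fin 3 => (((x ^ (j : ℕ))⁻¹ : G) : G ⧸ C)) := by
      intro q
      induction q using QuotientGroup.induction_on with
      | H t =>
        obtain ⟨j, hj⟩ := c.exists_pow_mul_mem t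
        refine ⟨⟨j % 3, Nat.mod_lt _ (by norm_num)⟩, ?_⟩
        show (((x ^ (j % 3))⁻¹ : G) : G ⧸ C) = (t : G ⧸ C)
        rw [QuotientGroup.eq, inv_inv]
        have h1 : x ^ (j % 3) = x ^ j := by
          conv_rhs => rw [← Nat.mod_add_div j 3]
          rw [pow_add, pow_mul, c.xpow, one_pow, mul_one]
        rw [h1]
        exact hj
    have := Nat.card_le_card_of_surjective _ hsurj
    simpa using this
  have hne : C.index ≠ 1 := by
    intro h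
    rw [Subgroup.index_eq_one] at h
    exact c.x_not_mem_gamma (by rw [← hC, h]; exact Subgroup.mem_top x)
  have hdvd : C.index ∣ 3 ^ n := by
    rw [← c.card]; exact Subgroup.index_dvd_card C
  obtain ⟨a, -, ha⟩ := (Nat.dvd_prime_pow Nat.prime_three).mp hdvd
  rw [ha] at hle hne ⊢
  have ha1 : a ≠ 0 := by rintro rfl; exact hne (pow_zero 3)
  have ha2 : a ≤ 1 := by
    by_contra h
    have : 3 ^ 2 ≤ 3 ^ a := Nat.pow_le_pow_right (by norm_num) (by omega)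
    omega
  have : a = 1 := by omega
  rw [this, pow_one]

theorem lcs_one_le_gamma : Γ 1 ≤ twoStep (G := G) 1 := lcs_one_le_twoStep le_rfl

/-- `|γ₁ : γ₂| = 3`. -/
theorem Ctx.relIndex_gamma (c : Ctx n x) : (Γ 1).relIndex (twoStep (G := G) 1) = 3 := by
  have h1 := Subgroup.relIndex_mul_index (lcs_one_le_gamma (G := G))
  rw [c.index_gamma, c.index_one] at h1
  omega

theorem Ctx.card_gamma (c : Ctx n x) : Nat.card (twoStep (G := G) 1) = 3 ^ (n - 1) := by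
  have h1 := Subgroup.card_mul_index (twoStep (G := G) 1)
  rw [c.index_gamma, c.card] at h1
  have hn := c.hn
  have h2 : (3 : ℕ) ^ n = 3 ^ (n - 1) * 3 := by
    rw [← pow_succ]; congr 1; omega
  rw [h2] at h1
  exact Nat.eq_of_mul_eq_mul_right (by norm_num) h1

/-- There is an element of `γ₁ ∖ γ₂`. -/
theorem Ctx.exists_gamma (c : Ctx n x) : ∃ s ∈ twoStep (G := G) 1, s ∉ Γ 1 := by
  by_contra h
  push Not at h
  have h1 : (Γ 1).relIndex (twoStep (G := G) 1) = 1 := Subgroup.relIndex_eq_one.mpr h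
  rw [c.relIndex_gamma] at h1
  omega

/-- Decomposition of `γ₁` along `s ∈ γ₁ ∖ γ₂`. -/
theorem Ctx.decomp_gamma (c : Ctx n x) {s : G} (hs : s ∈ twoStep (G := G) 1) (hs' : s ∉ Γ 1) {b : G}
    (hb : b ∈ twoStep (G := G) 1) : ∃ v ∈ Γ 1, ∃ j : ℕ, b = v * s ^ j := by
  have hp : IsPGroup 3 (twoStep (G := G) 1) := c.isPGroup.to_subgroup _
  obtain ⟨a, ha, w, hw, rfl⟩ := exists_decomp_of_relIndex_prime (p := 3) hp lcs_one_le_gamma
    c.relIndex_gamma hs hs' hb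
  obtain ⟨i, hi⟩ := mem_powers_iff_mem_zpowers.mpr hw
  exact ⟨a, ha, i, by rw [← hi]⟩

/-- `γ₁ / γ₄` is abelian. -/
theorem Ctx.gamma_comm (c : Ctx n x) {a b : G} (ha : a ∈ twoStep (G := G) 1) (hb : b ∈ twoStep (G := G) 1) :
    Commute (π 3 a) (π 3 b) := by
  by_cases ha1 : a ∈ Γ 1
  · exact (mem_twoStep.mp hb a ha1).symm
  · obtain ⟨v, hv, j, rfl⟩ := c.decomp_gamma ha ha1 hb
    rw [map_mul, map_pow]
    exact (mem_twoStep.mp ha v hv).mul_right ((Commute.refl _).pow_right j)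

/-- `u ∈ γ₁ ⇒ u³ ∈ γ₃`. -/
theorem Ctx.gamma_pow (c : Ctx n x) {a : G} (ha : a ∈ twoStep (G := G) 1) : a ^ 3 ∈ Γ 2 := by
  have hn := c.hn
  have h1 : a ^ 3 ∈ Γ 1 := by
    have := Subgroup.pow_relIndex_mem (Γ 1) ha
    rwa [c.relIndex_gamma] at this
  apply c.uni 1 le_rfl (by omega) _ h1
  rw [comm_mem_iff_commute, map_pow]
  -- `π x` commutes with `(π a)³`
  have hd : ⁅x, a⁆ ∈ Γ 1 := by
    rw [Subgroup.top_lowerCentralSeries_one, commutator_def]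
    exact Subgroup.commutator_mem_commutator (Subgroup.mem_top x) (Subgroup.mem_top a)
  have hd3 : π 3 (⁅x, a⁆) ^ 3 = 1 := by
    rw [← map_pow]
    exact (QuotientGroup.eq_one_iff _).mpr (c.powU 1 le_rfl _ hd)
  have hda : Commute (π 3 ⁅x, a⁆) (π 3 a) := c.gamma_comm (lcs_one_le_gamma hd) ha
  have h2 : π 3 x * π 3 a * (π 3 x)⁻¹ = π 3 ⁅x, a⁆ * π 3 a := by
    rw [map_commutatorElement, commutatorElement_def]; group
  have h3 : π 3 x * π 3 a ^ 3 * (π 3 x)⁻¹ = π 3 a ^ 3 := by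
    rw [← conj_pow, h2, hda.mul_pow, hd3, one_mul]
  show π 3 x * π 3 a ^ 3 = π 3 a ^ 3 * π 3 x
  calc π 3 x * π 3 a ^ 3 = (π 3 x * π 3 a ^ 3 * (π 3 x)⁻¹) * π 3 x := by group
    _ = π 3 a ^ 3 * π 3 x := by rw [h3]

/-- `x` acts uniformly on `γ₁ / γ₂`. -/
theorem Ctx.comm_not_mem (c : Ctx n x) {s : G} (hs : s ∈ twoStep (G := G) 1) (hs' : s ∉ Γ 1) : ⁅x, s⁆ ∉ Γ 2 := by
  have hn := c.hn
  intro hcomm
  obtain ⟨u₁, hu₁, hu₁'⟩ := c.exists_level (k := 1) le_rfl (by omega)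
  obtain ⟨g, hg⟩ := c.conj u₁ hu₁
  obtain ⟨j, hj⟩ := c.exists_pow_mul_mem g
  obtain ⟨v, hv, i, hi⟩ := c.decomp_gamma hs hs' hj
  apply hu₁'
  have hXS : Commute (π 2 x) (π 2 s) := (comm_mem_iff_commute (Γ 2) x s).mp hcomm
  have hXV : Commute (π 2 x) (π 2 v) := commute_of_mem (m := 1) hv x
  have h1 : Commute (π 2 x) (π 2 (x ^ j * g)) := by
    rw [hi, map_mul, map_pow]
    exact hXV.mul_right (hXS.pow_right i)
  have h2 : Commute (π 2 x) (π 2 g) := by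
    rw [map_mul, map_pow] at h1
    have h3 : π 2 g = (π 2 x ^ j)⁻¹ * (π 2 x ^ j * π 2 g) := by group
    rw [h3]
    exact (((Commute.refl (π 2 x)).pow_right j).inv_right).mul_right h1
  have h4 := congrArg (π 2) hg
  rw [map_mul, map_mul, map_inv, map_mul] at h4
  have h5 : π 2 g * π 2 x * (π 2 g)⁻¹ = π 2 x := by
    rw [← h2.eq]; group
  rw [h5] at h4
  have h6 : π 2 u₁ = 1 := by
    have := mul_left_cancel (a := π 2 x) (b := 1) (c := π 2 u₁) (by rw [mul_one]; exact h4)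
    exact this.symm
  exact (QuotientGroup.eq_one_iff u₁).mp h6

end ctx

end Cfsg.Agent.Lib.Helper87.B3
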