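import Mathlib
import Cfsg.Agent.Lib.Helper87.B3Gamma

/-!
# The leading term at level 1 for 3-groups of maximal class (helper87)

For `a ∈ γ₁ = C_G(γ₂/γ₄)` and any `y` with `y ^ 3 = 1`: `(a y)³ ≡ a³ ⁅y, ⁅y, a⁆⁆ mod γ₄`.
-/

set_option autoImplicit false
set_option linter.unusedSectionVars false

namespace Cfsg.Agent.Lib.Helper87.B3

open Cfsg.Agent.Lib.Helper70 Cfsg.Agent.Lib.Helper87
open scoped commutatorElement

variable {G : Type*} [Group G] [Finite G]

local notation "Γ" => Subgroup.lowerCentralSeries (⊤ : Subgroup G)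
local notation "π" => fun m => QuotientGroup.mk' (Subgroup.lowerCentralSeries (⊤ : Subgroup G) m)

/-- the level family: `γ₁, γ₁, Γ 1, Γ 2, …` -/
def fB (j : ℕ) : Subgroup G := if j ≤ 1 then twoStep (G := G) 1 else Γ (j - 1)
/-- the ideal family: `Γ (max (j - 1) 3)` -/
def fM (j : ℕ) : Subgroup G := Γ (max (j - 1) 3)

theorem fB_of_le {j : ℕ} (h : j ≤ 1) : fB (G := G) j = twoStep (G := G) 1 := if_pos h
theorem fB_of_lt {j : ℕ} (h : 1 < j) : fB (G := G) j = Γ (j - 1) := if_neg (by omega)

theorem fB_le_top_comm (i m : ℕ) : ⁅fB (G := G) i, Γ m⁆ ≤ Γ (m + 1) := by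
  rw [Subgroup.lowerCentralSeries_succ, Subgroup.commutator_comm]
  exact Subgroup.commutator_mono le_rfl le_top

theorem fM_le_fB (i : ℕ) : fM (G := G) i ≤ fB (G := G) i := by
  by_cases h : i ≤ 1
  · rw [fB_of_le h]
    exact (lcs_anti (by omega)).trans lcs_one_le_gamma
  · rw [fB_of_lt (by omega)]
    exact lcs_anti (by omega)

theorem fM_ideal : IsCubeIdeal (fB (G := G)) fM where
  anti := fun i j h => lcs_anti (by omega)
  comm := by
    intro i j
    by_cases hi : i ≤ 1
    · by_cases hi0 : i = 0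
      · subst hi0
        rw [zero_add]
        have : (fM (G := G) j).Normal := by unfold fM; infer_instance
        exact Subgroup.commutator_le_right _ _
      · have hi1 : i = 1 := by omega
        subst hi1
        exact (fB_le_top_comm 1 _).trans (lcs_anti (by omega))
    · rw [fB_of_lt (by omega)]
      exact (lcs_comm_le (G := G) _ _).trans (lcs_anti (by omega))

section ctx

variable {n : ℕ} {x : G}

theorem Ctx.gamma_comm_le (c : Ctx n x) : ⁅twoStep (G := G) 1, twoStep (G := G) 1⁆ ≤ Γ 3 := by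
  rw [Subgroup.commutator_le]
  intro a ha b hb
  exact (comm_mem_iff_commute (Γ 3) a b).mpr (c.gamma_comm ha hb)

theorem gamma_lcs_comm_le (m : ℕ) (hm : 1 ≤ m) :
    ⁅twoStep (G := G) 1, (⊤ : Subgroup G).lowerCentralSeries m⁆ ≤ (⊤ : Subgroup G).lowerCentralSeries (max m 3) := by
  rcases Nat.lt_or_ge m 3 with h | h
  · rw [max_eq_right h.le]
    rcases (by omega : m = 1 ∨ m = 2) with rfl | rfl
    · rw [Subgroup.commutator_le]
      intro a ha b hb
      exact ha b hb
    · rw [Subgroup.lowerCentralSeries_succ, Subgroup.commutator_comm]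
      exact Subgroup.commutator_mono le_rfl le_top
  · rw [max_eq_left h]
    exact Subgroup.commutator_le_right _ _

theorem Ctx.fB_comm (c : Ctx n x) (i j : ℕ) : ⁅fB (G := G) i, fB (G := G) j⁆ ≤ fM (G := G) (i + j) := by
  unfold fM
  by_cases hi : i ≤ 1
  · by_cases hj : j ≤ 1
    · rw [fB_of_le hi, fB_of_le hj]
      have : max (i + j - 1) 3 = 3 := by omega
      rw [this]
      exact c.gamma_comm_le
    · rw [fB_of_le hi, fB_of_lt (by omega)]
      rcases Nat.lt_or_ge j 4 with h | h
      · have : max (i + j - 1) 3 = 3 := by omega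
        rw [this]
        exact (gamma_lcs_comm_le (j - 1) (by omega)).trans (lcs_anti (by omega))
      · have h1 : ⁅twoStep (G := G) 1, Γ (j - 1)⁆ ≤ Γ (j - 1 + 1) := by
          rw [Subgroup.lowerCentralSeries_succ, Subgroup.commutator_comm]
          exact Subgroup.commutator_mono le_rfl le_top
        exact h1.trans (lcs_anti (by omega))
  · by_cases hj : j ≤ 1
    · rw [fB_of_lt (by omega), fB_of_le hj, Subgroup.commutator_comm]
      rcases Nat.lt_or_ge i 4 with h | h
      · have : max (i + j - 1) 3 = 3 := by omega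
        rw [this]
        exact (gamma_lcs_comm_le (i - 1) (by omega)).trans (lcs_anti (by omega))
      · have h1 : ⁅twoStep (G := G) 1, Γ (i - 1)⁆ ≤ Γ (i - 1 + 1) := by
          rw [Subgroup.lowerCentralSeries_succ, Subgroup.commutator_comm]
          exact Subgroup.commutator_mono le_rfl le_top
        exact h1.trans (lcs_anti (by omega))
    · rw [fB_of_lt (by omega), fB_of_lt (by omega)]
      exact (lcs_comm_le (G := G) _ _).trans (lcs_anti (by omega))

theorem fB_x (y : G) : ∀ j, ∀ b ∈ fB (G := G) j, ⁅y, b⁆ ∈ fB (G := G) (j + 1) := by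
  intro j b hb
  have hcomm : ⁅y, b⁆ ∈ Γ 1 := by
    rw [Subgroup.top_lowerCentralSeries_one, commutator_def]
    exact Subgroup.commutator_mem_commutator (Subgroup.mem_top y) (Subgroup.mem_top b)
  by_cases hj : j = 0
  · subst hj
    rw [fB_of_le (by omega)]
    exact lcs_one_le_gamma hcomm
  · by_cases hj1 : j = 1
    · subst hj1
      rw [fB_of_lt (by omega)]
      exact hcomm
    · rw [fB_of_lt (by omega)] at hb
      rw [fB_of_lt (by omega)]
      have := comm_mem_succ y hb
      have e : j - 1 + 1 = j + 1 - 1 := by omega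
      rwa [e] at this

/-- **Level-1 leading term.** -/
theorem Ctx.lead (c : Ctx n x) (y : G) (hy : y ^ 3 = 1) {a : G} (ha : a ∈ twoStep (G := G) 1) :
    π 3 ((a * y) ^ 3) = π 3 (a ^ 3) * π 3 ⁅y, ⁅y, a⁆⁆ := by
  obtain ⟨hq0, hq, hform⟩ := leading_term (fM_le_fB (G := G)) fM_ideal c.fB_comm y a (fB_x y)
    (by rw [fB_of_le le_rfl]; exact ha)
  have h3 := hform 3
  rw [hy, inv_one, mul_one] at h3
  have hqΓ : ∀ j, taylorCoeff (remSeq y a) j ∈ Γ 3 := fun j => lcs_anti (by omega) (hq j)
  have hrem : taylorProd (remSeq y a) 3 4 ∈ Γ 3 := by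
    rw [taylorProd_succ, taylorProd_succ, taylorProd_succ, taylorProd_succ]
    have h0 : taylorProd (remSeq y a) 3 0 = 1 := by simp [taylorProd]
    rw [h0]
    exact mul_mem (mul_mem (mul_mem (mul_mem (one_mem _) (pow_mem (hqΓ 0) _)) (pow_mem (hqΓ 1) _))
      (pow_mem (hqΓ 2) _)) (pow_mem (hqΓ 3) _)
  have hlin : linPart y a 3 4 = a ^ 3 * ⁅y, a⁆ ^ 3 * ⁅y, ⁅y, a⁆⁆ := by
    rw [linPart_succ, linPart_succ, linPart_succ, linPart_succ]
    have h0 : linPart y a 3 0 = 1 := by simp [linPart]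
    rw [h0]
    simp [ltSeq, Nat.choose]
  have hd : ⁅y, a⁆ ∈ Γ 1 := by
    rw [Subgroup.top_lowerCentralSeries_one, commutator_def]
    exact Subgroup.commutator_mem_commutator (Subgroup.mem_top y) (Subgroup.mem_top a)
  have hd3 : π 3 (⁅y, a⁆ ^ 3) = 1 := (QuotientGroup.eq_one_iff _).mpr (c.powU 1 le_rfl _ hd)
  have hr : π 3 (taylorProd (remSeq y a) 3 4) = 1 := (QuotientGroup.eq_one_iff _).mpr hrem
  rw [h3, map_mul, hr, mul_one, hlin, map_mul, map_mul, hd3, mul_one]

end ctx

end Cfsg.Agent.Lib.Helper87.B3
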