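import Mathlib
import Cfsg.Agent.Lib.Helper87.B3Lead

/-!
# Blackburn's dichotomy for 3-groups of maximal class with a uniform element of order 3 (helper87)

Either some `s ∈ γ₁ ∖ γ₂` has `s³ ∈ γ₄` and then `|G| = 81`, or all two-step centralizers coincide with `γ₁`.
-/

set_option autoImplicit false
set_option linter.unusedSectionVars false

namespace Cfsg.Agent.Lib.Helper87.B3

open Cfsg.Agent.Lib.Helper70 Cfsg.Agent.Lib.Helper87
open scoped commutatorElement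

variable {G : Type*} [Group G] [Finite G]

local notation "Γ" => Subgroup.lowerCentralSeries (⊤ : Subgroup G)
local notation "π" => fun m => QuotientGroup.mk' (Subgroup.lowerCentralSeries (⊤ : Subgroup G) m)

section ctx

variable {n : ℕ} {x : G}

/-- `s x ∈ C_G(γ₃/γ₅)` when `s ∈ γ₁ ∖ γ₂` has `s³ ∈ γ₄` (and `n ≥ 5`). -/
theorem Ctx.mul_mem_twoStep_two (c : Ctx n x) (hn5 : 5 ≤ n) {s : G} (hs : s ∈ twoStep (G := G) 1) (hs' : s ∉ Γ 1)
    (h3 : s ^ 3 ∈ Γ 3) : s * x ∈ twoStep (G := G) 2 := by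
  have hlead := c.lead x c.xpow hs
  have hs3 : π 3 (s ^ 3) = 1 := (QuotientGroup.eq_one_iff _).mpr h3
  rw [hs3, one_mul] at hlead
  have hd1 : ⁅x, s⁆ ∈ Γ 1 := by
    rw [Subgroup.top_lowerCentralSeries_one, commutator_def]
    exact Subgroup.commutator_mem_commutator (Subgroup.mem_top x) (Subgroup.mem_top s)
  have hd1' : ⁅x, s⁆ ∉ Γ 2 := c.comm_not_mem hs hs'
  have hc2 : ⁅x, ⁅x, s⁆⁆ ∈ Γ 2 := comm_mem_succ x hd1
  have hc2' : ⁅x, ⁅x, s⁆⁆ ∉ Γ 3 := fun h => hd1' (c.uni 1 le_rfl (by omega) _ hd1 h)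
  -- `d = (s x)³` has exact level 2
  have hrel : (⁅x, ⁅x, s⁆⁆)⁻¹ * (s * x) ^ 3 ∈ Γ 3 := by
    rw [← QuotientGroup.eq_one_iff]
    show π 3 ((⁅x, ⁅x, s⁆⁆)⁻¹ * (s * x) ^ 3) = 1
    rw [map_mul, map_inv, hlead, inv_mul_cancel]
  have hd : (s * x) ^ 3 ∈ Γ 2 := by
    have h1 := mul_mem hc2 (lcs_anti (by omega : 2 ≤ 3) hrel)
    rwa [mul_inv_cancel_left] at h1
  have hd' : (s * x) ^ 3 ∉ Γ 3 := by
    intro h
    apply hc2'
    have h1 := mul_mem h (inv_mem hrel)
    have h2 : ∀ a cc : G, a * (cc⁻¹ * a)⁻¹ = cc := by intro a cc; group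
    rwa [h2] at h1
  apply c.mem_twoStep_of (k := 2) (by omega) (by omega) hd hd'
  have : ⁅s * x, (s * x) ^ 3⁆ = 1 := by
    rw [commutatorElement_eq_one_iff_commute]
    exact (Commute.refl _).pow_right 3
  rw [this]; exact one_mem _

/-- **Irregular case.** If some `s ∈ γ₁ ∖ γ₂` has `s³ ∈ γ₄` then `n = 4`. -/
theorem Ctx.eq_four_of_irregular (c : Ctx n x) (c' : Ctx n x⁻¹) {s : G} (hs : s ∈ twoStep (G := G) 1)
    (hs' : s ∉ Γ 1) (h3 : s ^ 3 ∈ Γ 3) : n = 4 := by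
  by_contra hne
  have hn5 : 5 ≤ n := by have := c.hn; omega
  have h1 := c.mul_mem_twoStep_two hn5 hs hs' h3
  have h2 := c'.mul_mem_twoStep_two hn5 hs hs' h3
  have h4 : x * x ∈ twoStep (G := G) 2 := by
    have := mul_mem (inv_mem h2) h1
    have e : (s * x⁻¹)⁻¹ * (s * x) = x * x := by group
    rwa [e] at this
  have h5 : x ∈ twoStep (G := G) 2 := by
    have := mul_mem h4 h4
    have e : (x * x) * (x * x) = x ^ 3 * x := by simp [pow_succ, mul_assoc]
    rwa [e, c.xpow, one_mul] at this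
  exact c.x_not_mem_twoStep (k := 2) (by omega) (by omega) h5

/-- **Regular case.** If `s³ ∈ γ₄` forces `s ∈ γ₂` on `γ₁`, all two-step centralizers contain `γ₁`. -/
theorem Ctx.gamma_le_twoStep (c : Ctx n x) (hreg : ∀ s ∈ twoStep (G := G) 1, s ^ 3 ∈ Γ 3 → s ∈ Γ 1) :
    ∀ k, 1 ≤ k → twoStep (G := G) 1 ≤ twoStep (G := G) k := by
  have hn := c.hn
  intro k
  induction k using Nat.strong_induction_on with
  | _ k ih =>
    intro hk
    rcases (by omega : k = 1 ∨ k = 2 ∨ 3 ≤ k) with rfl | rfl | hk3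
    · exact le_rfl
    · -- `k = 2`
      obtain ⟨s, hs, hs'⟩ := c.exists_gamma
      have hd : s ^ 3 ∈ Γ 2 := c.gamma_pow hs
      have hd' : s ^ 3 ∉ Γ 3 := fun h => hs' (hreg s hs h)
      intro b hb
      obtain ⟨v, hv, j, rfl⟩ := c.decomp_gamma hs hs' hb
      apply c.mem_twoStep_of (k := 2) (by omega) (by omega) hd hd'
      rw [comm_mem_iff_commute, map_mul, map_pow, map_pow]
      refine Commute.mul_left ?_ (((Commute.refl _).pow_right 3).pow_left j)
      rw [← map_pow, ← comm_mem_iff_commute]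
      have h1 : ⁅v, s ^ 3⁆ ∈ ⁅Γ 1, Γ 2⁆ := Subgroup.commutator_mem_commutator hv hd
      exact lcs_comm_le (G := G) 1 2 h1
    · -- step `k - 2 → k`
      obtain ⟨k, rfl⟩ : ∃ k', k = k' + 2 := ⟨k - 2, by omega⟩
      have hk1 : 1 ≤ k := by omega
      have hIH := ih k (by omega) hk1
      intro b hb
      by_cases hbig : n ≤ k + 4
      · -- `Γ (k + 3) = ⊥`
        intro u hu
        have h1 : ⁅b, u⁆ ∈ Γ (k + 2 + 1) := comm_mem_succ b hu
        rw [c.bot (by omega)] at h1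
        rw [Subgroup.mem_bot] at h1
        rw [h1]; exact one_mem _
      · have hk5 : k + 5 ≤ n := by omega
        obtain ⟨u, hu, hu'⟩ := c.exists_level hk1 (by omega)
        have hu3 : u ^ 3 ∈ Γ (k + 2) := c.powU k hk1 u hu
        have hu3' : u ^ 3 ∉ Γ (k + 2 + 1) := fun h => hu' (c.powL k hk1 (by omega) u hu h)
        apply c.mem_twoStep_of (k := k + 2) (by omega) (by omega) hu3 hu3'
        rw [comm_mem_iff_commute, map_pow]
        -- in `G ⧸ Γ (k+4)`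
        have he : ⁅b, u⁆ ∈ Γ (k + 2) := hIH hb u hu
        have heu : Commute (π (k + 2 + 2) ⁅b, u⁆) (π (k + 2 + 2) u) := by
          rw [← comm_mem_iff_commute]
          have h1 : ⁅⁅b, u⁆, u⁆ ∈ ⁅Γ (k + 2), Γ k⁆ := Subgroup.commutator_mem_commutator he hu
          exact lcs_anti (by omega) (lcs_comm_le (G := G) (k + 2) k h1)
        have he3 : π (k + 2 + 2) ⁅b, u⁆ ^ 3 = 1 := by
          rw [← map_pow]
          exact (QuotientGroup.eq_one_iff _).mpr (c.powU (k + 2) (by omega) _ he)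
        have h2 : π (k + 2 + 2) b * π (k + 2 + 2) u * (π (k + 2 + 2) b)⁻¹ =
            π (k + 2 + 2) ⁅b, u⁆ * π (k + 2 + 2) u := by
          rw [map_commutatorElement, commutatorElement_def]; group
        have h3 : π (k + 2 + 2) b * π (k + 2 + 2) u ^ 3 * (π (k + 2 + 2) b)⁻¹ = π (k + 2 + 2) u ^ 3 := by
          rw [← conj_pow, h2, heu.mul_pow, he3, one_mul]
        show π (k + 2 + 2) b * π (k + 2 + 2) u ^ 3 = π (k + 2 + 2) u ^ 3 * π (k + 2 + 2) b
        calc π (k + 2 + 2) b * π (k + 2 + 2) u ^ 3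
            = (π (k + 2 + 2) b * π (k + 2 + 2) u ^ 3 * (π (k + 2 + 2) b)⁻¹) * π (k + 2 + 2) b := by group
          _ = π (k + 2 + 2) u ^ 3 * π (k + 2 + 2) b := by rw [h3]

end ctx

end Cfsg.Agent.Lib.Helper87.B3
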