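import Mathlib
import Cfsg.Agent.Lib.Helper87.B3Main
import Cfsg.Agent.Lib.Helper46.PearlKC
import Cfsg.Agent.Lib.Helper46.PearlUni
import Cfsg.Agent.Lib.Helper62.PearlWR9
import Cfsg.Agent.Lib.Helper30.MaxClassGen
import Cfsg.Agent.S0012

/-!
# 3-groups of maximal class with an element of order 3 whose centralizer has order 9 (helper87)

If `|G| = 3 ^ n`, `n ≥ 4`: every subgroup of `G` is generated by two elements, or `G ≅ C₃ ≀ C₃`.
-/

set_option autoImplicit false
set_option linter.unusedSectionVars false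

namespace Cfsg.Agent.Lib.Helper87.B3

open Cfsg.Agent.Lib.Helper70 Cfsg.Agent.Lib.Helper87
open scoped commutatorElement

variable {G : Type*} [Group G] [Finite G]

local notation "Γ" => Subgroup.lowerCentralSeries (⊤ : Subgroup G)
local notation "π" => fun m => QuotientGroup.mk' (Subgroup.lowerCentralSeries (⊤ : Subgroup G) m)

/-- the filtration `γ₁ > Γ 1 > Γ 2 > …` -/
def fL (i : ℕ) : Subgroup G := if i = 0 then twoStep (G := G) 1 else Γ i

theorem fL_zero : fL (G := G) 0 = twoStep (G := G) 1 := if_pos rfl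
theorem fL_pos {i : ℕ} (h : 0 < i) : fL (G := G) i = Γ i := if_neg (by omega)

theorem fL_anti : Antitone (fL (G := G)) := by
  intro i j hij
  by_cases hi : i = 0
  · subst hi
    by_cases hj : j = 0
    · subst hj; exact le_rfl
    · rw [fL_zero, fL_pos (by omega)]
      exact (lcs_anti (by omega)).trans lcs_one_le_gamma
  · rw [fL_pos (by omega), fL_pos (by omega)]
    exact lcs_anti hij

section ctx

variable {n : ℕ} {x : G}

/-- **Regular case**: every subgroup is generated by two elements. -/
theorem Ctx.two_gen_of_regular (c : Ctx n x) (hreg : ∀ s ∈ twoStep (G := G) 1, s ^ 3 ∈ Γ 3 → s ∈ Γ 1)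
    (H : Subgroup G) : ∃ T : Finset G, T.card ≤ 2 ∧ Subgroup.closure (T : Set G) = H := by
  classical
  have hn := c.hn
  have hPG := c.isPGroup
  by_cases hH : H ≤ twoStep (G := G) 1
  · -- jump count in `γ₁`
    have := Cfsg.Agent.Lib.Helper46.PearlKC.gen_of_power_filtration (p := 3) hPG (fL (G := G)) (n - 1) fL_anti
      (by rw [fL_pos (by omega)]; exact c.bot le_rfl) ?_ ?_ ?_ H (by rw [fL_zero]; exact hH)
    · simpa using this
    · intro i
      by_cases hi : i = 0
      · subst hi
        rw [fL_zero, fL_pos (by omega)]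
        exact c.relIndex_gamma.le
      · rw [fL_pos (by omega), fL_pos (by omega)]
        by_cases hi2 : i + 2 ≤ n
        · exact (c.relIndex (by omega) hi2).le
        · rw [c.bot (m := i) (by omega), Subgroup.relIndex_bot_right]
          norm_num
    · intro i u hu
      by_cases hi : i = 0
      · subst hi
        rw [fL_zero] at hu
        rw [fL_pos (by omega)]
        exact c.gamma_pow hu
      · rw [fL_pos (by omega)] at hu
        rw [fL_pos (by omega)]
        exact c.powU i (by omega) u hu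
    · intro i him u hu hu3
      by_cases hi : i = 0
      · subst hi
        rw [fL_zero] at hu
        rw [fL_pos (by omega)] at hu3 ⊢
        exact hreg u hu hu3
      · rw [fL_pos (by omega)] at hu hu3 ⊢
        exact c.powL i (by omega) (by omega) u hu hu3
  · -- `H` contains a uniform element
    obtain ⟨h, hhH, hh⟩ := SetLike.not_le_iff_exists.mp hH
    have hΓ1frat : Γ 1 ≤ frattini G := by
      rw [Subgroup.top_lowerCentralSeries_one]
      exact (Cfsg.Agent.S0012.result 3 hPG).1
    have hh1 : h ∉ Γ 1 := fun h1 => hh (lcs_one_le_gamma h1)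
    by_cases htop : H ⊔ Γ 1 = ⊤
    · have hHtop : H = ⊤ := Cfsg.Agent.Lib.Helper30.MaxClassGen.closure_eq_top_of_le_frattini hΓ1frat htop
      obtain ⟨T, hT, hTc⟩ := Cfsg.Agent.Lib.Helper30.MaxClassGen.exists_finset_sup_eq_top hPG (Γ 1)
      refine ⟨T, ?_, ?_⟩
      · rw [c.index_one] at hTc
        have h9 : (3 : ℕ) ^ T.card ≤ 3 ^ 2 := by simpa using hTc
        exact (Nat.pow_le_pow_iff_right (by norm_num)).mp h9
      · rw [hHtop]
        exact Cfsg.Agent.Lib.Helper30.MaxClassGen.closure_eq_top_of_le_frattini hΓ1frat hT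
    · -- `H ≤ ⟨h⟩ Γ 1`
      set K := Subgroup.zpowers h ⊔ Γ 1 with hK
      have hKH : K ≤ H ⊔ Γ 1 := sup_le_sup_right (Subgroup.zpowers_le.mpr hhH) _
      have hΓK : Γ 1 < K := by
        refine lt_of_le_of_ne le_sup_right (fun heq => hh1 ?_)
        rw [heq]
        exact (le_sup_left : Subgroup.zpowers h ≤ K) (Subgroup.mem_zpowers h)
      have hidxK : K.index = 3 ∨ K.index = 1 := by
        have h1 := Subgroup.relIndex_mul_index hΓK.le
        rw [c.index_one] at h1
        have h2 : (Γ 1).relIndex K ≠ 1 := fun h => hΓK.not_ge (Subgroup.relIndex_eq_one.mp h)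
        have h3 : K.index ∣ 9 := Dvd.intro_left _ h1
        have h4 : K.index ∈ Nat.divisors 9 := Nat.mem_divisors.mpr ⟨h3, by norm_num⟩
        have h5 : Nat.divisors 9 = {1, 3, 9} := by decide
        rw [h5] at h4
        simp only [Finset.mem_insert, Finset.mem_singleton] at h4
        rcases h4 with h4 | h4 | h4
        · exact Or.inr h4
        · exact Or.inl h4
        · rw [h4] at h1
          exfalso; apply h2; omega
      have hKeq : H ⊔ Γ 1 = K := by
        rcases hidxK with h3 | h1
        · have h4 := Subgroup.relIndex_mul_index hKH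
          rw [h3] at h4
          have h5 : (H ⊔ Γ 1).index ≠ 1 := fun h => htop (Subgroup.index_eq_one.mp h)
          have h6 : (H ⊔ Γ 1).index ∣ 3 := Dvd.intro_left _ h4
          have h7 : (H ⊔ Γ 1).index = 3 := by
            rcases (Nat.dvd_prime Nat.prime_three).mp h6 with h | h
            · exact absurd h h5
            · exact h
          rw [h7] at h4
          have h8 : K.relIndex (H ⊔ Γ 1) = 1 := by omega
          exact le_antisymm (Subgroup.relIndex_eq_one.mp h8) hKH
        · exfalso
          apply htop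
          have hKtop : K = ⊤ := Subgroup.index_eq_one.mp h1
          exact eq_top_iff.mpr (le_trans (le_of_eq hKtop.symm) hKH)
      have hHK : H ≤ K := by rw [← hKeq]; exact le_sup_left
      -- `h` is uniform
      have hle := c.gamma_le_twoStep hreg
      obtain ⟨j, hj⟩ := c.exists_pow_mul_mem h
      have huni : ∀ k, 1 ≤ k → k + 3 ≤ n → ∀ u ∈ Γ k, ⁅h, u⁆ ∈ Γ (k + 2) → u ∈ Γ (k + 1) := by
        intro k hk hk3 u hu hcomm
        apply c.uni k hk hk3 u hu
        rw [comm_mem_iff_commute] at hcomm ⊢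
        have hb : Commute (π (k + 2) (x ^ j * h)) (π (k + 2) u) := mem_twoStep.mp (hle k hk hj) u hu
        rw [map_mul, map_pow] at hb
        have hxj : Commute (π (k + 2) x ^ j) (π (k + 2) u) := by
          have e : π (k + 2) x ^ j = (π (k + 2) x ^ j * π (k + 2) h) * (π (k + 2) h)⁻¹ := by group
          rw [e]
          exact hb.mul_left hcomm.inv_left
        -- `j` is prime to 3
        have hj3 : ¬ 3 ∣ j := by
          rintro ⟨q, rfl⟩
          apply hh
          rw [pow_mul, c.xpow, one_pow, one_mul] at hj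
          exact hj
        have hX3 : π (k + 2) x ^ 3 = 1 := by rw [← map_pow, c.xpow, map_one]
        have hjj : ∃ q, j * j = 3 * q + 1 := by
          have h1 : j % 3 = 1 ∨ j % 3 = 2 := by omega
          rcases h1 with h1 | h1
          · refine ⟨(j * j) / 3, ?_⟩
            have : (j * j) % 3 = 1 := by rw [Nat.mul_mod, h1]
            omega
          · refine ⟨(j * j) / 3, ?_⟩
            have : (j * j) % 3 = 1 := by rw [Nat.mul_mod, h1]
            omega
        obtain ⟨q, hq⟩ := hjj
        have e : π (k + 2) x = (π (k + 2) x ^ j) ^ j := by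
          rw [← pow_mul, hq, pow_add, pow_mul, hX3, one_pow, one_mul, pow_one]
        rw [e]
        exact hxj.pow_left j
      exact Cfsg.Agent.Lib.Helper46.PearlUni.two_gen_of_uniform (p := 3) n (by omega) c.lcard h huni H hhH hHK

/-- **Irregular case**: `G ≅ C₃ ≀ C₃`. -/
theorem Ctx.wreath_of_irregular (c : Ctx n x) (c' : Ctx n x⁻¹) {s : G} (hs : s ∈ twoStep (G := G) 1)
    (hs' : s ∉ Γ 1) (h3 : s ^ 3 ∈ Γ 3) :
    ∃ W : Sylow 3 (Equiv.Perm (Fin 9)), Nonempty (G ≃* ↥(W : Subgroup (Equiv.Perm (Fin 9)))) := by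
  have hn4 : n = 4 := c.eq_four_of_irregular c' hs hs' h3
  subst hn4
  have hbot3 : Γ 3 = ⊥ := c.bot (by norm_num)
  have hs3 : s ^ 3 = 1 := by rw [hbot3, Subgroup.mem_bot] at h3; exact h3
  have hcomm : ∀ a ∈ twoStep (G := G) 1, ∀ b ∈ twoStep (G := G) 1, a * b = b * a := by
    intro a ha b hb
    have h1 := (comm_mem_iff_commute (Γ 3) a b).mpr (c.gamma_comm ha hb)
    rw [hbot3, Subgroup.mem_bot, commutatorElement_eq_one_iff_mul_comm] at h1
    exact h1
  have hexp : ∀ a ∈ twoStep (G := G) 1, a ^ 3 = 1 := by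
    intro a ha
    obtain ⟨v, hv, j, rfl⟩ := c.decomp_gamma hs hs' ha
    have hv3 : v ^ 3 = 1 := by
      have := c.powU 1 le_rfl v hv
      rw [hbot3, Subgroup.mem_bot] at this
      exact this
    have hvs : Commute v (s ^ j) := hcomm v (lcs_one_le_gamma hv) _ (pow_mem hs j)
    rw [hvs.mul_pow, hv3, one_mul, ← pow_mul, mul_comm, pow_mul, hs3, one_pow]
  have hd1 : ⁅x, s⁆ ∈ Γ 1 := by
    rw [Subgroup.top_lowerCentralSeries_one, commutator_def]
    exact Subgroup.commutator_mem_commutator (Subgroup.mem_top x) (Subgroup.mem_top s)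
  have hne : ⁅x, ⁅x, s⁆⁆ ≠ 1 := by
    intro h
    apply c.comm_not_mem hs hs'
    apply c.uni 1 le_rfl (by norm_num) _ hd1
    rw [h]; exact one_mem _
  exact Cfsg.Agent.Lib.Helper62.PearlWR9.iso_sylow_perm9 (by rw [c.card]; norm_num) (twoStep (G := G) 1)
    (by rw [c.card_gamma]; norm_num) hcomm hexp x s hs hne

end ctx

/-- **Main theorem on 3-groups of maximal class with a small centralizer.** -/
theorem b3_main (n : ℕ) (hn : 4 ≤ n) (hG : Nat.card G = 3 ^ n) (hcl : Group.nilpotencyClass G = n - 1)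
    (x : G) (hx : x ^ 3 = 1) (hC : Nat.card (Subgroup.centralizer ({x} : Set G)) = 3 ^ 2) :
    (∀ H : Subgroup G, ∃ T : Finset G, T.card ≤ 2 ∧ Subgroup.closure (T : Set G) = H) ∨
      ∃ W : Sylow 3 (Equiv.Perm (Fin 9)), Nonempty (G ≃* ↥(W : Subgroup (Equiv.Perm (Fin 9)))) := by
  have c := Ctx.of_raw n hn hG hcl x hx hC
  have c' := Ctx.of_raw_inv n hn hG hcl x hx hC
  by_cases hreg : ∀ s ∈ twoStep (G := G) 1, s ^ 3 ∈ Γ 3 → s ∈ Γ 1
  · exact Or.inl (c.two_gen_of_regular hreg)
  · push Not at hreg
    obtain ⟨s, hs, h3, hs'⟩ := hreg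
    exact Or.inr (c.wreath_of_irregular c' hs hs' h3)

end Cfsg.Agent.Lib.Helper87.B3
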