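import Mathlib
import Cfsg.Prelude.Def_GeometricClasses
import Cfsg.Agent.Lib.Helper99.AschDefs
import Cfsg.Agent.Lib.Helper99.AschDefsR

set_option autoImplicit false

namespace Cfsg.Agent.Lib.Helper87.BhrProper

open Cfsg Cfsg.Geo
open scoped MatrixGroups Matrix Kronecker

variable {n : ℕ} {F : Type*} [Field F] [Fintype F]

/-- A subfield `F₀` with `|F| = |F₀| ^ r`, `r` prime, is proper. -/
theorem subfield_ne_top_of_card (F₀ : Subfield F) (r : ℕ) (hr : r.Prime)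
    (hc : Fintype.card F = Nat.card F₀ ^ r) : F₀ ≠ ⊤ := by
  rintro rfl
  have h1 : Nat.card (⊤ : Subfield F) = Fintype.card F := by
    rw [← Nat.card_eq_fintype_card]
    exact Nat.card_congr (Subfield.topEquiv (K := F)).toEquiv
  rw [h1] at hc
  have hq : 1 < Fintype.card F := Fintype.one_lt_card
  have h2 : Fintype.card F ^ 1 < Fintype.card F ^ r :=
    Nat.pow_lt_pow_right hq hr.one_lt
  rw [pow_one] at h2
  omega

/-- The assembly in `_of` form: the ten properness leaves as hypotheses. -/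
theorem not_sl_le_of_inLinearClass_of
    (P1 : ∀ (W : Submodule F (Fin n → F)), W ≠ ⊥ → W ≠ ⊤ →
      ¬ specialLinear (Fin n) F ≤ subspaceStabilizer W)
    (P2 : ∀ {t : ℕ} (m : ℕ) (D : Fin t → Submodule F (Fin n → F)), IsMDecomposition m D →
      ¬ specialLinear (Fin n) F ≤ decompositionStabilizer D)
    (P3 : ∀ (r : ℕ), r.Prime → ∀ (K : Subalgebra F (Matrix (Fin n) (Fin n) F)),
      IsFieldSubalgebra r K → ¬ specialLinear (Fin n) F ≤ subalgebraNormalizer K)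
    (P4a : ∀ (n₁ n₂ : ℕ), 2 ≤ n₁ → 2 ≤ n₂ → ∀ (e : Fin n ≃ Fin n₁ × Fin n₂) (P : GL (Fin n) F),
      ¬ specialLinear (Fin n) F ≤ tensorProductSubgroup n₁ n₂ e P)
    (P4b : ∀ (m t : ℕ), 2 ≤ m → 2 ≤ t → ∀ (e : Fin n ≃ (Fin t → Fin m)) (P : GL (Fin n) F),
      ¬ specialLinear (Fin n) F ≤ tensorWreathSubgroup m t e P)
    (P5 : ∀ (F₀ : Subfield F), F₀ ≠ ⊤ → ∀ (P : GL (Fin n) F),
      ¬ specialLinear (Fin n) F ≤ subfieldSubgroup F₀ P)
    (P6 : ∀ (r : ℕ) (R : Subgroup (GL (Fin n) F)), IsLinearSymplecticTypeData r R →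
      ¬ specialLinear (Fin n) F ≤ subgroupNormalizer R)
    (P8a : ∀ (f : (Fin n → F) → (Fin n → F) → F), IsSymplecticForm f →
      ¬ specialLinear (Fin n) F ≤ similarityGroup f)
    (P8b : ∀ (σ : F ≃+* F) (f : (Fin n → F) → (Fin n → F) → F), IsUnitaryForm σ f →
      ¬ specialLinear (Fin n) F ≤ similarityGroup f)
    (P8c : ∀ (Q : (Fin n → F) → F), IsNondegenerateQuadraticForm Q → Odd (Fintype.card F) →
      ¬ specialLinear (Fin n) F ≤ quadSimilarityGroup Q)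
    (M : Subgroup (GL (Fin n) F)) (hM : InLinearClass n F M) :
    ¬ specialLinear (Fin n) F ≤ M := by
  intro hle
  rcases hM with ⟨W, hW, hW', rfl⟩ | ⟨W, U, hW, hWU, -, rfl⟩ | ⟨W, U, hW, hinf, hsup, hlt, rfl⟩ |
    ⟨t, m, D, hD, rfl⟩ | ⟨r, K, hr, hK, rfl⟩ | ⟨n₁, n₂, e, P, h1, h12, rfl⟩ |
    ⟨F₀, r, P, hr, hc, rfl⟩ | ⟨r, R, hR, rfl⟩ | ⟨m, t, e, P, hm, ht, rfl⟩ |
    ⟨f, hf, -, -, rfl⟩ | ⟨σ, f, hf, -, rfl⟩ | ⟨Q, hQ, hodd, -, rfl⟩
  · exact P1 W hW hW' hle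
  · exact P1 W hW (fun h => by rw [h] at hWU; exact not_top_lt hWU) (hle.trans inf_le_left)
  · refine P1 W hW (fun h => ?_) (hle.trans inf_le_left)
    subst h
    rw [top_inf_eq] at hinf
    subst hinf
    simp at hlt
  · exact P2 m D hD hle
  · exact P3 r hr K hK hle
  · exact P4a n₁ n₂ h1 (by omega) e P hle
  · exact P5 F₀ (subfield_ne_top_of_card F₀ r hr hc) P hle
  · exact P6 r R hR hle
  · exact P4b m t (by omega) ht e P hle
  · exact P8a f hf hle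
  · exact P8b σ f hf hle
  · exact P8c Q hQ hodd hle

end Cfsg.Agent.Lib.Helper87.BhrProper
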