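import Mathlib
import Cfsg.Prelude.Def_GeometricClasses
import Cfsg.Agent.Lib.Helper99.AschDefs
import Cfsg.Agent.Lib.Helper99.AschDefsR
import Cfsg.Agent.Lib.Helper87.BhrProperOf
import Cfsg.Agent.Lib.Helper24.BhrP1
import Cfsg.Agent.Lib.Helper24.BhrP2
import Cfsg.Agent.Lib.Helper86.BhrP3
import Cfsg.Agent.Lib.Helper45.BhrP4
import Cfsg.Agent.Lib.Helper11.BhrP5
import Cfsg.Agent.Lib.Helper11.BhrP6
import Cfsg.Agent.Lib.Helper86.BhrP8

/-!
BHR-[PROPER] (helper87): no member of a geometric class of `GL_n(F)`, `n ≥ 3`, contains `SL_n(F)`.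
Assembly of the landed leaves P1 P2 (helper24), P3 P8 (helper86), P4 (helper45), P5 P6 (helper11).
-/

set_option autoImplicit false

namespace Cfsg.Agent.Lib.Helper99.Asch

open Cfsg Cfsg.Geo
open scoped MatrixGroups Matrix Kronecker

variable {n : ℕ} {F : Type*} [Field F] [Fintype F]

/-- BHR-[PROPER]  assembly: rcases on the 12 disjuncts (2nd and 3rd: M ≤ subspaceStabilizer W). -/
theorem not_sl_le_of_inLinearClass (hn : 3 ≤ n) (M : Subgroup (GL (Fin n) F))
    (hM : InLinearClass n F M) : ¬ specialLinear (Fin n) F ≤ M :=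
  Cfsg.Agent.Lib.Helper87.BhrProper.not_sl_le_of_inLinearClass_of
    (fun W hW hW' => not_sl_le_subspaceStabilizer (by omega) W hW hW')
    (fun m D hD => not_sl_le_decompositionStabilizer hn m D hD)
    (fun r hr K hK => not_sl_le_subalgebraNormalizer hn r hr K hK)
    (fun n₁ n₂ h1 h2 e P => not_sl_le_tensorProductSubgroup n₁ n₂ h1 h2 e P)
    (fun m t hm ht e P => not_sl_le_tensorWreathSubgroup m t hm ht e P)
    (fun F₀ hF₀ P => not_sl_le_subfieldSubgroup (by omega) F₀ hF₀ P)
    (fun r R hR => not_sl_le_subgroupNormalizer hn r R hR)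
    (fun f hf => not_sl_le_similarityGroup_symplectic hn f hf)
    (fun σ f hf => not_sl_le_similarityGroup_unitary hn σ f hf)
    (fun Q hQ hodd => not_sl_le_quadSimilarityGroup hn Q hQ hodd)
    M hM

end Cfsg.Agent.Lib.Helper99.Asch
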