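import Mathlib
import Cfsg.Prelude.Def_GeometricClasses
import Cfsg.Agent.Lib.Helper99.AschDefs
import Cfsg.Agent.Lib.Helper99.AschDefsR
import Cfsg.Agent.Lib.Helper87.BhrMaxCasesOf
import Cfsg.Agent.Lib.Helper87.BhrProper
import Cfsg.Agent.Lib.Helper24.BhrC3Div
import Cfsg.Agent.Lib.Helper24.BhrE1
import Cfsg.Agent.Lib.Helper98.BhrE2
import Cfsg.Agent.Lib.Helper98.BhrE3
import Cfsg.Agent.Lib.Helper95.BhrE5
import Cfsg.Agent.Lib.Helper95.BhrE8

/-!
BHR-[MAXCASES] (helper87, hedge): `maximal_cases` with the refined main theorem MAINR as its ONLY hypothesis;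
everything else (PROPER, C3DIV, E1 E2 E3 E5 E8) is imported from main.  Once
`aschbacher_linear_R : 3 ≤ n → GeoR H ∨ InLinearResidualClass H` is on main,
`maximal_cases hn H hH := maximal_cases_of_mainR hn (fun H => aschbacher_linear_R hn H) H hH`.
-/

set_option autoImplicit false

namespace Cfsg.Agent.Lib.Helper87.BhrMaxCases

open Cfsg Cfsg.Geo Cfsg.Agent.Lib.Helper99.Asch
open scoped MatrixGroups Matrix Kronecker

variable {n : ℕ} {F : Type*} [Field F] [Fintype F]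

theorem maximal_cases_of_mainR (hn : 3 ≤ n)
    (hmain : ∀ H : Subgroup (GL (Fin n) F), GeoR H ∨ InLinearResidualClass H)
    (H : Subgroup (GL (Fin n) F))
    (hH : IsMaximalIn (specialLinear (Fin n) F) H) :
    (∃ W : Submodule F (Fin n → F), W ≠ ⊥ ∧ W ≠ ⊤ ∧
      H = subspaceStabilizer W ⊓ specialLinear (Fin n) F) ∨
    (∃ (t m : ℕ) (D : Fin t → Submodule F (Fin n → F)), IsMDecomposition m D ∧ t * m = n ∧
      (m = 1 → 5 ≤ Fintype.card F) ∧ (m = 2 → 3 ≤ Fintype.card F) ∧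
      H = decompositionStabilizer D ⊓ specialLinear (Fin n) F) ∨
    (∃ (r : ℕ) (K : Subalgebra F (Matrix (Fin n) (Fin n) F)), r.Prime ∧ r ∣ n ∧ IsFieldSubalgebra r K ∧
      H = subalgebraNormalizer K ⊓ specialLinear (Fin n) F) ∨
    (∃ (n₁ n₂ : ℕ) (e : Fin n ≃ Fin n₁ × Fin n₂) (P : GL (Fin n) F), 2 ≤ n₁ ∧ n₁ < n₂ ∧ n₁ * n₂ = n ∧
      (n₁ = 2 → 3 ≤ Fintype.card F) ∧
      H = tensorProductSubgroup n₁ n₂ e P ⊓ specialLinear (Fin n) F) ∨
    (∃ (F₀ : Subfield F) (r : ℕ) (P : GL (Fin n) F), r.Prime ∧ Fintype.card F = Nat.card F₀ ^ r ∧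
      H = subfieldSubgroup F₀ P ⊓ specialLinear (Fin n) F) ∨
    (∃ (r : ℕ) (R : Subgroup (GL (Fin n) F)) (m : ℕ), IsLinearSymplecticTypeData r R ∧ 1 ≤ m ∧ n = r ^ m ∧
      H = subgroupNormalizer R ⊓ specialLinear (Fin n) F) ∨
    (∃ (m t : ℕ) (e : Fin n ≃ (Fin t → Fin m)) (P : GL (Fin n) F), 3 ≤ m ∧ 2 ≤ t ∧ m ^ t = n ∧
      H = tensorWreathSubgroup m t e P ⊓ specialLinear (Fin n) F) ∨
    (∃ f : (Fin n → F) → (Fin n → F) → F, IsSymplecticForm f ∧ Even n ∧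
      H = similarityGroup f ⊓ specialLinear (Fin n) F) ∨
    (∃ (σ : F ≃+* F) (f : (Fin n → F) → (Fin n → F) → F), IsUnitaryForm σ f ∧
      H = similarityGroup f ⊓ specialLinear (Fin n) F) ∨
    (∃ Q : (Fin n → F) → F, IsNondegenerateQuadraticForm Q ∧ Odd (Fintype.card F) ∧
      H = quadSimilarityGroup Q ⊓ specialLinear (Fin n) F) ∨
    InLinearResidualClass H :=
  maxCases_of hn hmain
    (fun M hM => not_sl_le_of_inLinearClass hn M hM)
    (fun r K hK => dvd_of_isFieldSubalgebra r K hK)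
    (fun D hD hq => decomp_lines_card_two (by omega) D hD hq)
    (fun D hD hq => decomp_lines_card_three D hD hq)
    (fun D hD hq => decomp_lines_card_four D hD hq)
    (fun D hD hq => decomp_planes_card_two D hD hq)
    (fun n₂ hn₂ e P hq => tensor_two_card_two n₂ hn₂ e P hq)
    H hH

end Cfsg.Agent.Lib.Helper87.BhrMaxCases
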