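/-
helper87, mini-sheet BHRSU4 (helper34), module [E-SU4-DEC3]:
`q = 3`: in `SU_4(3)` the stabiliser of a decomposition into four mutually orthogonal non-degenerate points
(the monomial group `4^3 : S_4`) is NOT maximal: it normalises the Pauli group `F^* ∘ 2^(1+4)` (in an orthonormal
frame adapted to `D`), whose normaliser is a proper subgroup of `SU_4(3)` ([P6]) and contains the non-monomial
Hadamard element.  The Pauli-group library is helper15's BHR-[E4] (`Lib/Helper15/BhrE4*.lean`).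
-/
import Mathlib
import Cfsg.Prelude.Def_GeometricClasses
import Cfsg.Prelude.Def_ClassicalGeometry
import Cfsg.Agent.Lib.Helper37.BHRSU.Defs
import Cfsg.Agent.Lib.Helper13.Herm
import Cfsg.Agent.Lib.Helper36.HermNorm
import Cfsg.Agent.Lib.Helper15.BhrE4
import Cfsg.Agent.Lib.Helper25.BhrsuP6Exact

set_option autoImplicit false
set_option linter.unusedSectionVars false

namespace Cfsg.Agent.Lib.Helper87.BhrsuSU4Dec

open Cfsg Cfsg.Geo Cfsg.Agent.Lib.Helper70.AschU Cfsg.Agent.Lib.Helper37.BHRSU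
open Cfsg.Agent.Lib.Helper15.BhrE4 Cfsg.Agent.Lib.Helper13
open scoped MatrixGroups Matrix

variable {F : Type*} [Field F] [Fintype F]

/-! ## the field with nine elements -/

theorem three_eq_zero (hF : Fintype.card F = 9) : (3 : F) = 0 := by
  have h9 : ((9 : ℕ) : F) = 0 := by
    have := Nat.cast_card_eq_zero F
    rwa [hF] at this
  have h33 : (3 : F) * 3 = 0 := by
    have : ((9 : ℕ) : F) = 3 * 3 := by norm_num
    rw [← this]; exact h9
  rcases mul_eq_zero.mp h33 with h | h <;> exact h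

theorem two_ne_zero' (hF : Fintype.card F = 9) : (2 : F) ≠ 0 := by
  intro h
  have h3 := three_eq_zero hF
  have : (1 : F) = 0 := by linear_combination h3 - h
  exact one_ne_zero this

theorem four_eq_one (hF : Fintype.card F = 9) : (4 : F) = 1 := by
  have h3 := three_eq_zero hF
  linear_combination h3

theorem card_eq_sq (hF : Fintype.card F = 9) : Fintype.card F = 3 ^ 2 := by rw [hF]; norm_num

/-- norm surjectivity: every element fixed by `x ↦ x ^ 3` is a norm `c * c ^ 3`. -/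
theorem exists_norm_eq (hF : Fintype.card F = 9) (a : F) (ha : a ^ 3 = a) : ∃ c : F, c * c ^ 3 = a := by
  obtain ⟨σ, hσ, hσ2⟩ := exists_frob (card_eq_sq hF)
  have hne := Cfsg.Agent.S0837.frob_ne_id σ (card_eq_sq hF) hσ
  obtain ⟨c, hc⟩ := Cfsg.Agent.Lib.Helper36.exists_mul_map_eq σ hne hσ2 a (by rw [hσ]; exact ha)
  exact ⟨c, by rw [← hσ]; exact hc⟩

/-! ## sesquilinearity over finite sums -/

omit [Fintype F] in
theorem hermForm_sum_left {n : ℕ} {ι : Type*} (s : Finset ι) (u : ι → Fin n → F) (v : Fin n → F) :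
    hermForm n F 3 (∑ i ∈ s, u i) v = ∑ i ∈ s, hermForm n F 3 (u i) v := by
  classical
  induction s using Finset.induction_on with
  | empty => simp [hermForm_zero_left]
  | insert a s ha ih => rw [Finset.sum_insert ha, Finset.sum_insert ha, hermForm_add_left, ih]

theorem hermForm_zero_right (hF : Fintype.card F = 9) {n : ℕ} (u : Fin n → F) :
    hermForm n F 3 u 0 = 0 := by
  have := hermForm_smul_right (card_eq_sq hF) (0 : F) u (0 : Fin n → F)
  rw [zero_smul] at this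
  rw [this]; simp

theorem hermForm_sum_right (hF : Fintype.card F = 9) {n : ℕ} {ι : Type*} (s : Finset ι)
    (u : Fin n → F) (v : ι → Fin n → F) :
    hermForm n F 3 u (∑ i ∈ s, v i) = ∑ i ∈ s, hermForm n F 3 u (v i) := by
  classical
  induction s using Finset.induction_on with
  | empty => simp [hermForm_zero_right hF]
  | insert a s ha ih =>
    rw [Finset.sum_insert ha, Finset.sum_insert ha, hermForm_add_right (card_eq_sq hF), ih]

/-! ## an orthonormal frame adapted to `D` -/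

/-- an orthonormal basis adapted to a non-degenerate decomposition into points -/
theorem exists_orthonormal_basis (hF : Fintype.card F = 9) (D : Fin 4 → Submodule F (Fin 4 → F))
    (hD : IsNondegenerateMDecomposition (hermForm 4 F 3) 1 D) :
    ∃ B : Module.Basis (Fin 4) F (Fin 4 → F), (∀ i, D i = Submodule.span F {B i}) ∧
      ∀ i j, hermForm 4 F 3 (B i) (B j) = if i = j then 1 else 0 := by
  obtain ⟨B₀, hB₀⟩ := Cfsg.Agent.Lib.Helper98.Bhr.exists_basis_of_lines D hD.decomp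
  have hmem : ∀ i, B₀ i ∈ D i := fun i => by
    rw [hB₀ i]; exact Submodule.mem_span_singleton_self _
  have ha : ∀ i, hermForm 4 F 3 (B₀ i) (B₀ i) ≠ 0 := by
    intro i h0
    obtain ⟨⟨x, hx, hne⟩, _⟩ := hD.nondegenerate i (B₀ i) (hmem i) (B₀.ne_zero i)
    rw [hB₀ i, Submodule.mem_span_singleton] at hx
    obtain ⟨c, rfl⟩ := hx
    rw [hermForm_smul_left, h0, mul_zero] at hne
    exact hne rfl
  have hc : ∀ i, ∃ c : F, c * c ^ 3 = (hermForm 4 F 3 (B₀ i) (B₀ i))⁻¹ := by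
    intro i
    apply exists_norm_eq hF
    rw [inv_pow, hermForm_conj (card_eq_sq hF)]
  choose c hc using hc
  have hc0 : ∀ i, c i ≠ 0 := by
    intro i h0
    have := hc i
    rw [h0, zero_mul] at this
    exact inv_ne_zero (ha i) this.symm
  let w : Fin 4 → Fˣ := fun i => Units.mk0 (c i) (hc0 i)
  have hw : ∀ i, (B₀.unitsSMul w) i = c i • B₀ i := by
    intro i
    rw [Module.Basis.unitsSMul_apply]
    rfl
  refine ⟨B₀.unitsSMul w, ?_, ?_⟩
  · intro i
    rw [hw i, hB₀ i]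
    exact (Submodule.span_singleton_smul_eq (IsUnit.mk0 _ (hc0 i)) _).symm
  · intro i j
    rw [hw i, hw j, hermForm_smul_left, hermForm_smul_right (card_eq_sq hF)]
    by_cases hij : i = j
    · subst hij
      rw [if_pos rfl]
      have h1 := hc i
      have h2 := ha i
      field_simp at h1
      linear_combination h1
    · rw [if_neg hij, hD.orthogonal i j hij _ (hmem i) _ (hmem j)]
      ring

/-! ## the frame matrix is unitary -/

omit [Fintype F] in
theorem basisGL_mulVec (B : Module.Basis (Fin 4) F (Fin 4 → F)) (x : Fin 4 → F) :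
    ((basisGL B : GL (Fin 4) F) : Matrix (Fin 4) (Fin 4) F) *ᵥ x = ∑ j, x j • B j := by
  funext i
  simp only [Matrix.mulVec, dotProduct, basisGL_apply, Finset.sum_apply, Pi.smul_apply, smul_eq_mul]
  exact Finset.sum_congr rfl fun j _ => mul_comm _ _

omit [Fintype F] in
theorem mem_GU_iff {n : ℕ} (g : GL (Fin n) F) :
    g ∈ GU n F 3 ↔ ∀ u v, hermForm n F 3 ((g : Matrix (Fin n) (Fin n) F) *ᵥ u)
      ((g : Matrix (Fin n) (Fin n) F) *ᵥ v) = hermForm n F 3 u v := Iff.rfl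

theorem basisGL_mem_GU (hF : Fintype.card F = 9) (B : Module.Basis (Fin 4) F (Fin 4 → F))
    (hB : ∀ i j, hermForm 4 F 3 (B i) (B j) = if i = j then 1 else 0) :
    basisGL B ∈ GU 4 F 3 := by
  rw [mem_GU_iff]
  intro u v
  rw [basisGL_mulVec, basisGL_mulVec, hermForm_sum_left]
  simp only [hermForm_sum_right hF, hermForm_smul_left, hermForm_smul_right (card_eq_sq hF), hB]
  unfold hermForm
  apply Finset.sum_congr rfl
  intro i _
  rw [Finset.sum_eq_single i]
  · rw [if_pos rfl]; ring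
  · intro j _ hj
    rw [if_neg (Ne.symm hj), mul_zero, mul_zero]
  · intro h; exact absurd (Finset.mem_univ _) h

/-! ## monomial matrices with entries in `μ_4` normalise the Pauli matrices (after helper15's BHR-[E4]) -/

omit [Fintype F] in
theorem smul_Mon (c : F) (π : Fin 4 → Fin 4) (μ : Fin 4 → F) :
    c • Mon π μ = Mon π (fun j => c * μ j) := by
  ext j' j
  simp only [Matrix.smul_apply, Mon, smul_eq_mul]
  split_ifs <;> simp

omit [Fintype F] in
theorem Mstd_eq_smul (c : F) (a b : Fin 4) : Mstd c a b = c • Mstd 1 a b := by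
  unfold Mstd
  rw [smul_Mon]
  congr 1
  funext j
  ring

omit [Fintype F] in
/-- helper15's `Mon_mul_Mstd_exists` with the hypothesis `l j ^ 4 = 1` on the entries only, for `c ^ 4 = 1`. -/
theorem Mon_mul_Mstd_exists_core (h2 : (2 : F) ≠ 0)
    (τ : Equiv.Perm (Fin 4)) (l : Fin 4 → F) (hl4 : ∀ j, l j ^ 4 = 1) (hprod : (∏ j, l j) ^ 2 = 1)
    (c : F) (hc4 : c ^ 4 = 1) (a b : Fin 4) :
    ∃ (c' : F) (a' b' : Fin 4), c' ≠ 0 ∧ Mon τ l * Mstd c a b = Mstd c' a' b' * Mon τ l := by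
  have hl : ∀ j, l j ≠ 0 := by
    intro j h0
    have := hl4 j
    rw [h0] at this
    norm_num at this
  have hc : c ≠ 0 := by
    intro h0
    rw [h0] at hc4
    norm_num at hc4
  obtain ⟨a', ha'⟩ := conj_xr τ a
  obtain ⟨bs, hbs⟩ := bridge h2 (fun j => l j ^ 2)
    (by
      show (l 0 ^ 2) ^ 4 = 1
      rw [← pow_mul, mul_comm, pow_mul, hl4 0, one_pow])
    (by
      intro k
      show l k ^ 2 * l k ^ 2 = l 0 ^ 2 * l 0 ^ 2
      have h1 := hl4 k
      have h0 := hl4 0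
      linear_combination h1 - h0)
    (by
      show ∏ k, l k ^ 2 = 1
      rw [Finset.prod_pow]; exact hprod)
  set ν : Fin 4 → F := fun k =>
    l (xr (τ.symm k) a) * c * sg F (dt b (τ.symm k)) * (l (τ.symm k))⁻¹ with hν
  have hνne : ∀ k, ν k ≠ 0 := by
    intro k
    simp only [hν]
    exact mul_ne_zero (mul_ne_zero (mul_ne_zero (hl _) hc) (sg_ne_zero _)) (inv_ne_zero (hl _))
  have hνsq : ∀ k, ν k * ν k = sg F (dt bs a) * (c * c) := by
    intro k
    simp only [hν]
    have e1 := hbs (xr (τ.symm k) a)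
    have e2 := hbs (τ.symm k)
    rw [dt_xr_right, sg_xor] at e1
    have hlk := hl (τ.symm k)
    have hs := sg_mul_self (F := F) (dt b (τ.symm k))
    have hs' := sg_mul_self (F := F) (dt bs (τ.symm k))
    have h3 : l (xr (τ.symm k) a) ^ 2 = sg F (dt bs a) * l (τ.symm k) ^ 2 := by
      rw [e1, e2]
      ring
    field_simp
    linear_combination (sg F (dt b (τ.symm k))) ^ 2 * h3 +
      (sg F (dt bs a) * l (τ.symm k) ^ 2) * hs
  have hνprod : ∏ k, ν k = 1 := by
    rw [← Equiv.prod_comp τ ν]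
    simp only [hν, Equiv.symm_apply_apply]
    rw [Finset.prod_mul_distrib, Finset.prod_mul_distrib, Finset.prod_mul_distrib,
      Finset.prod_inv_distrib, prod_sg, Finset.prod_const, Finset.card_univ, Fintype.card_fin,
      hc4, mul_one, mul_one]
    have : ∏ j, l (xr j a) = ∏ j, l j := Equiv.prod_comp (xrPerm a) l
    rw [this]
    exact mul_inv_cancel₀ (Finset.prod_ne_zero_iff.mpr fun j _ => hl j)
  have hν04 : ν 0 ^ 4 = 1 := by
    simp only [hν]
    rw [mul_pow, mul_pow, mul_pow, inv_pow, hl4, hl4, hc4]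
    have hs := sg_mul_self (F := F) (dt b (τ.symm 0))
    have : sg F (dt b (τ.symm 0)) ^ 4 = 1 := by
      have e : sg F (dt b (τ.symm 0)) ^ 4 =
          (sg F (dt b (τ.symm 0)) * sg F (dt b (τ.symm 0))) ^ 2 := by ring
      rw [e, hs, one_pow]
    rw [this]; simp
  obtain ⟨b', hb'⟩ := bridge h2 ν hν04
    (by intro k; rw [hνsq k, hνsq 0]) hνprod
  refine ⟨ν 0, a', b', hνne 0, ?_⟩
  unfold Mstd
  rw [Mon_mul, Mon_mul]
  congr 1
  · funext j
    simp only [Function.comp]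
    exact ha' j
  · funext j
    rw [← hb' (τ j)]
    simp only [hν, Equiv.symm_apply_apply]
    have hlj := hl j
    field_simp

omit [Fintype F] in
theorem Mon_mul_Mstd_exists' (h2 : (2 : F) ≠ 0)
    (τ : Equiv.Perm (Fin 4)) (l : Fin 4 → F) (hl4 : ∀ j, l j ^ 4 = 1) (hprod : (∏ j, l j) ^ 2 = 1)
    (c : F) (hc : c ≠ 0) (a b : Fin 4) :
    ∃ (c' : F) (a' b' : Fin 4), c' ≠ 0 ∧ Mon τ l * Mstd c a b = Mstd c' a' b' * Mon τ l := by
  obtain ⟨c', a', b', hc', h⟩ := Mon_mul_Mstd_exists_core h2 τ l hl4 hprod 1 (one_pow 4) a b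
  refine ⟨c * c', a', b', mul_ne_zero hc hc', ?_⟩
  rw [Mstd_eq_smul c a b, Mstd_eq_smul (c * c') a' b', Mstd_eq_smul c' a' b'] at *
  rw [Matrix.mul_smul, h, Matrix.smul_mul, Matrix.smul_mul, smul_smul]

omit [Fintype F] in
/-- helper15's `conj_mem_pauliGroup` for monomial matrices with entries in `μ_4` (any field with `2 ≠ 0`). -/
theorem conj_mem_pauliGroup' (h2 : (2 : F) ≠ 0)
    (B : Module.Basis (Fin 4) F (Fin 4 → F)) (g : GL (Fin 4) F) (τ : Equiv.Perm (Fin 4))
    (l : Fin 4 → F) (hgl : ∀ j, (g : Matrix (Fin 4) (Fin 4) F) *ᵥ B j = l j • B (τ j))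
    (hl4 : ∀ j, l j ^ 4 = 1)
    (hdet : (g : Matrix (Fin 4) (Fin 4) F).det ^ 2 = 1) (x : GL (Fin 4) F)
    (hx : x ∈ pauliGroup (basisGL B)) : g * x * g⁻¹ ∈ pauliGroup (basisGL B) := by
  set P := basisGL B with hP
  have hPi : ((P⁻¹ : GL (Fin 4) F) : Matrix (Fin 4) (Fin 4) F) * (P : Matrix (Fin 4) (Fin 4) F) = 1 :=
    Units.inv_mul P
  have hiP : (P : Matrix (Fin 4) (Fin 4) F) * ((P⁻¹ : GL (Fin 4) F) : Matrix (Fin 4) (Fin 4) F) = 1 :=
    Units.mul_inv P
  have hgP := mul_basisGL B (g : Matrix (Fin 4) (Fin 4) F) τ l hgl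
  rw [← hP] at hgP
  have hprod : (∏ j, l j) ^ 2 = 1 := by
    rw [← det_Mon_sq τ l]
    have h1 := congrArg Matrix.det hgP
    rw [Matrix.det_mul, Matrix.det_mul] at h1
    have hPd : (P : Matrix (Fin 4) (Fin 4) F).det ≠ 0 := by
      intro h0
      have := congrArg Matrix.det hiP
      rw [Matrix.det_mul, h0, zero_mul, Matrix.det_one] at this
      exact zero_ne_one this
    have h3 : (Mon τ l).det = (g : Matrix (Fin 4) (Fin 4) F).det := by
      have : (P : Matrix (Fin 4) (Fin 4) F).det * (Mon τ l).det =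
          (P : Matrix (Fin 4) (Fin 4) F).det * (g : Matrix (Fin 4) (Fin 4) F).det := by
        rw [← h1, mul_comm]
      exact mul_left_cancel₀ hPd this
    rw [h3, hdet]
  have hMP : Mon τ l * ((P⁻¹ : GL (Fin 4) F) : Matrix (Fin 4) (Fin 4) F) =
      ((P⁻¹ : GL (Fin 4) F) : Matrix (Fin 4) (Fin 4) F) * (g : Matrix (Fin 4) (Fin 4) F) := by
    calc Mon τ l * ((P⁻¹ : GL (Fin 4) F) : Matrix (Fin 4) (Fin 4) F)
        = ((P⁻¹ : GL (Fin 4) F) : Matrix (Fin 4) (Fin 4) F) *
            ((P : Matrix (Fin 4) (Fin 4) F) * Mon τ l) *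
            ((P⁻¹ : GL (Fin 4) F) : Matrix (Fin 4) (Fin 4) F) := by
          rw [← mul_assoc, hPi, one_mul]
      _ = ((P⁻¹ : GL (Fin 4) F) : Matrix (Fin 4) (Fin 4) F) *
            ((g : Matrix (Fin 4) (Fin 4) F) * (P : Matrix (Fin 4) (Fin 4) F)) *
            ((P⁻¹ : GL (Fin 4) F) : Matrix (Fin 4) (Fin 4) F) := by rw [hgP]
      _ = ((P⁻¹ : GL (Fin 4) F) : Matrix (Fin 4) (Fin 4) F) * (g : Matrix (Fin 4) (Fin 4) F) := by
          rw [mul_assoc, mul_assoc, hiP, mul_one]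
  obtain ⟨c, a, b, rfl⟩ := hx
  obtain ⟨c', a', b', hc', hmm⟩ :=
    Mon_mul_Mstd_exists' h2 τ l hl4 hprod (c : F) c.ne_zero a b
  refine ⟨Units.mk0 c' hc', a', b', ?_⟩
  rw [mul_inv_eq_iff_eq_mul]
  apply Units.ext
  rw [Units.val_mul, Units.val_mul, E_val, E_val, Units.val_mk0]
  calc (g : Matrix (Fin 4) (Fin 4) F) *
        ((P : Matrix (Fin 4) (Fin 4) F) * Mstd (c : F) a b *
          ((P⁻¹ : GL (Fin 4) F) : Matrix (Fin 4) (Fin 4) F))
      = ((g : Matrix (Fin 4) (Fin 4) F) * (P : Matrix (Fin 4) (Fin 4) F)) * Mstd (c : F) a b *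
          ((P⁻¹ : GL (Fin 4) F) : Matrix (Fin 4) (Fin 4) F) := by simp only [mul_assoc]
    _ = (P : Matrix (Fin 4) (Fin 4) F) * (Mon τ l * Mstd (c : F) a b) *
          ((P⁻¹ : GL (Fin 4) F) : Matrix (Fin 4) (Fin 4) F) := by rw [hgP]; simp only [mul_assoc]
    _ = (P : Matrix (Fin 4) (Fin 4) F) * Mstd c' a' b' *
          (Mon τ l * ((P⁻¹ : GL (Fin 4) F) : Matrix (Fin 4) (Fin 4) F)) := by
        rw [hmm]; simp only [mul_assoc]
    _ = (P : Matrix (Fin 4) (Fin 4) F) * Mstd c' a' b' *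
          ((P⁻¹ : GL (Fin 4) F) : Matrix (Fin 4) (Fin 4) F) * (g : Matrix (Fin 4) (Fin 4) F) := by
        rw [hMP]; simp only [mul_assoc]

/-! ## the Pauli group over `F_9`: a `2`-group of similitudes -/

theorem unit_pow_eight (hF : Fintype.card F = 9) (c : Fˣ) : c ^ 8 = 1 := by
  apply Units.ext
  rw [Units.val_pow_eq_pow_val, Units.val_one]
  have := FiniteField.pow_card_sub_one_eq_one (c : F) c.ne_zero
  rwa [hF] at this

omit [Fintype F] in
theorem E_scalar_pow (P : GL (Fin 4) F) (z : Fˣ) (k : ℕ) : (E P z 0 0) ^ k = E P (z ^ k) 0 0 := by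
  induction k with
  | zero => rw [pow_zero, pow_zero, E_one]
  | succ k ih => rw [pow_succ, ih, E_scalar_mul, pow_succ]

theorem E_pow_eight (hF : Fintype.card F = 9) (P : GL (Fin 4) F) (c : Fˣ) (a b : Fin 4) :
    (E P c a b) ^ 8 = 1 := by
  have h2 : E P c a b ^ 2 = E P (c * c * sgU F (dt b a)) 0 0 := by rw [pow_two, E_sq]
  have h8 : E P c a b ^ 8 = (E P c a b ^ 2) ^ 4 := by rw [← pow_mul]
  rw [h8, h2, E_scalar_pow, ← E_one P]
  congr 1
  have e : (c * c * sgU F (dt b a)) ^ 4 = c ^ 8 * (sgU F (dt b a) * sgU F (dt b a)) ^ 2 := by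
    apply Units.ext; push_cast; ring
  rw [e, unit_pow_eight hF, sgU_mul_self, one_pow, one_mul]

theorem isPGroup_pauliGroup (hF : Fintype.card F = 9) (P : GL (Fin 4) F) :
    IsPGroup 2 (pauliGroup P) := by
  rintro ⟨g, c, a, b, rfl⟩
  refine ⟨3, ?_⟩
  apply Subtype.ext
  rw [SubgroupClass.coe_pow]
  exact E_pow_eight hF P c a b

omit [Fintype F] in
theorem GU_le_similarityGroup {n : ℕ} : GU n F 3 ≤ similarityGroup (hermForm n F 3) := by
  intro g hg
  exact ⟨1, fun u v => by rw [Units.val_one, one_mul]; exact hg u v⟩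

omit [Fintype F] in
theorem MstdGL_mem_similarityGroup (c : Fˣ) (a b : Fin 4) :
    MstdGL c a b ∈ similarityGroup (hermForm 4 F 3) := by
  refine ⟨c * c ^ 3, fun u v => ?_⟩
  rw [MstdGL_val]
  unfold hermForm
  simp only [Mstd_mulVec]
  rw [Finset.mul_sum, ← Equiv.sum_comp (xrPerm a) (fun i => ((c * c ^ 3 : Fˣ) : F) * (u i * v i ^ 3))]
  apply Finset.sum_congr rfl
  intro j _
  have hs := sg_mul_self (F := F) (dt b (xr j a))
  have hs4 : sg F (dt b (xr j a)) ^ 4 = 1 := by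
    have e : sg F (dt b (xr j a)) ^ 4 = (sg F (dt b (xr j a)) * sg F (dt b (xr j a))) ^ 2 := by ring
    rw [e, hs, one_pow]
  show _ = ((c * c ^ 3 : Fˣ) : F) * (u (xr j a) * v (xr j a) ^ 3)
  push_cast
  linear_combination ((c : F) ^ 4 * u (xr j a) * v (xr j a) ^ 3) * hs4

theorem pauliGroup_le_similarityGroup (P : GL (Fin 4) F) (hP : P ∈ GU 4 F 3) :
    pauliGroup P ≤ similarityGroup (hermForm 4 F 3) := by
  rintro g ⟨c, a, b, rfl⟩
  unfold E
  exact Subgroup.mul_mem _ (Subgroup.mul_mem _ (GU_le_similarityGroup hP)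
    (MstdGL_mem_similarityGroup c a b)) (Subgroup.inv_mem _ (GU_le_similarityGroup hP))

/-! ## the Hadamard element -/

/-- the character table of the Klein four-group -/
def W4 (F : Type*) [Field F] : Matrix (Fin 4) (Fin 4) F := fun i j => sg F (dt i j)

omit [Fintype F] in
theorem W4_eq : W4 F = !![1, 1, 1, 1; 1, -1, 1, -1; 1, 1, -1, -1; 1, -1, -1, 1] := by
  ext i j
  fin_cases i <;> fin_cases j <;> simp [W4, dt, sg]

omit [Fintype F] in
theorem W4_mul_self (h3 : (3 : F) = 0) : W4 F * W4 F = 1 := by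
  ext i k
  simp only [Matrix.mul_apply, W4, Matrix.one_apply]
  have e : ∀ j, sg F (dt i j) * sg F (dt j k) = sg F (dt j (xr i k)) := by
    intro j
    rw [dt_comm i j, dt_xr_right, sg_xor]
  simp only [e]
  rw [sum_sg]
  by_cases hik : i = k
  · subst hik
    rw [xr_self, if_pos rfl, if_pos rfl]
    linear_combination h3
  · rw [if_neg hik, if_neg]
    intro h
    apply hik
    have := (xr_eq_iff i 0 k).mpr h
    rwa [zero_xr] at this

omit [Fintype F] in
theorem det_W4 (h3 : (3 : F) = 0) : (W4 F).det = 1 := by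
  rw [W4_eq, Matrix.det_succ_row_zero]
  simp [Fin.sum_univ_succ, Matrix.det_fin_three, Fin.succAbove, Matrix.submatrix, Matrix.of_apply]
  ring_nf
  linear_combination 5 * h3

omit [Fintype F] in
theorem W4_mul_Mstd (c : F) (a b : Fin 4) :
    W4 F * Mstd c a b = Mstd (c * sg F (dt a b)) b a * W4 F := by
  ext i k
  rw [mul_Mstd_apply, Mstd_mul_apply]
  simp only [W4, dt_xr_right, dt_xr_left, sg_xor]
  rw [dt_comm a i]
  have hs := sg_mul_self (F := F) (dt a b)
  linear_combination (-(c * sg F (dt i k) * sg F (dt i a) * sg F (dt b k))) * hs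

omit [Fintype F] in
theorem cube4 (h3 : (3 : F) = 0) (a b c d : F) : (a + b + c + d) ^ 3 = a ^ 3 + b ^ 3 + c ^ 3 + d ^ 3 := by
  linear_combination (a ^ 2 * b + a ^ 2 * c + a ^ 2 * d + a * b ^ 2 + b ^ 2 * c + b ^ 2 * d + a * c ^ 2 +
    b * c ^ 2 + c ^ 2 * d + a * d ^ 2 + b * d ^ 2 + c * d ^ 2 + 2 * a * b * c + 2 * a * b * d +
    2 * a * c * d + 2 * b * c * d) * h3

omit [Fintype F] in
theorem W4_mulVec (v : Fin 4 → F) :
    W4 F *ᵥ v = ![v 0 + v 1 + v 2 + v 3, v 0 + -v 1 + v 2 + -v 3, v 0 + v 1 + -v 2 + -v 3,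
      v 0 + -v 1 + -v 2 + v 3] := by
  rw [W4_eq]
  funext i
  fin_cases i <;> simp [Matrix.mulVec, dotProduct, Fin.sum_univ_four]

omit [Fintype F] in
theorem hermForm_W4 (h3 : (3 : F) = 0) (x y : Fin 4 → F) :
    hermForm 4 F 3 (W4 F *ᵥ x) (W4 F *ᵥ y) = hermForm 4 F 3 x y := by
  rw [W4_mulVec, W4_mulVec]
  unfold hermForm
  simp only [Fin.sum_univ_four, Matrix.cons_val_zero, Matrix.cons_val_one, Matrix.cons_val_two,
    Matrix.cons_val_three, Matrix.head_cons, Matrix.tail_cons]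
  have c1 := cube4 h3 (y 0) (y 1) (y 2) (y 3)
  have c2 := cube4 h3 (y 0) (-y 1) (y 2) (-y 3)
  have c3 := cube4 h3 (y 0) (y 1) (-y 2) (-y 3)
  have c4 := cube4 h3 (y 0) (-y 1) (-y 2) (y 3)
  linear_combination (x 0 + x 1 + x 2 + x 3) * c1 + (x 0 + -x 1 + x 2 + -x 3) * c2 +
    (x 0 + x 1 + -x 2 + -x 3) * c3 + (x 0 + -x 1 + -x 2 + x 3) * c4 +
    (x 0 * y 0 ^ 3 + x 1 * y 1 ^ 3 + x 2 * y 2 ^ 3 + x 3 * y 3 ^ 3) * h3

/-- the Hadamard element of `GL_4(F)` (characteristic 3: `W4 * W4 = 4 = 1`) -/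
def W4GL (h3 : (3 : F) = 0) : GL (Fin 4) F := ⟨W4 F, W4 F, W4_mul_self h3, W4_mul_self h3⟩

omit [Fintype F] in
theorem W4GL_val (h3 : (3 : F) = 0) : ((W4GL h3 : GL (Fin 4) F) : Matrix (Fin 4) (Fin 4) F) = W4 F := rfl

omit [Fintype F] in
theorem W4GL_mul_self (h3 : (3 : F) = 0) : W4GL h3 * W4GL h3 = 1 :=
  Units.ext (W4_mul_self h3)

omit [Fintype F] in
theorem W4GL_mem_GU (h3 : (3 : F) = 0) : W4GL h3 ∈ GU 4 F 3 := by
  rw [mem_GU_iff]
  intro u v
  exact hermForm_W4 h3 u v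

omit [Fintype F] in
theorem W4GL_det (h3 : (3 : F) = 0) : Matrix.GeneralLinearGroup.det (W4GL h3) = 1 := by
  apply Units.ext
  rw [Matrix.GeneralLinearGroup.val_det_apply, Units.val_one]
  exact det_W4 h3

omit [Fintype F] in
theorem W4GL_mul_MstdGL (h3 : (3 : F) = 0) (c : Fˣ) (a b : Fin 4) :
    W4GL h3 * MstdGL c a b = MstdGL (c * sgU F (dt a b)) b a * W4GL h3 := by
  apply Units.ext
  rw [Units.val_mul, Units.val_mul, MstdGL_val, MstdGL_val, W4GL_val, Units.val_mul, sgU_val]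
  exact W4_mul_Mstd (c : F) a b

/-! ## the module statement -/

/-- BHRSU4-[E-SU4-DEC3]: for `q = 3` the stabiliser in `SU_4(3)` of a decomposition into four mutually orthogonal
non-degenerate points is not maximal. -/
theorem exists_between_decomp_points_card_three (hF : Fintype.card F = 9)
    (D : Fin 4 → Submodule F (Fin 4 → F))
    (hD : IsNondegenerateMDecomposition (hermForm 4 F 3) 1 D) :
    ∃ K : Subgroup (GL (Fin 4) F), decompositionStabilizer D ⊓ SUg 4 F 3 < K ∧ K < SUg 4 F 3 := by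
  have h3 := three_eq_zero hF
  have h2 := two_ne_zero' hF
  obtain ⟨B, hBD, hB⟩ := exists_orthonormal_basis hF D hD
  obtain ⟨P, hP⟩ : ∃ P : GL (Fin 4) F, P = basisGL B := ⟨_, rfl⟩
  have hPU : P ∈ GU 4 F 3 := by rw [hP]; exact basisGL_mem_GU hF B hB
  obtain ⟨R, hR⟩ : ∃ R : Subgroup (GL (Fin 4) F), R = pauliGroup P := ⟨_, rfl⟩
  -- (1) the stabiliser normalises `R`
  have key : ∀ g ∈ decompositionStabilizer D ⊓ SUg 4 F 3, ∀ x ∈ R, g * x * g⁻¹ ∈ R := by
    rintro g ⟨⟨τ, hτ⟩, hgU, hgS⟩ x hx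
    have h1 : ∀ j, ∃ c : F, (g : Matrix (Fin 4) (Fin 4) F) *ᵥ B j = c • B (τ j) := by
      intro j
      have hmem : (g : Matrix (Fin 4) (Fin 4) F) *ᵥ B j ∈ D (τ j) := by
        rw [← hτ j]
        refine ⟨B j, ?_, by simp [Matrix.toLin'_apply]⟩
        rw [hBD j]; exact Submodule.mem_span_singleton_self _
      rw [hBD (τ j), Submodule.mem_span_singleton] at hmem
      obtain ⟨c, hc⟩ := hmem
      exact ⟨c, hc.symm⟩
    choose l hl using h1
    have hl4 : ∀ j, l j ^ 4 = 1 := by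
      intro j
      have := hgU (B j) (B j)
      change hermForm 4 F 3 ((g : Matrix (Fin 4) (Fin 4) F) *ᵥ B j)
        ((g : Matrix (Fin 4) (Fin 4) F) *ᵥ B j) = hermForm 4 F 3 (B j) (B j) at this
      rw [hl j, hermForm_smul_left, hermForm_smul_right (card_eq_sq hF), hB, hB, if_pos rfl,
        if_pos rfl] at this
      linear_combination this
    have hdet : (g : Matrix (Fin 4) (Fin 4) F).det ^ 2 = 1 := by
      have h3' : Matrix.GeneralLinearGroup.det g = 1 := hgS
      have := congrArg Units.val h3'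
      rw [Matrix.GeneralLinearGroup.val_det_apply, Units.val_one] at this
      rw [this, one_pow]
    rw [hR, hP] at hx ⊢
    exact conj_mem_pauliGroup' h2 B g τ l hl hl4 hdet x hx
  have hle : decompositionStabilizer D ⊓ SUg 4 F 3 ≤ subgroupNormalizer R ⊓ SUg 4 F 3 := by
    intro g hg
    refine ⟨?_, hg.2⟩
    show g ∈ Subgroup.normalizer ((R : Subgroup (GL (Fin 4) F)) : Set (GL (Fin 4) F))
    rw [Subgroup.mem_set_normalizer_iff]
    intro x
    constructor
    · intro hx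
      exact key g hg x hx
    · intro hx
      have hginv : g⁻¹ ∈ decompositionStabilizer D ⊓ SUg 4 F 3 := Subgroup.inv_mem _ hg
      have := key g⁻¹ hginv _ hx
      have e : g⁻¹ * (g * x * g⁻¹) * g⁻¹⁻¹ = x := by group
      rwa [e] at this
  -- (2) the Hadamard element
  obtain ⟨h, hh⟩ : ∃ h : GL (Fin 4) F, h = P * W4GL h3 * P⁻¹ := ⟨_, rfl⟩
  have hhh : h * h = 1 := by
    rw [hh]
    have : P * W4GL h3 * P⁻¹ * (P * W4GL h3 * P⁻¹) = P * (W4GL h3 * W4GL h3) * P⁻¹ := by group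
    rw [this, W4GL_mul_self, mul_one, mul_inv_cancel]
  have hhinv : h⁻¹ = h := inv_eq_of_mul_eq_one_right hhh
  have hhSU : h ∈ SUg 4 F 3 := by
    refine ⟨?_, ?_⟩
    · rw [hh]
      exact Subgroup.mul_mem _ (Subgroup.mul_mem _ hPU (W4GL_mem_GU h3)) (Subgroup.inv_mem _ hPU)
    · show h ∈ (Matrix.GeneralLinearGroup.det : GL (Fin 4) F →* Fˣ).ker
      rw [MonoidHom.mem_ker, hh, map_mul, map_mul, map_inv, W4GL_det, mul_one, mul_inv_cancel]
  have hconj : ∀ x ∈ R, h * x * h⁻¹ ∈ R := by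
    intro x hx
    rw [hR] at hx ⊢
    obtain ⟨c, a, b, rfl⟩ := hx
    refine ⟨c * sgU F (dt a b), b, a, ?_⟩
    rw [hh]
    unfold E
    have e1 : P * W4GL h3 * P⁻¹ * (P * MstdGL c a b * P⁻¹) * (P * W4GL h3 * P⁻¹)⁻¹ =
        P * (W4GL h3 * MstdGL c a b * (W4GL h3)⁻¹) * P⁻¹ := by group
    rw [e1, W4GL_mul_MstdGL, mul_assoc (MstdGL _ _ _), mul_inv_cancel, mul_one]
  have hhN : h ∈ subgroupNormalizer R := by
    show h ∈ Subgroup.normalizer ((R : Subgroup (GL (Fin 4) F)) : Set (GL (Fin 4) F))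
    rw [Subgroup.mem_set_normalizer_iff]
    intro x
    constructor
    · exact hconj x
    · intro hx
      have := hconj _ hx
      rw [hhinv] at this
      have e : h * (h * x * h) * h = (h * h) * x * (h * h) := by group
      rw [e, hhh, one_mul, mul_one] at this
      exact this
  have hhD : h ∉ decompositionStabilizer D := by
    rintro ⟨σ, hσ⟩
    have hPe : (P : Matrix (Fin 4) (Fin 4) F) *ᵥ Pi.single 0 1 = B 0 := by
      rw [hP, basisGL_mulVec, Finset.sum_eq_single 0]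
      · simp
      · intro j _ hj; simp [hj]
      · intro h0; exact absurd (Finset.mem_univ _) h0
    have hPinv : ((P⁻¹ : GL (Fin 4) F) : Matrix (Fin 4) (Fin 4) F) *ᵥ B 0 = Pi.single 0 1 := by
      rw [← hPe, Matrix.mulVec_mulVec, ← Units.val_mul, inv_mul_cancel, Units.val_one,
        Matrix.one_mulVec]
    have hW : W4 F *ᵥ (Pi.single 0 1 : Fin 4 → F) = fun _ => 1 := by
      funext i
      rw [Matrix.mulVec_single_one]
      show sg F (dt i 0) = 1
      rw [dt_zero_right]; rfl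
    have hsum : (h : Matrix (Fin 4) (Fin 4) F) *ᵥ B 0 = ∑ j, B j := by
      rw [hh, Units.val_mul, Units.val_mul, ← Matrix.mulVec_mulVec, ← Matrix.mulVec_mulVec, hPinv,
        W4GL_val, hW, hP, basisGL_mulVec]
      simp
    obtain ⟨c, hc⟩ : ∃ c : F, c • B (σ 0) = ∑ j, B j := by
      have hmem : (h : Matrix (Fin 4) (Fin 4) F) *ᵥ B 0 ∈ D (σ 0) := by
        rw [← hσ 0]
        refine ⟨B 0, ?_, by simp [Matrix.toLin'_apply]⟩
        rw [hBD 0]; exact Submodule.mem_span_singleton_self _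
      rw [hBD (σ 0), Submodule.mem_span_singleton, hsum] at hmem
      exact hmem
    obtain ⟨k, hk⟩ : ∃ k : Fin 4, σ 0 ≠ k := by
      by_cases h0 : σ 0 = 0
      · exact ⟨1, by rw [h0]; decide⟩
      · exact ⟨0, h0⟩
    have h5 := congrArg (fun v => B.repr v k) hc
    simp only [map_smul, map_sum, Module.Basis.repr_self, Finsupp.smul_apply, Finsupp.single_apply,
      Finsupp.coe_finsetSum, Finset.sum_apply, smul_eq_mul, if_neg hk, mul_zero,
      Finset.sum_ite_eq', Finset.mem_univ, if_true] at h5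
    exact zero_ne_one h5
  refine ⟨subgroupNormalizer R ⊓ SUg 4 F 3, lt_of_le_of_ne hle ?_, lt_of_le_of_ne inf_le_right ?_⟩
  · intro heq
    apply hhD
    have hmem : h ∈ subgroupNormalizer R ⊓ SUg 4 F 3 := ⟨hhN, hhSU⟩
    rw [← heq] at hmem
    exact hmem.1
  · intro heq
    have hle' : SUg 4 F 3 ≤ subgroupNormalizer R := by
      rw [← heq]; exact inf_le_left
    have hRP : IsPGroup 2 R := by rw [hR]; exact isPGroup_pauliGroup hF P
    have hRs : R ≤ similarityGroup (hermForm 4 F 3) := by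
      rw [hR]; exact pauliGroup_le_similarityGroup P hPU
    have hRa : ActsAbsolutelyIrreducibly (matrixSet R) := by
      rw [hR]; exact absIrred_pauliGroup h2 P
    exact not_SUg_le_subgroupNormalizer (card_eq_sq hF) le_rfl 2 Nat.prime_two R hRP hRs hRa hle'

end Cfsg.Agent.Lib.Helper87.BhrsuSU4Dec

namespace Cfsg.Agent.Lib.Helper34.BHRSU4

open Cfsg Cfsg.Geo Cfsg.Agent.Lib.Helper70.AschU Cfsg.Agent.Lib.Helper37.BHRSU
open scoped MatrixGroups Matrix Kronecker

variable {F : Type*} [Field F] [Fintype F]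

/-- BHRSU4-[E-SU4-DEC3]  (exact sheet statement): `q = 3`: the stabiliser in `SU_4(3)` of four mutually orthogonal
non-degenerate points is not maximal. -/
theorem exists_between_decomp_points_three (hF : Fintype.card F = 3 ^ 2)
    (D : Fin 4 → Submodule F (Fin 4 → F)) (hD : IsNondegenerateMDecomposition (hermForm 4 F 3) 1 D) :
    ∃ K : Subgroup (GL (Fin 4) F), decompositionStabilizer D ⊓ SUg 4 F 3 < K ∧ K < SUg 4 F 3 :=
  Cfsg.Agent.Lib.Helper87.BhrsuSU4Dec.exists_between_decomp_points_card_three (by rw [hF]; norm_num) D hD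

end Cfsg.Agent.Lib.Helper34.BHRSU4
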