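import Mathlib
import Cfsg.Agent.Lib.Helper17.BrauerNT.Defs
import Cfsg.Agent.Lib.Helper49.BrauerNSetup

/-!
# S0996 module `[NT-SETUP]` (helper87): the group-theoretic setup of the Brauer–Reynolds theorem
-/

set_option autoImplicit false

namespace Cfsg.Agent.Lib.Helper87.BrauerNT

open Cfsg Cfsg.Agent.Lib.Helper17.BrauerNT Cfsg.Agent.Lib.Helper49.BrauerN

/-- the automorphism group of a cyclic group is commutative -/
theorem mulAut_comm_of_isCyclic {A : Type*} [Group A] [IsCyclic A] (u v : MulAut A) :
    u * v = v * u := by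
  apply (IsCyclic.mulAutMulEquiv A).injective
  rw [map_mul, map_mul, mul_comm]

/-- a perfect group centralizes its cyclic normal subgroups -/
theorem central_of_perfect_of_cyclic_normal {Q : Type*} [Group Q] (hperf : commutator Q = ⊤)
    (A : Subgroup Q) [A.Normal] [IsCyclic A] (q : Q) (a : Q) (ha : a ∈ A) : q * a * q⁻¹ = a := by
  have hker : commutator Q ≤ (MulAut.conjNormal (H := A)).ker := by
    rw [commutator_def, Subgroup.commutator_le]
    intro x _ y _
    rw [MonoidHom.mem_ker, commutatorElement_def, map_mul, map_mul, map_mul, map_inv, map_inv,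
      mulAut_comm_of_isCyclic (MulAut.conjNormal x) (MulAut.conjNormal y), mul_assoc _ (MulAut.conjNormal x),
      mul_inv_cancel, mul_one, mul_inv_cancel]
  rw [hperf, top_le_iff] at hker
  have hq : MulAut.conjNormal (H := A) q = 1 := by
    have : q ∈ (MulAut.conjNormal (H := A)).ker := by rw [hker]; exact Subgroup.mem_top q
    exact MonoidHom.mem_ker.mp this
  have := MulAut.conjNormal_apply (H := A) q ⟨a, ha⟩
  rw [hq] at this
  exact this.symm

/-- MODULE [NT-SETUP] -/
theorem nt_setup {G : Type*} [Group G] [Finite G] (hperf : commutator G = ⊤) (p : ℕ)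
    [Fact p.Prime] (z : G) (hz : orderOf z = p)
    (hC : Subgroup.centralizer ({z} : Set G) = Subgroup.zpowers z)
    (hn : 2 * Nat.card (Sylow p G) < (p + 1) * (p + 2)) :
    ∃ (P : Sylow p G) (q t n : ℕ), NTSetup p P q t n := by
  classical
  have hp : p.Prime := Fact.out
  have hGpos : 0 < Nat.card G := Nat.card_pos
  have hz1 : z ≠ 1 := by
    intro h
    rw [h, orderOf_one] at hz
    exact hp.one_lt.ne hz
  have : Nontrivial G := ⟨⟨z, 1, hz1⟩⟩
  have h60 := sixty_le_card_of_perfect hperf
  have hzcard : Nat.card (Subgroup.zpowers z) = p := by rw [Nat.card_zpowers, hz]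
  have hzp : IsPGroup p (Subgroup.zpowers z) :=
    IsPGroup.of_card (n := 1) (by rw [hzcard, pow_one])
  obtain ⟨P, hzP⟩ := hzp.exists_le_sylow
  have hzmem : z ∈ (P : Subgroup G) := hzP (Subgroup.mem_zpowers z)
  -- `P ≤ ⟨z⟩` through the center of `P`
  have hPle : (P : Subgroup G) ≤ Subgroup.zpowers z := by
    have : Nontrivial (P : Subgroup G) :=
      ⟨⟨⟨z, hzmem⟩, 1, fun h => hz1 (congrArg Subtype.val h)⟩⟩
    have hcn : Nontrivial (Subgroup.center (P : Subgroup G)) := P.2.center_nontrivial
    obtain ⟨⟨y, hyc⟩, hy1⟩ := exists_ne (1 : Subgroup.center (P : Subgroup G))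
    have hy1' : (y : G) ≠ 1 := by
      intro h
      apply hy1
      apply Subtype.ext
      apply Subtype.ext
      exact h
    rw [Subgroup.mem_center_iff] at hyc
    have hyz : (y : G) ∈ Subgroup.zpowers z := by
      rw [← hC, Subgroup.mem_centralizer_singleton_iff]
      have := hyc ⟨z, hzmem⟩
      exact (congrArg Subtype.val this).symm
    have hyle : Subgroup.zpowers (y : G) ≤ Subgroup.zpowers z := by
      rw [Subgroup.zpowers_le]
      exact hyz
    have hyeq : Subgroup.zpowers (y : G) = Subgroup.zpowers z := by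
      refine Subgroup.eq_of_le_of_card_ge hyle ?_
      rw [Nat.card_zpowers, Nat.card_zpowers, hz]
      have hd : orderOf (y : G) ∣ p := by
        have := orderOf_dvd_natCard (⟨(y : G), hyz⟩ : Subgroup.zpowers z)
        rw [hzcard] at this
        rwa [← Subgroup.orderOf_mk (y : G) hyz]
      rcases (Nat.dvd_prime hp).1 hd with h1 | h1
      · exact absurd (orderOf_eq_one_iff.1 h1) hy1'
      · exact h1.ge
    have hzy : z ∈ Subgroup.zpowers (y : G) := by
      rw [hyeq]
      exact Subgroup.mem_zpowers z
    obtain ⟨m, hm⟩ := Subgroup.mem_zpowers_iff.1 hzy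
    intro w hw
    rw [← hC, Subgroup.mem_centralizer_singleton_iff]
    have h1 : (⟨w, hw⟩ : (P : Subgroup G)) * y = y * ⟨w, hw⟩ := hyc ⟨w, hw⟩
    have h2 : w * (y : G) = (y : G) * w := congrArg Subtype.val h1
    have h3 : Commute w (y : G) := h2
    rw [← hm]
    exact (h3.zpow_right m).eq
  have hPeq : (P : Subgroup G) = Subgroup.zpowers z := le_antisymm hPle hzP
  have hPcard : Nat.card (P : Subgroup G) = p := by rw [hPeq, hzcard]
  have hPcyc : IsCyclic (P : Subgroup G) := isCyclic_of_prime_card hPcard
  have hzpow : ∀ x : G, x ∈ (P : Subgroup G) → x ≠ 1 → Subgroup.zpowers x = (P : Subgroup G) := by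
    intro x hx hx1
    have hle : Subgroup.zpowers x ≤ (P : Subgroup G) := by
      rw [Subgroup.zpowers_le]; exact hx
    refine Subgroup.eq_of_le_of_card_ge hle ?_
    rw [Nat.card_zpowers, hPcard]
    have hd : orderOf x ∣ p := by
      have := orderOf_dvd_natCard (⟨x, hx⟩ : (P : Subgroup G))
      rw [hPcard] at this
      rwa [← Subgroup.orderOf_mk x hx]
    rcases (Nat.dvd_prime hp).1 hd with h1 | h1
    · exact absurd (orderOf_eq_one_iff.1 h1) hx1
    · exact h1.ge
  have hcentP : ∀ x : G, x ∈ (P : Subgroup G) → x ≠ 1 →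
      Subgroup.centralizer ({x} : Set G) = Subgroup.centralizer ((P : Subgroup G) : Set G) := by
    intro x hx hx1
    apply le_antisymm
    · intro y hy
      rw [Subgroup.mem_centralizer_iff] at hy ⊢
      intro w hw
      have hw' : w ∈ Subgroup.zpowers x := by rw [hzpow x hx hx1]; exact hw
      obtain ⟨m, rfl⟩ := Subgroup.mem_zpowers_iff.1 hw'
      have hc : Commute x y := hy x rfl
      exact (hc.zpow_left m).eq
    · exact Subgroup.centralizer_le (Set.singleton_subset_iff.2 hx)
  have hCP : Subgroup.centralizer ((P : Subgroup G) : Set G) = (P : Subgroup G) := by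
    rw [← hcentP z hzmem hz1, hC, hPeq]
  have hcent : ∀ x : G, x ∈ (P : Subgroup G) → x ≠ 1 →
      Subgroup.centralizer ({x} : Set G) = (P : Subgroup G) := by
    intro x hx hx1
    rw [hcentP x hx hx1, hCP]
  have hPN : (P : Subgroup G) ≤ Subgroup.normalizer ((P : Subgroup G) : Set G) :=
    Subgroup.le_normalizer
  set N := Subgroup.normalizer ((P : Subgroup G) : Set G) with hN
  -- `q`
  have hqdvd : (P : Subgroup G).relIndex N ∣ p - 1 := by
    have key := Subgroup.card_dvd_of_injective _
      (QuotientGroup.kerLift_injective (P : Subgroup G).normalizerMonoidHom)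
    rw [Subgroup.normalizerMonoidHom_ker, ← Subgroup.index, ← Subgroup.relIndex, hCP] at key
    rwa [hPcyc.card_mulAut, hPcard, Nat.totient_prime hp] at key
  have hNcard : Nat.card N = (P : Subgroup G).relIndex N * p := by
    have h1 := Subgroup.relIndex_mul_index (H := (P : Subgroup G)) (K := N) hPN
    have h2 := Subgroup.card_mul_index (P : Subgroup G)
    have h3 := Subgroup.card_mul_index N
    have hNidx : 0 < N.index := Nat.pos_of_ne_zero Subgroup.index_ne_zero_of_finite
    have : Nat.card N * N.index = (P : Subgroup G).relIndex N * p * N.index := by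
      rw [h3, ← h2, ← h1, hPcard]; ring
    exact Nat.eq_of_mul_eq_mul_right hNidx this
  have hsyl : Nat.card (Sylow p G) = N.index := Sylow.card_eq_index_normalizer P
  have hmod : Nat.card (Sylow p G) ≡ 1 [MOD p] := card_sylow_modEq_one p G
  obtain ⟨n, hn'⟩ : ∃ n, Nat.card (Sylow p G) = 1 + n * p := by
    have h1 : Nat.card (Sylow p G) % p = 1 % p := hmod
    rw [Nat.mod_eq_of_lt hp.one_lt] at h1
    refine ⟨Nat.card (Sylow p G) / p, ?_⟩
    have := Nat.div_add_mod (Nat.card (Sylow p G)) p
    rw [h1] at this
    rw [mul_comm] at this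
    omega
  -- q ≥ 2 (Burnside transfer)
  have hq2 : 2 ≤ (P : Subgroup G).relIndex N := by
    have hq0 : (P : Subgroup G).relIndex N ≠ 0 := by
      intro h0
      rw [h0, zero_mul] at hNcard
      exact (Nat.card_pos (α := N)).ne' hNcard
    by_contra hlt
    push Not at hlt
    have hq1 : (P : Subgroup G).relIndex N = 1 := by omega
    have hNC : N ≤ Subgroup.centralizer ((P : Subgroup G) : Set G) := by
      rw [hCP]
      exact Subgroup.relIndex_eq_one.1 hq1
    have hcompl := MonoidHom.ker_transferSylow_isComplement' P hNC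
    set f := MonoidHom.transferSylow P hNC with hf
    have hker : commutator G ≤ f.ker := by
      rw [commutator_def, Subgroup.commutator_le]
      intro a _ b _
      rw [MonoidHom.mem_ker, commutatorElement_def, map_mul, map_mul, map_mul, map_inv, map_inv]
      have hab : f a * f b = f b * f a := by
        apply Subtype.ext
        rw [Subgroup.coe_mul, Subgroup.coe_mul]
        have : ((f a : (P : Subgroup G)) : G) ∈ Subgroup.centralizer ((P : Subgroup G) : Set G) := by
          rw [hCP]; exact (f a).2
        rw [Subgroup.mem_centralizer_iff] at this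
        exact (this (f b) (f b).2).symm
      rw [hab, mul_assoc (f b), mul_inv_cancel, mul_one, mul_inv_cancel]
    rw [hperf, top_le_iff] at hker
    have hcard := hcompl.card_mul_card
    rw [hker, Subgroup.card_top, hPcard] at hcard
    have : Nat.card G * p = Nat.card G * 1 := by rw [hcard, mul_one]
    have := Nat.eq_of_mul_eq_mul_left hGpos this
    exact hp.one_lt.ne' this
  -- n ≥ 1
  have hn1 : 1 ≤ n := by
    rcases Nat.eq_zero_or_pos n with h0 | h0
    · exfalso
      rw [h0] at hn'
      simp only [zero_mul, add_zero] at hn'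
      have hPn : (P : Subgroup G).Normal := sylow_normal_of_card_eq_one P hn'
      have hall : ∀ g : G, g ∈ (P : Subgroup G) := by
        intro g
        rw [← hcent z hzmem hz1, Subgroup.mem_centralizer_singleton_iff]
        have := central_of_perfect_of_cyclic_normal hperf (P : Subgroup G) g z hzmem
        calc g * z = g * z * g⁻¹ * g := by group
          _ = z * g := by rw [this]
      have htop : (P : Subgroup G) = ⊤ := eq_top_iff.mpr fun g _ => hall g
      have : Nat.card G = p := by rw [← hPcard, htop, Subgroup.card_top]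
      have hNtop : Nat.card N = Nat.card G := by
        have : N = ⊤ := by
          rw [hN]
          exact Subgroup.normalizer_eq_top_iff.2 hPn
        rw [this, Subgroup.card_top]
      rw [hNcard, ‹Nat.card G = p›] at hNtop
      have : 2 * p ≤ (P : Subgroup G).relIndex N * p := Nat.mul_le_mul_right p hq2
      have := hp.pos
      omega
    · exact h0
  have hGcard : Nat.card G = p * (P : Subgroup G).relIndex N * (1 + n * p) := by
    rw [← Subgroup.card_mul_index N, ← hsyl, hn', hNcard]; ring
  have hn2 : 2 * n < p + 3 := by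
    rw [hn'] at hn
    by_contra hcon
    push Not at hcon
    have h1 : p * (p + 3) ≤ p * (2 * n) := Nat.mul_le_mul_left p hcon
    nlinarith
  have hp5 : 5 ≤ p := by
    obtain ⟨q, hq⟩ : ∃ q, q = (P : Subgroup G).relIndex N := ⟨_, rfl⟩
    have e1 : q ∣ p - 1 := hq ▸ hqdvd
    have e2 : Nat.card G = p * q * (1 + n * p) := hq ▸ hGcard
    have e3 : 2 ≤ q := hq ▸ hq2
    by_contra hlt
    push Not at hlt
    have hp2 := hp.two_le
    have h23 : p = 2 ∨ p = 3 := by
      have : p ≠ 4 := by
        intro h4
        rw [h4] at hp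
        exact absurd hp (by decide)
      omega
    rcases h23 with h | h
    · rw [h] at e1
      have := Nat.le_of_dvd (by norm_num) e1
      omega
    · rw [h] at e1 e2
      have hq3 := Nat.le_of_dvd (by norm_num) e1
      have hq' : q = 2 := by omega
      rw [hq'] at e2
      have : n ≤ 2 := by omega
      have : Nat.card G ≤ 3 * 2 * (1 + 2 * 3) := by
        rw [e2]
        apply Nat.mul_le_mul_left
        omega
      omega
  refine ⟨P, (P : Subgroup G).relIndex N, (p - 1) / (P : Subgroup G).relIndex N, n, ?_⟩
  refine ⟨hp5, ?_, hq2, hn1, hn2, hPcard, hcent, ?_, hn', hGcard⟩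
  · have := Nat.mul_div_cancel' hqdvd
    have := hp.pos
    omega
  · rw [hNcard, mul_comm]

end Cfsg.Agent.Lib.Helper87.BrauerNT
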