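import Mathlib
import Cfsg.Agent.Lib.Helper17.BrauerNT.Defs
import Cfsg.Agent.Lib.Helper87.BrauerNTSetup

/-!
# S0996 module `[NT-HK]` (helper87): no nontrivial normal `p'`-subgroup
-/

set_option autoImplicit false

namespace Cfsg.Agent.Lib.Helper87.BrauerNT

open Cfsg Cfsg.Agent.Lib.Helper17.BrauerNT Cfsg.Agent.Lib.Helper49.BrauerN

/-- MODULE [NT-HK] -/
theorem nt_no_normal_p'_subgroup {G : Type*} [Group G] [Finite G] (hperf : commutator G = ⊤)
    {p : ℕ} [Fact p.Prime] {P : Sylow p G} {q t n : ℕ} (S : NTSetup p P q t n) :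
    ∀ K : Subgroup G, K.Normal → (Nat.card K).Coprime p → K = ⊥ := by
  classical
  intro K hKn hKp
  by_contra hK1
  have hp : p.Prime := Fact.out
  -- a nontrivial element of `P`
  have hPnt : ∃ z : G, z ∈ (P : Subgroup G) ∧ z ≠ 1 := by
    by_contra hcon
    push Not at hcon
    have : (P : Subgroup G) = ⊥ := by
      rw [eq_bot_iff]
      intro x hx
      rw [Subgroup.mem_bot]
      exact hcon x hx
    have h1 := S.hPcard
    rw [this, Subgroup.card_bot] at h1
    exact hp.one_lt.ne h1
  obtain ⟨z, hzP, hz1⟩ := hPnt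
  have hCz := S.hcent z hzP hz1
  -- `K ⊓ P = ⊥`
  have hKP : K ⊓ (P : Subgroup G) = ⊥ := by
    apply disjoint_iff.mp
    apply Subgroup.disjoint_of_coprime_natCard
    rw [S.hPcard]
    exact hKp
  have hKP' : ∀ x : G, x ∈ K → x ∈ (P : Subgroup G) → x = 1 := by
    intro x h1 h2
    have : x ∈ K ⊓ (P : Subgroup G) := ⟨h1, h2⟩
    rwa [hKP, Subgroup.mem_bot] at this
  -- `|K| ≡ 1 mod p`
  have hKmod : Nat.card K ≡ 1 [MOD p] := by
    let f : ↥(P : Subgroup G) →* MulAut ↥K :=
      (MulAut.conjNormal (H := K)).comp (P : Subgroup G).subtype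
    let _ : MulAction ↥(P : Subgroup G) ↥K := MulAction.compHom ↥K f
    have hsm : ∀ (x : ↥(P : Subgroup G)) (k : ↥K),
        ((x • k : ↥K) : G) = (x : G) * (k : G) * (x : G)⁻¹ :=
      fun x k => MulAut.conjNormal_apply (x : G) k
    have h1 := P.2.card_modEq_card_fixedPoints ↥K
    have h2 : Nat.card (MulAction.fixedPoints ↥(P : Subgroup G) ↥K) = 1 := by
      rw [Nat.card_eq_one_iff_unique]
      constructor
      · constructor
        have key : ∀ k : MulAction.fixedPoints ↥(P : Subgroup G) ↥K, ((k : ↥K) : G) = 1 := by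
          intro k
          apply hKP' _ (k : ↥K).2
          have hmem : ((k : ↥K) : G) ∈ Subgroup.centralizer ({z} : Set G) := by
            rw [Subgroup.mem_centralizer_singleton_iff]
            have h3 := k.2 ⟨z, hzP⟩
            have h4 := hsm ⟨z, hzP⟩ (k : ↥K)
            rw [h3] at h4
            have h5 : ((k : ↥K) : G) = z * ((k : ↥K) : G) * z⁻¹ := h4
            calc ((k : ↥K) : G) * z = z * ((k : ↥K) : G) * z⁻¹ * z := by rw [← h5]
              _ = z * ((k : ↥K) : G) := by group
          rw [hCz] at hmem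
          exact hmem
        intro a b
        apply Subtype.ext
        apply Subtype.ext
        rw [key a, key b]
      · refine ⟨⟨1, ?_⟩⟩
        intro x
        apply Subtype.ext
        rw [hsm]
        simp
    rw [h2] at h1
    exact h1
  have hKcard : p + 1 ≤ Nat.card K := by
    have hK2 : 1 < Nat.card K := by
      rw [Subgroup.one_lt_card_iff_ne_bot]
      exact hK1
    have h1 : Nat.card K % p = 1 % p := hKmod
    rw [Nat.mod_eq_of_lt hp.one_lt] at h1
    have := Nat.div_add_mod (Nat.card K) p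
    rw [h1] at this
    rcases Nat.eq_zero_or_pos (Nat.card K / p) with h0 | h0
    · rw [h0] at this; omega
    · have : p * 1 ≤ p * (Nat.card K / p) := Nat.mul_le_mul_left p h0
      omega
  set N := Subgroup.normalizer ((P : Subgroup G) : Set G) with hN
  -- `N ⊓ K = ⊥`
  have hNK : K ⊓ N = ⊥ := by
    rw [eq_bot_iff]
    intro y hy
    rw [Subgroup.mem_bot]
    apply hKP' y hy.1
    have hmem : y ∈ Subgroup.centralizer ({z} : Set G) → y ∈ (P : Subgroup G) := by
      intro h
      rw [hCz] at h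
      exact h
    apply hmem
    rw [Subgroup.mem_centralizer_singleton_iff]
    have h1 : y * z * y⁻¹ ∈ (P : Subgroup G) := (Subgroup.mem_normalizer_iff.mp hy.2 z).mp hzP
    have h2 : y * z * y⁻¹ * z⁻¹ ∈ (P : Subgroup G) := (P : Subgroup G).mul_mem h1 ((P : Subgroup G).inv_mem hzP)
    have h3 : y * z * y⁻¹ * z⁻¹ ∈ K := by
      have : z * y⁻¹ * z⁻¹ ∈ K := hKn.conj_mem y⁻¹ (K.inv_mem hy.1) z
      have h4 := K.mul_mem hy.1 this
      have e : y * (z * y⁻¹ * z⁻¹) = y * z * y⁻¹ * z⁻¹ := by group
      rwa [e] at h4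
    have h5 := hKP' _ h3 h2
    calc y * z = y * z * y⁻¹ * z⁻¹ * z * y := by group
      _ = z * y := by rw [h5, one_mul]
  -- cardinalities
  have hNM : N ≤ N ⊔ K := le_sup_left
  have hKM : K ≤ N ⊔ K := le_sup_right
  have hMcard1 : Nat.card K * K.relIndex (N ⊔ K) = Nat.card ↥(N ⊔ K) := by
    have := Subgroup.relIndex_mul_relIndex ⊥ K (N ⊔ K) bot_le hKM
    rwa [Subgroup.relIndex_bot_left, Subgroup.relIndex_bot_left] at this
  have hMcard2 : Nat.card N * N.relIndex (N ⊔ K) = Nat.card ↥(N ⊔ K) := by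
    have := Subgroup.relIndex_mul_relIndex ⊥ N (N ⊔ K) bot_le hNM
    rwa [Subgroup.relIndex_bot_left, Subgroup.relIndex_bot_left] at this
  have hrel : K.relIndex (N ⊔ K) = Nat.card N := by
    rw [Subgroup.relIndex_sup_right, ← Subgroup.inf_relIndex_right, hNK, Subgroup.relIndex_bot_left]
  have hNrel : N.relIndex (N ⊔ K) = Nat.card K := by
    have hNpos : 0 < Nat.card N := Nat.card_pos
    rw [hrel, ← hMcard2] at hMcard1
    have : Nat.card N * Nat.card K = Nat.card N * N.relIndex (N ⊔ K) := by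
      rw [← hMcard1]; ring
    exact (Nat.eq_of_mul_eq_mul_left hNpos this).symm
  have hsyl : 1 + n * p = Nat.card K * (N ⊔ K).index := by
    rw [← S.hSyl, Sylow.card_eq_index_normalizer P]
    show N.index = _
    rw [← Subgroup.relIndex_mul_index hNM, hNrel]
  -- the index of `N ⊔ K` is `≡ 1 mod p`
  have hidxmod : (N ⊔ K).index ≡ 1 [MOD p] := by
    have h1 : Nat.card K * (N ⊔ K).index ≡ 1 * (N ⊔ K).index [MOD p] :=
      Nat.ModEq.mul_right _ hKmod
    rw [← hsyl, one_mul] at h1
    have h2 : 1 + n * p ≡ 1 [MOD p] := by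
      unfold Nat.ModEq
      rw [Nat.add_mul_mod_self_right]
    exact h1.symm.trans h2
  -- the index is not `1`
  have hidx1 : (N ⊔ K).index ≠ 1 := by
    intro h1
    have htop : N ⊔ K = ⊤ := Subgroup.index_eq_one.mp h1
    -- work in the quotient by `K`
    have hQperf : commutator (G ⧸ K) = ⊤ := commutator_quotient_eq_top hperf K
    have hPcyc : IsCyclic (P : Subgroup G) := isCyclic_of_prime_card S.hPcard
    obtain ⟨π, hπ⟩ : ∃ π : G →* G ⧸ K, π = QuotientGroup.mk' K := ⟨_, rfl⟩
    have hsurj : Function.Surjective π := by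
      rw [hπ]
      exact QuotientGroup.mk'_surjective K
    have hker : ∀ k : G, π k = 1 ↔ k ∈ K := by
      intro k
      rw [hπ, QuotientGroup.mk'_apply, QuotientGroup.eq_one_iff]
    have hAn : ((P : Subgroup G).map π).Normal := by
      constructor
      intro a ha qq
      obtain ⟨x, hx, rfl⟩ := ha
      obtain ⟨g, rfl⟩ := hsurj qq
      have hg : g ∈ N ⊔ K := by rw [htop]; exact Subgroup.mem_top g
      obtain ⟨y, hy, k, hk, rfl⟩ := Subgroup.mem_sup_of_normal_right.mp hg
      have hk1 : π k = 1 := (hker k).mpr hk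
      refine ⟨y * x * y⁻¹, (Subgroup.mem_normalizer_iff.mp hy x).mp hx, ?_⟩
      simp only [map_mul, map_inv, hk1, mul_one]
    have hAc : IsCyclic ((P : Subgroup G).map π) := by
      have hsurj : Function.Surjective ((π.subgroupMap (P : Subgroup G))) :=
        MonoidHom.subgroupMap_surjective π (P : Subgroup G)
      exact isCyclic_of_surjective _ hsurj
    have hcentral : ∀ y ∈ N, ∀ x ∈ (P : Subgroup G), y * x = x * y := by
      intro y hy x hx
      have h2 := central_of_perfect_of_cyclic_normal hQperf ((P : Subgroup G).map π) (π y) (π x)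
        ⟨x, hx, rfl⟩
      have h3 : π (y * x * y⁻¹ * x⁻¹) = 1 := by
        rw [map_mul, map_inv, map_mul, map_mul, map_inv, h2, mul_inv_cancel]
      have h4 : y * x * y⁻¹ * x⁻¹ ∈ K := (hker _).mp h3
      have h5 : y * x * y⁻¹ * x⁻¹ ∈ (P : Subgroup G) :=
        (P : Subgroup G).mul_mem ((Subgroup.mem_normalizer_iff.mp hy x).mp hx)
          ((P : Subgroup G).inv_mem hx)
      have h6 := hKP' _ h4 h5
      calc y * x = y * x * y⁻¹ * x⁻¹ * x * y := by group
        _ = x * y := by rw [h6, one_mul]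
    have hNP : N ≤ (P : Subgroup G) := by
      intro y hy
      have hmem : y ∈ Subgroup.centralizer ({z} : Set G) := by
        rw [Subgroup.mem_centralizer_singleton_iff]
        exact hcentral y hy z hzP
      rw [hCz] at hmem
      exact hmem
    have hcard := Subgroup.card_le_of_le hNP
    rw [S.hNcard, S.hPcard] at hcard
    have hq := S.hq
    have : p * 2 ≤ p * q := Nat.mul_le_mul_left p hq
    have := hp.pos
    omega
  have hidxpos : 0 < (N ⊔ K).index := Nat.pos_of_ne_zero Subgroup.index_ne_zero_of_finite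
  have hidx : p + 1 ≤ (N ⊔ K).index := by
    have h1 : (N ⊔ K).index % p = 1 % p := hidxmod
    rw [Nat.mod_eq_of_lt hp.one_lt] at h1
    have := Nat.div_add_mod (N ⊔ K).index p
    rw [h1] at this
    rcases Nat.eq_zero_or_pos ((N ⊔ K).index / p) with h0 | h0
    · rw [h0] at this; omega
    · have : p * 1 ≤ p * ((N ⊔ K).index / p) := Nat.mul_le_mul_left p h0
      omega
  -- the final count
  have hbig : (p + 1) * (p + 1) ≤ 1 + n * p := by
    rw [hsyl]
    exact Nat.mul_le_mul hKcard hidx
  have hn2 := S.hn2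
  have h1 : 2 * n ≤ p + 2 := by omega
  have h2 : 2 * n * p ≤ (p + 2) * p := Nat.mul_le_mul_right p h1
  have h3 := hp.pos
  nlinarith [h2, hbig, h3]

end Cfsg.Agent.Lib.Helper87.BrauerNT
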