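import Mathlib
import Cfsg.Agent.Lib.Helper17.BrauerNT.Defs
import Cfsg.Agent.Lib.Helper1.SchurZassenhaus

/-!
# S0996 module `[NT-NZ]` (helper87): the normalizer of a complement of `P` in `N_G(P)`
-/

set_option autoImplicit false
set_option linter.unusedSectionVars false

namespace Cfsg.Agent.Lib.Helper87.BrauerNT

open Cfsg Cfsg.Agent.Lib.Helper17.BrauerNT

section

variable {G : Type*} [Group G] [Finite G] {p : ℕ} [Fact p.Prime] {P : Sylow p G} {q t n : ℕ}

theorem nz_coprime (S : NTSetup p P q t n) : p.Coprime q := by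
  have h := S.hpqt
  have h1 : Nat.Coprime (q * t + 1) q := by
    rw [Nat.coprime_mul_left_add_left]
    exact Nat.coprime_one_left q
  rwa [← h] at h1

/-- a subgroup of order `q` meets `P` trivially -/
theorem nz_inf_P (S : NTSetup p P q t n) {Z : Subgroup G} (hZ : Nat.card Z = q) :
    ∀ x : G, x ∈ Z → x ∈ (P : Subgroup G) → x = 1 := by
  have hd : Disjoint Z (P : Subgroup G) := by
    apply Subgroup.disjoint_of_coprime_natCard
    rw [hZ, S.hPcard]
    exact (nz_coprime S).symm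
  intro x h1 h2
  have : x ∈ Z ⊓ (P : Subgroup G) := ⟨h1, h2⟩
  rwa [disjoint_iff.mp hd, Subgroup.mem_bot] at this

/-- `N_P(Z) = 1` for a subgroup `Z` of order `q` of `N_G(P)` -/
theorem nz_normalizer_in_P (S : NTSetup p P q t n) {Z : Subgroup G} (hZ : Nat.card Z = q)
    (hZN : Z ≤ Subgroup.normalizer ((P : Subgroup G) : Set G)) {b : G} (hb : b ∈ (P : Subgroup G))
    (hnorm : ∀ z ∈ Z, b * z * b⁻¹ ∈ Z) : b = 1 := by
  by_contra hb1
  have hq := S.hq
  have hZnt : ∃ z ∈ Z, z ≠ 1 := by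
    by_contra hcon
    push Not at hcon
    have : Z = ⊥ := by
      rw [eq_bot_iff]
      intro x hx
      rw [Subgroup.mem_bot]
      exact hcon x hx
    rw [this, Subgroup.card_bot] at hZ
    omega
  obtain ⟨z, hz, hz1⟩ := hZnt
  have h1 : z * b⁻¹ * z⁻¹ ∈ (P : Subgroup G) :=
    (Subgroup.mem_normalizer_iff.mp (hZN hz) b⁻¹).mp ((P : Subgroup G).inv_mem hb)
  have h2 : b * z * b⁻¹ * z⁻¹ ∈ (P : Subgroup G) := by
    have := (P : Subgroup G).mul_mem hb h1
    have e : b * (z * b⁻¹ * z⁻¹) = b * z * b⁻¹ * z⁻¹ := by group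
    rwa [e] at this
  have h3 : b * z * b⁻¹ * z⁻¹ ∈ Z := Z.mul_mem (hnorm z hz) (Z.inv_mem hz)
  have h4 := nz_inf_P S hZ _ h3 h2
  have h5 : z * b = b * z := by
    calc z * b = (b * z * b⁻¹ * z⁻¹)⁻¹ * (b * z) := by group
      _ = b * z := by rw [h4, inv_one, one_mul]
  have h6 : z ∈ Subgroup.centralizer ({b} : Set G) := by
    rw [Subgroup.mem_centralizer_singleton_iff]
    exact h5
  rw [S.hcent b hb hb1] at h6
  exact hz1 (nz_inf_P S hZ z hz h6)

/-- a subgroup of order `q` of `N = N_G(P)` is a complement of `P` in `N` -/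
theorem nz_isComplement' (S : NTSetup p P q t n) {Z : Subgroup G} (hZ : Nat.card Z = q)
    (hZN : Z ≤ Subgroup.normalizer ((P : Subgroup G) : Set G)) :
    Subgroup.IsComplement'
      ((P : Subgroup G).subgroupOf (Subgroup.normalizer ((P : Subgroup G) : Set G)))
      (Z.subgroupOf (Subgroup.normalizer ((P : Subgroup G) : Set G))) := by
  have hPN : (P : Subgroup G) ≤ Subgroup.normalizer ((P : Subgroup G) : Set G) :=
    Subgroup.le_normalizer
  have c1 : Nat.card ((P : Subgroup G).subgroupOf (Subgroup.normalizer ((P : Subgroup G) : Set G)))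
      = p := by
    rw [Nat.card_congr (Subgroup.subgroupOfEquivOfLe hPN).toEquiv, S.hPcard]
  have c2 : Nat.card (Z.subgroupOf (Subgroup.normalizer ((P : Subgroup G) : Set G))) = q := by
    rw [Nat.card_congr (Subgroup.subgroupOfEquivOfLe hZN).toEquiv, hZ]
  apply Subgroup.isComplement'_of_coprime
  · rw [c1, c2, S.hNcard]
  · rw [c1, c2]
    exact nz_coprime S

/-- every element of `N` is a product `a * z`, `a ∈ P`, `z ∈ Z` -/
theorem nz_decomp (S : NTSetup p P q t n) {Z : Subgroup G} (hZ : Nat.card Z = q)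
    (hZN : Z ≤ Subgroup.normalizer ((P : Subgroup G) : Set G)) {h : G}
    (hh : h ∈ Subgroup.normalizer ((P : Subgroup G) : Set G)) :
    ∃ a ∈ (P : Subgroup G), ∃ z ∈ Z, h = a * z := by
  have hc := nz_isComplement' S hZ hZN
  obtain ⟨⟨a, z⟩, haz⟩ := hc.2 ⟨h, hh⟩
  refine ⟨((a : ↥(Subgroup.normalizer ((P : Subgroup G) : Set G))) : G),
    Subgroup.mem_subgroupOf.mp a.2,
    ((z : ↥(Subgroup.normalizer ((P : Subgroup G) : Set G))) : G),
    Subgroup.mem_subgroupOf.mp z.2, ?_⟩
  have := congrArg Subtype.val haz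
  exact this.symm

/-- two subgroups of order `q` of `N` are conjugate under `P` -/
theorem nz_conj (S : NTSetup p P q t n) {Z₁ Z₂ : Subgroup G} (hZ₁ : Nat.card Z₁ = q)
    (hZ₂ : Nat.card Z₂ = q) (hZ₁N : Z₁ ≤ Subgroup.normalizer ((P : Subgroup G) : Set G))
    (hZ₂N : Z₂ ≤ Subgroup.normalizer ((P : Subgroup G) : Set G)) :
    ∃ a ∈ (P : Subgroup G), ∀ x ∈ Z₁, a * x * a⁻¹ ∈ Z₂ := by
  have hPN : (P : Subgroup G) ≤ Subgroup.normalizer ((P : Subgroup G) : Set G) :=
    Subgroup.le_normalizer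
  have c1 : Nat.card ((P : Subgroup G).subgroupOf (Subgroup.normalizer ((P : Subgroup G) : Set G)))
      = p := by
    rw [Nat.card_congr (Subgroup.subgroupOfEquivOfLe hPN).toEquiv, S.hPcard]
  have hcomm : IsMulCommutative
      ↥((P : Subgroup G).subgroupOf (Subgroup.normalizer ((P : Subgroup G) : Set G))) := by
    have hcyc : IsCyclic
        ↥((P : Subgroup G).subgroupOf (Subgroup.normalizer ((P : Subgroup G) : Set G))) :=
      isCyclic_of_prime_card c1
    refine ⟨⟨fun a b => ?_⟩⟩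
    obtain ⟨g, hg⟩ := IsCyclic.exists_generator
      (α := ↥((P : Subgroup G).subgroupOf (Subgroup.normalizer ((P : Subgroup G) : Set G))))
    obtain ⟨m, rfl⟩ := Subgroup.mem_zpowers_iff.1 (hg a)
    obtain ⟨k, rfl⟩ := Subgroup.mem_zpowers_iff.1 (hg b)
    rw [← zpow_add, ← zpow_add, add_comm]
  have hidx : ((P : Subgroup G).subgroupOf
      (Subgroup.normalizer ((P : Subgroup G) : Set G))).index = q := by
    have h1 := Subgroup.card_mul_index
      ((P : Subgroup G).subgroupOf (Subgroup.normalizer ((P : Subgroup G) : Set G)))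
    rw [c1, S.hNcard] at h1
    exact Nat.eq_of_mul_eq_mul_left (Fact.out : p.Prime).pos h1
  have hHall : (Nat.card ((P : Subgroup G).subgroupOf
      (Subgroup.normalizer ((P : Subgroup G) : Set G)))).Coprime
      ((P : Subgroup G).subgroupOf (Subgroup.normalizer ((P : Subgroup G) : Set G))).index := by
    rw [c1, hidx]
    exact nz_coprime S
  obtain ⟨a, ha, hconj⟩ := Cfsg.Agent.Lib.Helper1.exists_conj_eq_of_abelian
    ((P : Subgroup G).subgroupOf (Subgroup.normalizer ((P : Subgroup G) : Set G))) hHall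
    (Z₁.subgroupOf (Subgroup.normalizer ((P : Subgroup G) : Set G)))
    (Z₂.subgroupOf (Subgroup.normalizer ((P : Subgroup G) : Set G)))
    (nz_isComplement' S hZ₁ hZ₁N) (nz_isComplement' S hZ₂ hZ₂N)
  refine ⟨(a : G), Subgroup.mem_subgroupOf.mp ha, ?_⟩
  intro x hx
  have hx' : (⟨x, hZ₁N hx⟩ : ↥(Subgroup.normalizer ((P : Subgroup G) : Set G))) ∈
      Z₁.subgroupOf (Subgroup.normalizer ((P : Subgroup G) : Set G)) :=
    Subgroup.mem_subgroupOf.mpr hx
  have h1 := Subgroup.smul_mem_pointwise_smul _ (MulAut.conj a) _ hx'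
  rw [hconj, MulAut.smul_def, MulAut.conj_apply] at h1
  exact Subgroup.mem_subgroupOf.mp h1

end

open MulAction in
/-- the counting argument, in abstract form -/
theorem nz_core {G : Type*} [Group G] [Finite G] (N P : Subgroup G) (p q n : ℕ)
    (hPN : P ≤ N) (hcardP : Nat.card P = p) (hp : 0 < p) (hidx : N.index = 1 + n * p)
    (hn : 1 ≤ n)
    (hint : ∀ g : G, g ∉ N → Nat.card ↥(N ⊓ N.map (MulAut.conj g).toMonoidHom) = q)
    (hnorm : ∀ Z : Subgroup G, Z ≤ N → Nat.card Z = q → ∀ b ∈ P,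
      (∀ z ∈ Z, b * z * b⁻¹ ∈ Z) → b = 1)
    (hdec : ∀ Z : Subgroup G, Z ≤ N → Nat.card Z = q → ∀ h ∈ N,
      ∃ a ∈ P, ∃ z ∈ Z, h = a * z)
    (hconj : ∀ Z₁ Z₂ : Subgroup G, Z₁ ≤ N → Z₂ ≤ N → Nat.card Z₁ = q → Nat.card Z₂ = q →
      ∃ a ∈ P, ∀ x ∈ Z₁, a * x * a⁻¹ ∈ Z₂) :
    ∃ Z : Subgroup G, Nat.card Z = q ∧ Nat.card (Subgroup.normalizer (Z : Set G)) = q * (n + 1) := by
  classical
  -- the coset space
  obtain ⟨ω₀, hω₀⟩ : ∃ ω₀ : G ⧸ N, ω₀ = ((1 : G) : G ⧸ N) := ⟨_, rfl⟩
  have K1 : ∀ g y : G, y • (g : G ⧸ N) = (g : G ⧸ N) ↔ g⁻¹ * y * g ∈ N := by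
    intro g y
    rw [MulAction.Quotient.smul_mk, smul_eq_mul, QuotientGroup.eq]
    constructor
    · intro h
      have := N.inv_mem h
      have e : ((y * g)⁻¹ * g)⁻¹ = g⁻¹ * y * g := by group
      rwa [e] at this
    · intro h
      have := N.inv_mem h
      have e : (g⁻¹ * y * g)⁻¹ = (y * g)⁻¹ * g := by group
      rwa [e] at this
  have K2 : ∀ y : G, y • ω₀ = ω₀ ↔ y ∈ N := by
    intro y
    rw [hω₀, K1]
    simp
  have Kmk : ∀ g : G, (g : G ⧸ N) = ω₀ ↔ g ∈ N := by
    intro g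
    rw [hω₀, QuotientGroup.eq]
    constructor
    · intro h
      have := N.inv_mem h
      simpa using this
    · intro h
      simpa using N.inv_mem h
  have K3 : ∀ ω : G ⧸ N, ω ≠ ω₀ → Nat.card ↥(N ⊓ stabilizer G ω) = q := by
    intro ω hω
    obtain ⟨g, rfl⟩ := QuotientGroup.mk_surjective ω
    have hg : g ∉ N := fun h => hω ((Kmk g).mpr h)
    have e : ((g : G) : G ⧸ N) = g • ((1 : G) : G ⧸ N) := by
      rw [MulAction.Quotient.smul_mk, smul_eq_mul, mul_one]
    rw [e, stabilizer_smul_eq_stabilizer_map_conj, stabilizer_quotient]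
    exact hint g hg
  -- an element outside `N`
  have hNtop : N ≠ ⊤ := by
    intro h
    rw [h, Subgroup.index_top] at hidx
    have : 1 * 1 ≤ n * p := Nat.mul_le_mul hn hp
    omega
  obtain ⟨g0, hg0⟩ : ∃ g0 : G, g0 ∉ N := by
    by_contra hcon
    push Not at hcon
    exact hNtop (eq_top_iff.mpr fun x _ => hcon x)
  have hω₁ : (g0 : G ⧸ N) ≠ ω₀ := fun h => hg0 ((Kmk g0).mp h)
  obtain ⟨Z, hZdef⟩ : ∃ Z : Subgroup G, Z = N ⊓ stabilizer G (g0 : G ⧸ N) := ⟨_, rfl⟩
  have hZq : Nat.card Z = q := by rw [hZdef]; exact K3 _ hω₁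
  have hZN : Z ≤ N := by rw [hZdef]; exact inf_le_left
  -- the other fixed points of `Z`
  obtain ⟨F, hFdef⟩ : ∃ F : Set (G ⧸ N), F = {ω | ω ≠ ω₀ ∧ ∀ y ∈ Z, y • ω = ω} := ⟨_, rfl⟩
  have hFmem : ∀ ω : G ⧸ N, ω ∈ F ↔ ω ≠ ω₀ ∧ ∀ y ∈ Z, y • ω = ω := by
    intro ω
    rw [hFdef]
    rfl
  have K4 : ∀ ω ∈ F, Z = N ⊓ stabilizer G ω := by
    intro ω hω
    rw [hFmem] at hω
    apply Subgroup.eq_of_le_of_card_ge
    · intro y hy
      exact ⟨hZN hy, mem_stabilizer_iff.mpr (hω.2 y hy)⟩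
    · rw [hZq, K3 ω hω.1]
  -- Claim 1
  have hFcard : Nat.card ↥F = n := by
    have hmap : ∀ (a : ↥P) (ω : ↥F), (a : G) • (ω : G ⧸ N) ∈ ({ω₀}ᶜ : Set (G ⧸ N)) := by
      intro a ω
      rw [Set.mem_compl_iff, Set.mem_singleton_iff]
      intro h
      have hω := (hFmem _).mp ω.2
      apply hω.1
      have h1 : (a : G)⁻¹ • ((a : G) • (ω : G ⧸ N)) = (a : G)⁻¹ • ω₀ := by rw [h]
      rw [inv_smul_smul] at h1
      rw [h1]
      exact (K2 _).mpr (N.inv_mem (hPN a.2))
    have hbij : Function.Bijective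
        (fun x : ↥P × ↥F => (⟨(x.1 : G) • (x.2 : G ⧸ N), hmap x.1 x.2⟩ :
          ↥({ω₀}ᶜ : Set (G ⧸ N)))) := by
      constructor
      · rintro ⟨a, ω⟩ ⟨a', ω'⟩ h
        have h0 : (a : G) • (ω : G ⧸ N) = (a' : G) • (ω' : G ⧸ N) := congrArg Subtype.val h
        have h1 : (ω' : G ⧸ N) = ((a' : G)⁻¹ * (a : G)) • (ω : G ⧸ N) := by
          rw [mul_smul, h0, inv_smul_smul]
        have hb : (a' : G)⁻¹ * (a : G) ∈ P := P.mul_mem (P.inv_mem a'.2) a.2
        have hb1 : (a' : G)⁻¹ * (a : G) = 1 := by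
          apply hnorm Z hZN hZq _ hb
          intro z hz
          rw [K4 (ω' : G ⧸ N) ω'.2]
          refine Subgroup.mem_inf.mpr
            ⟨N.mul_mem (N.mul_mem (hPN hb) (hZN hz)) (N.inv_mem (hPN hb)), ?_⟩
          rw [mem_stabilizer_iff, h1, ← mul_smul]
          have hω := (hFmem _).mp ω.2
          have e : (a' : G)⁻¹ * (a : G) * z * ((a' : G)⁻¹ * (a : G))⁻¹ * ((a' : G)⁻¹ * (a : G)) =
              (a' : G)⁻¹ * (a : G) * z := by group
          rw [e, mul_smul, hω.2 z hz]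
        have haa : a = a' := by
          apply Subtype.ext
          have : (a : G) = (a' : G) * ((a' : G)⁻¹ * (a : G)) := by group
          rw [this, hb1, mul_one]
        have hωω : ω = ω' := by
          apply Subtype.ext
          rw [h1, hb1, one_smul]
        rw [haa, hωω]
      · rintro ⟨ω, hω⟩
        rw [Set.mem_compl_iff, Set.mem_singleton_iff] at hω
        have hS := K3 ω hω
        obtain ⟨a, ha, hconj'⟩ := hconj Z (N ⊓ stabilizer G ω) hZN inf_le_left hZq hS
        have hmem : a⁻¹ • ω ∈ F := by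
          rw [hFmem]
          refine ⟨?_, ?_⟩
          · intro h
            apply hω
            have h1 : a • (a⁻¹ • ω) = a • ω₀ := by rw [h]
            rw [smul_inv_smul] at h1
            rw [h1]
            exact (K2 _).mpr (hPN ha)
          · intro y hy
            have h1 := (Subgroup.mem_inf.mp (hconj' y hy)).2
            rw [mem_stabilizer_iff] at h1
            calc y • a⁻¹ • ω = a⁻¹ • ((a * y * a⁻¹) • ω) := by
                  rw [← mul_smul, ← mul_smul]
                  congr 1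
                  group
              _ = a⁻¹ • ω := by rw [h1]
        refine ⟨(⟨a, ha⟩, ⟨a⁻¹ • ω, hmem⟩), ?_⟩
        apply Subtype.ext
        show a • a⁻¹ • ω = ω
        rw [smul_inv_smul]
    have hcard := Nat.card_congr (Equiv.ofBijective _ hbij)
    rw [Nat.card_prod, hcardP, Nat.card_coe_set_eq ({ω₀}ᶜ : Set (G ⧸ N)), Set.ncard_compl,
      Set.ncard_singleton] at hcard
    have hΩ : Nat.card (G ⧸ N) = 1 + n * p := hidx
    rw [hΩ] at hcard
    have : p * Nat.card ↥F = p * n := by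
      rw [hcard]
      have : 1 + n * p - 1 = n * p := by omega
      rw [this, mul_comm]
    exact Nat.eq_of_mul_eq_mul_left hp this
  -- Claim 2
  refine ⟨Z, hZq, ?_⟩
  obtain ⟨M, hMdef⟩ : ∃ M : Subgroup G, M = Subgroup.normalizer (Z : Set G) := ⟨_, rfl⟩
  rw [← hMdef]
  have hZM : Z ≤ M := by rw [hMdef]; exact Subgroup.le_normalizer
  have hMconj : ∀ h ∈ M, ∀ z ∈ Z, h * z * h⁻¹ ∈ Z := by
    intro h hh z hz
    rw [hMdef] at hh
    exact (Subgroup.mem_normalizer_iff.mp hh z).mp hz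
  -- the stabilizer of `ω₀` in `M` is `Z`
  have hstab : ∀ h ∈ M, h ∈ N → h ∈ Z := by
    intro h hhM hhN
    obtain ⟨a, ha, z, hz, rfl⟩ := hdec Z hZN hZq h hhN
    have haM : a ∈ M := by
      have := M.mul_mem hhM (M.inv_mem (hZM hz))
      have e : a * z * z⁻¹ = a := by group
      rwa [e] at this
    have ha1 : a = 1 := hnorm Z hZN hZq a ha (hMconj a haM)
    rw [ha1, one_mul]
    exact hz
  have hcardStab : Nat.card ↥(stabilizer ↥M ω₀) = q := by
    rw [← hZq]
    refine Nat.card_congr ⟨fun h => ⟨((h : ↥M) : G), ?_⟩, fun z => ⟨⟨(z : G), hZM z.2⟩, ?_⟩, ?_, ?_⟩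
    · apply hstab _ (h : ↥M).2
      have := h.2
      rw [mem_stabilizer_iff] at this
      have this' : (((h : ↥M) : G)) • ω₀ = ω₀ := this
      exact (K2 _).mp this'
    · rw [mem_stabilizer_iff]
      show (z : G) • ω₀ = ω₀
      exact (K2 _).mpr (hZN z.2)
    · intro h
      rfl
    · intro z
      rfl
  -- the orbit of `ω₀` under `M` is `insert ω₀ F`
  have horbit : orbit ↥M ω₀ = insert ω₀ F := by
    ext ω
    constructor
    · rintro ⟨h, rfl⟩
      show h • ω₀ ∈ insert ω₀ F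
      by_cases h0 : h • ω₀ = ω₀
      · rw [h0]
        exact Set.mem_insert _ _
      · apply Set.mem_insert_of_mem
        rw [hFmem]
        refine ⟨h0, ?_⟩
        intro y hy
        show y • (h : G) • ω₀ = (h : G) • ω₀
        have h1 : (h : G)⁻¹ * y * ((h : G)⁻¹)⁻¹ ∈ Z := hMconj _ (M.inv_mem h.2) y hy
        have h2 := (K2 _).mpr (hZN h1)
        calc y • (h : G) • ω₀ = (h : G) • (((h : G)⁻¹ * y * ((h : G)⁻¹)⁻¹) • ω₀) := by
              rw [← mul_smul, ← mul_smul]
              congr 1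
              group
          _ = (h : G) • ω₀ := by rw [h2]
    · intro hω
      rcases Set.mem_insert_iff.mp hω with rfl | hω
      · exact ⟨1, one_smul _ _⟩
      · have hω' := (hFmem _).mp hω
        obtain ⟨g, rfl⟩ := QuotientGroup.mk_surjective ω
        -- `Z' = g⁻¹ Z g ≤ N`
        have hZ'N : Z.map (MulAut.conj g⁻¹).toMonoidHom ≤ N := by
          rintro _ ⟨z, hz, rfl⟩
          have := (K1 g z).mp (hω'.2 z hz)
          show g⁻¹ * z * g⁻¹⁻¹ ∈ N
          rw [inv_inv]
          exact this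
        have hZ'q : Nat.card ↥(Z.map (MulAut.conj g⁻¹).toMonoidHom) = q := by
          rw [← hZq]
          exact (Nat.card_congr (Z.equivMapOfInjective _ (MulAut.conj g⁻¹).injective).toEquiv).symm
        obtain ⟨a, ha, hconj'⟩ := hconj Z _ hZN hZ'N hZq hZ'q
        have hsub : ∀ x ∈ Z, (g * a) * x * (g * a)⁻¹ ∈ Z := by
          intro x hx
          obtain ⟨z, hz, hz'⟩ := hconj' x hx
          have hz'' : g⁻¹ * z * g = a * x * a⁻¹ := by
            have h9 : g⁻¹ * z * g⁻¹⁻¹ = a * x * a⁻¹ := hz'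
            rwa [inv_inv] at h9
          have e : (g * a) * x * (g * a)⁻¹ = g * (a * x * a⁻¹) * g⁻¹ := by group
          rw [e, ← hz'']
          have e2 : g * (g⁻¹ * z * g) * g⁻¹ = z := by group
          rw [e2]
          exact hz
        have hgaM : g * a ∈ M := by
          rw [hMdef, Subgroup.mem_normalizer_iff]
          have hmap : Z.map (MulAut.conj (g * a)).toMonoidHom = Z := by
            apply Subgroup.eq_of_le_of_card_ge
            · rintro _ ⟨x, hx, rfl⟩
              exact hsub x hx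
            · exact (Nat.card_congr
                (Z.equivMapOfInjective _ (MulAut.conj (g * a)).injective).toEquiv).le
          intro x
          constructor
          · exact hsub x
          · intro hx
            rw [← hmap] at hx
            obtain ⟨x', hx', hxx⟩ := hx
            have : x' = x := by
              have h3 : g * a * x' * (g * a)⁻¹ = g * a * x * (g * a)⁻¹ := hxx
              have h4 := mul_right_cancel h3
              exact mul_left_cancel h4
            rw [← this]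
            exact hx'
        refine ⟨⟨g * a, hgaM⟩, ?_⟩
        show (g * a) • ω₀ = _
        rw [mul_smul, (K2 a).mpr (hPN ha), hω₀, MulAction.Quotient.smul_mk, smul_eq_mul, mul_one]
  have hcardOrb : Nat.card ↥(orbit ↥M ω₀) = n + 1 := by
    rw [horbit, Nat.card_coe_set_eq, Set.ncard_insert_of_notMem, ← Nat.card_coe_set_eq, hFcard]
    intro h
    exact ((hFmem _).mp h).1 rfl
  have := Nat.card_congr (orbitProdStabilizerEquivGroup ↥M ω₀)
  rw [Nat.card_prod, hcardOrb, hcardStab] at this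
  rw [← this, mul_comm]


/-- MODULE [NT-NZ] -/
theorem nt_card_normalizer_complement {G : Type*} [Group G] [Finite G] {p : ℕ} [Fact p.Prime]
    {P : Sylow p G} {q t n : ℕ} (S : NTSetup p P q t n)
    (hint : ∀ g : G, g ∉ Subgroup.normalizer ((P : Subgroup G) : Set G) →
      Nat.card ↥(Subgroup.normalizer ((P : Subgroup G) : Set G) ⊓
        (Subgroup.normalizer ((P : Subgroup G) : Set G)).map (MulAut.conj g).toMonoidHom) = q) :
    ∃ Z : Subgroup G, Nat.card Z = q ∧
      Nat.card (Subgroup.normalizer (Z : Set G)) = q * (n + 1) := by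
  apply nz_core (Subgroup.normalizer ((P : Subgroup G) : Set G)) (P : Subgroup G) p q n
    Subgroup.le_normalizer S.hPcard (Fact.out : p.Prime).pos
  · exact (Sylow.card_eq_index_normalizer P).symm.trans S.hSyl
  · exact S.hn
  · exact hint
  · intro Z hZN hZ b hb hnorm
    exact nz_normalizer_in_P S hZ hZN hb hnorm
  · intro Z hZN hZ h hh
    exact nz_decomp S hZ hZN hh
  · intro Z₁ Z₂ h1 h2 c1 c2
    exact nz_conj S c1 c2 h1 h2

end Cfsg.Agent.Lib.Helper87.BrauerNT
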