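/-
helper87, module CH4-[EXP2] of helper64's CH4 project (S4167), hedge:
`Hyp4` + trivial centre imply that the Sylow 2-subgroups have exponent 2.
-/
import Mathlib
import Cfsg.Agent.Lib.Helper64.CH4Defs
import Cfsg.Agent.Lib.Helper73.ConjUnion

set_option autoImplicit false

open Pointwise

namespace Cfsg.Agent.Lib.Helper87.CH4

open Cfsg.Agent.Lib.Helper64.CH4

/-- If `R ≤ S` are finite subgroups with `|S| ≤ 2 |R|`, then `R` contains all squares of `S`. -/
theorem sq_mem_of_card_le_two_mul {G : Type*} [Group G] [Finite G] (R S : Subgroup G)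
    (hRS : R ≤ S) (hcard : Nat.card S ≤ 2 * Nat.card R) (a : G) (ha : a ∈ S) : a ^ 2 ∈ R := by
  have h1 : Nat.card (R.subgroupOf S) = Nat.card R :=
    Nat.card_congr (Subgroup.subgroupOfEquivOfLe hRS).toEquiv
  have h2 := Subgroup.card_mul_index (R.subgroupOf S)
  rw [h1] at h2
  have hpos : 0 < Nat.card R := Nat.card_pos
  have hidx : (R.subgroupOf S).index ≤ 2 := by
    by_contra hlt
    push Not at hlt
    have : Nat.card R * 3 ≤ Nat.card R * (R.subgroupOf S).index := Nat.mul_le_mul_left _ hlt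
    omega
  have hidx0 : (R.subgroupOf S).index ≠ 0 := by
    intro h0
    rw [h0, mul_zero] at h2
    have : 0 < Nat.card S := Nat.card_pos
    omega
  have hcases : (R.subgroupOf S).index = 1 ∨ (R.subgroupOf S).index = 2 := by omega
  rcases hcases with h | h
  · rw [Subgroup.index_eq_one, Subgroup.subgroupOf_eq_top] at h
    exact R.pow_mem (h ha) 2
  · have := Subgroup.sq_mem_of_index_two h (⟨a, ha⟩ : S)
    rw [Subgroup.mem_subgroupOf] at this
    simpa using this

/-- [EXP2] -/
theorem sylow_exp_two {G : Type*} [Group G] [Finite G] (h : Hyp4 G)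
    (hZ : Subgroup.center G = ⊥) (P : Sylow 2 G) : ∀ a ∈ P, a ^ 2 = 1 := by
  classical
  have hp2 : Fact (Nat.Prime 2) := ⟨Nat.prime_two⟩
  set Sq : Set G := {b | ∃ a ∈ (P : Subgroup G), a ^ 2 = b} with hSq
  set D : Subgroup G := Subgroup.centralizer Sq with hDdef
  -- every element lies in a conjugate of `D`
  have hcover : ∀ x : G, ∃ c : G, x ∈ MulAut.conj c • D := by
    intro x
    set C : Subgroup G := Subgroup.centralizer ({x} : Set G) with hC
    obtain ⟨R⟩ : Nonempty (Sylow 2 C) := inferInstance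
    set R' : Subgroup G := (R : Subgroup C).map C.subtype with hR'
    have hR'p : IsPGroup 2 R' := R.2.map C.subtype
    obtain ⟨S, hS⟩ := hR'p.exists_le_sylow
    obtain ⟨c, hc⟩ := MulAction.exists_smul_eq G P S
    -- cardinalities
    have hcardR' : Nat.card R' = Nat.card R := by
      rw [hR']
      exact Nat.card_congr
        ((R : Subgroup C).equivMapOfInjective C.subtype (Subgroup.subtype_injective C)).symm.toEquiv
    have hcardS : Nat.card S ≤ 2 * Nat.card R' := by
      rw [hcardR', Sylow.card_eq_multiplicity S, Sylow.card_eq_multiplicity R]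
      have h1 := Subgroup.card_mul_index C
      have hCpos : Nat.card C ≠ 0 := Nat.card_pos.ne'
      have hipos : C.index ≠ 0 := Subgroup.index_ne_zero_of_finite
      rw [← h1, Nat.factorization_mul hCpos hipos, Finsupp.add_apply, pow_add, mul_comm]
      apply Nat.mul_le_mul_right
      have h4 : ¬ 4 ∣ C.index := h x
      have hle : (C.index).factorization 2 ≤ 1 := by
        by_contra hgt
        push Not at hgt
        apply h4
        have h5 : 2 ^ 2 ∣ 2 ^ (C.index).factorization 2 := pow_dvd_pow 2 hgt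
        exact dvd_trans h5 (Nat.ordProj_dvd _ 2)
      calc 2 ^ (C.index).factorization 2 ≤ 2 ^ 1 := Nat.pow_le_pow_right (by norm_num) hle
        _ = 2 := by norm_num
    -- squares of `S` commute with `x`
    have hsq : ∀ a ∈ (S : Subgroup G), a ^ 2 * x = x * a ^ 2 := by
      intro a ha
      have h1 := sq_mem_of_card_le_two_mul R' (S : Subgroup G) hS hcardS a ha
      rw [hR'] at h1
      obtain ⟨r, _, hr⟩ := h1
      have h2 : (r : G) ∈ Subgroup.centralizer ({x} : Set G) := r.2
      rw [Subgroup.mem_centralizer_iff] at h2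
      have h3 := h2 x (Set.mem_singleton x)
      rw [← hr]
      exact h3.symm
    refine ⟨c, ?_⟩
    rw [Cfsg.Agent.Lib.Helper73.mem_conj_smul_iff, hDdef, Subgroup.mem_centralizer_iff]
    rintro b ⟨a, ha, rfl⟩
    -- `c a c⁻¹ ∈ S`
    have haS : c * a * c⁻¹ ∈ (S : Subgroup G) := by
      rw [← hc, Sylow.smul_def, Sylow.pointwise_smul_def,
        Cfsg.Agent.Lib.Helper73.mem_conj_smul_iff]
      have : c⁻¹ * (c * a * c⁻¹) * c = a := by group
      rw [this]
      exact ha
    have h1 := hsq _ haS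
    have h2 : (c * a * c⁻¹) ^ 2 = c * a ^ 2 * c⁻¹ := by rw [conj_pow]
    rw [h2] at h1
    -- goal: a ^ 2 * (c⁻¹ * x * c) = c⁻¹ * x * c * a ^ 2
    calc a ^ 2 * (c⁻¹ * x * c) = c⁻¹ * (c * a ^ 2 * c⁻¹ * x) * c := by group
      _ = c⁻¹ * (x * (c * a ^ 2 * c⁻¹)) * c := by rw [h1]
      _ = c⁻¹ * x * c * a ^ 2 := by group
  have hD : D = ⊤ := by
    by_contra hne
    obtain ⟨x, hx⟩ := Cfsg.Agent.Lib.Helper73.exists_not_mem_conj_of_ne_top D hne
    obtain ⟨c, hc⟩ := hcover x
    exact hx c hc
  intro a ha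
  have hcen : a ^ 2 ∈ Subgroup.center G := by
    rw [Subgroup.mem_center_iff]
    intro g
    have hg : g ∈ D := by rw [hD]; exact Subgroup.mem_top g
    rw [hDdef, Subgroup.mem_centralizer_iff] at hg
    exact (hg (a ^ 2) ⟨a, ha, rfl⟩).symm
  rw [hZ, Subgroup.mem_bot] at hcen
  exact hcen

end Cfsg.Agent.Lib.Helper87.CH4
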