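/-
helper87: from control of transfer by a positive characteristic `p`-functor `W` to a proper focal subgroup.
If `foc(N_F(W(S))) = foc(F)` for every saturated fusion system (`hctrl`), then every saturated `F` over `S ≠ 1`
with `Aut_F(S)` a `p`-group has `foc(F) < S` (`focal_lt_of_controls`).  Induction on `|S|` through the quotient
`N_F(K)/K`, `K = W(S)`.
-/
import Cfsg.Agent.Lib.Helper88.FusionNilpSub
import Cfsg.Agent.Lib.Helper85.FusionQuotSat
import Cfsg.Agent.Lib.Helper85.FusionInduced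
import Cfsg.Agent.Lib.Helper85.FusionYoshida

set_option autoImplicit false
open Cfsg

universe u

namespace Cfsg.Agent.Lib.Helper87

open scoped commutatorElement
open Cfsg.FusionSystem Cfsg.Agent.Lib.Helper88 Cfsg.Agent.Lib.Helper88.NilpRed Cfsg.Agent.Lib.Helper85

section FocalLt

variable {Ω : Type*} [Group Ω] {S : Subgroup Ω}

theorem isFullyNormalized_of_normalizerIn_eq (F : FusionSystem S) [Finite S] {Q : Subgroup Ω} (hQS : Q ≤ S)
    (hQN : normalizerIn S Q = S) : F.IsFullyNormalized Q := by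
  refine ⟨hQS, fun Q' _ => ?_⟩
  rw [hQN]
  exact Nat.card_le_card_of_injective (Subgroup.inclusion inf_le_left) (Subgroup.inclusion_injective _)

/-- If `S` is normal in the saturated system `E` and `Aut_E(S)` is a `p`-group then `foc(E) ≤ [S, S]`. -/
theorem focal_le_commutator_of_isNormal_top [Finite S] {p : ℕ} [Fact p.Prime] (hS : IsPGroup p S)
    (E : FusionSystem S) (hE : E.IsSaturated p) (haut : IsPGroup p (E.autGroup S)) (hn : E.IsNormal S) :
    E.focalSubgroup ≤ ⁅S, S⁆ := by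
  have hNS : normalizerIn S S = S := le_antisymm inf_le_left (fun s hs => ⟨hs, Subgroup.le_normalizer hs⟩)
  have hfn : E.IsFullyNormalized S := isFullyNormalized_of_normalizerIn_eq E le_rfl hNS
  obtain ⟨hfa, -⟩ := fullyAutomized_receptive_of_fullyNormalized E hS hE hfn
  have hinn : E.autGroup S ≤ autInducedBy S S := autGroup_le_autInducedBy_of_isPGroup E hfa haut
  have key : ∀ X : Subgroup Ω, X = S → ∀ ψ : X →* Ω, ψ ∈ E.Hom X → ∀ z : X, (z : Ω)⁻¹ * ψ z ∈ ⁅S, S⁆ := by
    rintro X rfl ψ hψ z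
    have hval : ∀ w : X, ψ w ∈ X := fun w => (E.le_of_mem hψ).2 w
    obtain ⟨β, hβ, hβx⟩ := exists_aut_of_maps_into' E hψ hval
    obtain ⟨s, hs, hsβ⟩ := mem_autInducedBy_iff.1 (hinn hβ)
    rw [← hβx z, hsβ z]
    have h1 : (z : Ω)⁻¹ * (s * (z : Ω) * s⁻¹) = ⁅(z : Ω)⁻¹, s⁆ := by
      rw [commutatorElement_def]; group
    rw [h1]
    exact Subgroup.commutator_mem_commutator (X.inv_mem z.2) hs
  unfold focalSubgroup
  rw [Subgroup.closure_le]
  rintro y ⟨P, φ, x, hφ, rfl⟩
  obtain ⟨ψ, hψ, hψ1, -⟩ := hn.2 P φ hφ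
  have hPS : P ≤ S := (E.le_of_mem hφ).1
  have h2 := key (P ⊔ S) (sup_eq_right.2 hPS) ψ hψ (Subgroup.inclusion le_sup_left x)
  rw [hψ1 x] at h2
  exact h2

theorem commutator_lt_of_isPGroup' [Finite S] {p : ℕ} [Fact p.Prime] (hS : IsPGroup p S) (hne : S ≠ ⊥) :
    ⁅S, S⁆ < S := by
  have hle : ⁅S, S⁆ ≤ S := by
    rw [Subgroup.commutator_le]
    intro x hx y hy
    rw [commutatorElement_def]
    exact S.mul_mem (S.mul_mem (S.mul_mem hx hy) (S.inv_mem hx)) (S.inv_mem hy)
  refine lt_of_le_of_ne hle ?_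
  intro heq
  have : Nontrivial ↥S := (Subgroup.nontrivial_iff_ne_bot S).2 hne
  have : Group.IsNilpotent ↥S := hS.isNilpotent
  have h1 : commutator ↥S < ⊤ := Group.IsSolvable.commutator_lt_top_of_nontrivial ↥S
  apply h1.ne
  apply Subgroup.map_injective S.subtype_injective
  rw [commutator_def, Subgroup.map_commutator, ← MonoidHom.range_eq_map, Subgroup.range_subtype]
  exact heq

end FocalLt

section Main

variable {p : ℕ} [Fact p.Prime]

/-- **From control of transfer to a proper focal subgroup.** -/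
theorem focal_lt_of_controls (W : ∀ (Q : Type u) [Group Q], Subgroup Q) (hW : IsCharPFunctor.{u} p W)
    (hctrl : ∀ {Ω : Type u} [Group Ω] {S : Subgroup Ω} [Finite S], IsPGroup p S → ∀ F : FusionSystem S,
      F.IsSaturated p → ∀ N : FusionSystem (normalizerIn S (inducedFunctor W S)),
        F.IsNormalizerSystem (inducedFunctor W S) N → N.focalSubgroup = F.focalSubgroup) :
    ∀ (n : ℕ) {Ω : Type u} [Group Ω] {S : Subgroup Ω} [Finite S], Nat.card S = n → IsPGroup p S →
      ∀ F : FusionSystem S, F.IsSaturated p → S ≠ ⊥ → IsPGroup p (F.autGroup S) → F.focalSubgroup < S := by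
  intro n
  induction n using Nat.strong_induction_on with
  | _ n IH =>
  intro Ω _ S _ hn hS F hF hSne haut
  have hKS : inducedFunctor W S ≤ S := inducedFunctor_le W S
  have hKne : inducedFunctor W S ≠ ⊥ := inducedFunctor_ne_bot hW hS hSne
  have hKN : normalizerIn S (inducedFunctor W S) = S :=
    le_antisymm inf_le_left
      (fun s hs => ⟨hs, inducedFunctor_normalizer hW hS (Subgroup.le_normalizer hs)⟩)
  have hNS := isNormalizerSystem_normalizerSystem F (inducedFunctor W S) hKS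
  have hfoc := hctrl hS F hF _ hNS
  have hKfn : F.IsFullyNormalized (inducedFunctor W S) := isFullyNormalized_of_normalizerIn_eq F hKS hKN
  have hNSsat := isSaturated_of_isNormalizerSystem F hS hF hKfn hNS
  have hNSn := isNormal_of_isNormalizerSystem F hKS hNS
  -- the normalizer system, as a system over `S`
  have hEhom : ∀ P, (castSystem hKN (normalizerSystem F (inducedFunctor W S) hKS)).Hom P =
      (normalizerSystem F (inducedFunctor W S) hKS).Hom P := castSystem_hom hKN _
  have hEsat : (castSystem hKN (normalizerSystem F (inducedFunctor W S) hKS)).IsSaturated p :=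
    (castSystem_isSaturated hKN _ p).2 hNSsat
  generalize castSystem hKN (normalizerSystem F (inducedFunctor W S) hKS) = E at hEhom hEsat
  have hEF : ∀ P, E.Hom P ⊆ F.Hom P := by
    intro P φ hφ
    rw [hEhom P] at hφ
    exact hφ.1
  have hEfoc : E.focalSubgroup = F.focalSubgroup := by
    rw [← hfoc]
    unfold focalSubgroup
    simp only [hEhom]
  have hEaut : IsPGroup p (E.autGroup S) := by
    apply haut.to_le
    intro α hα
    rw [mem_autGroup_iff F le_rfl]
    exact hEF S ((mem_autGroup_iff E le_rfl).1 hα)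
  have hEn : E.IsNormal (inducedFunctor W S) := by
    refine ⟨hKS, fun P φ hφ => ?_⟩
    rw [hEhom P] at hφ
    obtain ⟨ψ, hψ, h1, h2⟩ := hNSn.2 P φ hφ
    exact ⟨ψ, by rw [hEhom]; exact hψ, h1, h2⟩
  rw [← hEfoc]
  by_cases hK : inducedFunctor W S = S
  · rw [hK] at hEn
    exact lt_of_le_of_lt (focal_le_commutator_of_isNormal_top hS E hEsat hEaut hEn)
      (commutator_lt_of_isPGroup' hS hSne)
  -- the quotient by `K`
  have hKsc : E.StronglyClosed (inducedFunctor W S) := Cfsg.Agent.Lib.Helper84.stronglyClosed_of_isNormal E hEn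
  have hnorm : ((inducedFunctor W S).subgroupOf S).Normal :=
    ⟨fun n hn g => Subgroup.mem_subgroupOf.2 (StronglyClosed_conj_mem hKsc g.2 (Subgroup.mem_subgroupOf.1 hn))⟩
  have hker : ∀ s : S, QuotientGroup.mk' ((inducedFunctor W S).subgroupOf S) s = 1 ↔
      (s : Ω) ∈ inducedFunctor W S := by
    intro s
    rw [QuotientGroup.mk'_apply, QuotientGroup.eq_one_iff]
    exact Subgroup.mem_subgroupOf
  have hrange : (QuotientGroup.mk' ((inducedFunctor W S).subgroupOf S)).range = ⊤ :=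
    MonoidHom.range_eq_top.2 (QuotientGroup.mk'_surjective _)
  have hĒ := isFactorSystem_factorSystem E (inducedFunctor W S) hKsc
    (QuotientGroup.mk' ((inducedFunctor W S).subgroupOf S)) hker hrange
  have hpquot : IsPGroup p (S ⧸ (inducedFunctor W S).subgroupOf S) := hS.to_quotient _
  have hptop : IsPGroup p (⊤ : Subgroup (S ⧸ (inducedFunctor W S).subgroupOf S)) := hpquot.to_subgroup _
  have hĒsat := isSaturated_of_isFactorSystem hS E hEsat hKsc _ _ hĒ
  have hcard : Nat.card (⊤ : Subgroup (S ⧸ (inducedFunctor W S).subgroupOf S)) < Nat.card S := by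
    rw [Subgroup.card_top]
    have h1 := Subgroup.card_eq_card_quotient_mul_card_subgroup ((inducedFunctor W S).subgroupOf S)
    have h2 : 1 < Nat.card ((inducedFunctor W S).subgroupOf S) := by
      rw [Subgroup.one_lt_card_iff_ne_bot]
      intro h
      rw [Subgroup.subgroupOf_eq_bot] at h
      apply hKne
      rw [← inf_of_le_left hKS]
      exact disjoint_iff.1 h
    have h3 : 0 < Nat.card (S ⧸ (inducedFunctor W S).subgroupOf S) := Nat.card_pos
    nlinarith
  generalize hθ : QuotientGroup.mk' ((inducedFunctor W S).subgroupOf S) = θ at hker hrange hĒ hĒsat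
  generalize factorSystem E (inducedFunctor W S) hKsc θ hker hrange = Ē at hĒ hĒsat
  obtain ⟨-, -, -, hHom⟩ := hĒ
  have htopne : (⊤ : Subgroup (S ⧸ (inducedFunctor W S).subgroupOf S)) ≠ ⊥ := by
    intro h
    apply hK
    apply le_antisymm hKS
    intro s hs
    have h1 : θ ⟨s, hs⟩ ∈ (⊤ : Subgroup (S ⧸ (inducedFunctor W S).subgroupOf S)) := trivial
    rw [h, Subgroup.mem_bot] at h1
    exact (hker ⟨s, hs⟩).1 h1
  have hpre : preimageAlong θ (⊤ : Subgroup (S ⧸ (inducedFunctor W S).subgroupOf S)) = S := by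
    apply le_antisymm (preimageAlong_le θ _)
    intro s hs
    rw [mem_preimageAlong_iff]
    exact ⟨hs, trivial⟩
  have hĒaut : IsPGroup p (Ē.autGroup (⊤ : Subgroup (S ⧸ (inducedFunctor W S).subgroupOf S))) := by
    have h1 : IsPGroup p (E.autGroup (preimageAlong θ (⊤ : Subgroup (S ⧸ (inducedFunctor W S).subgroupOf S)))) :=
      hpre.symm ▸ hEaut
    rintro ⟨γ', hγ'⟩
    obtain ⟨γ, hγ⟩ := exists_autQuotHom_eq E hKsc θ hker Ē hHom le_rfl (hrange ▸ le_rfl) hγ'
    obtain ⟨k, hk⟩ := h1 γ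
    refine ⟨k, ?_⟩
    apply Subtype.ext
    rw [Subgroup.coe_pow, Subgroup.coe_one]
    show γ' ^ p ^ k = 1
    rw [← hγ, ← map_pow, hk, map_one]
  have hlt := IH _ (hn ▸ hcard) rfl hptop Ē hĒsat htopne hĒaut
  refine lt_of_le_of_ne (focal_le E) ?_
  intro heq
  apply hlt.ne
  rw [eq_top_iff]
  -- every generator of `foc(E)` maps into `foc(Ē)`
  have hgen : ∀ z ∈ E.focalSubgroup, ∀ hz : z ∈ S, θ ⟨z, hz⟩ ∈ Ē.focalSubgroup := by
    intro z hz
    unfold focalSubgroup at hz
    induction hz using Subgroup.closure_induction with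
    | mem y hy =>
      obtain ⟨P, φ, x, hφ, rfl⟩ := hy
      intro hz
      have hPS : P ≤ S := (E.le_of_mem hφ).1
      have hφS : ∀ w : P, φ w ∈ S := (E.le_of_mem hφ).2
      obtain ⟨ψ₀, hψ₀, hψ₀1, hψ₀2⟩ := hEn.2 P φ hφ
      have hP'r : imageAlong θ P ≤ θ.range := by
        rintro _ ⟨s, -, rfl⟩
        exact ⟨s, rfl⟩
      have hR : preimageAlong θ (imageAlong θ P) ≤ P ⊔ inducedFunctor W S := by
        intro r hr
        rw [mem_preimageAlong_iff] at hr
        obtain ⟨hrS, s, hsP, hsr⟩ := hr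
        have hsP' : (s : Ω) ∈ P := Subgroup.mem_subgroupOf.1 hsP
        have h1 : θ (⟨r, hrS⟩ * s⁻¹) = 1 := by
          rw [map_mul, map_inv, hsr, mul_inv_cancel]
        have h2 : r * (s : Ω)⁻¹ ∈ inducedFunctor W S := (hker _).1 h1
        have h3 : r = (r * (s : Ω)⁻¹) * (s : Ω) := by group
        rw [h3]
        exact Subgroup.mul_mem _ (le_sup_right (a := P) h2) (le_sup_left (b := inducedFunctor W S) hsP')
      have hψ := restrict_mem E hψ₀ hR
      have hψS : ∀ w, (ψ₀.comp (Subgroup.inclusion hR)) w ∈ S := (E.le_of_mem hψ).2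
      have hPR : P ≤ preimageAlong θ (imageAlong θ P) := by
        intro w hw
        rw [mem_preimageAlong_iff]
        exact ⟨hPS hw, ⟨⟨w, hPS hw⟩, Subgroup.mem_subgroupOf.2 hw, rfl⟩⟩
      have hψker : ∀ w : ↥(preimageAlong θ (imageAlong θ P)),
          θ ⟨w, preimageAlong_le θ _ w.2⟩ = 1 → θ ⟨(ψ₀.comp (Subgroup.inclusion hR)) w, hψS w⟩ = 1 := by
        intro w hw
        have hwK : (w : Ω) ∈ inducedFunctor W S := (hker _).1 hw
        apply (hker _).2
        have hZK : Subgroup.zpowers (w : Ω) ≤ inducedFunctor W S := by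
          rw [Subgroup.zpowers_le]; exact hwK
        have hZR : Subgroup.zpowers (w : Ω) ≤ preimageAlong θ (imageAlong θ P) := by
          rw [Subgroup.zpowers_le]; exact w.2
        have h1 := hKsc.2 _ hZK _ (restrict_mem E hψ hZR) ⟨(w : Ω), Subgroup.mem_zpowers _⟩
        exact h1
      have hφ' : inducedHom θ hP'r _ hψS hψker ∈ Ē.Hom (imageAlong θ P) :=
        (hHom _ _).2 ⟨hrange ▸ hP'r, _, hψ, inducedAlong_inducedHom θ hP'r _ hψS hψker⟩
      have hx' : θ ⟨(x : Ω), hPS x.2⟩ ∈ imageAlong θ P := ⟨⟨x, hPS x.2⟩, Subgroup.mem_subgroupOf.2 x.2, rfl⟩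
      have happ := inducedHom_apply θ hP'r _ hψS hψker ⟨(x : Ω), hPR x.2⟩ hx'
      have hψx : (ψ₀.comp (Subgroup.inclusion hR)) ⟨(x : Ω), hPR x.2⟩ = φ x := hψ₀1 x
      have hmain : θ ⟨(x : Ω)⁻¹ * φ x, hz⟩ =
          ((⟨θ ⟨(x : Ω), hPS x.2⟩, hx'⟩ : ↥(imageAlong θ P)) : S ⧸ (inducedFunctor W S).subgroupOf S)⁻¹ *
            inducedHom θ hP'r _ hψS hψker ⟨θ ⟨(x : Ω), hPS x.2⟩, hx'⟩ := by
        rw [happ]
        have h4 : (⟨(x : Ω)⁻¹ * φ x, hz⟩ : S) = (⟨(x : Ω), hPS x.2⟩ : S)⁻¹ * ⟨φ x, hφS x⟩ := rfl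
        rw [h4, map_mul, map_inv]
        congr 2
        exact Subtype.ext hψx.symm
      rw [hmain]
      exact Subgroup.subset_closure ⟨_, _, _, hφ', rfl⟩
    | one =>
      intro hz
      have : (⟨1, hz⟩ : S) = 1 := rfl
      rw [this, map_one]
      exact one_mem _
    | mul a b ha hb iha ihb =>
      intro hz
      have haS : a ∈ S := focal_le E ha
      have hbS : b ∈ S := focal_le E hb
      have : (⟨a * b, hz⟩ : S) = ⟨a, haS⟩ * ⟨b, hbS⟩ := rfl
      rw [this, map_mul]
      exact Subgroup.mul_mem _ (iha haS) (ihb hbS)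
    | inv a ha iha =>
      intro hz
      have haS : a ∈ S := focal_le E ha
      have : (⟨a⁻¹, hz⟩ : S) = (⟨a, haS⟩ : S)⁻¹ := rfl
      rw [this, map_inv]
      exact Subgroup.inv_mem _ (iha haS)
  intro y _
  have hsurj : Function.Surjective θ := by
    rw [← MonoidHom.range_eq_top]; exact hrange
  obtain ⟨s, rfl⟩ := hsurj y
  exact hgen s (by rw [heq]; exact s.2) s.2

end Main

end Cfsg.Agent.Lib.Helper87
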