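import Mathlib
import Cfsg.Agent.Lib.Helper76.FrobRedA
import Cfsg.Agent.Lib.Helper87.ThompsonSub

/-!
# S4306 module [R2] (helper87): `C_G(f)` is nilpotent in a fixed-point-free Frobenius context
-/

set_option autoImplicit false

namespace Cfsg.Agent.Lib.Helper87

open Cfsg.Agent.Lib.Helper76.FrobRed

variable {Γ : Type*} [Group Γ] [Finite Γ] {r s : ℕ} [Fact r.Prime] [Fact s.Prime]
  {G : Subgroup Γ} {f h : Γ}

/-- **Module [R2]**: `C_G(f)` admits the fixed-point-free automorphism induced by `h` of order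
dividing `s`, hence is nilpotent (Thompson). -/
theorem FCtx.centralizer_nilpotent (c : FCtx r s G f h) :
    Group.IsNilpotent (G ⊓ Subgroup.centralizer ({f} : Set Γ) : Subgroup Γ) := by
  have hr : r.Prime := Fact.out
  have hs : s.Prime := Fact.out
  have hGn := c.hGn
  set K : Subgroup Γ := G ⊓ Subgroup.centralizer ({f} : Set Γ) with hKdef
  -- `f` is a power of `h f h⁻¹`
  have hordf : orderOf f = r := orderOf_eq_prime c.hf c.hf1
  have hordc : orderOf (h * f * h⁻¹) = r := by
    have : h * f * h⁻¹ = MulAut.conj h f := rfl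
    rw [this, MulEquiv.orderOf_eq, hordf]
  have hzp : Subgroup.zpowers (h * f * h⁻¹) = Subgroup.zpowers f := by
    apply Subgroup.eq_of_le_of_card_ge
    · rw [Subgroup.zpowers_le]; exact c.hnorm
    · rw [Nat.card_zpowers, Nat.card_zpowers, hordf, hordc]
  have hfmem : f ∈ Subgroup.zpowers (h * f * h⁻¹) := by
    rw [hzp]; exact Subgroup.mem_zpowers f
  -- `h` maps `K` into `K`
  have hmap : ∀ k ∈ K, h * k * h⁻¹ ∈ K := by
    intro k hk
    refine Subgroup.mem_inf.mpr ⟨hGn.conj_mem k hk.1 h, ?_⟩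
    rw [Subgroup.mem_centralizer_singleton_iff]
    have hkf : k * f = f * k := Subgroup.mem_centralizer_singleton_iff.mp hk.2
    -- `h k h⁻¹` commutes with `h f h⁻¹`, hence with its powers
    have h1 : Commute (h * k * h⁻¹) (h * f * h⁻¹) := by
      show h * k * h⁻¹ * (h * f * h⁻¹) = h * f * h⁻¹ * (h * k * h⁻¹)
      calc h * k * h⁻¹ * (h * f * h⁻¹) = h * (k * f) * h⁻¹ := by group
        _ = h * (f * k) * h⁻¹ := by rw [hkf]
        _ = h * f * h⁻¹ * (h * k * h⁻¹) := by group
    obtain ⟨j, hj⟩ := Subgroup.mem_zpowers_iff.mp hfmem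
    have h2 : Commute (h * k * h⁻¹) f := by
      rw [← hj]; exact h1.zpow_right j
    exact h2.eq
  have hhK : h ∈ Subgroup.normalizer (K : Set Γ) := by
    rw [Subgroup.mem_normalizer_iff]
    intro k
    refine ⟨hmap k, fun hk => ?_⟩
    -- finiteness: conjugation by `h` is injective on `K`, hence `h⁻¹` also maps `K` into `K`
    have hpow : ∀ n : ℕ, h ^ n * (h * k * h⁻¹) * (h ^ n)⁻¹ ∈ K := by
      intro n
      induction n with
      | zero => simpa using hk
      | succ n ih =>
        have := hmap _ ih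
        have e : h * (h ^ n * (h * k * h⁻¹) * (h ^ n)⁻¹) * h⁻¹ =
            h ^ (n + 1) * (h * k * h⁻¹) * (h ^ (n + 1))⁻¹ := by
          rw [pow_succ']; group
        rwa [e] at this
    have hs1 : 1 ≤ s := hs.one_lt.le
    have := hpow (s - 1)
    have e : h ^ (s - 1) * (h * k * h⁻¹) * (h ^ (s - 1))⁻¹ = k := by
      have h1 : h ^ (s - 1) * h = 1 := by
        rw [← pow_succ, Nat.sub_add_cancel hs1, c.hh]
      have h2 : h⁻¹ * (h ^ (s - 1))⁻¹ = 1 := by
        rw [← mul_inv_rev, h1, inv_one]
      calc h ^ (s - 1) * (h * k * h⁻¹) * (h ^ (s - 1))⁻¹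
          = (h ^ (s - 1) * h) * k * (h⁻¹ * (h ^ (s - 1))⁻¹) := by group
        _ = k := by rw [h1, h2]; group
    rwa [e] at this
  set φ : K ≃* K := conjAutOfNormalizer K h hhK with hφdef
  have hfix : ∀ x : K, φ x = x → x = 1 := by
    intro x hx
    have h1 : h * (x : Γ) * h⁻¹ = x := by
      have := congrArg Subtype.val hx
      simpa [hφdef] using this
    have hxh : (x : Γ) * h = h * x := by
      calc (x : Γ) * h = (h * x * h⁻¹) * h := by rw [h1]
        _ = h * x := by group
    have hxf : (x : Γ) * f = f * x := Subgroup.mem_centralizer_singleton_iff.mp x.2.2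
    exact Subtype.ext (c.hfpf x x.2.1 hxf hxh)
  have hpow : (φ : MulAut K) ^ s = 1 := by
    ext x
    rw [hφdef, conjAutOfNormalizer_pow_coe, c.hh]
    simp
  by_cases h1 : φ = 1
  · -- `K` is trivial
    have : Subsingleton K := by
      constructor
      intro a b
      have ha : a = 1 := hfix a (by rw [h1]; rfl)
      have hb : b = 1 := hfix b (by rw [h1]; rfl)
      rw [ha, hb]
    infer_instance
  · have hord : orderOf φ = s := orderOf_eq_prime hpow h1
    exact Cfsg.Agent.Lib.Helper1.thompson_fpf_nilpotent φ (fun g hg => hfix g hg) s hs hord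

end Cfsg.Agent.Lib.Helper87
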