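/-
helper87: "Alperin with a threshold".  In a saturated fusion system, if the automorphisms of the essential subgroups of
order `> N` agree on a subgroup `U` (invariant under `Aut_F(S)`) with elements of `Aut_F(S)`, then so does every map of the
system with source of order `> N`.
All declarations live in `Cfsg.Agent.Lib.Helper87`.
-/
import Cfsg.Agent.Lib.Helper87.FusionCore
import Cfsg.Agent.Lib.Helper87.FusionSat
import Cfsg.Agent.Lib.Helper84.Alperin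

set_option autoImplicit false

namespace Cfsg.Agent.Lib.Helper87

open Cfsg Cfsg.FusionSystem

variable {Ω : Type*} [Group Ω] {S : Subgroup Ω}

/-- The predicate: if the source is large, the map agrees on `U` with an element of `Aut_F(S)` and preserves membership
in `U`. -/
def AgreeGood (F : FusionSystem S) (U : Subgroup Ω) (N : ℕ) (R : Subgroup Ω) (φ : R →* Ω) : Prop :=
  N < Nat.card R → (∃ β ∈ F.autGroup S, ∀ (y : R) (hy : (y : Ω) ∈ S), (y : Ω) ∈ U → φ y = ((β ⟨y, hy⟩ : S) : Ω)) ∧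
    ∀ y : R, (y : Ω) ∈ U ↔ φ y ∈ U

/-- The subsystem of the maps that, when their source has order `> N`, agree on `U` with elements of `Aut_F(S)`. -/
def agreeSystem (F : FusionSystem S) [Finite S] (U : Subgroup Ω) (N : ℕ)
    (hU : ∀ β ∈ F.autGroup S, ∀ y : S, ((β y : S) : Ω) ∈ U ↔ (y : Ω) ∈ U) : FusionSystem S where
  Hom R := {φ | φ ∈ F.Hom R ∧ AgreeGood F U N R φ}
  le_of_mem h := F.le_of_mem h.1
  injective_of_mem h := F.injective_of_mem h.1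
  conj_mem := by
    intro R g hR hg
    refine ⟨F.conj_mem hR hg, fun _ => ?_⟩
    have hβ : MulAut.conj (⟨g, hg⟩ : S) ∈ F.autGroup S := by
      apply autInducedBy_le_autGroup F le_rfl
      rw [mem_autInducedBy_iff]
      exact ⟨g, hg, fun x => rfl⟩
    refine ⟨⟨MulAut.conj (⟨g, hg⟩ : S), hβ, fun y hy _ => rfl⟩, fun y => ?_⟩
    exact (hU _ hβ ⟨y, hR y.2⟩).symm
  comp_mem := by
    rintro P Q φ ψ ⟨hφ, gφ⟩ ⟨hψ, gψ⟩ h
    refine ⟨F.comp_mem hφ hψ h, fun hN => ?_⟩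
    have hQS : Q ≤ S := hom_le F hψ
    have hfinQ : Finite Q := finite_of_le hQS
    have hinj : Function.Injective (φ.codRestrict Q h) := by
      intro a b hab
      apply F.injective_of_mem hφ
      exact congrArg Subtype.val hab
    have hcard : Nat.card P ≤ Nat.card Q := Nat.card_le_card_of_injective _ hinj
    obtain ⟨⟨β₁, hβ₁, h1⟩, i1⟩ := gφ hN
    obtain ⟨⟨β₂, hβ₂, h2⟩, i2⟩ := gψ (lt_of_lt_of_le hN hcard)
    refine ⟨⟨β₂ * β₁, (F.autGroup S).mul_mem hβ₂ hβ₁, fun y hy hyU => ?_⟩, fun y => ?_⟩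
    · show ψ ⟨φ y, h y⟩ = _
      have hφU : φ y ∈ U := (i1 y).1 hyU
      rw [h2 ⟨φ y, h y⟩ (hom_map_mem F hφ y) hφU]
      show ((β₂ ⟨φ y, _⟩ : S) : Ω) = ((β₂ (β₁ ⟨y, hy⟩) : S) : Ω)
      congr 2
      apply Subtype.ext
      exact h1 y hy hyU
    · exact (i1 y).trans (i2 ⟨φ y, h y⟩)
  inv_mem := by
    rintro P φ ⟨hφ, gφ⟩
    obtain ⟨ψ, hψ, hinv⟩ := F.inv_mem hφ
    refine ⟨ψ, ⟨hψ, fun hN => ?_⟩, hinv⟩
    have hcard : Nat.card φ.range = Nat.card P :=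
      (Nat.card_congr (MonoidHom.ofInjective (F.injective_of_mem hφ)).toEquiv).symm
    rw [hcard] at hN
    obtain ⟨⟨β, hβ, h1⟩, i1⟩ := gφ hN
    have hPS : P ≤ S := hom_le F hφ
    refine ⟨⟨β⁻¹, (F.autGroup S).inv_mem hβ, ?_⟩, ?_⟩
    · rintro ⟨_, x, rfl⟩ hy hyU
      rw [hinv x]
      have hxU : (x : Ω) ∈ U := (i1 x).2 hyU
      have : (⟨φ x, hy⟩ : S) = β ⟨x, hPS x.2⟩ := Subtype.ext (h1 x (hPS x.2) hxU)
      rw [this, MulAut.inv_apply_self]
    · rintro ⟨_, x, rfl⟩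
      rw [hinv x]
      exact (i1 x).symm

theorem mem_agreeSystem_hom (F : FusionSystem S) [Finite S] (U : Subgroup Ω) (N : ℕ)
    (hU : ∀ β ∈ F.autGroup S, ∀ y : S, ((β y : S) : Ω) ∈ U ↔ (y : Ω) ∈ U) {R : Subgroup Ω} {φ : R →* Ω} :
    φ ∈ (agreeSystem F U N hU).Hom R ↔ φ ∈ F.Hom R ∧ AgreeGood F U N R φ := Iff.rfl

/-- **Alperin with a threshold.** -/
theorem agree_of_large (F : FusionSystem S) [Finite S] {p : ℕ} [Fact p.Prime] (hS : IsPGroup p S)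
    (hF : F.IsSaturated p) (U : Subgroup Ω) (N : ℕ)
    (hU : ∀ β ∈ F.autGroup S, ∀ y : S, ((β y : S) : Ω) ∈ U ↔ (y : Ω) ∈ U)
    (hess : ∀ P : Subgroup Ω, F.IsEssential p P → N < Nat.card P → ∀ α ∈ F.autGroup P,
      (∃ β ∈ F.autGroup S, ∀ (y : P) (hy : (y : Ω) ∈ S), (y : Ω) ∈ U → ((α y : P) : Ω) = ((β ⟨y, hy⟩ : S) : Ω)) ∧
        ∀ y : P, (y : Ω) ∈ U ↔ ((α y : P) : Ω) ∈ U)
    {R : Subgroup Ω} {φ : R →* Ω} (hφ : φ ∈ F.Hom R) (hR : N < Nat.card R) :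
    (∃ β ∈ F.autGroup S, ∀ (y : R) (hy : (y : Ω) ∈ S), (y : Ω) ∈ U → φ y = ((β ⟨y, hy⟩ : S) : Ω)) ∧
      ∀ y : R, (y : Ω) ∈ U ↔ φ y ∈ U := by
  have key := Cfsg.Agent.Lib.Helper84.alperin_goldschmidt F (agreeSystem F U N hU) hS hF ?_ R hφ
  · exact key.2 hR
  · rintro P hP α hα
    have hPS : P ≤ S := by
      rcases hP with rfl | hP
      · exact le_rfl
      · exact hP.1.1
    rw [mem_autGroup_iff _ hPS]
    refine ⟨(mem_autGroup_iff F hPS).1 hα, fun hN => ?_⟩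
    rcases hP with rfl | hP
    · refine ⟨⟨α, hα, fun y hy _ => rfl⟩, fun y => ?_⟩
      exact (hU α hα y).symm
    · exact hess P hP hN α hα

end Cfsg.Agent.Lib.Helper87
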