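/-
helper87: subsystems of constrained fusion systems. If `F` is constrained and `E` is a saturated subsystem of `F` over a strongly
closed subgroup `T`, then `E` is constrained (`T ∩ O_p(F)` is normal and centric in `E`).
All declarations live in `Cfsg.Agent.Lib.Helper87`.
-/
import Cfsg.Agent.Lib.Helper87.FusionOmega
import Cfsg.Agent.Lib.Helper87.FusionLift
import Cfsg.Agent.S5085
import Cfsg.Agent.S5088
import Cfsg.Agent.S5145

set_option autoImplicit false

namespace Cfsg.Agent.Lib.Helper87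
open Cfsg Cfsg.FusionSystem
open scoped commutatorElement

variable {Ω : Type*} [Group Ω] {S : Subgroup Ω}

/-- For `N` normalized by `S` and `h` fixed, the elements `g ∈ S` with `[g, h] ∈ N` are closed under joins. -/
theorem comm_mem_of_mem_sup_left {N A B : Subgroup Ω} (hN : ∀ s ∈ S, ∀ n ∈ N, s * n * s⁻¹ ∈ N) (hA : A ≤ S)
    (hB : B ≤ S) {h : Ω} (hAh : ∀ a ∈ A, ⁅a, h⁆ ∈ N) (hBh : ∀ b ∈ B, ⁅b, h⁆ ∈ N) :
    ∀ g ∈ A ⊔ B, ⁅g, h⁆ ∈ N := by
  let L : Subgroup Ω :=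
    { carrier := {g | g ∈ S ∧ ⁅g, h⁆ ∈ N}
      one_mem' := ⟨S.one_mem, by rw [commutatorElement_one_left]; exact N.one_mem⟩
      mul_mem' := by
        rintro g g' ⟨hg, hgN⟩ ⟨hg', hg'N⟩
        refine ⟨S.mul_mem hg hg', ?_⟩
        have e : ⁅g * g', h⁆ = g * ⁅g', h⁆ * g⁻¹ * ⁅g, h⁆ := by
          simp only [commutatorElement_def]
          group
        rw [e]
        exact N.mul_mem (hN g hg _ hg'N) hgN
      inv_mem' := by
        rintro g ⟨hg, hgN⟩
        refine ⟨S.inv_mem hg, ?_⟩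
        have e : ⁅g⁻¹, h⁆ = g⁻¹ * ⁅g, h⁆⁻¹ * g⁻¹⁻¹ := by
          simp only [commutatorElement_def]
          group
        rw [e]
        exact hN g⁻¹ (S.inv_mem hg) _ (N.inv_mem hgN) }
  have h1 : A ≤ L := fun a ha => ⟨hA ha, hAh a ha⟩
  have h2 : B ≤ L := fun b hb => ⟨hB hb, hBh b hb⟩
  intro g hg
  exact ((sup_le h1 h2) hg).2

/-- Commutators of joins: `[A ⊔ B, C ⊔ D] ≤ N` as soon as the four commutators of the pieces lie in `N`, for `N`
normalized by `S ≥ A, B, C, D`. -/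
theorem commutator_sup_sup_le {N A B C D : Subgroup Ω} (hN : ∀ s ∈ S, ∀ n ∈ N, s * n * s⁻¹ ∈ N) (hA : A ≤ S)
    (hB : B ≤ S) (hC : C ≤ S) (hD : D ≤ S) (hAC : ⁅A, C⁆ ≤ N) (hAD : ⁅A, D⁆ ≤ N) (hBC : ⁅B, C⁆ ≤ N)
    (hBD : ⁅B, D⁆ ≤ N) : ⁅A ⊔ B, C ⊔ D⁆ ≤ N := by
  rw [Subgroup.commutator_le]
  intro g hg k hk
  have hsymm : ∀ x y : Ω, ⁅x, y⁆ ∈ N → ⁅y, x⁆ ∈ N := by
    intro x y hxy
    rw [← commutatorElement_inv]
    exact N.inv_mem hxy
  -- first: for `a ∈ A` or `b ∈ B`, `[·, k] ∈ N`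
  have hk1 : ∀ a ∈ A, ⁅a, k⁆ ∈ N := by
    intro a ha
    apply hsymm
    exact comm_mem_of_mem_sup_left hN hC hD
      (fun c hc => hsymm _ _ (hAC (Subgroup.commutator_mem_commutator ha hc)))
      (fun d hd => hsymm _ _ (hAD (Subgroup.commutator_mem_commutator ha hd))) k hk
  have hk2 : ∀ b ∈ B, ⁅b, k⁆ ∈ N := by
    intro b hb
    apply hsymm
    exact comm_mem_of_mem_sup_left hN hC hD
      (fun c hc => hsymm _ _ (hBC (Subgroup.commutator_mem_commutator hb hc)))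
      (fun d hd => hsymm _ _ (hBD (Subgroup.commutator_mem_commutator hb hd))) k hk
  exact comm_mem_of_mem_sup_left hN hA hB hk1 hk2 g hg

/-- The join of a subgroup normal in the system and a strongly closed subgroup is strongly closed. -/
theorem stronglyClosed_sup_of_isNormal {F : FusionSystem S} {A B : Subgroup Ω} (hA : F.IsNormal A)
    (hB : F.StronglyClosed B) : F.StronglyClosed (A ⊔ B) := by
  have hAS : A ≤ S := hA.1
  have hAn : ∀ k ∈ B, ∀ a ∈ A, k * a * k⁻¹ ∈ A := fun k hk a ha =>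
    StronglyClosed_conj_mem (Cfsg.Agent.S5088.stronglyClosed_of_isNormal F hA) (hB.1 hk) ha
  refine ⟨sup_le hAS hB.1, fun P hP φ hφ y => ?_⟩
  obtain ⟨a, ha, b, hb, hy⟩ := exists_mul_of_mem_sup hAn (hP y.2)
  obtain ⟨ψ, hψ, hψP, hψA⟩ := hA.2 P φ hφ
  rw [map_subgroupOf_eq_iff] at hψA
  have haPA : a ∈ P ⊔ A := (le_sup_right : A ≤ P ⊔ A) ha
  have hbPA : b ∈ P ⊔ A := by
    have : b = a⁻¹ * (y : Ω) := by rw [hy]; group
    rw [this]
    exact Subgroup.mul_mem _ (Subgroup.inv_mem _ haPA) ((le_sup_left : P ≤ P ⊔ A) y.2)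
  have h1 : Subgroup.inclusion (le_sup_left : P ≤ P ⊔ A) y = ⟨a, haPA⟩ * ⟨b, hbPA⟩ := Subtype.ext hy
  rw [← hψP, h1, map_mul]
  exact Subgroup.mul_mem _ ((le_sup_left : A ≤ A ⊔ B) (hψA.1 ⟨a, haPA⟩ ha))
    ((le_sup_right : B ≤ A ⊔ B) (StronglyClosed_map_mem hB hψ (x := ⟨b, hbPA⟩) hb))

/-- The upper central series of `Q`, as subgroups of `Ω`. -/
def zSer (Q : Subgroup Ω) (k : ℕ) : Subgroup Ω := (Subgroup.upperCentralSeries Q k).map Q.subtype

theorem zSer_zero (Q : Subgroup Ω) : zSer Q 0 = ⊥ := by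
  unfold zSer
  rw [Subgroup.upperCentralSeries_zero, Subgroup.map_bot]

theorem zSer_le (Q : Subgroup Ω) (k : ℕ) : zSer Q k ≤ Q := Subgroup.map_subtype_le _

theorem zSer_mono (Q : Subgroup Ω) : Monotone (zSer Q) := fun _ _ hij =>
  Subgroup.map_mono (Subgroup.upperCentralSeries_mono Q hij)

theorem zSer_eq (Q : Subgroup Ω) [Group.IsNilpotent Q] {k : ℕ} (hk : Group.nilpotencyClass Q ≤ k) :
    zSer Q k = Q := by
  unfold zSer
  rw [Subgroup.upperCentralSeries_eq_top_iff_nilpotencyClass_le.2 hk, ← MonoidHom.range_eq_map,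
    Subgroup.range_subtype]

theorem zSer_isNormal (F : FusionSystem S) {Q : Subgroup Ω} (hQ : F.IsNormal Q) (k : ℕ) :
    F.IsNormal (zSer Q k) := by
  apply Cfsg.Agent.S5085.result F Q _ hQ (zSer_le Q k)
  have : (zSer Q k).subgroupOf Q = Subgroup.upperCentralSeries Q k :=
    Subgroup.comap_map_eq_self_of_injective (Subgroup.subtype_injective Q) _
  rw [this]
  infer_instance

theorem zSer_comm (Q : Subgroup Ω) (k : ℕ) : ⁅zSer Q (k + 1), Q⁆ ≤ zSer Q k := by
  have h1 : (⊤ : Subgroup Q).map Q.subtype = Q := by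
    rw [← MonoidHom.range_eq_map, Subgroup.range_subtype]
  have h2 : ⁅(Subgroup.upperCentralSeries Q (k + 1)).map Q.subtype, (⊤ : Subgroup Q).map Q.subtype⁆ ≤
      (Subgroup.upperCentralSeries Q k).map Q.subtype := by
    rw [← Subgroup.map_commutator]
    apply Subgroup.map_mono
    exact Subgroup.commutator_upperCentralSeries_top_le Q _
  rw [h1] at h2
  exact h2

/-- A subgroup of `T` strongly closed in `F` is strongly closed in every subsystem of `F` over `T`. -/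
theorem stronglyClosed_of_subsystem {F : FusionSystem S} {T : Subgroup Ω} {E : FusionSystem T}
    (hEF : E.IsSubsystemOf F) {A : Subgroup Ω} (hA : F.StronglyClosed A) (hAT : A ≤ T) : E.StronglyClosed A :=
  ⟨hAT, fun R hR φ hφ x => hA.2 R hR φ (hEF R hφ) x⟩

theorem commutator_self_le (T : Subgroup Ω) : ⁅T, T⁆ ≤ T :=
  Subgroup.commutator_le.2 (fun _ ha _ hb =>
    T.mul_mem (T.mul_mem (T.mul_mem ha hb) (T.inv_mem ha)) (T.inv_mem hb))

/-- If `Q` is normal in the saturated system `F` and `E` is a saturated subsystem of `F` over the strongly closed subgroup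
`T`, then `T ∩ Q` is normal in `E`. -/
theorem isNormal_inf_of_subsystem (F : FusionSystem S) [Finite S] {p : ℕ} [Fact p.Prime] (hS : IsPGroup p S)
    {T : Subgroup Ω} (E : FusionSystem T) (hE : E.IsSaturated p) (hEF : E.IsSubsystemOf F)
    (hT : F.StronglyClosed T) {Q : Subgroup Ω} (hQ : F.IsNormal Q) : E.IsNormal (T ⊓ Q) := by
  have hTS : T ≤ S := hT.1
  have hfinT : Finite T := finite_of_le hTS
  have hTp : IsPGroup p T := hS.to_le hTS
  have hfinQ : Finite Q := finite_of_le hQ.1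
  have hnilQ : Group.IsNilpotent Q := (hS.to_le hQ.1).isNilpotent
  have hscF : ∀ k, F.StronglyClosed (T ⊓ zSer Q k) := fun k =>
    stronglyClosed_inf hT (Cfsg.Agent.S5088.stronglyClosed_of_isNormal F (zSer_isNormal F hQ k))
  have hscE : ∀ k, E.StronglyClosed (T ⊓ zSer Q k) := fun k =>
    stronglyClosed_of_subsystem hEF (hscF k) inf_le_left
  have hRsc : E.StronglyClosed (T ⊓ Q) :=
    stronglyClosed_of_subsystem hEF
      (stronglyClosed_inf hT (Cfsg.Agent.S5088.stronglyClosed_of_isNormal F hQ)) inf_le_left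
  refine isNormal_of_chain E hTp hE (T ⊓ Q) hRsc (Group.nilpotencyClass Q) (fun k => T ⊓ zSer Q k) ?_ ?_ ?_ ?_ ?_
  · show T ⊓ zSer Q 0 = ⊥
    rw [zSer_zero, inf_bot_eq]
  · intro k hk
    show T ⊓ zSer Q k = T ⊓ Q
    rw [zSer_eq Q hk]
  · intro a b hab
    exact inf_le_inf_left _ (zSer_mono Q hab)
  · intro k _
    show ⁅T ⊓ zSer Q (k + 1), T ⊓ Q⁆ ≤ T ⊓ zSer Q k
    apply le_inf
    · exact (Subgroup.commutator_mono inf_le_left inf_le_left).trans (commutator_self_le T)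
    · exact (Subgroup.commutator_mono inf_le_right inf_le_right).trans (zSer_comm Q k)
  · intro k _
    exact Cfsg.Agent.S5088.weaklyClosed_of_stronglyClosed E (hscE k)

/-- Two elements that stabilize the chain `Q ≥ R ≥ 1` (with `R` normalized by `Q`) induce commuting automorphisms of `Q`. -/
theorem conj_comm_of_stab {Q R : Subgroup Ω} {x y : Ω}
    (hRn : ∀ q ∈ Q, ∀ r ∈ R, q * r * q⁻¹ ∈ R)
    (hx : ∀ q ∈ Q, q⁻¹ * (x * q * x⁻¹) ∈ R) (hy : ∀ q ∈ Q, q⁻¹ * (y * q * y⁻¹) ∈ R)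
    (hxR : ∀ r ∈ R, x * r * x⁻¹ = r) (hyR : ∀ r ∈ R, y * r * y⁻¹ = r) :
    ∀ q ∈ Q, (x * y) * q * (x * y)⁻¹ = (y * x) * q * (y * x)⁻¹ := by
  intro q hq
  -- `a = q⁻¹ q^x`, `b = q⁻¹ q^y`
  have haR := hx q hq
  have hbR := hy q hq
  set a := q⁻¹ * (x * q * x⁻¹) with ha
  set b := q⁻¹ * (y * q * y⁻¹) with hb
  have hxq : x * q * x⁻¹ = q * a := by rw [ha]; group
  have hyq : y * q * y⁻¹ = q * b := by rw [hb]; group
  -- `a` centralizes `R`, `b` centralizes `R`
  have hcent : ∀ (w : Ω) (c : Ω), (∀ r ∈ R, w * r * w⁻¹ = r) → w * q * w⁻¹ = q * c → ∀ r ∈ R, c * r * c⁻¹ = r := by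
    intro w c hwR hwq r hr
    have h1 := hwR (q * r * q⁻¹) (hRn q hq r hr)
    have h2 : w * (q * r * q⁻¹) * w⁻¹ = (w * q * w⁻¹) * (w * r * w⁻¹) * (w * q * w⁻¹)⁻¹ := by group
    rw [h2, hwq, hwR r hr] at h1
    -- h1 : q * c * r * (q * c)⁻¹ = q * r * q⁻¹
    calc c * r * c⁻¹ = q⁻¹ * (q * c * r * (q * c)⁻¹) * q := by group
      _ = q⁻¹ * (q * r * q⁻¹) * q := by rw [h1]
      _ = r := by group
  have hab : a * b = b * a := by
    have h1 := hcent x a hxR hxq b hbR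
    calc a * b = (a * b * a⁻¹) * a := by group
      _ = b * a := by rw [h1]
  have h1 : (x * y) * q * (x * y)⁻¹ = q * a * b := by
    calc (x * y) * q * (x * y)⁻¹ = x * (y * q * y⁻¹) * x⁻¹ := by group
      _ = x * (q * b) * x⁻¹ := by rw [hyq]
      _ = (x * q * x⁻¹) * (x * b * x⁻¹) := by group
      _ = q * a * b := by rw [hxq, hxR b hbR]
  have h2 : (y * x) * q * (y * x)⁻¹ = q * b * a := by
    calc (y * x) * q * (y * x)⁻¹ = y * (x * q * x⁻¹) * y⁻¹ := by group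
      _ = y * (q * a) * y⁻¹ := by rw [hxq]
      _ = (y * q * y⁻¹) * (y * a * y⁻¹) := by group
      _ = q * b * a := by rw [hyq, hyR a haR]
  rw [h1, h2, mul_assoc, hab, ← mul_assoc]

/-- The commutator of two elements inducing commuting automorphisms of `Q` centralizes `Q`. -/
theorem commutator_mem_centralizer_of_conj_comm {Q : Subgroup Ω} {x y : Ω}
    (hQx : ∀ q ∈ Q, x⁻¹ * q * x⁻¹⁻¹ ∈ Q) (hQy : ∀ q ∈ Q, y⁻¹ * q * y⁻¹⁻¹ ∈ Q)
    (h : ∀ q ∈ Q, (x * y) * q * (x * y)⁻¹ = (y * x) * q * (y * x)⁻¹) :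
    ⁅x, y⁆ ∈ Subgroup.centralizer (Q : Set Ω) := by
  rw [Subgroup.mem_centralizer_iff]
  intro q hq
  have hq' : (y * x)⁻¹ * q * (y * x) ∈ Q := by
    have h1 := hQx _ (hQy q hq)
    have e : (y * x)⁻¹ * q * (y * x) = x⁻¹ * (y⁻¹ * q * y⁻¹⁻¹) * x⁻¹⁻¹ := by group
    rw [e]
    exact h1
  have h1 := h _ hq'
  have h2 : (y * x) * ((y * x)⁻¹ * q * (y * x)) * (y * x)⁻¹ = q := by group
  rw [h2] at h1
  -- h1 : (x*y) * q' * (x*y)⁻¹ = q
  rw [commutatorElement_def]
  calc q * (x * y * x⁻¹ * y⁻¹)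
      = ((x * y) * ((y * x)⁻¹ * q * (y * x)) * (x * y)⁻¹) * (x * y * x⁻¹ * y⁻¹) := by rw [h1]
    _ = x * y * x⁻¹ * y⁻¹ * q := by group

theorem zSer_comm' (Q : Subgroup Ω) (k : ℕ) : ⁅zSer Q k, Q⁆ ≤ zSer Q (k - 1) := by
  cases k with
  | zero =>
    rw [zSer_zero, Subgroup.commutator_bot_left]
  | succ k => exact zSer_comm Q k

/-- `[A, B] ≤ A ∩ B` when `A` and `B` normalize each other. -/
theorem commutator_le_inf_of_normalize {A B : Subgroup Ω} (hA : ∀ b ∈ B, ∀ a ∈ A, b * a * b⁻¹ ∈ A)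
    (hB : ∀ a ∈ A, ∀ b ∈ B, a * b * a⁻¹ ∈ B) : ⁅A, B⁆ ≤ A ⊓ B := by
  rw [Subgroup.commutator_le]
  intro a ha b hb
  rw [commutatorElement_def]
  constructor
  · have e : a * b * a⁻¹ * b⁻¹ = a * (b * a⁻¹ * b⁻¹) := by group
    rw [e]
    exact A.mul_mem ha (hA b hb _ (A.inv_mem ha))
  · exact B.mul_mem (hB a ha b hb) (B.inv_mem hb)

/-- The terms of the chain used for `C_T(T ∩ Q) Q`. -/
def dSer (T Q : Subgroup Ω) (k : ℕ) : Subgroup Ω := zSer Q (k - 1) ⊔ (T ⊓ zSer Q k)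

theorem dSer_le (T Q : Subgroup Ω) (k : ℕ) : dSer T Q k ≤ Q :=
  sup_le (zSer_le Q _) (inf_le_right.trans (zSer_le Q _))

theorem dSer_mono (T Q : Subgroup Ω) : Monotone (dSer T Q) := fun _ _ hab =>
  sup_le_sup (zSer_mono Q (Nat.sub_le_sub_right hab 1)) (inf_le_inf_left _ (zSer_mono Q hab))

theorem dSer_zero (T Q : Subgroup Ω) : dSer T Q 0 = ⊥ := by
  unfold dSer
  rw [Nat.zero_sub, zSer_zero, inf_bot_eq, sup_bot_eq]

theorem dSer_eq (T Q : Subgroup Ω) [Group.IsNilpotent Q] {k : ℕ} (hk : Group.nilpotencyClass Q + 1 ≤ k) :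
    dSer T Q k = Q := by
  unfold dSer
  rw [zSer_eq Q (k := k - 1) (by omega), zSer_eq Q (k := k) (by omega)]
  exact sup_eq_left.2 inf_le_right

theorem dSer_stronglyClosed (F : FusionSystem S) {T Q : Subgroup Ω} (hT : F.StronglyClosed T) (hQ : F.IsNormal Q)
    (k : ℕ) : F.StronglyClosed (dSer T Q k) :=
  stronglyClosed_sup_of_isNormal (zSer_isNormal F hQ (k - 1))
    (stronglyClosed_inf hT (Cfsg.Agent.S5088.stronglyClosed_of_isNormal F (zSer_isNormal F hQ k)))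

/-- Let `Q` be the largest subgroup normal in the saturated system `F`, and suppose `C_S(Q) ≤ Q`. For `T` strongly closed in `F`,
the centralizer in `T` of `T ∩ Q` is contained in `T ∩ Q`. -/
theorem centralizerIn_inf_le (F : FusionSystem S) [Finite S] {p : ℕ} [Fact p.Prime] (hS : IsPGroup p S)
    (hF : F.IsSaturated p) {T : Subgroup Ω} (hT : F.StronglyClosed T) {Q : Subgroup Ω} (hQ : F.IsNormal Q)
    (hQmax : ∀ M : Subgroup Ω, F.IsNormal M → M ≤ Q) (hQc : centralizerIn S Q ≤ Q) :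
    centralizerIn T (T ⊓ Q) ≤ T ⊓ Q := by
  have hTS : T ≤ S := hT.1
  have hQS : Q ≤ S := hQ.1
  have hfinQ : Finite Q := finite_of_le hQS
  have hnilQ : Group.IsNilpotent Q := (hS.to_le hQS).isNilpotent
  have hQsc : F.StronglyClosed Q := Cfsg.Agent.S5088.stronglyClosed_of_isNormal F hQ
  have hTn : ∀ g ∈ S, ∀ x ∈ T, g * x * g⁻¹ ∈ T := fun g hg x hx => StronglyClosed_conj_mem hT hg hx
  have hQn : ∀ g ∈ S, ∀ x ∈ Q, g * x * g⁻¹ ∈ Q := fun g hg x hx => StronglyClosed_conj_mem hQsc hg hx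
  have hXS : centralizerIn T (T ⊓ Q) ≤ S := inf_le_left.trans hTS
  have hXT : centralizerIn T (T ⊓ Q) ≤ T := inf_le_left
  have hXR : ∀ x ∈ centralizerIn T (T ⊓ Q), ∀ r ∈ T ⊓ Q, x * r * x⁻¹ = r := by
    intro x hx r hr
    have h1 := Subgroup.mem_centralizer_iff.1 hx.2 r hr
    rw [← h1]
    group
  -- `M = C_T(T ∩ Q) Q` is strongly closed
  have hMsc : F.StronglyClosed (centralizerIn T (T ⊓ Q) ⊔ Q) := by
    refine ⟨sup_le hXS hQS, fun P hP φ hφ y => ?_⟩
    have hy' : (y : Ω) ∈ Q ⊔ centralizerIn T (T ⊓ Q) := by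
      rw [sup_comm]
      exact hP y.2
    obtain ⟨q, hq, x, hx, hy⟩ := exists_mul_of_mem_sup (fun k hk h hh => hQn k (hXS hk) h hh) hy'
    obtain ⟨ψ, hψ, hψP, hψQ⟩ := hQ.2 P φ hφ
    rw [map_subgroupOf_eq_iff] at hψQ
    have hqPQ : q ∈ P ⊔ Q := (le_sup_right : Q ≤ P ⊔ Q) hq
    have hxPQ : x ∈ P ⊔ Q := by
      have : x = q⁻¹ * (y : Ω) := by rw [hy]; group
      rw [this]
      exact Subgroup.mul_mem _ (Subgroup.inv_mem _ hqPQ) ((le_sup_left : P ≤ P ⊔ Q) y.2)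
    have h1 : Subgroup.inclusion (le_sup_left : P ≤ P ⊔ Q) y = ⟨q, hqPQ⟩ * ⟨x, hxPQ⟩ := Subtype.ext hy
    rw [← hψP, h1, map_mul]
    refine Subgroup.mul_mem _ ((le_sup_right : Q ≤ _ ⊔ Q) (hψQ.1 ⟨q, hqPQ⟩ hq)) ((le_sup_left : _ ≤ _ ⊔ Q) ?_)
    refine ⟨StronglyClosed_map_mem hT hψ (x := ⟨x, hxPQ⟩) (hXT hx), ?_⟩
    show ψ ⟨x, hxPQ⟩ ∈ Subgroup.centralizer ((T ⊓ Q : Subgroup Ω) : Set Ω)
    rw [Subgroup.mem_centralizer_iff]
    rintro r ⟨hrT, hrQ⟩
    obtain ⟨r', hr'Q, hr'⟩ := hψQ.2 r hrQ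
    have hr'T : (r' : Ω) ∈ T := StronglyClosed_mem_of_map_mem hT hψ (by rw [hr']; exact hrT)
    have hcomm : r' * ⟨x, hxPQ⟩ = ⟨x, hxPQ⟩ * r' :=
      Subtype.ext (Subgroup.mem_centralizer_iff.1 hx.2 _ ⟨hr'T, hr'Q⟩)
    rw [← hr', ← map_mul, ← map_mul, hcomm]
  -- the chain
  have hDsc : ∀ k, F.StronglyClosed (dSer T Q k) := dSer_stronglyClosed F hT hQ
  have hDn : ∀ k, ∀ s ∈ S, ∀ n ∈ dSer T Q k, s * n * s⁻¹ ∈ dSer T Q k :=
    fun k s hs n hn => StronglyClosed_conj_mem (hDsc k) hs hn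
  have hZS : ∀ k, zSer Q k ≤ S := fun k => (zSer_le Q k).trans hQS
  have hZn : ∀ k, ∀ s ∈ S, ∀ n ∈ zSer Q k, s * n * s⁻¹ ∈ zSer Q k := fun k s hs n hn =>
    StronglyClosed_conj_mem (Cfsg.Agent.S5088.stronglyClosed_of_isNormal F (zSer_isNormal F hQ k)) hs hn
  have hMn : F.IsNormal (centralizerIn T (T ⊓ Q) ⊔ Q) := by
    refine isNormal_of_chain F hS hF _ hMsc (Group.nilpotencyClass Q + 2)
      (fun k => if k ≤ Group.nilpotencyClass Q + 1 then dSer T Q k else centralizerIn T (T ⊓ Q) ⊔ Q) ?_ ?_ ?_ ?_ ?_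
    · show (if 0 ≤ Group.nilpotencyClass Q + 1 then dSer T Q 0 else centralizerIn T (T ⊓ Q) ⊔ Q) = ⊥
      rw [if_pos (Nat.zero_le _), dSer_zero]
    · intro k hk
      show (if k ≤ Group.nilpotencyClass Q + 1 then dSer T Q k else centralizerIn T (T ⊓ Q) ⊔ Q) = _
      rw [if_neg (by omega)]
    · intro a b hab
      show (if a ≤ Group.nilpotencyClass Q + 1 then dSer T Q a else centralizerIn T (T ⊓ Q) ⊔ Q) ≤
        (if b ≤ Group.nilpotencyClass Q + 1 then dSer T Q b else centralizerIn T (T ⊓ Q) ⊔ Q)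
      by_cases hb : b ≤ Group.nilpotencyClass Q + 1
      · rw [if_pos hb, if_pos (hab.trans hb)]
        exact dSer_mono T Q hab
      · rw [if_neg hb]
        by_cases ha : a ≤ Group.nilpotencyClass Q + 1
        · rw [if_pos ha]
          exact (dSer_le T Q a).trans le_sup_right
        · rw [if_neg ha]
    · intro k hk
      show ⁅(if k + 1 ≤ Group.nilpotencyClass Q + 1 then dSer T Q (k + 1) else centralizerIn T (T ⊓ Q) ⊔ Q),
        centralizerIn T (T ⊓ Q) ⊔ Q⁆ ≤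
        (if k ≤ Group.nilpotencyClass Q + 1 then dSer T Q k else centralizerIn T (T ⊓ Q) ⊔ Q)
      rw [if_pos (by omega : k ≤ Group.nilpotencyClass Q + 1)]
      by_cases hk1 : k + 1 ≤ Group.nilpotencyClass Q + 1
      · rw [if_pos hk1]
        show ⁅zSer Q (k + 1 - 1) ⊔ (T ⊓ zSer Q (k + 1)), centralizerIn T (T ⊓ Q) ⊔ Q⁆ ≤ dSer T Q k
        rw [Nat.add_sub_cancel]
        refine commutator_sup_sup_le (S := S) (hDn k) (hZS k) (inf_le_left.trans hTS) hXS hQS ?_ ?_ ?_ ?_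
        · -- `[Z_k, X] ≤ T ∩ Z_k`
          refine (commutator_le_inf_of_normalize (fun b hb a ha => hZn k b (hXS hb) a ha)
            (fun a ha b hb => ?_)).trans ?_
          · refine ⟨hTn a (hZS k ha) b (hXT hb), ?_⟩
            show a * b * a⁻¹ ∈ Subgroup.centralizer ((T ⊓ Q : Subgroup Ω) : Set Ω)
            rw [Subgroup.mem_centralizer_iff]
            intro r hr
            have hr' : a⁻¹ * r * a⁻¹⁻¹ ∈ T ⊓ Q :=
              ⟨hTn _ (S.inv_mem (hZS k ha)) r hr.1, hQn _ (S.inv_mem (hZS k ha)) r hr.2⟩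
            have h2 := Subgroup.mem_centralizer_iff.1 hb.2 _ hr'
            calc r * (a * b * a⁻¹) = a * ((a⁻¹ * r * a⁻¹⁻¹) * b) * a⁻¹ := by group
              _ = a * (b * (a⁻¹ * r * a⁻¹⁻¹)) * a⁻¹ := by rw [h2]
              _ = a * b * a⁻¹ * r := by group
          · intro g hg
            exact (le_sup_right : T ⊓ zSer Q k ≤ dSer T Q k) ⟨hXT hg.2, hg.1⟩
        · exact (zSer_comm' Q k).trans le_sup_left
        · -- `[T ∩ Z_{k+1}, X] = 1`
          rw [Subgroup.commutator_le]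
          intro b hb x hx
          have hbR : b⁻¹ ∈ T ⊓ Q := ⟨T.inv_mem hb.1, Q.inv_mem (zSer_le Q _ hb.2)⟩
          have h1 := hXR x hx _ hbR
          have e : ⁅b, x⁆ = b * (x * b⁻¹ * x⁻¹) := by
            rw [commutatorElement_def]
            group
          rw [e, h1, mul_inv_cancel]
          exact Subgroup.one_mem _
        · -- `[T ∩ Z_{k+1}, Q] ≤ T ∩ Z_k`
          refine le_trans (le_inf ?_ ?_) (le_sup_right : T ⊓ zSer Q k ≤ dSer T Q k)
          · rw [Subgroup.commutator_le]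
            intro b hb q hq
            have e : ⁅b, q⁆ = b * (q * b⁻¹ * q⁻¹) := by
              rw [commutatorElement_def]
              group
            rw [e]
            exact T.mul_mem hb.1 (hTn q (hQS hq) _ (T.inv_mem hb.1))
          · exact (Subgroup.commutator_mono inf_le_right le_rfl).trans (zSer_comm Q k)
      · rw [if_neg hk1]
        have hk2 : k = Group.nilpotencyClass Q + 1 := by omega
        rw [hk2, dSer_eq T Q le_rfl]
        refine commutator_sup_sup_le (S := S) hQn hXS hQS hXS hQS ?_ ?_ ?_ (commutator_self_le Q)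
        · -- `[X, X] ≤ Q`
          rw [Subgroup.commutator_le]
          intro x hx y hy
          apply hQc
          refine ⟨?_, ?_⟩
          · rw [commutatorElement_def]
            exact S.mul_mem (S.mul_mem (S.mul_mem (hXS hx) (hXS hy)) (S.inv_mem (hXS hx))) (S.inv_mem (hXS hy))
          · have hstab : ∀ w ∈ centralizerIn T (T ⊓ Q), ∀ q ∈ Q, q⁻¹ * (w * q * w⁻¹) ∈ T ⊓ Q := by
              intro w hw q hq
              refine ⟨?_, Q.mul_mem (Q.inv_mem hq) (hQn w (hXS hw) q hq)⟩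
              have e : q⁻¹ * (w * q * w⁻¹) = (q⁻¹ * w * q⁻¹⁻¹) * w⁻¹ := by group
              rw [e]
              exact T.mul_mem (hTn _ (S.inv_mem (hQS hq)) w (hXT hw)) (T.inv_mem (hXT hw))
            refine commutator_mem_centralizer_of_conj_comm (fun q hq => hQn _ (S.inv_mem (hXS hx)) q hq)
              (fun q hq => hQn _ (S.inv_mem (hXS hy)) q hq) ?_
            exact conj_comm_of_stab (R := T ⊓ Q)
              (fun q hq r hr => ⟨hTn q (hQS hq) r hr.1, hQn q (hQS hq) r hr.2⟩)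
              (hstab x hx) (hstab y hy) (hXR x hx) (hXR y hy)
        · rw [Subgroup.commutator_le]
          intro x hx q hq
          rw [commutatorElement_def]
          exact Q.mul_mem (hQn x (hXS hx) q hq) (Q.inv_mem hq)
        · rw [Subgroup.commutator_le]
          intro q hq x hx
          have e : ⁅q, x⁆ = q * (x * q⁻¹ * x⁻¹) := by
            rw [commutatorElement_def]
            group
          rw [e]
          exact Q.mul_mem hq (hQn x (hXS hx) _ (Q.inv_mem hq))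
    · intro k hk
      show F.WeaklyClosed (if k ≤ Group.nilpotencyClass Q + 1 then dSer T Q k else centralizerIn T (T ⊓ Q) ⊔ Q)
      rw [if_pos (by omega)]
      exact Cfsg.Agent.S5088.weaklyClosed_of_stronglyClosed F (hDsc k)
  have hle := hQmax _ hMn
  intro x hx
  exact ⟨hXT hx, hle ((le_sup_left : _ ≤ _ ⊔ Q) hx)⟩

/-- **Subsystems of constrained systems.** A saturated subsystem, over a strongly closed subgroup, of a constrained fusion system
is constrained. -/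
theorem isConstrained_of_subsystem (F : FusionSystem S) [Finite S] {p : ℕ} [Fact p.Prime] (hS : IsPGroup p S)
    (hF : F.IsConstrained p) {T : Subgroup Ω} (E : FusionSystem T) (hE : E.IsSaturated p)
    (hEF : E.IsSubsystemOf F) (hT : F.StronglyClosed T) : E.IsConstrained p := by
  obtain ⟨hFs, Q₀, hQ₀n, hQ₀c⟩ := hF
  have hQ : F.IsNormal F.core := Cfsg.Agent.Lib.Helper85.isNormal_core F
  have hQmax : ∀ M : Subgroup Ω, F.IsNormal M → M ≤ F.core :=
    fun M hM => Cfsg.Agent.Lib.Helper85.le_core_of_isNormal F hM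
  have hQ₀Q : Q₀ ≤ F.core := hQmax _ hQ₀n
  have hQc : centralizerIn S F.core ≤ F.core := by
    intro g hg
    apply hQ₀Q
    apply hQ₀c.2 Q₀ (isConj_refl F hQ₀c.1)
    exact ⟨hg.1, Subgroup.centralizer_le (SetLike.coe_subset_coe.2 hQ₀Q) hg.2⟩
  have hfinT : Finite T := finite_of_le hT.1
  have hRn : E.IsNormal (T ⊓ F.core) := isNormal_inf_of_subsystem F hS E hE hEF hT hQ
  refine ⟨hE, T ⊓ F.core, hRn, inf_le_left, fun R' hR' => ?_⟩
  have hwc := Cfsg.Agent.S5088.weaklyClosed_of_stronglyClosed E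
    (Cfsg.Agent.S5088.stronglyClosed_of_isNormal E hRn)
  obtain ⟨φ, hφ, hr⟩ := hR'
  have hR'eq : R' = T ⊓ F.core := by
    rw [← hr]
    exact hwc.2 φ hφ
  rw [hR'eq]
  exact centralizerIn_inf_le F hS hFs hT hQ hQmax hQc

/-- A subnormal subsystem of a constrained fusion system is constrained. -/
theorem isConstrained_of_isSubnormalIn {T : Subgroup Ω} {E : FusionSystem T} {S : Subgroup Ω} {F : FusionSystem S}
    {p : ℕ} (h : E.IsSubnormalIn F p) :
    ∀ [Finite S] [Fact p.Prime], IsPGroup p S → F.IsConstrained p → E.IsConstrained p := by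
  induction h with
  | refl F p =>
    intro _ _ _ hF
    exact hF
  | step hED hDF ih =>
    intro _ _ hS hF
    have hU := hDF.1.2.2.2.1
    have hD := isConstrained_of_subsystem _ hS hF _ hDF.1.1 hDF.1.2.2.1 hU
    have := finite_of_le hU.1
    exact ih (hS.to_le hU.1) hD

end Cfsg.Agent.Lib.Helper87
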