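/-
helper87: finite `p`-groups `G` with derived subgroup of order `p`, central, containing all `p`-th powers
(the "generalized extraspecial" groups), having an element `z'` whose centralizer is abelian of exponent `p`
and an element `v` of order `p` outside that centralizer: then `G = E × A` with `E = ⟨v, z'⟩` of order `p ^ 3`
and `A` central of exponent `p`.
All declarations live in `Cfsg.Agent.Lib.Helper87`.
-/
import Cfsg.Agent.Lib.Helper86.P4Three
import Cfsg.Agent.Lib.Helper36.DihedralEight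
import Cfsg.Agent.Lib.Helper87.MetaOmega
import Cfsg.Agent.Lib.Helper87.FusionNormal

set_option autoImplicit false

namespace Cfsg.Agent.Lib.Helper87

open Cfsg
open scoped commutatorElement

section GenExtra

variable {G : Type*} [Group G] {p : ℕ} [hp : Fact p.Prime]

/-- In a subgroup of prime order every element is a power of any nontrivial element. -/
theorem exists_pow_eq_of_card_prime (N : Subgroup G) (hN : Nat.card N = p) {c x : G} (hc : c ∈ N) (hc1 : c ≠ 1)
    (hx : x ∈ N) : ∃ k : ℕ, c ^ k = x := by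
  have h := mem_powers_of_prime_card (G := N) hN (g := ⟨c, hc⟩) (g' := ⟨x, hx⟩)
    (fun h => hc1 (congrArg Subtype.val h))
  obtain ⟨k, hk⟩ := h
  exact ⟨k, congrArg Subtype.val hk⟩

/-- A subgroup of a subgroup of prime order is trivial or everything. -/
theorem eq_bot_or_eq_of_le_of_card_prime {K X : Subgroup G} (hX : Nat.card X = p) (hK : K ≤ X) :
    K = ⊥ ∨ K = X := by
  have hXfin : Finite X := Nat.finite_of_card_ne_zero (hX ▸ hp.out.ne_zero)
  have h1 : Nat.card K ∣ p := hX ▸ Subgroup.card_dvd_of_le hK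
  rcases (Nat.dvd_prime hp.out).mp h1 with h | h
  · exact Or.inl (Subgroup.card_eq_one.mp h)
  · exact Or.inr (Subgroup.eq_of_le_of_card_ge hK (by rw [h, hX]))

/-- A subgroup of prime order meets a subgroup not containing a given element of it trivially. -/
theorem inf_eq_bot_of_card_prime {X L : Subgroup G} (hX : Nat.card X = p) {x : G} (hx : x ∈ X)
    (hxL : x ∉ L) : X ⊓ L = ⊥ := by
  rcases eq_bot_or_eq_of_le_of_card_prime hX (inf_le_left : X ⊓ L ≤ X) with h | h
  · exact h
  · exfalso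
    apply hxL
    have : x ∈ X ⊓ L := by rw [h]; exact hx
    exact this.2

/-- The cyclic group generated by an element of order `p` has order `p`. -/
theorem card_zpowers_of_pow_eq_one {x : G} (hxp : x ^ p = 1) (hx1 : x ≠ 1) : Nat.card (Subgroup.zpowers x) = p := by
  rw [Nat.card_zpowers]
  exact orderOf_eq_prime hxp hx1

/-- The derived subgroup of a finite `p`-group is central if it has order `p`. -/
theorem commutator_le_center_of_card_eq [Finite G] (hG : IsPGroup p G) (hD : Nat.card (commutator G) = p) :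
    commutator G ≤ Subgroup.center G := by
  have hne : commutator G ≠ ⊥ := by
    intro h
    rw [h, Subgroup.card_bot] at hD
    exact hp.out.one_lt.ne hD
  obtain ⟨w, hwN, hw1, hwc⟩ := exists_central_mem_of_normal hG (commutator G) hne
  intro x hx
  obtain ⟨k, rfl⟩ := exists_pow_eq_of_card_prime (commutator G) hD hwN hw1 hx
  rw [Subgroup.mem_center_iff]
  intro g
  have h1 : Commute g w := hwc g
  exact (h1.pow_right k).eq


section Decomp

variable [Finite G]

omit [Finite G] in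
/-- The structure of a generalized extraspecial group with an abelian centralizer of exponent `p`: every element is a
product of a central element, a power of `z'` and a power of `v`. -/
theorem genExtra_decomp (hD : Nat.card (commutator G) = p) (hDZ : commutator G ≤ Subgroup.center G)
    (z' v : G) (hab : ∀ a b : G, a * z' = z' * a → b * z' = z' * b → a * b = b * a)
    (hv : v * z' ≠ z' * v) (g : G) :
    ∃ (g₂ : G) (m k : ℕ), g₂ ∈ Subgroup.center G ∧ g = g₂ * (z' ^ m)⁻¹ * v ^ k := by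
  have hcz : ∀ a b : G, ⁅a, b⁆ ∈ Subgroup.center G := fun a b =>
    hDZ (Subgroup.commutator_mem_commutator (Subgroup.mem_top a) (Subgroup.mem_top b))
  have hcD : ∀ a b : G, ⁅a, b⁆ ∈ commutator G := fun a b =>
    Subgroup.commutator_mem_commutator (Subgroup.mem_top a) (Subgroup.mem_top b)
  obtain ⟨φ, hφ⟩ : ∃ φ : G →* G, ∀ x, φ x = ⁅z', x⁆ := ⟨Helper86.commHom z' (hcz z'), fun x => rfl⟩
  obtain ⟨ψ, hψ⟩ : ∃ ψ : G →* G, ∀ x, ψ x = ⁅v, x⁆ := ⟨Helper86.commHom v (hcz v), fun x => rfl⟩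
  obtain ⟨c, hc⟩ : ∃ c : G, c = ⁅z', v⁆ := ⟨_, rfl⟩
  have hc1 : c ≠ 1 := by
    intro h
    rw [hc, commutatorElement_eq_one_iff_mul_comm] at h
    exact hv h.symm
  have hcD' : c ∈ commutator G := hc ▸ hcD z' v
  have hφv : φ v = c := by rw [hφ, hc]
  have hψz : ψ z' = c⁻¹ := by rw [hψ, hc, commutatorElement_inv]
  have hker : ∀ x, φ x = 1 ↔ x * z' = z' * x := by
    intro x
    rw [hφ, commutatorElement_eq_one_iff_mul_comm]
    exact eq_comm
  have hker' : ∀ x, ψ x = 1 ↔ x * v = v * x := by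
    intro x
    rw [hψ, commutatorElement_eq_one_iff_mul_comm]
    exact eq_comm
  -- first step
  have step1 : ∀ g : G, ∃ k : ℕ, (g * (v ^ k)⁻¹) * z' = z' * (g * (v ^ k)⁻¹) := by
    intro g
    obtain ⟨k, hk⟩ := exists_pow_eq_of_card_prime (commutator G) hD hcD' hc1 (hcD z' g)
    refine ⟨k, (hker _).1 ?_⟩
    rw [map_mul, map_inv, map_pow, hφv, hk, hφ, mul_inv_cancel]
  obtain ⟨k, hk⟩ := step1 g
  obtain ⟨g₁, hg₁⟩ : ∃ g₁ : G, g₁ = g * (v ^ k)⁻¹ := ⟨_, rfl⟩
  rw [← hg₁] at hk
  obtain ⟨m, hm⟩ := exists_pow_eq_of_card_prime (commutator G) hD hcD' hc1 (hcD v g₁)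
  have h2 : (g₁ * z' ^ m) * v = v * (g₁ * z' ^ m) := by
    apply (hker' _).1
    rw [map_mul, map_pow, hψz, hψ, ← hm, inv_pow, mul_inv_cancel]
  have h3 : (g₁ * z' ^ m) * z' = z' * (g₁ * z' ^ m) := by
    rw [mul_assoc, ← pow_succ, pow_succ', ← mul_assoc, hk, mul_assoc]
  refine ⟨g₁ * z' ^ m, m, k, ?_, ?_⟩
  · rw [Subgroup.mem_center_iff]
    intro h
    obtain ⟨k', hk'⟩ := step1 h
    obtain ⟨a, ha⟩ : ∃ a : G, a = h * (v ^ k')⁻¹ := ⟨_, rfl⟩
    rw [← ha] at hk'
    have h4 : h = a * v ^ k' := by rw [ha]; group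
    have h5 : a * (g₁ * z' ^ m) = (g₁ * z' ^ m) * a := hab _ _ hk' h3
    have h6 : Commute (g₁ * z' ^ m) (v ^ k') := Commute.pow_right h2 k'
    rw [h4]
    calc a * v ^ k' * (g₁ * z' ^ m) = a * ((g₁ * z' ^ m) * v ^ k') := by rw [mul_assoc, h6.eq]
      _ = (g₁ * z' ^ m) * (a * v ^ k') := by rw [← mul_assoc, h5, mul_assoc]
  · rw [hg₁]
    group


/-- **Direct decomposition.** `G = E × A` with `E = ⟨v, z'⟩` of order `p ^ 3` and `A` central of exponent `p`. -/
theorem exists_prod_decomp (hD : Nat.card (commutator G) = p) (hDZ : commutator G ≤ Subgroup.center G)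
    (z' v : G) (hab : ∀ a b : G, a * z' = z' * a → b * z' = z' * b → a * b = b * a)
    (hexp : ∀ a : G, a * z' = z' * a → a ^ p = 1) (hv : v * z' ≠ z' * v) (hvp : v ^ p = 1) :
    ∃ E A : Subgroup G, Nat.card E = p ^ 3 ∧ z' ∈ E ∧ v ∈ E ∧ (p ≠ 2 → ∀ e ∈ E, e ^ p = 1) ∧
      A ≤ Subgroup.center G ∧ (∀ a ∈ A, a ^ p = 1) ∧ Nonempty (G ≃* E × A) := by
  classical
  have hpp : p.Prime := hp.out
  have hcD : ∀ a b : G, ⁅a, b⁆ ∈ commutator G := fun a b =>
    Subgroup.commutator_mem_commutator (Subgroup.mem_top a) (Subgroup.mem_top b)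
  have hz'p : z' ^ p = 1 := hexp z' rfl
  have hz'1 : z' ≠ 1 := by
    rintro rfl
    exact hv (by rw [mul_one, one_mul])
  have hv1 : v ≠ 1 := by
    rintro rfl
    exact hv (by rw [mul_one, one_mul])
  obtain ⟨D, hDdef⟩ : ∃ D : Subgroup G, D = commutator G := ⟨_, rfl⟩
  have hDn : D.Normal := by rw [hDdef]; infer_instance
  have hDc : Nat.card D = p := by rw [hDdef]; exact hD
  have hDZ' : D ≤ Subgroup.center G := by rw [hDdef]; exact hDZ
  obtain ⟨Zz, hZzdef⟩ : ∃ Zz : Subgroup G, Zz = Subgroup.zpowers z' := ⟨_, rfl⟩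
  obtain ⟨Zv, hZvdef⟩ : ∃ Zv : Subgroup G, Zv = Subgroup.zpowers v := ⟨_, rfl⟩
  have hz'Zz : z' ∈ Zz := by rw [hZzdef]; exact Subgroup.mem_zpowers z'
  have hvZv : v ∈ Zv := by rw [hZvdef]; exact Subgroup.mem_zpowers v
  have hZz : Nat.card Zz = p := by rw [hZzdef]; exact card_zpowers_of_pow_eq_one hz'p hz'1
  have hZv : Nat.card Zv = p := by rw [hZvdef]; exact card_zpowers_of_pow_eq_one hvp hv1
  have hz'c : z' ∉ Subgroup.center G := fun h => hv (Subgroup.mem_center_iff.1 h v)
  have hz'D : z' ∉ D := fun h => hz'c (hDZ' h)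
  have hDZz : D ⊓ Zz = ⊥ := by
    rw [inf_comm]
    exact inf_eq_bot_of_card_prime hZz hz'Zz hz'D
  obtain ⟨Cz, hCzdef⟩ : ∃ Cz : Subgroup G, Cz = Subgroup.centralizer ({z'} : Set G) := ⟨_, rfl⟩
  have hCz : ∀ x, x ∈ Cz ↔ x * z' = z' * x := by
    intro x
    rw [hCzdef, Subgroup.mem_centralizer_singleton_iff]
  have hcenCz : Subgroup.center G ≤ Cz := fun x hx => (hCz x).2 (Subgroup.mem_center_iff.1 hx z').symm
  have hvCz : v ∉ Cz := fun h => hv ((hCz v).1 h)
  obtain ⟨W, hWdef⟩ : ∃ W : Subgroup G, W = Zz ⊔ D := ⟨_, rfl⟩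
  have hDW : D ≤ W := hWdef ▸ le_sup_right
  have hZzW : Zz ≤ W := hWdef ▸ le_sup_left
  have hWCz : W ≤ Cz := by
    rw [hWdef]
    refine sup_le ?_ (hDZ'.trans hcenCz)
    rw [hZzdef, Subgroup.zpowers_le]
    exact (hCz z').2 rfl
  have hWcard : Nat.card W = p * p := by
    have h1 : D.relIndex W = p := by
      rw [hWdef, Subgroup.relIndex_sup_right, ← Subgroup.inf_relIndex_right, hDZz, Subgroup.relIndex_bot_left, hZz]
    have h2 := Subgroup.relIndex_mul_relIndex (⊥ : Subgroup G) D W bot_le hDW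
    rw [Subgroup.relIndex_bot_left, Subgroup.relIndex_bot_left, hDc, h1] at h2
    exact h2.symm
  have hWn : W.Normal := by
    constructor
    intro w hw g
    have h1 : g * w * g⁻¹ = ⁅g, w⁆ * w := by rw [commutatorElement_def]; group
    rw [h1]
    exact W.mul_mem (hDW (hDdef ▸ hcD g w)) hw
  have hWZv : W ⊓ Zv = ⊥ := by
    rw [inf_comm]
    have h1 : Zv ⊓ Cz = ⊥ := inf_eq_bot_of_card_prime hZv hvZv hvCz
    exact le_bot_iff.1 (h1 ▸ inf_le_inf_left Zv hWCz)
  obtain ⟨E, hEdef⟩ : ∃ E : Subgroup G, E = Zv ⊔ W := ⟨_, rfl⟩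
  have hWE : W ≤ E := hEdef ▸ le_sup_right
  have hZvE : Zv ≤ E := hEdef ▸ le_sup_left
  have hEcard : Nat.card E = p ^ 3 := by
    have h1 : W.relIndex E = p := by
      rw [hEdef, Subgroup.relIndex_sup_right, ← Subgroup.inf_relIndex_right, hWZv, Subgroup.relIndex_bot_left, hZv]
    have h2 := Subgroup.relIndex_mul_relIndex (⊥ : Subgroup G) W E bot_le hWE
    rw [Subgroup.relIndex_bot_left, Subgroup.relIndex_bot_left, hWcard, h1] at h2
    rw [← h2]
    ring
  have hEexp : p ≠ 2 → ∀ e ∈ E, e ^ p = 1 := by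
    intro hp2
    let pw : G →* G :=
      { toFun := fun x => x ^ p
        map_one' := one_pow p
        map_mul' := Helper86.mul_pow_of_class_two hp2 hD hDZ }
    have hpw : ∀ x, pw x = x ^ p := fun x => rfl
    have hle : E ≤ pw.ker := by
      rw [hEdef, hWdef]
      refine sup_le ?_ (sup_le ?_ ?_)
      · rw [hZvdef, Subgroup.zpowers_le, MonoidHom.mem_ker, hpw]
        exact hvp
      · rw [hZzdef, Subgroup.zpowers_le, MonoidHom.mem_ker, hpw]
        exact hz'p
      · intro x hx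
        rw [MonoidHom.mem_ker, hpw]
        exact hexp x ((hCz x).1 (hcenCz (hDZ' hx)))
    intro e he
    have := hle he
    rwa [MonoidHom.mem_ker, hpw] at this
  -- the complement `A` of `D` in the centre
  obtain ⟨A, -, hAmax⟩ := Finite.exists_le_maximal (p := fun A : Subgroup G => A ≤ Subgroup.center G ∧ A ⊓ D = ⊥)
    (a := ⊥) ⟨bot_le, bot_inf_eq _⟩
  have hAcen : A ≤ Subgroup.center G := hAmax.prop.1
  have hAD : A ⊓ D = ⊥ := hAmax.prop.2
  have hcenexp : ∀ x ∈ Subgroup.center G, x ^ p = 1 := fun x hx => hexp x ((hCz x).1 (hcenCz hx))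
  have hsupAD : A ⊔ D = Subgroup.center G := by
    apply le_antisymm (sup_le hAcen hDZ')
    intro x hx
    by_contra hxAD
    have hx1 : x ≠ 1 := by
      rintro rfl
      exact hxAD (Subgroup.one_mem _)
    obtain ⟨X, hXdef⟩ : ∃ X : Subgroup G, X = Subgroup.zpowers x := ⟨_, rfl⟩
    have hxX : x ∈ X := by rw [hXdef]; exact Subgroup.mem_zpowers x
    have hXcard : Nat.card X = p := by rw [hXdef]; exact card_zpowers_of_pow_eq_one (hcenexp x hx) hx1
    have hXcen : X ≤ Subgroup.center G := by rw [hXdef, Subgroup.zpowers_le]; exact hx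
    have hXAD : X ⊓ (A ⊔ D) = ⊥ := inf_eq_bot_of_card_prime hXcard hxX hxAD
    have hB : (A ⊔ X) ⊓ D = ⊥ := by
      rw [eq_bot_iff]
      rintro y ⟨hyB, hyD⟩
      obtain ⟨a, ha, x', hx', rfl⟩ := exists_mul_of_mem_sup (H := A) (K := X) (fun k hk h hh => by
        have : k * h = h * k := (Subgroup.mem_center_iff.1 (hAcen hh) k)
        rw [this, mul_assoc, mul_inv_cancel, mul_one]
        exact hh) hyB
      have h1 : x' ∈ X ⊓ (A ⊔ D) := by
        refine ⟨hx', ?_⟩
        have : x' = a⁻¹ * (a * x') := by group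
        rw [this]
        exact Subgroup.mul_mem _ (Subgroup.mem_sup_left (A.inv_mem ha)) (Subgroup.mem_sup_right hyD)
      rw [hXAD, Subgroup.mem_bot] at h1
      rw [h1, mul_one] at hyD ⊢
      have h2 : a ∈ A ⊓ D := ⟨ha, hyD⟩
      rw [hAD] at h2
      exact h2
    have hBA : A ⊔ X ≤ A := hAmax.le_of_ge ⟨sup_le hAcen hXcen, hB⟩ le_sup_left
    exact hxAD (Subgroup.mem_sup_left (hBA (Subgroup.mem_sup_right hxX)))
  -- `E ∩ A = 1`
  have hEA : E ⊓ A = ⊥ := by
    rw [eq_bot_iff]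
    rintro x ⟨hxE, hxA⟩
    have hxcen : x ∈ Subgroup.center G := hAcen hxA
    rw [hEdef, sup_comm] at hxE
    obtain ⟨w, hw, y, hy, rfl⟩ := exists_mul_of_mem_sup (H := W) (K := Zv)
      (fun k _ h hh => hWn.conj_mem h hh k) hxE
    have h1 : y ∈ Zv ⊓ Cz := by
      refine ⟨hy, ?_⟩
      have : y = w⁻¹ * (w * y) := by group
      rw [this]
      exact Cz.mul_mem (Cz.inv_mem (hWCz hw)) (hcenCz hxcen)
    rw [inf_eq_bot_of_card_prime hZv hvZv hvCz, Subgroup.mem_bot] at h1
    rw [h1, mul_one] at hxcen hxA ⊢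
    rw [hWdef, sup_comm] at hw
    obtain ⟨d, hd, u, hu, rfl⟩ := exists_mul_of_mem_sup (H := D) (K := Zz)
      (fun k _ h hh => hDn.conj_mem h hh k) hw
    have h2 : u ∈ Zz ⊓ Subgroup.center G := by
      refine ⟨hu, ?_⟩
      have : u = d⁻¹ * (d * u) := by group
      rw [this]
      exact Subgroup.mul_mem _ (Subgroup.inv_mem _ (hDZ' hd)) hxcen
    rw [inf_eq_bot_of_card_prime hZz hz'Zz hz'c, Subgroup.mem_bot] at h2
    rw [h2, mul_one] at hxA ⊢
    have h3 : d ∈ A ⊓ D := ⟨hxA, hd⟩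
    rw [hAD] at h3
    exact h3
  -- `E A = G`
  have hEAtop : E ⊔ A = ⊤ := by
    rw [eq_top_iff]
    intro g _
    obtain ⟨g₂, m, k, hg₂, rfl⟩ := genExtra_decomp hD hDZ z' v hab hv g
    have hz'E : z' ∈ E := hWE (hZzW hz'Zz)
    have hvE : v ∈ E := hZvE hvZv
    have hg₂' : g₂ ∈ E ⊔ A := by
      rw [← hsupAD] at hg₂
      exact (sup_le le_sup_right ((hDW.trans hWE).trans le_sup_left)) hg₂
    exact Subgroup.mul_mem _ (Subgroup.mul_mem _ hg₂'
      (Subgroup.inv_mem _ (Subgroup.mem_sup_left (E.pow_mem hz'E m)))) (Subgroup.mem_sup_left (E.pow_mem hvE k))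
  refine ⟨E, A, hEcard, hWE (hZzW hz'Zz), hZvE hvZv, hEexp, hAcen, fun a ha => hcenexp a (hAcen ha), ?_⟩
  have hcomm : ∀ (e : E) (a : A), Commute (E.subtype e) (A.subtype a) :=
    fun e a => (Subgroup.mem_center_iff.1 (hAcen a.2) (e : G))
  obtain ⟨f, hf⟩ : ∃ f : E × A →* G, f = MonoidHom.noncommCoprod E.subtype A.subtype hcomm := ⟨_, rfl⟩
  have hinj : Function.Injective f := by
    rw [hf, MonoidHom.noncommCoprod_injective]
    refine ⟨Subtype.val_injective, Subtype.val_injective, ?_⟩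
    rw [Subgroup.range_subtype, Subgroup.range_subtype, disjoint_iff]
    exact hEA
  have hsurj : Function.Surjective f := by
    rw [← MonoidHom.range_eq_top, hf, MonoidHom.noncommCoprod_range, Subgroup.range_subtype,
      Subgroup.range_subtype]
    exact hEAtop
  exact ⟨(MulEquiv.ofBijective f ⟨hinj, hsurj⟩).symm⟩


/-- A central subgroup, as a commutative group. -/
@[reducible] def commGroupOfLeCenter (A : Subgroup G) (hA : A ≤ Subgroup.center G) : CommGroup A :=
  { (inferInstance : Group A) with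
    mul_comm := fun a b => Subtype.ext (Subgroup.mem_center_iff.1 (hA b.2) (a : G)) }

/-- The case `p = 2`: `G ≅ D₈ × A` with `A` elementary abelian. -/
theorem exists_dihedral_prod (hp2 : p = 2) (hD : Nat.card (commutator G) = p)
    (hDZ : commutator G ≤ Subgroup.center G) (hpow : ∀ x : G, x ^ p ∈ commutator G)
    (z' v : G) (hab : ∀ a b : G, a * z' = z' * a → b * z' = z' * b → a * b = b * a)
    (hexp : ∀ a : G, a * z' = z' * a → a ^ p = 1) (hv : v * z' ≠ z' * v) :
    ∃ (A : Type) (_ : CommGroup A), (∀ a : A, a ^ 2 = 1) ∧ Nonempty (G ≃* DihedralGroup 4 × A) := by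
  subst hp2
  have hcD : ∀ a b : G, ⁅a, b⁆ ∈ commutator G := fun a b =>
    Subgroup.commutator_mem_commutator (Subgroup.mem_top a) (Subgroup.mem_top b)
  have hz'p : z' ^ 2 = 1 := hexp z' rfl
  -- an involution not commuting with `z'`
  obtain ⟨v', hv', hv'p⟩ : ∃ v' : G, v' * z' ≠ z' * v' ∧ v' ^ 2 = 1 := by
    by_cases h : v ^ 2 = 1
    · exact ⟨v, hv, h⟩
    · refine ⟨v * z', ?_, ?_⟩
      · intro h1
        apply hv
        have h2 : v * z' * z' = z' * v * z' := by rw [h1, mul_assoc]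
        exact mul_right_cancel h2
      · obtain ⟨c, hc⟩ : ∃ c : G, c = ⁅z', v⁆ := ⟨_, rfl⟩
        have hc1 : c ≠ 1 := by
          intro h1
          rw [hc, commutatorElement_eq_one_iff_mul_comm] at h1
          exact hv h1.symm
        have hcD' : c ∈ commutator G := hc ▸ hcD z' v
        obtain ⟨k, hk⟩ := exists_pow_eq_of_card_prime (commutator G) hD hcD' hc1 (hpow v)
        have hc2 : c ^ 2 = 1 := by
          have h1 : (⟨c, hcD'⟩ : commutator G) ^ Nat.card (commutator G) = 1 := pow_card_eq_one'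
          rw [hD] at h1
          exact congrArg Subtype.val h1
        have hv2 : v ^ 2 = c := by
          rcases Nat.even_or_odd' k with ⟨j, hj | hj⟩
          · exfalso
            apply h
            rw [← hk, hj, pow_mul, hc2, one_pow]
          · rw [← hk, hj, pow_succ, pow_mul, hc2, one_pow, one_mul]
        have hcc : ∀ g : G, g * c = c * g := Subgroup.mem_center_iff.1 (hDZ hcD')
        have h3 : z' * v = c * v * z' := by rw [hc, commutatorElement_def]; group
        calc (v * z') ^ 2 = v * (z' * v) * z' := by rw [pow_two]; group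
          _ = v * (c * v * z') * z' := by rw [h3]
          _ = c * (v * v) * (z' * z') := by
              rw [← mul_assoc v (c * v), ← mul_assoc v c, hcc v]; group
          _ = 1 := by rw [← pow_two, ← pow_two, hv2, hz'p, mul_one, ← pow_two, hc2]
  obtain ⟨E, A, hEcard, hz'E, hv'E, -, hAcen, hAexp, ⟨e⟩⟩ :=
    exists_prod_decomp hD hDZ z' v' hab hexp hv' hv'p
  have hE8 : Nat.card E = 8 := by rw [hEcard]; norm_num
  obtain ⟨eD⟩ := Cfsg.Agent.Lib.Helper36.nonempty_mulEquiv_dihedral_four hE8 (⟨z', hz'E⟩ : E) ⟨v', hv'E⟩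
    (Subtype.ext (by rw [← pow_two]; exact hz'p))
    (fun h => hv' (congrArg Subtype.val h).symm)
  let _ : CommGroup A := commGroupOfLeCenter A hAcen
  have eA : Shrink.{0} A ≃* A := Shrink.mulEquiv
  refine ⟨Shrink.{0} A, inferInstance, ?_, ⟨e.trans (MulEquiv.prodCongr eD eA.symm)⟩⟩
  intro a
  apply eA.injective
  rw [map_pow, map_one]
  exact Subtype.ext (hAexp _ (eA a).2)

/-- The case `p` odd with an element of order `p` outside the centralizer: `G ≅ E × A` with `E` extraspecial of order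
`p ^ 3` and exponent `p` and `A` elementary abelian. -/
theorem exists_extraspecial_prod (hp2 : p ≠ 2) (hD : Nat.card (commutator G) = p)
    (hDZ : commutator G ≤ Subgroup.center G)
    (z' v : G) (hab : ∀ a b : G, a * z' = z' * a → b * z' = z' * b → a * b = b * a)
    (hexp : ∀ a : G, a * z' = z' * a → a ^ p = 1) (hv : v * z' ≠ z' * v) (hvp : v ^ p = 1) :
    ∃ (E : Type) (_ : Group E) (A : Type) (_ : CommGroup A), Cfsg.IsExtraspecial p E ∧ Nat.card E = p ^ 3 ∧
      Monoid.exponent E = p ∧ (∀ a : A, a ^ p = 1) ∧ Nonempty (G ≃* E × A) := by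
  obtain ⟨E, A, hEcard, hz'E, hvE, hEexp, hAcen, hAexp, ⟨e⟩⟩ :=
    exists_prod_decomp hD hDZ z' v hab hexp hv hvp
  let _ : CommGroup A := commGroupOfLeCenter A hAcen
  have eA : Shrink.{0} A ≃* A := Shrink.mulEquiv
  have eE : Shrink.{0} E ≃* E := Shrink.mulEquiv
  have hfin : Finite (Shrink.{0} E) := Finite.of_equiv E eE.symm.toEquiv
  have hcard : Nat.card (Shrink.{0} E) = p ^ 3 := by
    rw [Nat.card_congr eE.toEquiv, hEcard]
  have hnab : ∃ a b : Shrink.{0} E, a * b ≠ b * a := by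
    refine ⟨eE.symm ⟨v, hvE⟩, eE.symm ⟨z', hz'E⟩, fun h => hv ?_⟩
    rw [← map_mul, ← map_mul] at h
    exact congrArg Subtype.val (eE.symm.injective h)
  have hexpE : ∀ x : Shrink.{0} E, x ^ p = 1 := by
    intro x
    apply eE.injective
    rw [map_pow, map_one]
    exact Subtype.ext (hEexp hp2 _ (eE x).2)
  refine ⟨Shrink.{0} E, inferInstance, Shrink.{0} A, inferInstance,
    Cfsg.Agent.Lib.Helper86.extraspecial_of_nonabelian_p3 hcard hnab, hcard, ?_, ?_,
    ⟨e.trans (MulEquiv.prodCongr eE.symm eA.symm)⟩⟩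
  · have h1 : Monoid.exponent (Shrink.{0} E) ∣ p := Monoid.exponent_dvd_of_forall_pow_eq_one hexpE
    rcases (Nat.dvd_prime hp.out).mp h1 with h | h
    · exfalso
      rw [Monoid.exp_eq_one_iff] at h
      obtain ⟨a, b, hab'⟩ := hnab
      exact hab' (by rw [Subsingleton.elim a 1, one_mul, mul_one])
    · exact h
  · intro a
    apply eA.injective
    rw [map_pow, map_one]
    exact Subtype.ext (hAexp _ (eA a).2)

end Decomp

end GenExtra

end Cfsg.Agent.Lib.Helper87
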