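import Mathlib
import Cfsg.Agent.Lib.Helper22.GoldDefs
import Cfsg.Agent.Lib.Helper22.GoldPar

/-!
# GOLD-[QUOT] (helper22's project S1329): the quotient step `quot_step`
-/

set_option autoImplicit false

namespace Cfsg.Agent.Lib.Helper87.GoldQ

open Subgroup
open scoped commutatorElement
open Cfsg.Agent.Lib.Helper22.Gold

universe u
variable {G : Type u} [Group G]

/-- The image of `X` in `N_G(N) / N`. -/
def img (N X : Subgroup G) :
    Subgroup (normalizer (N : Set G) ⧸ N.subgroupOf (normalizer (N : Set G))) :=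
  (X.subgroupOf (normalizer (N : Set G))).map
    (QuotientGroup.mk' (N.subgroupOf (normalizer (N : Set G))))

/-- the projection `N_G(N) → N_G(N) / N`, applied to an element of `G` known to normalize `N`. -/
def pr (N : Subgroup G) (x : G) (hx : x ∈ normalizer (N : Set G)) :
    normalizer (N : Set G) ⧸ N.subgroupOf (normalizer (N : Set G)) :=
  QuotientGroup.mk' (N.subgroupOf (normalizer (N : Set G))) ⟨x, hx⟩

theorem pr_mul (N : Subgroup G) {x y : G} (hx : x ∈ normalizer (N : Set G))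
    (hy : y ∈ normalizer (N : Set G)) :
    pr N (x * y) (mul_mem hx hy) = pr N x hx * pr N y hy := by
  unfold pr
  rw [← map_mul]
  rfl

theorem pr_inv (N : Subgroup G) {x : G} (hx : x ∈ normalizer (N : Set G)) :
    pr N x⁻¹ (inv_mem hx) = (pr N x hx)⁻¹ := by
  unfold pr
  rw [← map_inv]
  rfl

theorem pr_eq_iff (N : Subgroup G) {x y : G} (hx : x ∈ normalizer (N : Set G))
    (hy : y ∈ normalizer (N : Set G)) : pr N x hx = pr N y hy ↔ x⁻¹ * y ∈ N := by
  unfold pr
  rw [QuotientGroup.mk'_apply, QuotientGroup.mk'_apply, QuotientGroup.eq, mem_subgroupOf]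
  simp

theorem mem_img {N X : Subgroup G} {z : normalizer (N : Set G) ⧸ N.subgroupOf (normalizer (N : Set G))} :
    z ∈ img N X ↔ ∃ (x : G) (hx : x ∈ normalizer (N : Set G)), x ∈ X ∧ pr N x hx = z := by
  unfold img pr
  rw [mem_map]
  constructor
  · rintro ⟨ξ, hξ, rfl⟩
    exact ⟨ξ.1, ξ.2, mem_subgroupOf.1 hξ, rfl⟩
  · rintro ⟨x, hx, hxX, rfl⟩
    exact ⟨⟨x, hx⟩, mem_subgroupOf.2 hxX, rfl⟩

theorem pr_mem_img {N X : Subgroup G} {x : G} (hx : x ∈ normalizer (N : Set G)) (hxX : x ∈ X) :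
    pr N x hx ∈ img N X := mem_img.2 ⟨x, hx, hxX, rfl⟩

theorem img_mono (N : Subgroup G) {X Z : Subgroup G} (h : X ≤ Z) : img N X ≤ img N Z := by
  intro z hz
  obtain ⟨x, hx, hxX, rfl⟩ := mem_img.1 hz
  exact pr_mem_img hx (h hxX)

theorem img_commutator (N : Subgroup G) {X Z : Subgroup G} (hX : X ≤ normalizer (N : Set G))
    (hZ : Z ≤ normalizer (N : Set G)) : ⁅img N X, img N Z⁆ = img N ⁅X, Z⁆ := by
  unfold img
  rw [← map_commutator]
  congr 1
  apply map_injective (normalizer (N : Set G)).subtype_injective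
  rw [map_commutator, map_subgroupOf_eq_of_le hX, map_subgroupOf_eq_of_le hZ,
    map_subgroupOf_eq_of_le]
  exact (commutator_mono hX hZ).trans (commutator_le_self _)

theorem card_img_dvd [Finite G] (N : Subgroup G) {X : Subgroup G}
    (hX : X ≤ normalizer (N : Set G)) : Nat.card (img N X) ∣ Nat.card X := by
  unfold img
  have := Subgroup.card_map_dvd (H := X.subgroupOf (normalizer (N : Set G)))
    (QuotientGroup.mk' (N.subgroupOf (normalizer (N : Set G))))
  rwa [Nat.card_congr (subgroupOfEquivOfLe hX).toEquiv] at this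

/-- an element of the `2`-group `A` lying in the odd group `Y` is trivial -/
theorem eq_one_of_mem_mem' [Finite G] {A Y : Subgroup G} (h : Hyp A Y) {g : G} (hA : g ∈ A)
    (hY : g ∈ Y) : g = 1 := by
  obtain ⟨k, hk⟩ := h.two ⟨g, hA⟩
  have h1 : g ^ 2 ^ k = 1 := by
    have := congrArg Subtype.val hk
    simpa using this
  have h2 : g ^ Nat.card Y = 1 := by
    have h0 : (⟨g, hY⟩ : Y) ^ Nat.card Y = 1 := pow_card_eq_one'
    have := congrArg Subtype.val h0
    rwa [SubgroupClass.coe_pow, Subgroup.coe_one] at this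
  have h3 : orderOf g ∣ 2 ^ k := orderOf_dvd_of_pow_eq_one h1
  have h4 : orderOf g ∣ Nat.card Y := orderOf_dvd_of_pow_eq_one h2
  have hcop : (2 ^ k).Coprime (Nat.card Y) :=
    Nat.Coprime.pow_left k (Nat.coprime_two_left.mpr h.odd)
  have h5 : orderOf g = 1 := Nat.eq_one_of_dvd_coprimes hcop h3 h4
  exact orderOf_eq_one_iff.1 h5

theorem hyp_img [Finite G] {A Y N : Subgroup G} (h : Hyp A Y)
    (hYN : Y ≤ normalizer (N : Set G)) :
    Hyp (img N A) (img N Y) where
  two := by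
    unfold img
    exact IsPGroup.map (h.two.comap_subtype) _
  comm := by
    intro x hx y hy
    obtain ⟨a, ha, haA, rfl⟩ := mem_img.1 hx
    obtain ⟨b, hb, hbA, rfl⟩ := mem_img.1 hy
    rw [← pr_mul, ← pr_mul]
    congr 1
    exact h.comm a haA b hbA
  odd := by
    obtain ⟨k, hk⟩ := card_img_dvd N hYN
    have := h.odd
    rw [hk] at this
    exact (Nat.odd_mul.mp this).1
  norm := by
    unfold img
    have h1 : A.subgroupOf (normalizer (N : Set G)) ≤
        normalizer ((Y.subgroupOf (normalizer (N : Set G)) : Subgroup _) : Set _) := by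
      rw [← subgroupOf_normalizer_eq hYN]
      intro α hα
      rw [mem_subgroupOf] at hα ⊢
      exact h.norm hα
    exact (map_mono h1).trans (le_normalizer_map _)

theorem card_img_lt [Finite G] {Y N : Subgroup G} (hN : N ≤ Y) (hN1 : N ≠ ⊥)
    (hYN : Y ≤ normalizer (N : Set G)) : Nat.card (img N Y) < Nat.card Y := by
  have hdvd := card_img_dvd N hYN
  have hpos : 0 < Nat.card Y := Nat.card_pos
  refine lt_of_le_of_ne (Nat.le_of_dvd hpos hdvd) ?_
  intro heq
  -- the surjection `Y.subgroupOf L → img Y` would be bijective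
  set L := normalizer (N : Set G) with hL
  set π := QuotientGroup.mk' (N.subgroupOf L) with hπ
  have hsurj := π.subgroupMap_surjective (Y.subgroupOf L)
  have hle : Nat.card (Y.subgroupOf L) ≤ Nat.card ((Y.subgroupOf L).map π) := by
    rw [Nat.card_congr (subgroupOfEquivOfLe hYN).toEquiv]
    exact heq.symm.le
  have hbij := hsurj.bijective_of_nat_card_le hle
  obtain ⟨n, hnN, hn1⟩ := (Subgroup.ne_bot_iff_exists_ne_one (H := N)).1 hN1 |>.imp
    (fun n hn => hn) |> fun ⟨n, hn⟩ => (⟨n.1, n.2, fun h => hn (Subtype.ext h)⟩ :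
      ∃ n : G, n ∈ N ∧ n ≠ 1)
  have hnL : n ∈ L := hYN (hN hnN)
  have h1 : π.subgroupMap (Y.subgroupOf L) ⟨⟨n, hnL⟩, mem_subgroupOf.2 (hN hnN)⟩ =
      π.subgroupMap (Y.subgroupOf L) 1 := by
    apply Subtype.ext
    rw [map_one]
    change π ⟨n, hnL⟩ = 1
    rw [hπ, QuotientGroup.mk'_apply, QuotientGroup.eq_one_iff, mem_subgroupOf]
    exact hnN
  have h2 := hbij.1 h1
  apply hn1
  have := congrArg (fun z : Y.subgroupOf L => ((z : L) : G)) h2
  simpa using this

theorem solvable_img [Finite G] {Y N : Subgroup G} (hs : Group.IsSolvable Y)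
    (hYN : Y ≤ normalizer (N : Set G)) : Group.IsSolvable (img N Y) := by
  unfold img
  set L := normalizer (N : Set G) with hL
  set π := QuotientGroup.mk' (N.subgroupOf L) with hπ
  have : Group.IsSolvable (Y.subgroupOf L) :=
    Group.isSolvable_of_isSolvable_injective (f := (subgroupOfEquivOfLe hYN).toMonoidHom)
      (subgroupOfEquivOfLe hYN).injective
  exact Group.isSolvable_of_surjective (π.subgroupMap_surjective (Y.subgroupOf L))

theorem le_normalizer_inf {A N D : Subgroup G} (hN : A ≤ normalizer (N : Set G))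
    (hD : A ≤ normalizer (D : Set G)) : A ≤ normalizer ((N ⊓ D : Subgroup G) : Set G) := by
  intro a ha
  rw [mem_normalizer_iff]
  intro z
  have h1 := mem_normalizer_iff.1 (hN ha) z
  have h2 := mem_normalizer_iff.1 (hD ha) z
  constructor
  · rintro ⟨hz1, hz2⟩
    exact ⟨h1.1 hz1, h2.1 hz2⟩
  · rintro ⟨hz1, hz2⟩
    exact ⟨h1.2 hz1, h2.2 hz2⟩

/-- `A` (abelian) normalizes `Y ⊓ C(K)` for `K ≤ A`. -/
theorem le_normalizer_inf_centralizer {A Y K : Subgroup G} (h : Hyp A Y) (hK : K ≤ A) :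
    A ≤ normalizer ((Y ⊓ centralizer (K : Set G) : Subgroup G) : Set G) := by
  have key : ∀ b ∈ A, ∀ z ∈ Y ⊓ centralizer (K : Set G),
      b * z * b⁻¹ ∈ Y ⊓ centralizer (K : Set G) := by
    intro b hb z hz
    refine ⟨conj_mem_of_mem_normalizer (h.norm hb) hz.1, mem_centralizer_iff.2 ?_⟩
    intro x hx
    have h1 : x * z = z * x := mem_centralizer_iff.1 hz.2 x hx
    have h2 : x * b = b * x := h.comm x (hK hx) b hb
    have h3 : x * b⁻¹ = b⁻¹ * x := h.comm x (hK hx) b⁻¹ (inv_mem hb)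
    calc x * (b * z * b⁻¹) = (x * b) * z * b⁻¹ := by group
      _ = b * (x * z) * b⁻¹ := by rw [h2]; group
      _ = b * z * (x * b⁻¹) := by rw [h1]; group
      _ = b * z * b⁻¹ * x := by rw [h3]; group
  intro b hb
  rw [mem_normalizer_iff]
  intro z
  constructor
  · exact key b hb z
  · intro hz
    have := key b⁻¹ (inv_mem hb) _ hz
    have e : b⁻¹ * (b * z * b⁻¹) * b⁻¹⁻¹ = z := by group
    rwa [e] at this

theorem piece_img_le [Finite G] {A Y N : Subgroup G} (h : Hyp A Y) (hN : N ≤ Y)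
    (hYN : Y ≤ normalizer (N : Set G)) (hAN : A ≤ normalizer (N : Set G))
    {K' : Subgroup (normalizer (N : Set G) ⧸ N.subgroupOf (normalizer (N : Set G)))}
    (hK' : CycQuot (img N A) K') :
    piece (img N Y) (img N A) K' ≤ img N (RR Y A) := by
  -- the preimage of `K'` in `A`
  let K : Subgroup G :=
    { carrier := {k | ∃ hk : k ∈ A, pr N k (hAN hk) ∈ K'}
      mul_mem' := by
        rintro x y ⟨hx, hx'⟩ ⟨hy, hy'⟩
        refine ⟨mul_mem hx hy, ?_⟩
        rw [pr_mul N (hAN hx) (hAN hy)]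
        exact mul_mem hx' hy'
      one_mem' := by
        refine ⟨one_mem _, ?_⟩
        have : pr N 1 (hAN (one_mem A)) = 1 := by
          unfold pr
          exact map_one _
        rw [this]
        exact one_mem _
      inv_mem' := by
        rintro x ⟨hx, hx'⟩
        refine ⟨inv_mem hx, ?_⟩
        rw [pr_inv N (hAN hx)]
        exact inv_mem hx' }
  have hKmem : ∀ k, k ∈ K ↔ ∃ hk : k ∈ A, pr N k (hAN hk) ∈ K' := fun k => Iff.rfl
  have hKA : K ≤ A := fun k hk => ((hKmem k).1 hk).1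
  have himgK : img N K = K' := by
    apply le_antisymm
    · intro z hz
      obtain ⟨k, hkL, hk, rfl⟩ := mem_img.1 hz
      exact ((hKmem k).1 hk).2
    · intro z hz
      obtain ⟨a, haL, ha, rfl⟩ := mem_img.1 (hK'.1 hz)
      exact pr_mem_img haL ((hKmem a).2 ⟨ha, hz⟩)
  -- `K` is `CycQuot` in `A`
  have hKcyc : CycQuot A K := by
    refine ⟨hKA, ?_⟩
    obtain ⟨a', ha', hle⟩ := hK'.2
    obtain ⟨a, haL, ha, rfl⟩ := mem_img.1 ha'
    refine ⟨a, ha, ?_⟩
    intro b hb
    have hML : K ⊔ zpowers a ≤ A := sup_le hKA (zpowers_le.2 ha)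
    have h1 : K' ⊔ zpowers (pr N a haL) ≤ img N (K ⊔ zpowers a) := by
      apply sup_le
      · rw [← himgK]
        exact img_mono N le_sup_left
      · rw [zpowers_le]
        exact pr_mem_img haL (mem_sup_right (mem_zpowers a))
    obtain ⟨m, hmL, hm, hmb⟩ := mem_img.1 (h1 (hle (pr_mem_img (hAN hb) hb)))
    have h2 : m⁻¹ * b ∈ N := (pr_eq_iff N hmL (hAN hb)).1 hmb
    have h3 : m⁻¹ * b ∈ A := mul_mem (inv_mem (hML hm)) hb
    have h4 := eq_one_of_mem_mem' h h3 (hN h2)
    have h5 : b = m := (inv_mul_eq_one.1 h4).symm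
    rw [h5]
    exact hm
  -- centralizers
  have hcent : img N Y ⊓ centralizer (K' : Set _) ≤ img N (Y ⊓ centralizer (K : Set G)) := by
    rintro z ⟨hzY, hzc⟩
    obtain ⟨y, hyL, hy, rfl⟩ := mem_img.1 hzY
    have hinv : ∀ k ∈ K, y⁻¹ * (k * y * k⁻¹) ∈ N := by
      intro k hk
      have hkL : k ∈ normalizer (N : Set G) := hAN (hKA hk)
      have hk' : pr N k hkL ∈ K' := ((hKmem k).1 hk).2
      have hc := mem_centralizer_iff.1 hzc _ hk'
      -- `pr k * pr y = pr y * pr k`
      have h1 : pr N y hyL = pr N (k * y * k⁻¹) (mul_mem (mul_mem hkL hyL) (inv_mem hkL)) := by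
        rw [pr_mul N (mul_mem hkL hyL) (inv_mem hkL), pr_mul N hkL hyL, pr_inv N hkL, hc]
        group
      exact (pr_eq_iff N hyL _).1 h1
    obtain ⟨n, hn, hfix⟩ := fix_lift h hKA hN (hKA.trans hAN) hinv
    have hynL : y * n ∈ normalizer (N : Set G) := mul_mem hyL (hYN (hN hn))
    have h2 : pr N y hyL = pr N (y * n) hynL := by
      rw [pr_eq_iff]
      have e : y⁻¹ * (y * n) = n := by group
      rw [e]
      exact hn
    rw [h2]
    exact pr_mem_img hynL ⟨mul_mem hy (hN hn), hfix⟩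
  have hCK : Hyp A (Y ⊓ centralizer (K : Set G)) :=
    h.of_le inf_le_left (le_normalizer_inf_centralizer h hKA)
  have hCKL : Y ⊓ centralizer (K : Set G) ≤ normalizer (N : Set G) := inf_le_left.trans hYN
  set D : Subgroup G := ⁅Y ⊓ centralizer (K : Set G), A⁆ with hD
  have hDle : D ≤ Y ⊓ centralizer (K : Set G) := comm_le hCK.norm
  have hDY : D ≤ Y := hDle.trans inf_le_left
  have hAD : A ≤ normalizer (D : Set G) := (comm_normalized hCK.norm).2
  have hHD : Hyp A D := h.of_le hDY hAD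
  have hcomm : ⁅img N Y ⊓ centralizer (K' : Set _), img N A⁆ ≤ img N D := by
    rw [hD, ← img_commutator N hCKL hAN]
    exact commutator_mono hcent le_rfl
  have hfixD : img N D ⊓ centralizer ((img N A : Subgroup _) : Set _) ≤
      img N (D ⊓ centralizer (A : Set G)) := by
    rintro z ⟨hzD, hzc⟩
    obtain ⟨d, hdL, hd, rfl⟩ := mem_img.1 hzD
    have hinv : ∀ a ∈ A, d⁻¹ * (a * d * a⁻¹) ∈ N ⊓ D := by
      intro a ha
      have haL : a ∈ normalizer (N : Set G) := hAN ha
      have hc := mem_centralizer_iff.1 hzc _ (pr_mem_img haL ha)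
      have h1 : pr N d hdL = pr N (a * d * a⁻¹) (mul_mem (mul_mem haL hdL) (inv_mem haL)) := by
        rw [pr_mul N (mul_mem haL hdL) (inv_mem haL), pr_mul N haL hdL, pr_inv N haL, hc]
        group
      have hD2 : d⁻¹ * (a * d * a⁻¹) ∈ D :=
        mul_mem (inv_mem hd) (conj_mem_of_mem_normalizer (hAD ha) hd)
      exact ⟨(pr_eq_iff N hdL _).1 h1, hD2⟩
    obtain ⟨n, hn, hfix⟩ := fix_lift (B := A) hHD le_rfl (inf_le_right : N ⊓ D ≤ D)
      (le_normalizer_inf hAN hAD) hinv
    have hdnL : d * n ∈ normalizer (N : Set G) := mul_mem hdL (hYN (hN hn.1))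
    have h2 : pr N d hdL = pr N (d * n) hdnL := by
      rw [pr_eq_iff]
      have e : d⁻¹ * (d * n) = n := by group
      rw [e]
      exact hn.1
    rw [h2]
    exact pr_mem_img hdnL ⟨mul_mem hd hn.2, hfix⟩
  have hpiece : D ⊓ centralizer (A : Set G) ≤ RR Y A := piece_le_RR hKcyc
  intro z hz
  have hz1 : z ∈ img N D := hcomm hz.1
  exact img_mono N hpiece (hfixD ⟨hz1, hz.2⟩)

theorem quot_step [Finite G] {A Y N : Subgroup G} (h : Hyp A Y) (hs : Group.IsSolvable Y)
    (hYA : ⁅Y, A⁆ = Y) (hN : N ≤ Y) (hN1 : N ≠ ⊥) (hYN : Y ≤ normalizer (N : Set G))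
    (hAN : A ≤ normalizer (N : Set G))
    (IH : ∀ (Q : Type u) [Group Q] [Finite Q] (A' Y' : Subgroup Q), Nat.card Y' < Nat.card Y →
      Hyp A' Y' → Group.IsSolvable Y' → ⁅Y', A'⁆ = Y' → Y' ⊓ centralizer (A' : Set Q) ≤ RR Y' A') :
    ∀ c ∈ Y ⊓ centralizer (A : Set G), ∃ ρ ∈ RR Y A, ∃ n ∈ N, c = ρ * n := by
  intro c hc
  have hH : Hyp (img N A) (img N Y) := hyp_img h hYN
  have hlt := card_img_lt hN hN1 hYN
  have hsol := solvable_img hs hYN
  have hcomm : ⁅img N Y, img N A⁆ = img N Y := by rw [img_commutator N hYN hAN, hYA]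
  have key := IH _ (img N A) (img N Y) hlt hH hsol hcomm
  have hcL : c ∈ normalizer (N : Set G) := hYN hc.1
  have hpc : pr N c hcL ∈ img N Y ⊓ centralizer ((img N A : Subgroup _) : Set _) := by
    refine ⟨pr_mem_img hcL hc.1, mem_centralizer_iff.2 ?_⟩
    intro z hz
    obtain ⟨a, haL, ha, rfl⟩ := mem_img.1 hz
    rw [← pr_mul, ← pr_mul]
    congr 1
    exact mem_centralizer_iff.1 hc.2 a ha
  have h1 : RR (img N Y) (img N A) ≤ img N (RR Y A) :=
    iSup_le fun K' => piece_img_le h hN hYN hAN K'.2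
  obtain ⟨ρ, hρL, hρ, hρc⟩ := mem_img.1 (h1 (key hpc))
  exact ⟨ρ, hρ, ρ⁻¹ * c, (pr_eq_iff N hρL hcL).1 hρc, by group⟩

end Cfsg.Agent.Lib.Helper87.GoldQ
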