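/-
helper87: continuation of `OliverIndexP`: the commutator map `δ : A → A`, `b ↦ [x, b]`, the commutator subgroup of `S`,
and the consequences of the existence of an essential subgroup other than `A` (Oliver, Lemma 2.3(b)).
All declarations live in `Cfsg.Agent.Lib.Helper87`.
-/
import Cfsg.Agent.Lib.Helper87.OliverIndexP

set_option autoImplicit false

namespace Cfsg.Agent.Lib.Helper87

open Cfsg Cfsg.FusionSystem

section Delta

variable {Ω : Type*} [Group Ω] {S : Subgroup Ω} [Finite S] {p : ℕ} [Fact p.Prime] {A : Subgroup Ω}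

/-- The commutator map `δ : A → A`, `b ↦ x b x⁻¹ b⁻¹`, a homomorphism since `A` is abelian and normal in `S`. -/
def IndexPData.delta (h : IndexPData p S A) (x : Ω) (hxS : x ∈ S) : A →* A where
  toFun b := ⟨x * (b : Ω) * x⁻¹ * (b : Ω)⁻¹, A.mul_mem (h.conj_mem hxS b.2) (A.inv_mem b.2)⟩
  map_one' := by
    apply Subtype.ext
    show x * ((1 : A) : Ω) * x⁻¹ * ((1 : A) : Ω)⁻¹ = 1
    simp
  map_mul' := by
    intro b c
    apply Subtype.ext
    show x * ((b : Ω) * (c : Ω)) * x⁻¹ * ((b : Ω) * (c : Ω))⁻¹ =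
      (x * (b : Ω) * x⁻¹ * (b : Ω)⁻¹) * (x * (c : Ω) * x⁻¹ * (c : Ω)⁻¹)
    have h1 : (x * (c : Ω) * x⁻¹) * (b : Ω)⁻¹ = (b : Ω)⁻¹ * (x * (c : Ω) * x⁻¹) :=
      h.comm _ (h.conj_mem hxS c.2) _ (A.inv_mem b.2)
    have h0 : ((b : Ω) * (c : Ω))⁻¹ = (b : Ω)⁻¹ * (c : Ω)⁻¹ := by
      rw [mul_inv_rev]
      exact h.comm _ (A.inv_mem c.2) _ (A.inv_mem b.2)
    calc x * ((b : Ω) * (c : Ω)) * x⁻¹ * ((b : Ω) * (c : Ω))⁻¹
        = (x * (b : Ω) * x⁻¹) * ((x * (c : Ω) * x⁻¹) * (b : Ω)⁻¹) * (c : Ω)⁻¹ := by rw [h0]; group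
      _ = (x * (b : Ω) * x⁻¹) * ((b : Ω)⁻¹ * (x * (c : Ω) * x⁻¹)) * (c : Ω)⁻¹ := by rw [h1]
      _ = _ := by group

theorem IndexPData.delta_apply (h : IndexPData p S A) (x : Ω) (hxS : x ∈ S) (b : A) :
    ((h.delta x hxS b : A) : Ω) = x * (b : Ω) * x⁻¹ * (b : Ω)⁻¹ := rfl

/-- `ker δ = Z(S)`. -/
theorem IndexPData.delta_ker (h : IndexPData p S A) {x : Ω} (hxS : x ∈ S) (hxA : x ∉ A) :
    (h.delta x hxS).ker = (centralizerIn S S).subgroupOf A := by
  ext b
  rw [MonoidHom.mem_ker, Subgroup.mem_subgroupOf]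
  constructor
  · intro hb
    have h1 : x * (b : Ω) * x⁻¹ * (b : Ω)⁻¹ = 1 := congrArg Subtype.val hb
    refine h.mem_center_of_comm b.2 hxS hxA ?_
    have h2 : x * (b : Ω) = (x * (b : Ω) * x⁻¹ * (b : Ω)⁻¹) * ((b : Ω) * x) := by group
    rw [h2, h1, one_mul]
  · intro hb
    apply Subtype.ext
    show x * (b : Ω) * x⁻¹ * (b : Ω)⁻¹ = 1
    have h2 : x * (b : Ω) = (b : Ω) * x := Subgroup.mem_centralizer_iff.1 hb.2 x hxS
    rw [h2]; group

end Delta

section Delta2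

variable {Ω : Type*} [Group Ω] {S : Subgroup Ω} [Finite S] {p : ℕ} [Fact p.Prime] {A : Subgroup Ω}

omit [Finite S] [Fact p.Prime] in
theorem commutator_map_subtype : (commutator ↥S).map S.subtype = ⁅S, S⁆ := by
  have h1 : (⊤ : Subgroup S).map S.subtype = S := by
    rw [← MonoidHom.range_eq_map, Subgroup.range_subtype]
  unfold commutator
  rw [Subgroup.map_commutator, h1]

theorem IndexPData.delta_mem_range (h : IndexPData p S A) {x : Ω} (hxS : x ∈ S) {b : Ω} (hb : b ∈ A) :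
    x * b * x⁻¹ * b⁻¹ ∈ (h.delta x hxS).range.map A.subtype :=
  Subgroup.mem_map.2 ⟨h.delta x hxS ⟨b, hb⟩, ⟨⟨b, hb⟩, rfl⟩, rfl⟩

/-- `[s, b] ∈ δ(A)` for `s ∈ S`, `b ∈ A`. -/
theorem IndexPData.comm_mem_range (h : IndexPData p S A) {x : Ω} (hxS : x ∈ S) (hxA : x ∉ A) {s b : Ω} (hs : s ∈ S)
    (hb : b ∈ A) : s * b * s⁻¹ * b⁻¹ ∈ (h.delta x hxS).range.map A.subtype := by
  set R : Subgroup Ω := (h.delta x hxS).range.map A.subtype with hR
  have hRA : R ≤ A := by
    rintro _ ⟨r, -, rfl⟩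
    exact r.2
  let M : Subgroup Ω :=
    { carrier := {u | u ∈ S ∧ ∀ b ∈ A, u * b * u⁻¹ * b⁻¹ ∈ R}
      one_mem' := ⟨S.one_mem, fun b _ => by simp⟩
      mul_mem' := by
        rintro u v ⟨hu, hu'⟩ ⟨hv, hv'⟩
        refine ⟨S.mul_mem hu hv, fun b hb => ?_⟩
        have e : u * v * b * (u * v)⁻¹ * b⁻¹ =
            (u * (v * b * v⁻¹) * u⁻¹ * (v * b * v⁻¹)⁻¹) * (v * b * v⁻¹ * b⁻¹) := by group
        rw [e]
        exact R.mul_mem (hu' _ (h.conj_mem hv hb)) (hv' b hb)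
      inv_mem' := by
        rintro u ⟨hu, hu'⟩
        refine ⟨S.inv_mem hu, fun b hb => ?_⟩
        have hc : u⁻¹ * b * u ∈ A := by
          have := h.conj_mem (S.inv_mem hu) hb
          rwa [inv_inv] at this
        have e : u⁻¹ * b * u⁻¹⁻¹ * b⁻¹ = (u * (u⁻¹ * b * u) * u⁻¹ * (u⁻¹ * b * u)⁻¹)⁻¹ := by group
        rw [e]
        exact R.inv_mem (hu' _ hc) }
  have hxM : x ∈ M := ⟨hxS, fun b hb => h.delta_mem_range hxS hb⟩
  obtain ⟨a, ha, u, hu, rfl⟩ := h.decomp hxS hxA hs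
  have huM : u ∈ M := (Subgroup.zpowers_le.2 hxM) hu
  have h1 : a * (u * b * u⁻¹) = (u * b * u⁻¹) * a := h.comm a ha _ (h.conj_mem huM.1 hb)
  have e : a * u * b * (a * u)⁻¹ * b⁻¹ = a * (u * b * u⁻¹) * a⁻¹ * b⁻¹ := by group
  rw [e, h1]
  have e2 : u * b * u⁻¹ * a * a⁻¹ * b⁻¹ = u * b * u⁻¹ * b⁻¹ := by group
  rw [e2]
  exact huM.2 b hb

/-- `δ(A) = [S, S]`. -/
theorem IndexPData.delta_range (h : IndexPData p S A) {x : Ω} (hxS : x ∈ S) (hxA : x ∉ A) :
    (h.delta x hxS).range.map A.subtype = ⁅S, S⁆ := by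
  set R : Subgroup Ω := (h.delta x hxS).range.map A.subtype with hR
  have hRA : R ≤ A := by
    rintro _ ⟨r, -, rfl⟩
    exact r.2
  apply le_antisymm
  · rintro _ ⟨_, ⟨b, rfl⟩, rfl⟩
    show x * (b : Ω) * x⁻¹ * (b : Ω)⁻¹ ∈ ⁅S, S⁆
    rw [← commutatorElement_def]
    exact Subgroup.commutator_mem_commutator hxS (h.le b.2)
  · rw [Subgroup.commutator_le]
    intro s hs s' hs'
    rw [commutatorElement_def]
    -- `R` is normalized by `S`
    have hRn : ∀ t ∈ S, ∀ r ∈ R, t * r * t⁻¹ ∈ R := by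
      intro t ht r hr
      have e : t * r * t⁻¹ = (t * r * t⁻¹ * r⁻¹) * r := by group
      rw [e]
      exact R.mul_mem (h.comm_mem_range hxS hxA ht (hRA hr)) hr
    let M : Subgroup Ω :=
      { carrier := {t | t ∈ S ∧ s * t * s⁻¹ * t⁻¹ ∈ R}
        one_mem' := ⟨S.one_mem, by simp⟩
        mul_mem' := by
          rintro t t' ⟨ht, ht1⟩ ⟨ht', ht1'⟩
          refine ⟨S.mul_mem ht ht', ?_⟩
          have e : s * (t * t') * s⁻¹ * (t * t')⁻¹ = (s * t * s⁻¹ * t⁻¹) * (t * (s * t' * s⁻¹ * t'⁻¹) * t⁻¹) := by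
            group
          rw [e]
          exact R.mul_mem ht1 (hRn t ht _ ht1')
        inv_mem' := by
          rintro t ⟨ht, ht1⟩
          refine ⟨S.inv_mem ht, ?_⟩
          have e : s * t⁻¹ * s⁻¹ * t⁻¹⁻¹ = t⁻¹ * (s * t * s⁻¹ * t⁻¹)⁻¹ * t⁻¹⁻¹ := by group
          rw [e]
          exact hRn _ (S.inv_mem ht) _ (R.inv_mem ht1) }
    have hAM : A ≤ M := fun b hb => ⟨h.le hb, h.comm_mem_range hxS hxA hs hb⟩
    have hxM : x ∈ M := by
      refine ⟨hxS, ?_⟩
      obtain ⟨a, ha, u, hu, rfl⟩ := h.decomp hxS hxA hs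
      have hux : u * x = x * u := by
        obtain ⟨k, rfl⟩ := Subgroup.mem_zpowers_iff.1 hu
        exact ((Commute.refl x).zpow_left k).eq
      have e : a * u * x * (a * u)⁻¹ * x⁻¹ = a * (u * x) * u⁻¹ * a⁻¹ * x⁻¹ := by group
      rw [e, hux]
      have e2 : a * (x * u) * u⁻¹ * a⁻¹ * x⁻¹ = (x * a * x⁻¹ * a⁻¹)⁻¹ := by group
      rw [e2]
      exact R.inv_mem (h.delta_mem_range hxS ha)
    obtain ⟨a', ha', u', hu', rfl⟩ := h.decomp hxS hxA hs'
    exact (M.mul_mem (hAM ha') ((Subgroup.zpowers_le.2 hxM) hu')).2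

end Delta2

section Facts

variable {Ω : Type*} [Group Ω] {S : Subgroup Ω} [Finite S] {p : ℕ} [Fact p.Prime] {A : Subgroup Ω}

omit [Finite S] [Fact p.Prime] in
theorem card_mul_relIndex' {H K : Subgroup Ω} (hHK : H ≤ K) : Nat.card H * H.relIndex K = Nat.card K := by
  rw [← Subgroup.relIndex_bot_left, ← Subgroup.relIndex_bot_left]
  exact Subgroup.relIndex_mul_relIndex ⊥ H K bot_le hHK

omit [Finite S] [Fact p.Prime] in
/-- Central elements of `S` are fixed by conjugation by elements of `S`. -/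
theorem conj_center_eq {z t : Ω} (hz : z ∈ centralizerIn S S) (ht : t ∈ S) : t * z * t⁻¹ = z := by
  have : t * z = z * t := Subgroup.mem_centralizer_iff.1 hz.2 t ht
  rw [this]; group

omit [Finite S] [Fact p.Prime] in
/-- `Z(S) ≤ Z₂(S)`. -/
theorem center_le_Z2 : centralizerIn S S ≤ (upperCentralSeries ↥S 2).map S.subtype := by
  intro z hz
  rw [mem_Z2_iff]
  refine ⟨hz.1, fun s hs => ?_⟩
  have : s * z = z * s := Subgroup.mem_centralizer_iff.1 hz.2 s hs
  have e : z * s * z⁻¹ * s⁻¹ = 1 := by rw [← this]; group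
  rw [e]
  exact Subgroup.one_mem _

omit [Finite S] [Fact p.Prime] in
/-- If `[b, x] ∈ Z(S)` then `[b, u] ∈ Z(S)` for all `u ∈ ⟨x⟩`. -/
theorem comm_zpowers_mem_center {b x : Ω} (hxS : x ∈ S) (hbx : b * x * b⁻¹ * x⁻¹ ∈ centralizerIn S S)
    {u : Ω} (hu : u ∈ Subgroup.zpowers x) : b * u * b⁻¹ * u⁻¹ ∈ centralizerIn S S := by
  let M : Subgroup Ω :=
    { carrier := {u | u ∈ S ∧ b * u * b⁻¹ * u⁻¹ ∈ centralizerIn S S}
      one_mem' := ⟨S.one_mem, by simp⟩
      mul_mem' := by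
        rintro u v ⟨hu, hu'⟩ ⟨hv, hv'⟩
        refine ⟨S.mul_mem hu hv, ?_⟩
        have e : b * (u * v) * b⁻¹ * (u * v)⁻¹ = (b * u * b⁻¹ * u⁻¹) * (u * (b * v * b⁻¹ * v⁻¹) * u⁻¹) := by group
        rw [e, conj_center_eq hv' hu]
        exact Subgroup.mul_mem _ hu' hv'
      inv_mem' := by
        rintro u ⟨hu, hu'⟩
        refine ⟨S.inv_mem hu, ?_⟩
        have e : b * u⁻¹ * b⁻¹ * u⁻¹⁻¹ = u⁻¹ * (b * u * b⁻¹ * u⁻¹)⁻¹ * u⁻¹⁻¹ := by group
        rw [e, conj_center_eq (Subgroup.inv_mem _ hu') (S.inv_mem hu)]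
        exact Subgroup.inv_mem _ hu' }
  have hxM : x ∈ M := ⟨hxS, hbx⟩
  exact ((Subgroup.zpowers_le.2 hxM) hu).2

/-- For `b ∈ A`: `b ∈ Z₂(S)` as soon as `[b, x] ∈ Z(S)`. -/
theorem IndexPData.mem_Z2_of_comm (h : IndexPData p S A) {b x : Ω} (hb : b ∈ A) (hxS : x ∈ S) (hxA : x ∉ A)
    (hbx : b * x * b⁻¹ * x⁻¹ ∈ centralizerIn S S) : b ∈ (upperCentralSeries ↥S 2).map S.subtype := by
  rw [mem_Z2_iff]
  refine ⟨h.le hb, fun s hs => ?_⟩
  obtain ⟨a, ha, u, hu, rfl⟩ := h.decomp hxS hxA hs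
  exact h.comm_mem_center_of_decomp hb ha (comm_zpowers_mem_center hxS hbx hu)

omit [Finite S] [Fact p.Prime] in
/-- Elements of `Z₂(S)` normalize every subgroup of `S` containing `Z(S)`. -/
theorem mem_normalizer_of_mem_Z2 {P : Subgroup Ω} (hPS : P ≤ S) (hZP : centralizerIn S S ≤ P) {c : Ω}
    (hc : c ∈ (upperCentralSeries ↥S 2).map S.subtype) : c ∈ Subgroup.normalizer (P : Set Ω) := by
  have hconjP : ∀ c ∈ (upperCentralSeries ↥S 2).map S.subtype, ∀ y ∈ P, c * y * c⁻¹ ∈ P := by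
    intro c hc y hy
    have h1 := (mem_Z2_iff.1 hc).2 y (hPS hy)
    have e : c * y * c⁻¹ = (c * y * c⁻¹ * y⁻¹) * y := by group
    rw [e]
    exact P.mul_mem (hZP h1) hy
  rw [Subgroup.mem_normalizer_iff]
  intro y
  constructor
  · exact hconjP c hc y
  · intro hy
    have := hconjP c⁻¹ (Subgroup.inv_mem _ hc) _ hy
    have e : c⁻¹ * (c * y * c⁻¹) * c⁻¹⁻¹ = y := by group
    rwa [e] at this

/-- `|P : P ∩ A| = p` when `P ≰ A`. -/
theorem IndexPData.relIndex_of_not_le (h : IndexPData p S A) {P : Subgroup Ω} (hPS : P ≤ S) (hnle : ¬ P ≤ A) :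
    A.relIndex P = p := by
  have hp : p.Prime := Fact.out
  have hPp : IsPGroup p P := h.pgroup.to_le hPS
  have hfinP : Finite P := finite_of_le hPS
  have h1 : A.relIndex P ≤ A.relIndex S := Subgroup.relIndex_le_of_le_right hPS (by rw [h.idx]; exact hp.ne_zero)
  rw [h.idx] at h1
  have h2 : A.relIndex P ∣ Nat.card P := Subgroup.relIndex_dvd_card A P
  obtain ⟨n, hn⟩ := IsPGroup.iff_card.1 hPp
  rw [hn] at h2
  obtain ⟨k, -, hk⟩ := (Nat.dvd_prime_pow hp).1 h2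
  have hk0 : k ≠ 0 := by
    rintro rfl
    rw [pow_zero] at hk
    exact hnle (Subgroup.relIndex_eq_one.1 hk)
  rw [hk] at h1 ⊢
  have : k = 1 := by
    by_contra hk1
    have h3 : p ^ 2 ≤ p ^ k := Nat.pow_le_pow_right hp.pos (by omega)
    have h4 : p < p ^ 2 := by nlinarith [hp.two_le]
    omega
  rw [this, pow_one]

/-- **`Z₂(S) ≤ A`** when some essential subgroup differs from `A` and `A` is the unique abelian subgroup of index `p`. -/
theorem IndexPData.Z2_le_A (h : IndexPData p S A) (F : FusionSystem S) (hF : F.IsSaturated p)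
    (huniq : ∀ B : Subgroup Ω, B ≤ S → (∀ y ∈ B, ∀ z ∈ B, y * z = z * y) → B.relIndex S = p → B = A)
    {P : Subgroup Ω} (hP : F.IsEssential p P) (hPA : P ≠ A) :
    (upperCentralSeries ↥S 2).map S.subtype ≤ A := by
  have hp : p.Prime := Fact.out
  by_cases hab : ∀ y ∈ P, ∀ z ∈ P, y * z = z * y
  swap
  · exact (h.essential_nonab F hF hP hPA hab).2.1
  have hPS : P ≤ S := hP.1.1
  have hnle := (h.essential_key F hF hP hPA).1
  have hZP : centralizerIn S S ≤ P := center_le_of_centric F hP.1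
  have hinf := h.inf_eq_center_of_comm F hP.1 hnle hab
  intro y hy
  by_contra hyA
  have hyS : y ∈ S := Z2_le hy
  apply hPA
  apply huniq P hPS hab
  -- every element of `A` lies in `Z₂(S)`, hence normalizes `P`
  have hA2 : A ≤ (upperCentralSeries ↥S 2).map S.subtype := by
    intro b hbA
    rw [mem_Z2_iff]
    refine ⟨h.le hbA, fun s hs => ?_⟩
    obtain ⟨a, ha, u, hu, rfl⟩ := h.decomp hyS hyA hs
    have hu2 : u ∈ (upperCentralSeries ↥S 2).map S.subtype := (Subgroup.zpowers_le.2 hy) hu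
    have h1 : b * u * b⁻¹ * u⁻¹ ∈ centralizerIn S S := by
      have := (mem_Z2_iff.1 hu2).2 b (h.le hbA)
      have e : b * u * b⁻¹ * u⁻¹ = (u * b * u⁻¹ * b⁻¹)⁻¹ := by group
      rw [e]
      exact Subgroup.inv_mem _ this
    exact h.comm_mem_center_of_decomp hbA ha h1
  have hAN : A ⊓ Subgroup.normalizer (P : Set Ω) = A :=
    inf_eq_left.2 (fun b hb => mem_normalizer_of_mem_Z2 hPS hZP (hA2 hb))
  have h1 := h.essential_index_A F hF hP hPA
  rw [hAN] at h1
  -- `|A : Z| = p`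
  have h2 : (centralizerIn S S).relIndex A = p := by
    rw [← hinf, Subgroup.inf_relIndex_right]; exact h1
  have h3 : A.relIndex P = p := h.relIndex_of_not_le hPS hnle
  have h3' : (centralizerIn S S).relIndex P = p := by
    rw [← hinf, Subgroup.inf_relIndex_left]; exact h3
  have c1 := card_mul_relIndex' (hZP)
  have c2 := card_mul_relIndex' (h.center_le : centralizerIn S S ≤ A)
  have c3 := card_mul_relIndex' h.le
  have c4 := card_mul_relIndex' hPS
  rw [h3'] at c1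
  rw [h2] at c2
  rw [h.idx] at c3
  have hcardP : 0 < Nat.card P := by
    have : Finite P := finite_of_le hPS
    exact Nat.card_pos
  have : Nat.card P * P.relIndex S = Nat.card P * p := by
    rw [c4, ← c3, ← c2, ← c1]
  exact Nat.eq_of_mul_eq_mul_left hcardP this

end Facts

section Facts2

variable {Ω : Type*} [Group Ω] {S : Subgroup Ω} [Finite S] {p : ℕ} [Fact p.Prime] {A : Subgroup Ω}

/-- **`|Z₂(S) : Z(S)| = p`** when some essential subgroup differs from `A`. -/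
theorem IndexPData.relIndex_center_Z2 (h : IndexPData p S A) (F : FusionSystem S) (hF : F.IsSaturated p)
    (h2A : (upperCentralSeries ↥S 2).map S.subtype ≤ A)
    {P : Subgroup Ω} (hP : F.IsEssential p P) (hPA : P ≠ A) :
    (centralizerIn S S).relIndex ((upperCentralSeries ↥S 2).map S.subtype) = p := by
  by_cases hab : ∀ y ∈ P, ∀ z ∈ P, y * z = z * y
  swap
  · obtain ⟨-, -, hinf, hrel, -⟩ := h.essential_nonab F hF hP hPA hab
    rw [← hinf]; exact hrel
  have hPS : P ≤ S := hP.1.1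
  have hnle := (h.essential_key F hF hP hPA).1
  obtain ⟨x, hxP, hxA⟩ := SetLike.not_le_iff_exists.1 hnle
  have hZP : centralizerIn S S ≤ P := center_le_of_centric F hP.1
  have hinf := h.inf_eq_center_of_comm F hP.1 hnle hab
  have hN : A ⊓ Subgroup.normalizer (P : Set Ω) = (upperCentralSeries ↥S 2).map S.subtype := by
    apply le_antisymm
    · rintro b ⟨hbA, hbN⟩
      refine h.mem_Z2_of_comm hbA (hPS hxP) hxA ?_
      rw [← hinf]
      have h1 : b * x * b⁻¹ ∈ P := (Subgroup.mem_normalizer_iff.1 hbN x).1 hxP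
      refine ⟨P.mul_mem h1 (P.inv_mem hxP), ?_⟩
      have e : b * x * b⁻¹ * x⁻¹ = b * (x * b⁻¹ * x⁻¹) := by group
      rw [e]
      exact A.mul_mem hbA (h.conj_mem (hPS hxP) (A.inv_mem hbA))
    · intro c hc
      exact ⟨h2A hc, mem_normalizer_of_mem_Z2 hPS hZP hc⟩
  have h1 := h.essential_index_A F hF hP hPA
  rw [hN] at h1
  have h2 : P ⊓ (upperCentralSeries ↥S 2).map S.subtype = centralizerIn S S := by
    apply le_antisymm
    · rw [← hinf]
      exact inf_le_inf_left P h2A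
    · exact le_inf hZP center_le_Z2
  rw [← h2, Subgroup.inf_relIndex_right]
  exact h1

/-- `ker δ ∩ im δ = δ(Z₂(S))`. -/
theorem IndexPData.delta_ker_inf_range (h : IndexPData p S A) {x : Ω} (hxS : x ∈ S) (hxA : x ∉ A) :
    (h.delta x hxS).ker ⊓ (h.delta x hxS).range =
      (((upperCentralSeries ↥S 2).map S.subtype).subgroupOf A).map (h.delta x hxS) := by
  have hker : ∀ b : A, h.delta x hxS b ∈ (h.delta x hxS).ker ↔
      x * (b : Ω) * x⁻¹ * (b : Ω)⁻¹ ∈ centralizerIn S S := by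
    intro b
    rw [h.delta_ker hxS hxA, Subgroup.mem_subgroupOf, h.delta_apply]
  ext r
  constructor
  · rintro ⟨hr1, b, rfl⟩
    have hr1' := (hker b).1 hr1
    refine ⟨b, ?_, rfl⟩
    show (b : Ω) ∈ (upperCentralSeries ↥S 2).map S.subtype
    refine h.mem_Z2_of_comm b.2 hxS hxA ?_
    have e : (b : Ω) * x * (b : Ω)⁻¹ * x⁻¹ = (x * (b : Ω) * x⁻¹ * (b : Ω)⁻¹)⁻¹ := by group
    rw [e]
    exact Subgroup.inv_mem _ hr1'
  · rintro ⟨b, hb, rfl⟩
    have hb' : (b : Ω) ∈ (upperCentralSeries ↥S 2).map S.subtype := hb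
    refine ⟨(hker b).2 ?_, ⟨b, rfl⟩⟩
    have := (mem_Z2_iff.1 hb').2 x hxS
    have e : x * (b : Ω) * x⁻¹ * (b : Ω)⁻¹ = ((b : Ω) * x * (b : Ω)⁻¹ * x⁻¹)⁻¹ := by group
    rw [e]
    exact Subgroup.inv_mem _ this

/-- `|ker δ ∩ im δ| = |Z₂(S) : Z(S)|`. -/
theorem IndexPData.card_delta_ker_inf_range (h : IndexPData p S A) {x : Ω} (hxS : x ∈ S) (hxA : x ∉ A)
    (h2A : (upperCentralSeries ↥S 2).map S.subtype ≤ A) :
    Nat.card ((h.delta x hxS).ker ⊓ (h.delta x hxS).range : Subgroup A) =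
      (centralizerIn S S).relIndex ((upperCentralSeries ↥S 2).map S.subtype) := by
  rw [h.delta_ker_inf_range hxS hxA, ← Subgroup.relIndex_ker, h.delta_ker hxS hxA,
    Subgroup.relIndex_subgroupOf h2A]

/-- `Z(S) ∩ [S, S]` as the image of `ker δ ∩ im δ`. -/
theorem IndexPData.map_delta_ker_inf_range (h : IndexPData p S A) {x : Ω} (hxS : x ∈ S) (hxA : x ∉ A) :
    ((h.delta x hxS).ker ⊓ (h.delta x hxS).range).map A.subtype = centralizerIn S S ⊓ ⁅S, S⁆ := by
  rw [Subgroup.map_inf _ _ _ A.subtype_injective, h.delta_range hxS hxA, h.delta_ker hxS hxA,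
    Subgroup.subgroupOf_map_subtype, inf_eq_left.2 h.center_le]

theorem IndexPData.map_delta_ker_sup_range (h : IndexPData p S A) {x : Ω} (hxS : x ∈ S) (hxA : x ∉ A) :
    ((h.delta x hxS).ker ⊔ (h.delta x hxS).range).map A.subtype = centralizerIn S S ⊔ ⁅S, S⁆ := by
  rw [Subgroup.map_sup, h.delta_range hxS hxA, h.delta_ker hxS hxA,
    Subgroup.subgroupOf_map_subtype, inf_eq_left.2 h.center_le]

/-- `|Z(S) ∩ [S, S]| = |Z₂(S) : Z(S)|`. -/
theorem IndexPData.card_center_inf_commutator (h : IndexPData p S A) {x : Ω} (hxS : x ∈ S) (hxA : x ∉ A)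
    (h2A : (upperCentralSeries ↥S 2).map S.subtype ≤ A) :
    Nat.card (centralizerIn S S ⊓ ⁅S, S⁆ : Subgroup Ω) =
      (centralizerIn S S).relIndex ((upperCentralSeries ↥S 2).map S.subtype) := by
  rw [← h.map_delta_ker_inf_range hxS hxA, Subgroup.card_map_of_injective A.subtype_injective,
    h.card_delta_ker_inf_range hxS hxA h2A]

/-- `|A : Z(S)[S, S]| = |Z(S) ∩ [S, S]|`. -/
theorem IndexPData.relIndex_center_sup_commutator (h : IndexPData p S A) {x : Ω} (hxS : x ∈ S) (hxA : x ∉ A) :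
    (centralizerIn S S ⊔ ⁅S, S⁆).relIndex A = Nat.card (centralizerIn S S ⊓ ⁅S, S⁆ : Subgroup Ω) := by
  have hfinA : Finite A := finite_of_le h.le
  set δ := h.delta x hxS with hδ
  have e1 : (centralizerIn S S ⊔ ⁅S, S⁆).relIndex A = (δ.ker ⊔ δ.range).index := by
    rw [← h.map_delta_ker_sup_range hxS hxA]
    show (((δ.ker ⊔ δ.range).map A.subtype).subgroupOf A).index = _
    congr 1
    exact Subgroup.comap_map_eq_self_of_injective A.subtype_injective _
  have e2 : Nat.card (centralizerIn S S ⊓ ⁅S, S⁆ : Subgroup Ω) = Nat.card (δ.ker ⊓ δ.range : Subgroup A) := by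
    rw [← h.map_delta_ker_inf_range hxS hxA, Subgroup.card_map_of_injective A.subtype_injective]
  rw [e1, e2]
  have h1 : δ.ker.relIndex (δ.range ⊔ δ.ker) = δ.ker.relIndex δ.range := Subgroup.relIndex_sup_right δ.range δ.ker
  have h2 : δ.ker.relIndex (δ.range ⊔ δ.ker) * (δ.range ⊔ δ.ker).index = δ.ker.index :=
    Subgroup.relIndex_mul_index le_sup_right
  have h3 : δ.ker.index = Nat.card δ.range := Subgroup.index_ker δ
  have h4 : (δ.ker ⊓ δ.range).relIndex δ.range = δ.ker.relIndex δ.range := Subgroup.inf_relIndex_right _ _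
  have h5 : Nat.card (δ.ker ⊓ δ.range : Subgroup A) * (δ.ker ⊓ δ.range).relIndex δ.range = Nat.card δ.range :=
    card_mul_relIndex' inf_le_right
  rw [sup_comm] at h1 h2
  rw [h1, h3] at h2
  rw [h4] at h5
  have hq : 0 < δ.ker.relIndex δ.range := by
    rcases Nat.eq_zero_or_pos (δ.ker.relIndex δ.range) with h0 | h0
    · rw [h0, mul_zero] at h5
      have : 0 < Nat.card δ.range := Nat.card_pos
      omega
    · exact h0
  have : δ.ker.relIndex δ.range * (δ.ker ⊔ δ.range).index =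
      δ.ker.relIndex δ.range * Nat.card (δ.ker ⊓ δ.range : Subgroup A) := by
    rw [h2, ← h5, mul_comm]
  exact Nat.eq_of_mul_eq_mul_left hq this

end Facts2

section MaxClass

variable {Ω : Type*} [Group Ω] {S : Subgroup Ω} [Finite S] {p : ℕ} [Fact p.Prime] {A : Subgroup Ω}

/-- The iterated images `δᵏ(A)`. -/
def deltaChain (δ : A →* A) : ℕ → Subgroup A
  | 0 => ⊤
  | (k + 1) => (deltaChain δ k).map δ

omit [Finite S] [Fact p.Prime] in
theorem deltaChain_le_range (δ : A →* A) (k : ℕ) : deltaChain δ (k + 1) ≤ δ.range := by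
  rintro _ ⟨b, -, rfl⟩
  exact ⟨b, rfl⟩

/-- `δᵏ(A) ≤ γ_{k+1}(S)` (the `k`-th term of the lower central series, counting `S` as term `0`). -/
theorem IndexPData.deltaChain_le_lcs (h : IndexPData p S A) {x : Ω} (hxS : x ∈ S) (k : ℕ) :
    (deltaChain (h.delta x hxS) k).map A.subtype ≤ S.lowerCentralSeries k := by
  induction k with
  | zero =>
    rw [Subgroup.lowerCentralSeries_zero]
    rintro _ ⟨b, -, rfl⟩
    exact h.le b.2
  | succ k ih =>
    rw [Subgroup.lowerCentralSeries_succ]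
    rintro _ ⟨_, ⟨b, hb, rfl⟩, rfl⟩
    show x * (b : Ω) * x⁻¹ * (b : Ω)⁻¹ ∈ _
    rw [← commutatorElement_def, ← commutatorElement_inv]
    exact Subgroup.inv_mem _ (Subgroup.commutator_mem_commutator (ih ⟨b, hb, rfl⟩) hxS)

/-- **`S / Z(S)` has maximal class** as soon as `|ker δ ∩ im δ| = p`: if `|S : Z(S)| = pᵐ` with `m ≥ 2`, then
`γ_{m-1}(S) ≰ Z(S)`. -/
theorem IndexPData.lcs_not_le_center (h : IndexPData p S A) {x : Ω} (hxS : x ∈ S) (hxA : x ∉ A)
    (hc : Nat.card ((h.delta x hxS).ker ⊓ (h.delta x hxS).range : Subgroup A) = p)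
    {m : ℕ} (hm : (centralizerIn S S).relIndex S = p ^ m) (hm2 : 2 ≤ m) :
    ¬ S.lowerCentralSeries (m - 2) ≤ centralizerIn S S := by
  have hp : p.Prime := Fact.out
  have hfinA : Finite A := finite_of_le h.le
  set δ := h.delta x hxS with hδ
  -- `|A : Z| = p^(m-1)`
  have h1 : (centralizerIn S S).relIndex A = p ^ (m - 1) := by
    have := Subgroup.relIndex_mul_relIndex _ _ _ (h.center_le : centralizerIn S S ≤ A) h.le
    rw [h.idx, hm] at this
    have e : p ^ m = p ^ (m - 1) * p := by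
      rw [← pow_succ]; congr 1; omega
    rw [e] at this
    exact Nat.eq_of_mul_eq_mul_right hp.pos this
  have hB1 : Nat.card (deltaChain δ 1) = p ^ (m - 1) := by
    show Nat.card ((⊤ : Subgroup A).map δ) = _
    rw [← MonoidHom.range_eq_map, ← Subgroup.index_ker, h.delta_ker hxS hxA]
    exact h1
  have hstep : ∀ k, 1 ≤ k → Nat.card (deltaChain δ k) ≤ p * Nat.card (deltaChain δ (k + 1)) := by
    intro k hk
    obtain ⟨j, rfl⟩ : ∃ j, k = j + 1 := ⟨k - 1, by omega⟩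
    have e1 : Nat.card (deltaChain δ (j + 1 + 1)) = δ.ker.relIndex (deltaChain δ (j + 1)) :=
      (Subgroup.relIndex_ker _ δ).symm
    have e2 := card_mul_relIndex' (inf_le_right : δ.ker ⊓ deltaChain δ (j + 1) ≤ deltaChain δ (j + 1))
    rw [Subgroup.inf_relIndex_right] at e2
    have e3 : Nat.card (δ.ker ⊓ deltaChain δ (j + 1) : Subgroup A) ≤ p := by
      rw [← hc]
      exact Subgroup.card_le_of_le (inf_le_inf_left _ (deltaChain_le_range δ j))
    rw [e1, ← e2]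
    exact Nat.mul_le_mul_right _ e3
  have hind : ∀ j, p ^ (m - 1) ≤ p ^ j * Nat.card (deltaChain δ (j + 1)) := by
    intro j
    induction j with
    | zero => rw [pow_zero, one_mul, hB1]
    | succ j ih =>
      calc p ^ (m - 1) ≤ p ^ j * Nat.card (deltaChain δ (j + 1)) := ih
        _ ≤ p ^ j * (p * Nat.card (deltaChain δ (j + 1 + 1))) := Nat.mul_le_mul_left _ (hstep (j + 1) (by omega))
        _ = p ^ (j + 1) * Nat.card (deltaChain δ (j + 1 + 1)) := by rw [pow_succ, mul_assoc]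
  have h2 := hind (m - 2)
  have e : m - 2 + 1 = m - 1 := by omega
  rw [e] at h2
  have h3 : p ≤ Nat.card (deltaChain δ (m - 1)) := by
    have e2 : p ^ (m - 1) = p ^ (m - 2) * p := by
      rw [← pow_succ]; congr 1; omega
    rw [e2] at h2
    exact Nat.le_of_mul_le_mul_left h2 (pow_pos hp.pos _)
  -- a nontrivial element of `δ^{m-1}(A)`
  have hne : deltaChain δ (m - 1) ≠ ⊥ := by
    intro hbot
    rw [hbot, Subgroup.card_bot] at h3
    exact absurd h3 (by have := hp.two_le; omega)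
  obtain ⟨⟨r, hr⟩, hr1⟩ := (Subgroup.ne_bot_iff_exists_ne_one).1 hne
  have hr'' : r ≠ 1 := fun h0 => hr1 (Subtype.ext h0)
  have e3 : m - 1 = (m - 2) + 1 := by omega
  rw [e3] at hr
  obtain ⟨b, hb, rfl⟩ := hr
  intro hle
  apply hr''
  have hbL : (b : Ω) ∈ S.lowerCentralSeries (m - 2) := h.deltaChain_le_lcs hxS (m - 2) ⟨b, hb, rfl⟩
  have hbZ : (b : Ω) ∈ centralizerIn S S := hle hbL
  have : b ∈ δ.ker := by
    rw [h.delta_ker hxS hxA]
    exact hbZ
  exact this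

end MaxClass

end Cfsg.Agent.Lib.Helper87
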