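import Mathlib

set_option autoImplicit false

namespace Cfsg.Agent.Lib.Helper87.LinRep

variable {K : Type*} [Field K] {P : Type*} [Group P] {V : Type*} [AddCommGroup V] [Module K V]

/-- A submodule is invariant under the representation `ρ`. -/
def Inv (ρ : P →* (V ≃ₗ[K] V)) (W : Submodule K V) : Prop := ∀ g : P, ∀ w ∈ W, ρ g w ∈ W

/-- The restriction of `ρ` to an invariant submodule, as endomorphisms. -/
def subEnd (ρ : P →* (V ≃ₗ[K] V)) (W : Submodule K V) (hW : Inv ρ W) : P →* Module.End K W where
  toFun g := ((ρ g : V ≃ₗ[K] V) : V →ₗ[K] V).restrict (hW g)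
  map_one' := by
    ext w
    simp
  map_mul' g h := by
    ext w
    simp

/-- The restriction of `ρ` to an invariant submodule. -/
noncomputable def subRep (ρ : P →* (V ≃ₗ[K] V)) (W : Submodule K V) (hW : Inv ρ W) :
    P →* (W ≃ₗ[K] W) :=
  (LinearMap.GeneralLinearGroup.generalLinearEquiv K W).toMonoidHom.comp (subEnd ρ W hW).toHomUnits

theorem subRep_apply (ρ : P →* (V ≃ₗ[K] V)) (W : Submodule K V) (hW : Inv ρ W) (g : P) (w : W) :
    ((subRep ρ W hW g w : W) : V) = ρ g (w : V) := by
  simp [subRep, subEnd]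

/-- The representation induced on the quotient by an invariant submodule, as endomorphisms. -/
def quotEnd (ρ : P →* (V ≃ₗ[K] V)) (W : Submodule K V) (hW : Inv ρ W) :
    P →* Module.End K (V ⧸ W) where
  toFun g := W.mapQ W ((ρ g : V ≃ₗ[K] V) : V →ₗ[K] V) (fun w hw => hW g w hw)
  map_one' := by
    apply Submodule.linearMap_qext
    ext v
    simp
  map_mul' g h := by
    apply Submodule.linearMap_qext
    ext v
    simp

/-- The representation induced on the quotient by an invariant submodule. -/
noncomputable def quotRep (ρ : P →* (V ≃ₗ[K] V)) (W : Submodule K V) (hW : Inv ρ W) :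
    P →* ((V ⧸ W) ≃ₗ[K] (V ⧸ W)) :=
  (LinearMap.GeneralLinearGroup.generalLinearEquiv K (V ⧸ W)).toMonoidHom.comp
    (quotEnd ρ W hW).toHomUnits

theorem quotRep_mk (ρ : P →* (V ≃ₗ[K] V)) (W : Submodule K V) (hW : Inv ρ W) (g : P) (v : V) :
    quotRep ρ W hW g (Submodule.Quotient.mk v) = Submodule.Quotient.mk (ρ g v) := by
  simp [quotRep, quotEnd]



/-- If `M` contains the commutator subgroup, then the derived series of `P` is, one step later,
inside the derived series of `M`. -/
theorem derivedSeries_succ_le_map (M : Subgroup P) (hM : commutator P ≤ M) :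
    ∀ k, derivedSeries P (k + 1) ≤ (derivedSeries M k).map M.subtype := by
  intro k
  induction k with
  | zero =>
    intro x hx
    rw [derivedSeries_one] at hx
    refine ⟨⟨x, hM hx⟩, ?_, rfl⟩
    simp
  | succ k ih =>
    rw [derivedSeries_succ P (k + 1), derivedSeries_succ (↥M) k, Subgroup.map_commutator]
    exact Subgroup.commutator_mono ih ih

/-- reduction of the kernel statement to the faithful quotient. -/
theorem derivedSeries_le_ker_of_quotient {Q : Type*} [Group Q] (ρ : P →* Q) (k : ℕ)
    (h : derivedSeries (P ⧸ ρ.ker) k = ⊥) : derivedSeries P k ≤ ρ.ker := by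
  intro x hx
  have h1 : QuotientGroup.mk' ρ.ker x ∈ (derivedSeries P k).map (QuotientGroup.mk' ρ.ker) :=
    ⟨x, hx, rfl⟩
  have h2 := map_derivedSeries_le_derivedSeries (QuotientGroup.mk' ρ.ker) k h1
  rw [h] at h2
  rw [Subgroup.mem_bot] at h2
  have := (QuotientGroup.eq_one_iff (N := ρ.ker) x).1 h2
  exact this

/-- a `p`-power order linear automorphism acting trivially on `W` and on `V ⧸ W` is trivial
when `p` is invertible. -/
theorem eq_one_of_unipotent {p : ℕ} (hpK : (p : K) ≠ 0) (g : V ≃ₗ[K] V) (e : ℕ)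
    (hg : g ^ (p ^ e) = 1) (W : Submodule K V) (h1 : ∀ w ∈ W, g w = w)
    (h2 : ∀ v : V, g v - v ∈ W) : g = 1 := by
  have key : ∀ (m : ℕ) (v : V), (g ^ m) v = v + m • (g v - v) := by
    intro m
    induction m with
    | zero => intro v; simp
    | succ m ih =>
      intro v
      rw [pow_succ', LinearEquiv.mul_apply, ih v, map_add, map_nsmul, h1 _ (h2 v)]
      rw [succ_nsmul]
      abel
  ext v
  have h3 := key (p ^ e) v
  rw [hg] at h3
  simp only [LinearEquiv.coe_one, id_eq] at h3
  have h4 : (p ^ e) • (g v - v) = 0 := by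
    have : v + (p ^ e) • (g v - v) = v + 0 := by rw [add_zero]; exact h3.symm
    exact add_left_cancel this
  rw [← Nat.cast_smul_eq_nsmul K] at h4
  have h5 : ((p ^ e : ℕ) : K) ≠ 0 := by
    push_cast
    exact pow_ne_zero _ hpK
  have h6 := (smul_eq_zero.1 h4).resolve_left h5
  simpa [sub_eq_zero] using h6

end Cfsg.Agent.Lib.Helper87.LinRep
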