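import Cfsg.Agent.Lib.Helper87.LinRepCoprime

set_option autoImplicit false

namespace Cfsg.Agent.Lib.Helper87.LinRep

theorem sum_count_le_card {α : Type*} [DecidableEq α] (S : Finset α) (M : Multiset α) :
    ∑ x ∈ S, M.count x ≤ Multiset.card M := by
  calc ∑ x ∈ S, M.count x = ∑ x ∈ S.filter (fun x => x ∈ M), M.count x := by
        rw [Finset.sum_filter_of_ne]
        intro x _ hx
        exact Multiset.count_ne_zero.1 hx
    _ ≤ ∑ x ∈ M.toFinset, M.count x := by
        apply Finset.sum_le_sum_of_subset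
        intro x hx
        rw [Finset.mem_filter] at hx
        exact Multiset.mem_toFinset.2 hx.2
    _ = Multiset.card M := Multiset.toFinset_sum_count_eq M

/-- A matrix of `p`-power order over a finite field `F` with `q` elements: over any extension
field `K`, each eigenspace for an eigenvalue `ζ ≠ 1` has dimension at most `n / e`, where `e` is
the order of `q` modulo `p`. -/
theorem mul_finrank_eigenspace_le {F : Type*} [Field F] [Fintype F] {K : Type*} [Field K]
    [Algebra F K] {n : ℕ} (p : ℕ) [Fact p.Prime] (A : Matrix (Fin n) (Fin n) F) (a : ℕ)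
    (hA : A ^ (p ^ a) = 1) (ζ : K) (hζ : ζ ≠ 1) :
    orderOf ((Fintype.card F : ℕ) : ZMod p) *
      Module.finrank K (Module.End.eigenspace
        (Matrix.toLinAlgEquiv' (A.map (algebraMap F K)) : Module.End K (Fin n → K)) ζ) ≤ n := by
  classical
  set q := Fintype.card F with hq
  set e := orderOf ((q : ℕ) : ZMod p) with he
  set M : Matrix (Fin n) (Fin n) K := A.map (algebraMap F K) with hM
  set T : Module.End K (Fin n → K) := Matrix.toLinAlgEquiv' M with hT
  by_cases hbot : Module.End.eigenspace T ζ = ⊥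
  · rw [hbot, finrank_bot, mul_zero]; exact Nat.zero_le _
  obtain ⟨v, hv⟩ := (Module.End.hasEigenvalue_iff.2 hbot).exists_hasEigenvector
  have hMpow : M ^ (p ^ a) = 1 := by
    have := congrArg (RingHom.mapMatrix (algebraMap F K)) hA
    rw [map_pow, map_one] at this
    exact this
  have hTpow : T ^ (p ^ a) = 1 := by rw [hT, ← map_pow, hMpow, map_one]
  have hζpow : ζ ^ (p ^ a) = 1 := by
    have h1 := hv.pow_apply (p ^ a)
    rw [hTpow] at h1
    have h2 : (ζ ^ (p ^ a) - 1) • v = 0 := by
      rw [sub_smul, one_smul, ← h1]; simp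
    rcases smul_eq_zero.1 h2 with h | h
    · exact sub_eq_zero.1 h
    · exact absurd h hv.2
  have hζ0 : ζ ≠ 0 := by
    intro h
    rw [h, zero_pow (pow_ne_zero _ (Fact.out : p.Prime).ne_zero)] at hζpow
    exact zero_ne_one hζpow
  set u : Kˣ := Units.mk0 ζ hζ0 with hu
  have hupow : u ^ (p ^ a) = 1 := by
    apply Units.ext
    simp [hu, hζpow]
  have hu1 : u ≠ 1 := by
    intro h
    apply hζ
    have := congrArg Units.val h
    simpa [hu] using this
  have hord : p ∣ orderOf u := by
    have h1 : orderOf u ∣ p ^ a := orderOf_dvd_of_pow_eq_one hupow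
    obtain ⟨k, hk, hk2⟩ := (Nat.dvd_prime_pow (Fact.out : p.Prime)).1 h1
    rcases Nat.eq_zero_or_pos k with h0 | hpos
    · exfalso
      rw [h0, pow_zero, orderOf_eq_one_iff] at hk2
      exact hu1 hk2
    · rw [hk2]; exact dvd_pow_self p hpos.ne'
  set χ := LinearMap.charpoly T with hχ
  have hχeq : χ = (A.charpoly).map (algebraMap F K) := by
    rw [hχ, hT]
    change (Matrix.toLin' M).charpoly = _
    rw [Matrix.charpoly_toLin', hM, Matrix.charpoly_map]
  let φ : K →+* K := (FiniteField.frobeniusAlgHom F K).toRingHom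
  have hφ : ∀ x, φ x = x ^ q := by
    intro x
    change (FiniteField.frobeniusAlgHom F K) x = x ^ q
    rw [FiniteField.coe_frobeniusAlgHom]
  have hφinj : Function.Injective φ := φ.injective
  have hφχ : χ.map φ = χ := by
    rw [hχeq, Polynomial.map_map]
    congr 1
    ext x
    exact (FiniteField.frobeniusAlgHom F K).commutes x
  have hstep : ∀ x : K, χ.rootMultiplicity (x ^ q) = χ.rootMultiplicity x := by
    intro x
    have := Polynomial.eq_rootMultiplicity_map (p := χ) hφinj x
    rw [hφχ, hφ] at this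
    exact this.symm
  have hiter : ∀ i : ℕ, χ.rootMultiplicity (ζ ^ (q ^ i)) = χ.rootMultiplicity ζ := by
    intro i
    induction i with
    | zero => simp
    | succ i ih => rw [pow_succ, pow_mul, hstep, ih]
  have hinj : Set.InjOn (fun i : ℕ => ζ ^ (q ^ i)) (Finset.range e) := by
    intro i hi j hj hij
    simp only [Finset.coe_range, Set.mem_Iio] at hi hj
    have hij' : u ^ (q ^ i) = u ^ (q ^ j) := by
      apply Units.ext
      simpa [hu] using hij
    have h1 : q ^ i ≡ q ^ j [MOD orderOf u] := pow_eq_pow_iff_modEq.1 hij'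
    have h2 : q ^ i ≡ q ^ j [MOD p] := h1.of_dvd hord
    have h3 : ((q : ℕ) : ZMod p) ^ i = ((q : ℕ) : ZMod p) ^ j := by
      have := (ZMod.natCast_eq_natCast_iff _ _ _).2 h2
      push_cast at this
      exact this
    exact pow_injOn_Iio_orderOf (Set.mem_Iio.2 hi) (Set.mem_Iio.2 hj) h3
  have hsum : ∑ x ∈ (Finset.range e).image (fun i : ℕ => ζ ^ (q ^ i)), χ.rootMultiplicity x
      = e * χ.rootMultiplicity ζ := by
    rw [Finset.sum_image hinj]
    simp [hiter]
  have hle : ∑ x ∈ (Finset.range e).image (fun i : ℕ => ζ ^ (q ^ i)), χ.rootMultiplicity x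
      ≤ Multiset.card χ.roots := by
    simp_rw [← Polynomial.count_roots]
    exact sum_count_le_card _ _
  have hdeg : χ.natDegree = n := by
    rw [hχ, LinearMap.charpoly_natDegree, Module.finrank_fin_fun]
  calc e * Module.finrank K (Module.End.eigenspace T ζ)
      ≤ e * χ.rootMultiplicity ζ := Nat.mul_le_mul_left _ (LinearMap.finrank_eigenspace_le T ζ)
    _ = ∑ x ∈ (Finset.range e).image (fun i : ℕ => ζ ^ (q ^ i)), χ.rootMultiplicity x :=
        hsum.symm
    _ ≤ Multiset.card χ.roots := hle
    _ ≤ χ.natDegree := Polynomial.card_roots' χ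
    _ = n := hdeg


section
variable {K : Type*} [Field K] {P : Type*} [Group P] {V : Type*} [AddCommGroup V] [Module K V]

/-- Eigenvectors of the induced map on a quotient lift to eigenvectors, for an endomorphism of
finite order invertible in `K` (averaging projector). -/
theorem eigenspace_quot_le {m : ℕ} (hm : (m : K) ≠ 0) (T : Module.End K V) (hT : T ^ m = 1)
    (W : Submodule K V) (hW : W ≤ W.comap T) (ζ : K) :
    Module.End.eigenspace (W.mapQ W T hW : Module.End K (V ⧸ W)) ζ ≤
      (Module.End.eigenspace T ζ).map W.mkQ := by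
  have hpow : ∀ (i : ℕ) (x : V), ((W.mapQ W T hW : Module.End K (V ⧸ W)) ^ i)
      (Submodule.Quotient.mk x) = Submodule.Quotient.mk ((T ^ i) x) := by
    intro i
    induction i with
    | zero => intro x; simp
    | succ i ih =>
      intro x
      rw [pow_succ, Module.End.mul_apply, Submodule.mapQ_apply, ih, pow_succ, Module.End.mul_apply]
  intro y hy
  rw [Module.End.mem_eigenspace_iff] at hy
  obtain ⟨x, rfl⟩ := Submodule.Quotient.mk_surjective W y
  have heig : ∀ i : ℕ, (Submodule.Quotient.mk ((T ^ i) x) : V ⧸ W) =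
      ζ ^ i • Submodule.Quotient.mk x := by
    intro i
    induction i with
    | zero => simp
    | succ i ih =>
      rw [← hpow, pow_succ', Module.End.mul_apply, hpow, ih, map_smul, hy, smul_smul, pow_succ]
  by_cases hζ : ζ ^ m = 1
  · have hm0 : m ≠ 0 := by
      intro h
      apply hm
      rw [h, Nat.cast_zero]
    have hζ0 : ζ ≠ 0 := by
      intro h
      rw [h, zero_pow hm0] at hζ
      exact zero_ne_one hζ
    let f : ℕ → V := fun i => (ζ⁻¹) ^ i • (T ^ i) x
    have hf0 : f m = f 0 := by
      simp only [f]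
      rw [hT, inv_pow, hζ]
      simp
    have hshift : ∑ i ∈ Finset.range m, f (i + 1) = ∑ i ∈ Finset.range m, f i := by
      have h1 := Finset.sum_range_succ f m
      have h2 := Finset.sum_range_succ' f m
      rw [h1, hf0] at h2
      exact (add_right_cancel h2).symm
    have hTf : ∀ i, T (f i) = ζ • f (i + 1) := by
      intro i
      simp only [f]
      rw [map_smul, pow_succ' T, Module.End.mul_apply, smul_smul, pow_succ, ← mul_assoc,
        mul_comm ζ, mul_assoc, mul_inv_cancel₀ hζ0, mul_one]
    refine ⟨(m : K)⁻¹ • ∑ i ∈ Finset.range m, f i, ?_, ?_⟩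
    · rw [SetLike.mem_coe, Module.End.mem_eigenspace_iff, map_smul, map_sum]
      simp_rw [hTf]
      rw [← Finset.smul_sum, hshift, smul_comm]
    · rw [map_smul, map_sum]
      have : ∀ i ∈ Finset.range m, W.mkQ (f i) = Submodule.Quotient.mk x := by
        intro i _
        simp only [f]
        rw [map_smul, Submodule.mkQ_apply, heig, smul_smul, inv_pow, inv_mul_cancel₀
          (pow_ne_zero _ hζ0), one_smul]
      rw [Finset.sum_congr rfl this, Finset.sum_const, Finset.card_range,
        ← Nat.cast_smul_eq_nsmul K, smul_smul, inv_mul_cancel₀ hm, one_smul]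
  · have h1 := heig m
    rw [hT] at h1
    simp only [Module.End.one_apply] at h1
    have h2 : (ζ ^ m - 1) • (Submodule.Quotient.mk x : V ⧸ W) = 0 := by
      rw [sub_smul, one_smul, ← h1, sub_self]
    have h3 := (smul_eq_zero.1 h2).resolve_left (sub_ne_zero.2 hζ)
    rw [h3]
    exact zero_mem _


theorem quotRep_coe (ρ : P →* (V ≃ₗ[K] V)) (W : Submodule K V) (hW : Inv ρ W) (g : P) :
    ((quotRep ρ W hW g : (V ⧸ W) ≃ₗ[K] (V ⧸ W)) : (V ⧸ W) →ₗ[K] (V ⧸ W)) =
      W.mapQ W ((ρ g : V ≃ₗ[K] V) : V →ₗ[K] V) (fun w hw => hW g w hw) := by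
  apply Submodule.linearMap_qext
  ext v
  simp [quotRep_mk]

theorem coe_pow_eq (ρ : P →* (V ≃ₗ[K] V)) (z : P) (i : ℕ) :
    (((ρ z : V ≃ₗ[K] V) : V →ₗ[K] V) : Module.End K V) ^ i =
      ((ρ (z ^ i) : V ≃ₗ[K] V) : V →ₗ[K] V) := by
  induction i with
  | zero =>
    ext v
    simp
  | succ i ih =>
    ext v
    rw [pow_succ, Module.End.mul_apply, ih, pow_succ, map_mul]
    rfl

/-- the eigenspace bound passes to invariant subspaces. -/
theorem finrank_eigenspace_subRep_le [FiniteDimensional K V] (ρ : P →* (V ≃ₗ[K] V))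
    (W : Submodule K V) (hW : Inv ρ W) (z : P) (ζ : K) :
    Module.finrank K (Module.End.eigenspace
      ((subRep ρ W hW z : W ≃ₗ[K] W) : W →ₗ[K] W) ζ) ≤
    Module.finrank K (Module.End.eigenspace ((ρ z : V ≃ₗ[K] V) : V →ₗ[K] V) ζ) := by
  rw [← Submodule.finrank_map_subtype_eq W]
  apply Submodule.finrank_mono
  rintro _ ⟨w, hw, rfl⟩
  rw [SetLike.mem_coe, Module.End.mem_eigenspace_iff] at hw
  rw [Module.End.mem_eigenspace_iff]
  have h1 := subRep_apply ρ W hW z w
  have h2 := congrArg (fun y : W => (y : V)) hw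
  change ρ z (w : V) = ζ • (w : V)
  rw [← h1]
  exact h2

/-- the eigenspace bound passes to quotients. -/
theorem finrank_eigenspace_quotRep_le {p : ℕ} [Fact p.Prime] (hpK : (p : K) ≠ 0)
    (hP : IsPGroup p P) [FiniteDimensional K V] (ρ : P →* (V ≃ₗ[K] V))
    (W : Submodule K V) (hW : Inv ρ W) (z : P) (ζ : K) :
    Module.finrank K (Module.End.eigenspace
      ((quotRep ρ W hW z : (V ⧸ W) ≃ₗ[K] (V ⧸ W)) : (V ⧸ W) →ₗ[K] (V ⧸ W)) ζ) ≤
    Module.finrank K (Module.End.eigenspace ((ρ z : V ≃ₗ[K] V) : V →ₗ[K] V) ζ) := by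
  obtain ⟨a, ha⟩ := hP z
  have hm : ((p ^ a : ℕ) : K) ≠ 0 := by
    push_cast
    exact pow_ne_zero _ hpK
  have hT : (((ρ z : V ≃ₗ[K] V) : V →ₗ[K] V) : Module.End K V) ^ (p ^ a) = 1 := by
    rw [coe_pow_eq, ha, map_one]
    rfl
  have h1 := eigenspace_quot_le hm _ hT W (fun w hw => hW z w hw) ζ
  rw [quotRep_coe]
  exact (Submodule.finrank_mono h1).trans (Submodule.finrank_map_le _ _)

universe u v

/-- Bound in terms of eigenspace dimensions of non-identity eigenvalues. -/
theorem derivedSeries_le_ker_of_eigen_bound {K : Type*} [Field K] [IsAlgClosed K] {p : ℕ}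
    [Fact p.Prime] (hpK : (p : K) ≠ 0) {P : Type u} [Group P] [Finite P] (hP : IsPGroup p P)
    (d : ℕ) :
    ∀ (n : ℕ) (V : Type v) [AddCommGroup V] [Module K V] [FiniteDimensional K V]
      (ρ : P →* (V ≃ₗ[K] V)), Module.finrank K V = n →
      (∀ (z : P) (ζ : K), ζ ≠ 1 → Module.finrank K
        (Module.End.eigenspace ((ρ z : V ≃ₗ[K] V) : V →ₗ[K] V) ζ) ≤ d) →
      derivedSeries P (Nat.log 2 d + 1) ≤ ρ.ker := by
  intro n
  induction n using Nat.strong_induction_on with
  | _ n IH =>
    intro V _ _ _ ρ hn H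
    by_cases hred : ∃ W : Submodule K V, Inv ρ W ∧ W ≠ ⊥ ∧ W ≠ ⊤
    · obtain ⟨W, hW, hWbot, hWtop⟩ := hred
      have hm1 : Module.finrank K W < n := hn ▸ Submodule.finrank_lt hWtop
      have hm2 : Module.finrank K (V ⧸ W) < n := by
        have h1 := W.finrank_quotient_add_finrank
        have h2 : 1 ≤ Module.finrank K W := Submodule.one_le_finrank_iff.2 hWbot
        omega
      have h1 := IH _ hm1 W (subRep ρ W hW) rfl
        (fun z ζ hζ => (finrank_eigenspace_subRep_le ρ W hW z ζ).trans (H z ζ hζ))
      have h2 := IH _ hm2 (V ⧸ W) (quotRep ρ W hW) rfl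
        (fun z ζ hζ => (finrank_eigenspace_quotRep_le hpK hP ρ W hW z ζ).trans (H z ζ hζ))
      intro g hg
      rw [MonoidHom.mem_ker]
      have hg1 : g ∈ (subRep ρ W hW).ker := h1 hg
      have hg2 : g ∈ (quotRep ρ W hW).ker := h2 hg
      obtain ⟨e, he⟩ := hP g
      apply eq_one_of_unipotent hpK (ρ g) e (by rw [← map_pow, he, map_one]) W
      · intro w hw
        have h3 := MonoidHom.mem_ker.1 hg1
        have h4 := subRep_apply ρ W hW g ⟨w, hw⟩
        rw [h3] at h4
        simpa using h4.symm
      · intro v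
        have h3 := MonoidHom.mem_ker.1 hg2
        have h4 := quotRep_mk ρ W hW g v
        rw [h3] at h4
        exact (Submodule.Quotient.eq _).1 h4.symm
    · have hirr : ∀ W : Submodule K V, Inv ρ W → W = ⊥ ∨ W = ⊤ := by
        intro W hW
        by_contra h
        push Not at h
        exact hred ⟨W, hW, h.1, h.2⟩
      rcases Nat.eq_zero_or_pos n with h0 | hpos
      · rw [h0] at hn
        have hsub : Subsingleton V := Module.finrank_zero_iff.1 hn
        intro g _
        rw [MonoidHom.mem_ker]
        ext v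
        exact Subsingleton.elim _ _
      have hnt : Nontrivial V := Module.finrank_pos_iff.1 (hn ▸ hpos)
      by_cases hker : ρ.ker = ⊤
      · rw [hker]; exact le_top
      · have hntQ : Nontrivial (P ⧸ ρ.ker) := by
          by_contra h
          rw [not_nontrivial_iff_subsingleton] at h
          apply hker
          rw [eq_top_iff]
          intro g _
          have : (QuotientGroup.mk g : P ⧸ ρ.ker) = QuotientGroup.mk 1 :=
            Subsingleton.elim _ _
          rw [QuotientGroup.mk_one, QuotientGroup.eq_one_iff] at this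
          exact this
        have hQ : IsPGroup p (P ⧸ ρ.ker) := hP.to_quotient _
        have hcen := hQ.center_nontrivial
        obtain ⟨⟨zb, hzb⟩, hzne⟩ := exists_ne (1 : Subgroup.center (P ⧸ ρ.ker))
        obtain ⟨z, rfl⟩ := QuotientGroup.mk_surjective zb
        have hzker : z ∉ ρ.ker := by
          intro hz
          apply hzne
          ext
          exact (QuotientGroup.eq_one_iff z).2 hz
        have hcomm : ∀ (g : P) (v : V), ρ z (ρ g v) = ρ g (ρ z v) := by
          intro g v
          have h1 := Subgroup.mem_center_iff.1 hzb (QuotientGroup.mk g)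
          have h2 : ρ (g * z) = ρ (z * g) := by
            rw [← QuotientGroup.kerLift_mk ρ (g * z), ← QuotientGroup.kerLift_mk ρ (z * g)]
            congr 1
          rw [← LinearEquiv.mul_apply, ← LinearEquiv.mul_apply, ← map_mul, ← map_mul, h2]
        obtain ⟨ζ, hζ⟩ := schur ρ hirr ((ρ z : V ≃ₗ[K] V) : V →ₗ[K] V) hcomm
        have hζ1 : ζ ≠ 1 := by
          intro h
          apply hzker
          rw [MonoidHom.mem_ker]
          ext v
          have := hζ v
          rw [h, one_smul] at this
          simpa using this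
        have htop : Module.End.eigenspace ((ρ z : V ≃ₗ[K] V) : V →ₗ[K] V) ζ = ⊤ := by
          rw [eq_top_iff]
          intro v _
          rw [Module.End.mem_eigenspace_iff]
          exact hζ v
        have hnd : n ≤ d := by
          have := H z ζ hζ1
          rw [htop, finrank_top, hn] at this
          exact this
        have h1 := derivedSeries_le_ker_of_coprime hpK n P hP V ρ hn
        refine le_trans (derivedSeries_antitone P ?_) h1
        exact Nat.add_le_add_right (Nat.log_mono_right hnd) 1


end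

end Cfsg.Agent.Lib.Helper87.LinRep
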