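/-
helper87: `p`-groups of maximal class (order `p ^ n`, class `n - 1`): orders of the terms of the lower central series
(extracted from helper59's `maxclass_structure`, which has an extra hypothesis), the centre is the last nontrivial term,
and the central quotient is again of maximal class with the image lower central series.
Namespace `Cfsg.Agent.Lib.Helper87.MCP`.
-/
import Mathlib
import Cfsg.Agent.Lib.Helper73.MaxClassIndex
import Cfsg.Agent.Lib.Helper87.MaxClassBasic

set_option autoImplicit false

namespace Cfsg.Agent.Lib.Helper87.MCP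

open scoped commutatorElement

/-- [MC-CARD] orders of the lower central series of a `p`-group of maximal class. -/
theorem mc_card_lcs {G : Type*} [Group G] [Finite G] {p : ℕ} [Fact p.Prime] (n : ℕ) (hn : 3 ≤ n)
    (hG : Nat.card G = p ^ n) (hcl : Group.nilpotencyClass G = n - 1) :
    ∀ k, 1 ≤ k → k ≤ n - 1 →
      Nat.card ((⊤ : Subgroup G).lowerCentralSeries k) = p ^ (n - 1 - k) := by
  classical
  have hp : p.Prime := Fact.out
  have hp1 : 1 < p := hp.one_lt
  have hGp : IsPGroup p G := IsPGroup.of_card hG
  have hnil : Group.IsNilpotent G := hGp.isNilpotent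
  set Γ := (⊤ : Subgroup G).lowerCentralSeries with hΓ
  have hanti : Antitone Γ := Subgroup.lowerCentralSeries_antitone (S := (⊤ : Subgroup G))
  have hsucc : ∀ k, Γ (k + 1) = ⁅Γ k, (⊤ : Subgroup G)⁆ := fun k => rfl
  have hexp : ∀ k, ∃ e, Nat.card ↥(Γ k) = p ^ e := fun k =>
    (hGp.to_subgroup (Γ k)).exists_card_eq
  choose e he using hexp
  have he1 : e 1 + 2 = n := by
    have hidx := Cfsg.Agent.Lib.Helper73.index_commutator_of_maximal_class (p := p) n G hG
      (by omega) hcl
    have h1 : Γ 1 = commutator G := Subgroup.top_lowerCentralSeries_one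
    have h2 := Subgroup.card_mul_index (Γ 1)
    rw [h1] at h2
    rw [← h1, he 1] at h2
    rw [h1, hidx, hG, ← pow_add] at h2
    exact Nat.pow_right_injective hp1 h2
  have hbot : Γ (n - 1) = ⊥ := by
    rw [hΓ, Subgroup.lowerCentralSeries_eq_bot_iff_nilpotencyClass_le, hcl]
  have hne : ∀ k, k < n - 1 → Γ k ≠ ⊥ := by
    intro k hk h
    rw [hΓ, Subgroup.lowerCentralSeries_eq_bot_iff_nilpotencyClass_le, hcl] at h
    omega
  have heend : e (n - 1) = 0 := by
    have h1 := he (n - 1)
    rw [hbot, Subgroup.card_bot] at h1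
    by_contra h0
    have : 1 < p ^ e (n - 1) := Nat.one_lt_pow h0 hp1
    omega
  have hstab : ∀ k, Γ (k + 1) = Γ k → ∀ m, Γ (k + m) = Γ k := by
    intro k hk m
    induction m with
    | zero => rfl
    | succ m ih =>
      have : Γ (k + (m + 1)) = ⁅Γ (k + m), (⊤ : Subgroup G)⁆ := rfl
      rw [this, ih, ← hsucc k, hk]
  have hstrict : ∀ k, k < n - 1 → e (k + 1) < e k := by
    intro k hk
    by_contra hcon
    push Not at hcon
    have hle : Γ (k + 1) ≤ Γ k := hanti (Nat.le_succ k)
    have hcard : Nat.card ↥(Γ k) ≤ Nat.card ↥(Γ (k + 1)) := by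
      rw [he k, he (k + 1)]
      exact Nat.pow_le_pow_right hp.pos hcon
    have heq : Γ (k + 1) = Γ k := Subgroup.eq_of_le_of_card_ge hle hcard
    have h1 := hstab k heq (n - 1 - k)
    have h2 : k + (n - 1 - k) = n - 1 := by omega
    rw [h2, hbot] at h1
    exact hne k hk h1.symm
  have hupper : ∀ k, 1 ≤ k → k ≤ n - 1 → e k + k ≤ n - 1 := by
    intro k hk
    induction k, hk using Nat.le_induction with
    | base => intro _; omega
    | succ k hk ih =>
      intro hk'
      have h1 := ih (by omega)
      have h2 := hstrict k (by omega)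
      omega
  have hlower : ∀ d, d ≤ n - 2 → n - 1 ≤ e (n - 1 - d) + (n - 1 - d) := by
    intro d
    induction d with
    | zero => intro _; simp
    | succ d ih =>
      intro hd
      have h1 := ih (by omega)
      have h2 := hstrict (n - 1 - (d + 1)) (by omega)
      have h3 : n - 1 - (d + 1) + 1 = n - 1 - d := by omega
      rw [h3] at h2
      omega
  intro k hk hk'
  have h1 := hupper k hk hk'
  have h2 := hlower (n - 1 - k) (by omega)
  have h3 : n - 1 - (n - 1 - k) = k := by omega
  rw [h3] at h2
  rw [he k]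
  congr 1
  omega

/-- The last term of the lower central series is trivial. -/
theorem mc_lcs_bot {G : Type*} [Group G] (n : ℕ) [Group.IsNilpotent G]
    (hcl : Group.nilpotencyClass G = n - 1) :
    (⊤ : Subgroup G).lowerCentralSeries (n - 1) = ⊥ := by
  rw [Subgroup.lowerCentralSeries_eq_bot_iff_nilpotencyClass_le, hcl]

/-- [MC-CENTER] the centre of a `p`-group of maximal class is the last nontrivial term of the lower central series. -/
theorem mc_center_eq {G : Type*} [Group G] [Finite G] {p : ℕ} [Fact p.Prime] (n : ℕ) (hn : 3 ≤ n)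
    (hG : Nat.card G = p ^ n) (hcl : Group.nilpotencyClass G = n - 1) :
    Subgroup.center G = (⊤ : Subgroup G).lowerCentralSeries (n - 2) := by
  have hGp : IsPGroup p G := IsPGroup.of_card hG
  have : Group.IsNilpotent G := hGp.isNilpotent
  have hZ := (maxClass_center hG hn (by omega)).1
  have hc := mc_card_lcs n hn hG hcl (n - 2) (by omega) (by omega)
  have hbot := mc_lcs_bot (G := G) n hcl
  have hle : (⊤ : Subgroup G).lowerCentralSeries (n - 2) ≤ Subgroup.center G := by
    intro x hx
    rw [Subgroup.mem_center_iff]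
    intro g
    have h1 : ⁅x, g⁆ ∈ (⊤ : Subgroup G).lowerCentralSeries (n - 2 + 1) :=
      Subgroup.commutator_mem_commutator hx (Subgroup.mem_top g)
    have h2 : n - 2 + 1 = n - 1 := by omega
    rw [h2, hbot, Subgroup.mem_bot, commutatorElement_eq_one_iff_mul_comm] at h1
    exact h1.symm
  symm
  apply Subgroup.eq_of_le_of_card_ge hle
  rw [hZ, hc]
  have : n - 1 - (n - 2) = 1 := by omega
  rw [this, pow_one]

/-- [MC-QUOT] the central quotient of a `p`-group of maximal class of order `p ^ n`, `n ≥ 4`. -/
theorem mc_quot {G : Type*} [Group G] [Finite G] {p : ℕ} [Fact p.Prime] (n : ℕ) (hn : 4 ≤ n)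
    (hG : Nat.card G = p ^ n) (hcl : Group.nilpotencyClass G = n - 1) :
    Nat.card (G ⧸ Subgroup.center G) = p ^ (n - 1) ∧
    Group.nilpotencyClass (G ⧸ Subgroup.center G) = (n - 1) - 1 ∧
    ∀ k, (⊤ : Subgroup (G ⧸ Subgroup.center G)).lowerCentralSeries k =
      ((⊤ : Subgroup G).lowerCentralSeries k).map (QuotientGroup.mk' (Subgroup.center G)) := by
  refine ⟨(maxClass_center hG (by omega) (by omega)).2.1, ?_, ?_⟩
  · rw [Group.nilpotencyClass_quotient_center, hcl]
  · intro k
    rw [Subgroup.map_lowerCentralSeries,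
      Subgroup.map_top_of_surjective _ (QuotientGroup.mk'_surjective _)]

end Cfsg.Agent.Lib.Helper87.MCP
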