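/-
helper87: uniform elements in `p`-groups of maximal class of order `p ^ n`, `n ≤ p + 1`:
outside any given proper subgroup there is an element `s` with `s ^ p ∈ Z(G)`.
Namespace `Cfsg.Agent.Lib.Helper87.MCP`.
-/
import Mathlib
import Cfsg.Agent.Lib.Helper87.MCBasic
import Cfsg.Agent.Lib.Helper87.B3Two
import Cfsg.Agent.S0662
import Cfsg.Agent.Lib.Helper39.MaxClassAvoid

set_option autoImplicit false
set_option linter.unusedSectionVars false

namespace Cfsg.Agent.Lib.Helper87.MCP

open Cfsg.Agent.Lib.Helper87.B3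
open Cfsg.Agent.Lib.Helper39.MaxClassReg
open scoped commutatorElement

section
variable {G : Type*} [Group G] [Finite G]

local notation "Γ" => Subgroup.lowerCentralSeries (⊤ : Subgroup G)

/-- the two-step centralizers of a group of maximal class are proper. -/
theorem mc_twoStep_ne_top {p : ℕ} [Fact p.Prime] (n : ℕ) (hn : 3 ≤ n)
    (hG : Nat.card G = p ^ n) (hcl : Group.nilpotencyClass G = n - 1) (j : ℕ) (hj1 : 1 ≤ j)
    (hj : j + 3 ≤ n) : twoStep (G := G) j ≠ ⊤ := by
  intro htop
  have hp : p.Prime := Fact.out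
  have hle : Γ (j + 1) ≤ Γ (j + 2) := by
    rw [Subgroup.lowerCentralSeries_succ, Subgroup.commutator_le]
    intro u hu g _
    have hg : g ∈ twoStep (G := G) j := by rw [htop]; exact Subgroup.mem_top g
    have h1 : ⁅g, u⁆ ∈ Γ (j + 2) := hg u hu
    have h2 : ⁅u, g⁆ = ⁅g, u⁆⁻¹ := (commutatorElement_inv g u).symm
    rw [h2]
    exact inv_mem h1
  have h1 := Subgroup.card_le_of_le hle
  rw [mc_card_lcs n hn hG hcl (j + 1) (by omega) (by omega),
    mc_card_lcs n hn hG hcl (j + 2) (by omega) (by omega)] at h1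
  have h2 := (Nat.pow_le_pow_iff_right hp.one_lt).mp h1
  omega

/-- the commutator with an element outside the two-step centralizer is injective on the factor `Γ j / Γ (j+1)`. -/
theorem mc_inj_step {p : ℕ} [Fact p.Prime] (n : ℕ) (hn : 3 ≤ n)
    (hG : Nat.card G = p ^ n) (hcl : Group.nilpotencyClass G = n - 1) (j : ℕ) (hj1 : 1 ≤ j)
    (hj : j + 3 ≤ n) (s : G) (hs : s ∉ twoStep (G := G) j) (u : G) (hu : u ∈ Γ j)
    (hsu : ⁅s, u⁆ ∈ Γ (j + 2)) : u ∈ Γ (j + 1) := by
  have hp : p.Prime := Fact.out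
  have hGp : IsPGroup p G := IsPGroup.of_card hG
  -- the subgroup D
  let D : Subgroup G :=
    { carrier := {v | v ∈ Γ j ∧ ⁅s, v⁆ ∈ Γ (j + 2)}
      one_mem' := ⟨one_mem _, by rw [commutatorElement_one_right]; exact one_mem _⟩
      mul_mem' := by
        rintro a b ⟨ha, ha'⟩ ⟨hb, hb'⟩
        refine ⟨mul_mem ha hb, ?_⟩
        have h1 := (comm_mem_iff_commute (Γ (j + 2)) s a).mp ha'
        have h2 := (comm_mem_iff_commute (Γ (j + 2)) s b).mp hb'
        rw [comm_mem_iff_commute, map_mul]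
        exact h1.mul_right h2
      inv_mem' := by
        rintro a ⟨ha, ha'⟩
        refine ⟨inv_mem ha, ?_⟩
        have h1 := (comm_mem_iff_commute (Γ (j + 2)) s a).mp ha'
        rw [comm_mem_iff_commute, map_inv]
        exact h1.inv_right }
  have hDmem : ∀ v, v ∈ D ↔ v ∈ Γ j ∧ ⁅s, v⁆ ∈ Γ (j + 2) := fun v => Iff.rfl
  have h1 : Γ (j + 1) ≤ D := by
    intro v hv
    exact ⟨lcs_anti (by omega) hv, comm_mem_succ s hv⟩
  have h2 : D ≤ Γ j := fun v hv => hv.1
  have h3 : D ≠ Γ j := by
    intro heq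
    apply hs
    intro v hv
    have : v ∈ D := by rw [heq]; exact hv
    exact this.2
  have hcj := mc_card_lcs n hn hG hcl j hj1 (by omega)
  have hcj1 := mc_card_lcs n hn hG hcl (j + 1) (by omega) (by omega)
  obtain ⟨d, hd⟩ := (hGp.to_subgroup D).exists_card_eq
  have hdle : d ≤ n - 1 - j := by
    have := Subgroup.card_le_of_le h2
    rw [hd, hcj] at this
    exact (Nat.pow_le_pow_iff_right hp.one_lt).mp this
  have hdne : d ≠ n - 1 - j := by
    intro heq
    apply h3
    apply Subgroup.eq_of_le_of_card_ge h2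
    rw [hd, hcj, heq]
  have hDeq : Γ (j + 1) = D := by
    apply Subgroup.eq_of_le_of_card_ge h1
    rw [hd, hcj1]
    apply Nat.pow_le_pow_right hp.pos
    omega
  rw [hDeq]
  exact ⟨hu, hsu⟩

/-- `G / G'` has exponent `p` for a `p`-group of maximal class of order at least `p ^ 3`. -/
theorem mc_pow_mem_lcs_one {p : ℕ} [Fact p.Prime] (n : ℕ) (hn : 3 ≤ n)
    (hG : Nat.card G = p ^ n) (hcl : Group.nilpotencyClass G = n - 1) (s : G) : s ^ p ∈ Γ 1 := by
  have hp : p.Prime := Fact.out
  have hGp : IsPGroup p G := IsPGroup.of_card hG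
  have hnil : Group.IsNilpotent G := hGp.isNilpotent
  have h1 : Γ 1 = commutator G := Subgroup.top_lowerCentralSeries_one
  rw [h1]
  have hidx := Cfsg.Agent.Lib.Helper73.index_commutator_of_maximal_class (p := p) n G hG
    (by omega) hcl
  have hcard : Nat.card (G ⧸ commutator G) = p ^ 2 := by
    rw [← Subgroup.index_eq_card]; exact hidx
  rw [← QuotientGroup.eq_one_iff, QuotientGroup.mk_pow]
  set q : G ⧸ commutator G := (s : G ⧸ commutator G) with hq
  have hord : orderOf q ∣ p ^ 2 := by rw [← hcard]; exact orderOf_dvd_natCard q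
  obtain ⟨e, he, heq⟩ := (Nat.dvd_prime_pow hp).mp hord
  have he2 : e ≠ 2 := by
    intro h2
    rw [h2, ← hcard] at heq
    have hcyc : IsCyclic (G ⧸ commutator G) := isCyclic_of_orderOf_eq_card q heq
    have hbot := Cfsg.Agent.S0662.commutator_eq_bot_of_isCyclic (Q := G)
    have hc1 := mc_card_lcs n hn hG hcl 1 le_rfl (by omega)
    rw [h1, hbot, Subgroup.card_bot] at hc1
    have : 1 < p ^ (n - 1 - 1) := Nat.one_lt_pow (by omega) hp.one_lt
    omega
  have he1 : e ≤ 1 := by omega
  have : orderOf q ∣ p := by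
    rw [heq]
    calc p ^ e ∣ p ^ 1 := Nat.pow_dvd_pow p he1
      _ = p := pow_one p
  exact orderOf_dvd_iff_pow_eq_one.mp this

/-- [UNIF] in a `p`-group of maximal class of order `p ^ n`, `n ≤ p + 1`, every proper subgroup misses an element whose
`p`-th power is central. -/
theorem mc_exists_unif {p : ℕ} [Fact p.Prime] (n : ℕ) (hn : 3 ≤ n)
    (hnp : n ≤ p + 1) (hG : Nat.card G = p ^ n) (hcl : Group.nilpotencyClass G = n - 1)
    (M : Subgroup G) (hM : M ≠ ⊤) : ∃ s : G, s ∉ M ∧ s ^ p ∈ Subgroup.center G := by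
  classical
  have hp : p.Prime := Fact.out
  have hGp : IsPGroup p G := IsPGroup.of_card hG
  have hnil : Group.IsNilpotent G := hGp.isNilpotent
  let H : ℕ → Subgroup G := fun j => if j = 0 then M else twoStep (G := G) j
  have hH : ∀ j ∈ Finset.range (n - 2), H j ≠ ⊤ := by
    intro j hj
    rw [Finset.mem_range] at hj
    by_cases h0 : j = 0
    · simp only [H, h0, if_true]; exact hM
    · simp only [H, h0, if_false]
      exact mc_twoStep_ne_top n hn hG hcl j (by omega) (by omega)
  obtain ⟨s, hs⟩ := exists_not_mem_of_few_proper hGp (Finset.range (n - 2)) H hH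
    (by rw [Finset.card_range]; omega)
  have hsM : s ∉ M := by
    have := hs 0 (by rw [Finset.mem_range]; omega)
    simpa [H] using this
  have hsT : ∀ j, 1 ≤ j → j + 3 ≤ n → s ∉ twoStep (G := G) j := by
    intro j hj1 hj
    have := hs j (by rw [Finset.mem_range]; omega)
    have h0 : j ≠ 0 := by omega
    simpa [H, h0] using this
  refine ⟨s, hsM, ?_⟩
  -- centralizer of `s` in `Γ 1`
  have hcent : ∀ u ∈ Γ 1, ⁅s, u⁆ = 1 → ∀ j, 1 ≤ j → j ≤ n - 2 → u ∈ Γ j := by
    intro u hu hsu j hj1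
    induction j, hj1 using Nat.le_induction with
    | base => intro _; exact hu
    | succ j hj1 ih =>
      intro hj
      have hu' := ih (by omega)
      exact mc_inj_step n hn hG hcl j hj1 (by omega) s (hsT j hj1 (by omega)) u hu'
        (by rw [hsu]; exact one_mem _)
  have hsp : s ^ p ∈ Γ 1 := mc_pow_mem_lcs_one n hn hG hcl s
  have hcomm : ⁅s, s ^ p⁆ = 1 := by
    rw [commutatorElement_eq_one_iff_commute]
    exact (Commute.refl s).pow_right p
  rw [mc_center_eq n hn hG hcl]
  exact hcent (s ^ p) hsp hcomm (n - 2) (by omega) le_rfl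

end

end Cfsg.Agent.Lib.Helper87.MCP
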