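/-
helper87: in a `p`-group of maximal class of order `p ^ n`, `3 ≤ n ≤ p + 1`, all `p`-th powers are central
(Blackburn: `G / Z(G)` has exponent `p`). Induction on `n` through the central quotient.
Namespace `Cfsg.Agent.Lib.Helper87.MCP`.
-/
import Mathlib
import Cfsg.Agent.Lib.Helper87.MCUnif
import Cfsg.Agent.S4209
import Cfsg.Agent.Lib.Helper39.MaxClassRegA

set_option autoImplicit false

namespace Cfsg.Agent.Lib.Helper87.MCP

open Cfsg
open Cfsg.Agent.Lib.Helper39.MaxClassReg
open scoped commutatorElement

universe u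

/-- base case: order `p ^ 3`. -/
theorem mc_pow_center_three {p : ℕ} [Fact p.Prime] (G : Type u) [Group G] [Finite G]
    (hG : Nat.card G = p ^ 3) (hcl : Group.nilpotencyClass G = 3 - 1) (y : G) :
    y ^ p ∈ Subgroup.center G := by
  have hp : p.Prime := Fact.out
  have hGp : IsPGroup p G := IsPGroup.of_card hG
  have hnil : Group.IsNilpotent G := hGp.isNilpotent
  have hcard : Nat.card (G ⧸ Subgroup.center G) = p ^ 2 :=
    (maxClass_center hG le_rfl (by omega)).2.1
  rw [← QuotientGroup.eq_one_iff, QuotientGroup.mk_pow]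
  set q : G ⧸ Subgroup.center G := (y : G ⧸ Subgroup.center G) with hq
  have hord : orderOf q ∣ p ^ 2 := by rw [← hcard]; exact orderOf_dvd_natCard q
  obtain ⟨e, he, heq⟩ := (Nat.dvd_prime_pow hp).mp hord
  have he2 : e ≠ 2 := by
    intro h2
    rw [h2, ← hcard] at heq
    have hcyc : IsCyclic (G ⧸ Subgroup.center G) := isCyclic_of_orderOf_eq_card q heq
    have hcm : IsMulCommutative G :=
      MonoidHom.isMulCommutative_of_isCyclic_of_ker_le_center (QuotientGroup.mk' (Subgroup.center G))
        (QuotientGroup.ker_mk' _).le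
    have h1 : Group.nilpotencyClass G ≤ 1 := Group.IsNilpotent.nilpotencyClass_le_one_iff.mpr hcm
    omega
  have he1 : e ≤ 1 := by omega
  have : orderOf q ∣ p := by
    rw [heq]
    calc p ^ e ∣ p ^ 1 := Nat.pow_dvd_pow p he1
      _ = p := pow_one p
  exact orderOf_dvd_iff_pow_eq_one.mp this

/-- [A] Blackburn: for `3 ≤ n ≤ p + 1` all `p`-th powers of a group of maximal class of order `p ^ n` are central. -/
theorem mc_pow_center {p : ℕ} [Fact p.Prime] :
    ∀ (n : ℕ), 3 ≤ n → n ≤ p + 1 → ∀ (G : Type u) [Group G] [Finite G], Nat.card G = p ^ n →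
      Group.nilpotencyClass G = n - 1 → ∀ y : G, y ^ p ∈ Subgroup.center G := by
  intro n hn
  induction n, hn using Nat.le_induction with
  | base =>
    intro _ G _ _ hG hcl y
    exact mc_pow_center_three G hG hcl y
  | succ n hn ih =>
    intro hnp G _ _ hG hcl y
    have hp : p.Prime := Fact.out
    have hGp : IsPGroup p G := IsPGroup.of_card hG
    obtain ⟨hQcard, hQcl, -⟩ := mc_quot (n + 1) (by omega) hG hcl
    have hQcard' : Nat.card (G ⧸ Subgroup.center G) = p ^ n := by simpa using hQcard
    have hQcl' : Group.nilpotencyClass (G ⧸ Subgroup.center G) = n - 1 := by simpa using hQcl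
    have hQp : IsPGroup p (G ⧸ Subgroup.center G) := IsPGroup.of_card hQcard'
    have hQnil : Group.IsNilpotent (G ⧸ Subgroup.center G) := hQp.isNilpotent
    have hIH := ih (by omega) (G ⧸ Subgroup.center G) hQcard' hQcl'
    -- the quotient is regular
    have hQreg : IsRegularPGroup p (G ⧸ Subgroup.center G) := by
      apply Cfsg.Agent.S4209.result hQp
      rw [Subgroup.lowerCentralSeries_eq_bot_iff_nilpotencyClass_le, hQcl']
      omega
    have hmul := reg_pow_mul hQreg hIH
    -- the `p`-th power homomorphism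
    let φ : (G ⧸ Subgroup.center G) →* (G ⧸ Subgroup.center G) :=
      { toFun := fun a => a ^ p
        map_one' := one_pow p
        map_mul' := hmul }
    have hφ : ∀ a, φ a = a ^ p := fun a => rfl
    by_cases hK : φ.ker = ⊤
    · have : (y : G ⧸ Subgroup.center G) ∈ φ.ker := by rw [hK]; exact Subgroup.mem_top _
      rw [MonoidHom.mem_ker, hφ, ← QuotientGroup.mk_pow, QuotientGroup.eq_one_iff] at this
      exact this
    · exfalso
      have hM : (φ.ker).comap (QuotientGroup.mk' (Subgroup.center G)) ≠ ⊤ := by
        intro htop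
        apply hK
        rw [eq_top_iff]
        intro a _
        obtain ⟨g, rfl⟩ := QuotientGroup.mk'_surjective (Subgroup.center G) a
        have : g ∈ (φ.ker).comap (QuotientGroup.mk' (Subgroup.center G)) := by
          rw [htop]; exact Subgroup.mem_top g
        exact this
      obtain ⟨s, hsM, hsp⟩ := mc_exists_unif (n + 1) (by omega) hnp hG hcl _ hM
      apply hsM
      rw [Subgroup.mem_comap, MonoidHom.mem_ker, hφ, QuotientGroup.mk'_apply,
        ← QuotientGroup.mk_pow, QuotientGroup.eq_one_iff]
      exact hsp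

end Cfsg.Agent.Lib.Helper87.MCP
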