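/-
helper87: Blackburn's power structure (upper bound) for `p`-groups of maximal class:
for `1 ≤ i ≤ p - 1` and `x ∈ γ_{i+1}(G) = lowerCentralSeries ⊤ i`, `x ^ p ∈ lowerCentralSeries ⊤ (i + p - 1)`.
Induction on the order through the central quotient, regular `p`-groups (helper70), and `mc_pow_center`.
Namespace `Cfsg.Agent.Lib.Helper87.MCP`.
-/
import Mathlib
import Cfsg.Agent.Lib.Helper87.MCPowA
import Cfsg.Agent.Lib.Helper70.RegularN
import Cfsg.Agent.Lib.Helper39.MaxClassRegA
import Cfsg.Agent.Lib.Helper39.MaxClassRegB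

set_option autoImplicit false
set_option linter.unusedSectionVars false

namespace Cfsg.Agent.Lib.Helper87.MCP

open Cfsg
open Cfsg.Agent.Lib.Helper39.MaxClassReg
open scoped commutatorElement

universe u

section
variable {G : Type u} [Group G] [Finite G]

local notation "Γ" => Subgroup.lowerCentralSeries (⊤ : Subgroup G)

/-- `Γ i = ⁅Γ (i-1), ⊤⁆` as a closure of commutators -/
theorem lcs_succ_eq_closure (i : ℕ) :
    Γ (i + 1) = Subgroup.closure {c : G | ∃ y ∈ Γ i, ∃ g : G, c = ⁅y, g⁆} := by
  rw [Subgroup.lowerCentralSeries_succ, Subgroup.commutator_def]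
  congr 1
  ext c
  constructor
  · rintro ⟨y, hy, g, -, rfl⟩
    exact ⟨y, hy, g, rfl⟩
  · rintro ⟨y, hy, g, rfl⟩
    exact ⟨y, hy, g, Subgroup.mem_top g, rfl⟩

/-- if all `p`-th powers of `Γ i` (`i ≥ 1`) are central and `Γ 1` is regular, then `Γ (i+1)` has exponent `p`. -/
theorem pow_eq_one_of_central_lcs {p : ℕ} [Fact p.Prime]
    (hR : IsRegularPGroup p ↥(Γ 1)) (i : ℕ) (hi : 1 ≤ i)
    (hc : ∀ y ∈ Γ i, y ^ p ∈ Subgroup.center G) : ∀ x ∈ Γ (i + 1), x ^ p = 1 := by
  intro x hx
  rw [lcs_succ_eq_closure] at hx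
  refine reg_closure_pow (Γ 1) hR _ ?_ ?_ x hx
  · rintro c ⟨y, hy, g, rfl⟩
    have h1 : ⁅y, g⁆ ∈ Γ (i + 1) := Subgroup.commutator_mem_commutator hy (Subgroup.mem_top g)
    exact Subgroup.lowerCentralSeries_antitone _ (by omega : 1 ≤ i + 1) h1
  · rintro c ⟨y, hy, g, rfl⟩
    have hy1 : y ∈ Γ 1 := Subgroup.lowerCentralSeries_antitone _ hi hy
    refine reg_comm_pow (Γ 1) hR y g hy1 ?_ ?_
    · exact Subgroup.Normal.conj_mem inferInstance y hy1 g
    · have := Subgroup.mem_center_iff.mp (hc y hy) g
      rw [this, mul_inv_cancel_right]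

/-- if all `p`-th powers of `G` are central and every maximal subgroup is regular, then `Γ 1` has exponent `p`. -/
theorem pow_eq_one_of_central_top {p : ℕ} [Fact p.Prime] (hGp : IsPGroup p G)
    (hncyc : ∀ y : G, Subgroup.closure ({y} : Set G) ≠ ⊤)
    (hR : ∀ M : Subgroup G, IsCoatom M → IsRegularPGroup p ↥M)
    (hc : ∀ y : G, y ^ p ∈ Subgroup.center G) : ∀ x ∈ Γ 1, x ^ p = 1 := by
  intro x hx
  have hcomm : ∀ y g : G, ⁅y, g⁆ ^ p = 1 := by
    intro y g
    rcases eq_top_or_exists_le_coatom (Subgroup.closure ({y} : Set G)) with h | ⟨M, hM, hle⟩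
    · exact absurd h (hncyc y)
    · have hMn : M.Normal := Cfsg.Agent.Lib.Helper1.coatom_normal_of_isPGroup hGp hM
      have hyM : y ∈ M := hle (Subgroup.subset_closure (Set.mem_singleton y))
      refine reg_comm_pow M (hR M hM) y g hyM (hMn.conj_mem y hyM g) ?_
      have := Subgroup.mem_center_iff.mp (hc y) g
      rw [this, mul_inv_cancel_right]
  -- a fixed maximal subgroup
  obtain ⟨y0⟩ : Nonempty G := ⟨1⟩
  rcases eq_top_or_exists_le_coatom (Subgroup.closure ({y0} : Set G)) with h | ⟨M, hM, -⟩
  · exact absurd h (hncyc y0)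
  · have hle : Γ 1 ≤ M := by
      rw [Subgroup.top_lowerCentralSeries_one]
      exact Cfsg.Agent.Lib.Helper70.commutator_le_coatom' hGp hM
    have h0 : Γ 1 = Γ (0 + 1) := rfl
    rw [h0, lcs_succ_eq_closure] at hx
    refine reg_closure_pow M (hR M hM) _ ?_ ?_ x hx
    · rintro c ⟨y, -, g, rfl⟩
      apply hle
      exact Subgroup.commutator_mem_commutator (Subgroup.mem_top y) (Subgroup.mem_top g)
    · rintro c ⟨y, -, g, rfl⟩
      exact hcomm y g

end

/-- [T] Blackburn's power structure, upper bound. -/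
theorem mc_pow_lcs {p : ℕ} [Fact p.Prime] :
    ∀ (n : ℕ), 3 ≤ n → ∀ (G : Type u) [Group G] [Finite G], Nat.card G = p ^ n →
      Group.nilpotencyClass G = n - 1 → ∀ i, 1 ≤ i → i ≤ p - 1 →
        ∀ x ∈ (⊤ : Subgroup G).lowerCentralSeries i,
          x ^ p ∈ (⊤ : Subgroup G).lowerCentralSeries (i + p - 1) := by
  intro n hn
  induction n, hn using Nat.le_induction with
  | base =>
    intro G _ _ hG hcl i hi1 _ x hx
    have hc := mc_card_lcs 3 le_rfl hG hcl 1 le_rfl (by omega)
    have hx1 : x ∈ (⊤ : Subgroup G).lowerCentralSeries 1 :=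
      Subgroup.lowerCentralSeries_antitone _ hi1 hx
    have h1 : (⟨x, hx1⟩ : ↥((⊤ : Subgroup G).lowerCentralSeries 1)) ^ p = 1 := by
      have := pow_card_eq_one' (G := ↥((⊤ : Subgroup G).lowerCentralSeries 1)) (x := ⟨x, hx1⟩)
      rw [hc] at this
      simpa using this
    have h2 : x ^ p = 1 := by
      have := congrArg Subtype.val h1
      rw [Subgroup.coe_pow, Subgroup.coe_one] at this
      exact this
    rw [h2]
    exact one_mem _
  | succ n hn ih =>
    intro G _ _ hG hcl i hi1 hip x hx
    have hp : p.Prime := Fact.out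
    have hGp : IsPGroup p G := IsPGroup.of_card hG
    have hnil : Group.IsNilpotent G := hGp.isNilpotent
    obtain ⟨hQcard, hQcl, hQlcs⟩ := mc_quot (n + 1) (by omega) hG hcl
    have hQcard' : Nat.card (G ⧸ Subgroup.center G) = p ^ n := by simpa using hQcard
    have hQcl' : Group.nilpotencyClass (G ⧸ Subgroup.center G) = n - 1 := by simpa using hQcl
    have hIH := ih (G ⧸ Subgroup.center G) hQcard' hQcl'
    have hZ : Subgroup.center G = (⊤ : Subgroup G).lowerCentralSeries (n - 1) := by
      have := mc_center_eq (n + 1) (by omega) hG hcl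
      simpa using this
    have hbot : (⊤ : Subgroup G).lowerCentralSeries n = ⊥ := by
      have := mc_lcs_bot (G := G) (n + 1) hcl
      simpa using this
    -- key decomposition
    have key : ∀ j, 1 ≤ j → j ≤ p - 1 → ∀ y ∈ (⊤ : Subgroup G).lowerCentralSeries j,
        ∃ w ∈ (⊤ : Subgroup G).lowerCentralSeries (j + p - 1), ∃ z ∈ Subgroup.center G,
          y ^ p = w * z := by
      intro j hj1 hjp y hy
      have h1 : (QuotientGroup.mk' (Subgroup.center G)) y ∈
          (⊤ : Subgroup (G ⧸ Subgroup.center G)).lowerCentralSeries j := by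
        rw [hQlcs j]
        exact Subgroup.mem_map_of_mem _ hy
      have h2 := hIH j hj1 hjp _ h1
      rw [hQlcs (j + p - 1)] at h2
      obtain ⟨w, hw, hwe⟩ := h2
      refine ⟨w, hw, w⁻¹ * y ^ p, ?_, by group⟩
      rw [← QuotientGroup.eq_one_iff, QuotientGroup.mk_mul, QuotientGroup.mk_inv]
      have : ((w : G) : G ⧸ Subgroup.center G) = ((y ^ p : G) : G ⧸ Subgroup.center G) := by
        simpa using hwe
      rw [this, inv_mul_cancel]
    by_cases hcase : i + p - 1 ≤ n - 1
    · obtain ⟨w, hw, z, hz, hxe⟩ := key i hi1 hip x hx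
      rw [hxe]
      refine mul_mem hw ?_
      rw [hZ] at hz
      exact Subgroup.lowerCentralSeries_antitone _ hcase hz
    · -- here `x ^ p = 1`
      have hcase' : n ≤ i + p - 1 := by omega
      suffices h : x ^ p = 1 by rw [h]; exact one_mem _
      have hp2 : 2 ≤ p := hp.two_le
      by_cases hi2 : 2 ≤ i
      · -- `Γ 1` is regular
        have hR : IsRegularPGroup p ↥((⊤ : Subgroup G).lowerCentralSeries 1) := by
          apply reg_lcs_one hGp
          rw [eq_bot_iff, ← hbot]
          exact Subgroup.lowerCentralSeries_antitone _ (by omega)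
        have hc : ∀ y ∈ (⊤ : Subgroup G).lowerCentralSeries (i - 1), y ^ p ∈ Subgroup.center G := by
          intro y hy
          obtain ⟨w, hw, z, hz, hye⟩ := key (i - 1) (by omega) (by omega) y hy
          rw [hye]
          refine mul_mem ?_ hz
          rw [hZ]
          exact Subgroup.lowerCentralSeries_antitone _ (by omega) hw
        have := pow_eq_one_of_central_lcs hR (i - 1) (by omega) hc
        have hi' : i - 1 + 1 = i := by omega
        rw [hi'] at this
        exact this x hx
      · have hi1' : i = 1 := by omega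
        subst hi1'
        have hnp : n + 1 ≤ p + 1 := by omega
        have hA := mc_pow_center (n + 1) (by omega) hnp G hG hcl
        have hncyc : ∀ y : G, Subgroup.closure ({y} : Set G) ≠ ⊤ := by
          intro y htop
          have hcyc : IsCyclic G := by
            rw [isCyclic_iff_exists_zpowers_eq_top]
            exact ⟨y, by rw [← Subgroup.zpowers_eq_closure] at htop; exact htop⟩
          have hcm : IsMulCommutative G := ⟨⟨fun a b => IsCyclic.commGroup.mul_comm a b⟩⟩
          have h1 : Group.nilpotencyClass G ≤ 1 :=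
            Group.IsNilpotent.nilpotencyClass_le_one_iff.mpr hcm
          omega
        have hRM : ∀ M : Subgroup G, IsCoatom M → IsRegularPGroup p ↥M := by
          intro M hM
          apply reg_of_card_le hGp
          have hidx := Cfsg.Agent.Lib.Helper1.coatom_index_of_isPGroup hGp hM
          have h1 := Subgroup.card_mul_index M
          rw [hidx, hG, pow_succ] at h1
          have h2 : Nat.card M = p ^ n := Nat.eq_of_mul_eq_mul_right hp.pos h1
          rw [h2]
          exact Nat.pow_le_pow_right hp.pos (by omega)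
        exact pow_eq_one_of_central_top hGp hncyc hRM hA x hx

end Cfsg.Agent.Lib.Helper87.MCP
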