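import Mathlib
import Cfsg.Agent.Lib.Helper87.PowerStructure
import Cfsg.Agent.Lib.Helper59.MaxClassStructure
import Cfsg.Agent.Lib.Helper30.MaxClassGen

/-!
# `p`-groups of maximal class with an element of order `p` whose centralizer has order `p²`
(helper87)

Every subgroup is generated by at most `p` elements.  (Structure: Helper59.MaxClassStructure;
exact power structure of `γ₂`: `PowerStructure`; jump count: Helper30.MaxClassGen.)
-/

set_option autoImplicit false

namespace Cfsg.Agent.Lib.Helper87

open scoped commutatorElement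

theorem maxclass_pearl_generators {G : Type*} [Group G] [Finite G] {p : ℕ} [Fact p.Prime]
    (n : ℕ) (hn : 3 ≤ n) (hG : Nat.card G = p ^ n)
    (hcl : Group.nilpotencyClass G = n - 1) (x : G) (hx : x ^ p = 1)
    (hC : Nat.card (Subgroup.centralizer ({x} : Set G)) = p ^ 2) :
    ∀ H : Subgroup G, ∃ T : Finset G, T.card ≤ p ∧ Subgroup.closure (T : Set G) = H := by
  have hp : p.Prime := Fact.out
  obtain ⟨hcard, _, hconj, huni⟩ :=
    Cfsg.Agent.Lib.Helper59.MaxClassStructure.maxclass_structure n hn hG hcl x hx hC
  have hbot : (⊤ : Subgroup G).lowerCentralSeries (n - 1) = ⊥ := by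
    have h1 := hcard (n - 1) (by omega) le_rfl
    rw [Nat.sub_self, pow_zero] at h1
    exact Subgroup.card_eq_one.mp h1
  exact Cfsg.Agent.Lib.Helper30.MaxClassGen.generators_of_power_structure n hn hG hcard
    (pow_mem_lcs hp n hbot x hx hconj)
    (mem_lcs_of_pow_mem hp n hbot x hx hconj huni)

end Cfsg.Agent.Lib.Helper87
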