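import Mathlib
import Cfsg.Agent.Lib.Helper99.MinIdx.Defs

/-!
# S2140-[LEMB] (helper99's sheet): the double counting lemma of Case I, `φ ≥ 1`.
-/

set_option autoImplicit false

namespace Cfsg.Agent.Lib.Helper87.MinIdxLemB

open Module MulAction Cfsg.Agent.Lib.Helper99.MinIdx

variable {F : Type*} [Field F] {V : Type*} [AddCommGroup V] [Module F V]

/-! ## generalities -/

theorem card_dvd_of_free {H X : Type*} [Group H] [MulAction H X]
    (h : ∀ x : X, stabilizer H x = ⊥) : Nat.card H ∣ Nat.card X := by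
  rw [Nat.card_congr (selfEquivOrbitsQuotientProd h), Nat.card_prod]
  exact dvd_mul_left _ _

theorem card_dvd_of_free_on {H Ω : Type*} [Group H] [MulAction H Ω] (D : Set Ω)
    (hinv : ∀ (h : H), ∀ x ∈ D, h • x ∈ D)
    (hfree : ∀ (h : H), ∀ x ∈ D, h • x = x → h = 1) :
    Nat.card H ∣ D.ncard := by
  let S : SubMulAction H Ω := ⟨D, fun h x hx => hinv h x hx⟩
  have hS : ∀ x : S, stabilizer H x = ⊥ := by
    intro x
    rw [SubMulAction.stabilizer_of_subMul, eq_bot_iff]
    intro h hh
    exact Subgroup.mem_bot.2 (hfree h x.1 x.2 (mem_stabilizer_iff.1 hh))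
  have := card_dvd_of_free hS
  rw [← Nat.card_coe_set_eq]
  exact this

theorem theta_succ (q k : ℕ) : theta q (k + 1) = theta q k + q ^ k := by
  unfold theta
  rw [Finset.sum_range_succ]

theorem theta_lt_pow {q : ℕ} (hq : 2 ≤ q) (k : ℕ) : theta q k < q ^ k := by
  induction k with
  | zero => simp [theta]
  | succ k ih =>
    rw [theta_succ, pow_succ]
    nlinarith [Nat.pow_pos (n := k) (by omega : 0 < q)]

theorem theta_mul (q k : ℕ) : theta q k * (q - 1) + 1 = q ^ k ∨ q = 0 := by
  rcases Nat.eq_zero_or_pos q with h | h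
  · exact Or.inr h
  · left
    induction k with
    | zero => simp [theta]
    | succ k ih =>
      rw [theta_succ, pow_succ, add_mul]
      obtain ⟨m, rfl⟩ : ∃ m, q = m + 1 := ⟨q - 1, by omega⟩
      simp only [Nat.add_sub_cancel] at ih ⊢
      nlinarith [ih]

/-! ## the sets `F_e` -/

section Fx

variable (F) (Ω : Type*) [MulAction (SpecialLinearGroup F V) Ω]

/-- The points fixed by the whole transvection group `Q_e`. -/
def Fx (e : V) : Set Ω := {ω | ∀ r : Dual F V, r e = 0 → tv e r • ω = ω}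

variable {F} {Ω}

theorem smul_mem_Fx (g : SpecialLinearGroup F V) {e : V} {ω : Ω} (h : ω ∈ Fx F Ω e) :
    g • ω ∈ Fx F Ω (g e) := by
  intro r' hr'
  have hre : (r'.comp (g.val : V →ₗ[F] V)) e = 0 := hr'
  have hx : ∀ x, r' (g x) = (r'.comp (g.val : V →ₗ[F] V)) x := fun x => rfl
  have := tv_conj g hre hx
  rw [← this, mul_smul, mul_smul, inv_smul_smul, h _ hre]

theorem inv_apply_apply (g : SpecialLinearGroup F V) (e : V) : g⁻¹ (g e) = e := by
  change (g⁻¹ * g) e = e
  rw [inv_mul_cancel]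
  rfl

theorem smul_mem_Fx_iff (g : SpecialLinearGroup F V) {e : V} {ω : Ω} :
    g • ω ∈ Fx F Ω (g e) ↔ ω ∈ Fx F Ω e := by
  refine ⟨fun h => ?_, smul_mem_Fx g⟩
  have := smul_mem_Fx g⁻¹ h
  rwa [inv_smul_smul, inv_apply_apply] at this

theorem Fx_smul {c : F} (hc : c ≠ 0) (e : V) : Fx F Ω (c • e) = Fx F Ω e := by
  ext ω
  constructor
  · intro h r hr
    have h1 : (c⁻¹ • r) (c • e) = 0 := by simp [hr]
    have := h _ h1
    rwa [tv_smul_left, smul_smul, mul_inv_cancel₀ hc, one_smul] at this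
  · intro h r hr
    have h1 : (c • r) e = 0 := by
      have : c * r e = 0 := by simpa using hr
      simpa using this
    have := h _ h1
    rwa [← tv_smul_left] at this

theorem Fx_eq_fixedBy
    (hCI : ∀ (e : V), e ≠ 0 → ∀ ω : Ω, (∀ r : Dual F V, r e = 0 → tv e r • ω = ω) ∨
      (∀ r : Dual F V, r e = 0 → r ≠ 0 → tv e r • ω ≠ ω))
    {e : V} (he : e ≠ 0) {r : Dual F V} (hr : r ≠ 0) (hre : r e = 0) :
    Fx F Ω e = fixedBy Ω (tv e r) := by
  ext ω
  constructor
  · intro h
    exact h r hre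
  · intro h
    rcases hCI e he ω with h1 | h1
    · exact h1
    · exact absurd h (h1 r hre hr)

theorem exists_dual [FiniteDimensional F V] (hn : 3 ≤ finrank F V) (e e' : V) :
    ∃ r : Dual F V, r ≠ 0 ∧ r e = 0 ∧ r e' = 0 := by
  classical
  have h1 : finrank F (Submodule.span F (({e, e'} : Finset V) : Set V)) ≤ 2 :=
    (finrank_span_finset_le_card _).trans Finset.card_le_two
  have h2 : Submodule.span F (({e, e'} : Finset V) : Set V) < ⊤ := by
    rw [lt_top_iff_ne_top]
    intro h
    rw [h, finrank_top] at h1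
    omega
  obtain ⟨f, hf, hle⟩ := Submodule.exists_le_ker_of_lt_top _ h2
  refine ⟨f, hf, ?_, ?_⟩
  · exact hle (Submodule.subset_span (by simp))
  · exact hle (Submodule.subset_span (by simp))

theorem ncard_Fx [FiniteDimensional F V] (hn : 3 ≤ finrank F V) (φ : ℕ)
    (hfix : ∀ (e : V) (r : Dual F V), e ≠ 0 → r ≠ 0 → r e = 0 →
      Nat.card (fixedBy Ω (tv e r)) = φ)
    (hCI : ∀ (e : V), e ≠ 0 → ∀ ω : Ω, (∀ r : Dual F V, r e = 0 → tv e r • ω = ω) ∨
      (∀ r : Dual F V, r e = 0 → r ≠ 0 → tv e r • ω ≠ ω))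
    {e : V} (he : e ≠ 0) : (Fx F Ω e).ncard = φ := by
  obtain ⟨r, hr, hre, -⟩ := exists_dual hn e e
  rw [Fx_eq_fixedBy hCI he hr hre, ← Nat.card_coe_set_eq]
  exact hfix e r he hr hre

end Fx

/-! ## the free action on `F_{e'} \ F_e` -/

section free

theorem card_annE_inf [Finite F] [FiniteDimensional F V] {e e' : V}
    (h : LinearIndependent F ![e, e']) :
    Nat.card (annE (F := F) e ⊓ annE e' : Submodule F (Dual F V)) =
      Nat.card F ^ (finrank F V - 2) := by
  have h1 : (annE (F := F) e ⊓ annE e' : Submodule F (Dual F V)) =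
      (Submodule.span F (Set.range ![e, e'])).dualAnnihilator := by
    ext r
    rw [Submodule.mem_inf, mem_annE, mem_annE, Submodule.mem_dualAnnihilator]
    constructor
    · rintro ⟨h1, h2⟩ w hw
      have : Submodule.span F (Set.range ![e, e']) ≤ LinearMap.ker r := by
        rw [Submodule.span_le]
        rintro _ ⟨i, rfl⟩
        fin_cases i
        · simpa using h1
        · simpa using h2
      exact this hw
    · intro h
      exact ⟨h _ (Submodule.subset_span ⟨0, rfl⟩), h _ (Submodule.subset_span ⟨1, rfl⟩)⟩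
  have h2 := Subspace.finrank_add_finrank_dualAnnihilator_eq
    (Submodule.span F (Set.range ![e, e']))
  rw [finrank_span_eq_card h] at h2
  have h3 : finrank F (Submodule.span F (Set.range ![e, e'])).dualAnnihilator =
      finrank F V - 2 := by
    simp only [Fintype.card_fin] at h2
    omega
  rw [h1, ← h3]
  exact Module.natCard_eq_pow_finrank (K := F)
    (V := (Submodule.span F (Set.range ![e, e'])).dualAnnihilator)

/-- `r ↦ tv e r` on the functionals killing `e` and `e'`. -/
noncomputable def tvHom2 (e e' : V) :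
    Multiplicative (annE (F := F) e ⊓ annE e' : Submodule F (Dual F V)) →*
      SpecialLinearGroup F V where
  toFun r := tv e (Multiplicative.toAdd r).1
  map_one' := tv_zero_right e
  map_mul' a b :=
    (tv_mul_same_left (Multiplicative.toAdd a).2.1 (Multiplicative.toAdd b).2.1).symm

theorem tv_apply_of_eq_zero {e x : V} {r : Dual F V} (h : r e = 0) (hx : r x = 0) :
    tv e r x = x := by
  rw [tv_apply h, hx, zero_smul, add_zero]

variable {Ω : Type*} [MulAction (SpecialLinearGroup F V) Ω]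

theorem pow_dvd_ncard_diff [Finite F] [FiniteDimensional F V]
    (hCI : ∀ (e : V), e ≠ 0 → ∀ ω : Ω, (∀ r : Dual F V, r e = 0 → tv e r • ω = ω) ∨
      (∀ r : Dual F V, r e = 0 → r ≠ 0 → tv e r • ω ≠ ω))
    {e e' : V} (h : LinearIndependent F ![e, e']) :
    Nat.card F ^ (finrank F V - 2) ∣ (Fx F Ω e' \ Fx F Ω e).ncard := by
  have he : e ≠ 0 := h.ne_zero 0
  rw [← card_annE_inf h,
    ← Nat.card_congr (Multiplicative.toAdd (α := (annE (F := F) e ⊓ annE e' :
      Submodule F (Dual F V))))]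
  let _ : MulAction (Multiplicative (annE (F := F) e ⊓ annE e' : Submodule F (Dual F V))) Ω :=
    MulAction.compHom Ω (tvHom2 e e')
  apply card_dvd_of_free_on
  · intro s ω hω
    have hs1 : (Multiplicative.toAdd s).1 e = 0 := (Multiplicative.toAdd s).2.1
    have hs2 : (Multiplicative.toAdd s).1 e' = 0 := (Multiplicative.toAdd s).2.2
    change tv e (Multiplicative.toAdd s).1 • ω ∈ _
    refine ⟨?_, ?_⟩
    · have := smul_mem_Fx (tv e (Multiplicative.toAdd s).1) hω.1
      rwa [tv_apply_of_eq_zero hs1 hs2] at this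
    · intro hcon
      apply hω.2
      rw [← smul_mem_Fx_iff (tv e (Multiplicative.toAdd s).1), tv_apply_of_eq_zero hs1 hs1]
      exact hcon
  · intro s ω hω hfix
    have hs1 : (Multiplicative.toAdd s).1 e = 0 := (Multiplicative.toAdd s).2.1
    change tv e (Multiplicative.toAdd s).1 • ω = ω at hfix
    rcases hCI e he ω with h1 | h1
    · exact absurd h1 hω.2
    · by_contra hne
      apply h1 _ hs1 _ hfix
      intro h0
      apply hne
      apply Multiplicative.toAdd.injective
      exact Subtype.ext h0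

end free

/-! ## two-transitivity: the number `j` -/

section two

theorem exists_smul_pair {e e' f f' : V} (h : LinearIndependent F ![e, e'])
    (h' : LinearIndependent F ![f, f']) :
    ∃ (g : SpecialLinearGroup F V) (a b : F), a ≠ 0 ∧ b ≠ 0 ∧ g e = a • f ∧ g e' = b • f' := by
  have he : e ≠ 0 := h.ne_zero 0
  have he' : e' ≠ 0 := h.ne_zero 1
  have hf : f ≠ 0 := h'.ne_zero 0
  have hf' : f' ≠ 0 := h'.ne_zero 1
  have hD : Projectivization.mk F e he ≠ Projectivization.mk F e' he' := by
    intro hcon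
    obtain ⟨a, ha⟩ := (Projectivization.mk_eq_mk_iff' F _ _ he' he).1 hcon.symm
    exact (LinearIndependent.pair_iff' he).1 h a ha
  have hE : Projectivization.mk F f hf ≠ Projectivization.mk F f' hf' := by
    intro hcon
    obtain ⟨a, ha⟩ := (Projectivization.mk_eq_mk_iff' F _ _ hf' hf).1 hcon.symm
    exact (LinearIndependent.pair_iff' hf).1 h' a ha
  obtain ⟨g, hg1, hg2⟩ := MulAction.is_two_pretransitive_iff.1
    (Projectivization.specialLinearGroup_is_two_pretransitive F V) hD hE
  rw [Projectivization.smul_mk, Projectivization.mk_eq_mk_iff] at hg1 hg2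
  obtain ⟨a, ha⟩ := hg1
  obtain ⟨b, hb⟩ := hg2
  exact ⟨g, a, b, a.ne_zero, b.ne_zero, ha.symm, hb.symm⟩

variable {Ω : Type*} [MulAction (SpecialLinearGroup F V) Ω]

theorem ncard_diff_eq {e e' f f' : V} (h : LinearIndependent F ![e, e'])
    (h' : LinearIndependent F ![f, f']) :
    (Fx F Ω e' \ Fx F Ω e).ncard = (Fx F Ω f' \ Fx F Ω f).ncard := by
  obtain ⟨g, a, b, ha, hb, h1, h2⟩ := exists_smul_pair h h'
  have : (fun ω : Ω => g • ω) '' (Fx F Ω e' \ Fx F Ω e) = Fx F Ω f' \ Fx F Ω f := by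
    ext ω
    constructor
    · rintro ⟨ω', ⟨h3, h4⟩, rfl⟩
      refine ⟨?_, ?_⟩
      · have := smul_mem_Fx g h3
        rwa [h2, Fx_smul hb] at this
      · intro hcon
        apply h4
        rw [← smul_mem_Fx_iff g, h1, Fx_smul ha]
        exact hcon
    · rintro ⟨h3, h4⟩
      refine ⟨g⁻¹ • ω, ⟨?_, ?_⟩, smul_inv_smul g ω⟩
      · rw [← smul_mem_Fx_iff g, smul_inv_smul, h2, Fx_smul hb]
        exact h3
      · intro hcon
        apply h4
        rw [← smul_mem_Fx_iff g, smul_inv_smul, h1, Fx_smul ha] at hcon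
        exact hcon
  rw [← this, Set.ncard_image_of_injective _ (MulAction.injective g)]

theorem ncard_diff_cases [Finite F] [FiniteDimensional F V] [Finite Ω]
    (hn : 3 ≤ finrank F V) (φ : ℕ)
    (hφlt : φ < theta (Nat.card F) (finrank F V - 1))
    (hfix : ∀ (e : V) (r : Dual F V), e ≠ 0 → r ≠ 0 → r e = 0 →
      Nat.card (fixedBy Ω (tv e r)) = φ)
    (hCI : ∀ (e : V), e ≠ 0 → ∀ ω : Ω, (∀ r : Dual F V, r e = 0 → tv e r • ω = ω) ∨
      (∀ r : Dual F V, r e = 0 → r ≠ 0 → tv e r • ω ≠ ω))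
    {e e' : V} (h : LinearIndependent F ![e, e']) :
    (Fx F Ω e' \ Fx F Ω e).ncard = 0 ∨
      (Fx F Ω e' \ Fx F Ω e).ncard = Nat.card F ^ (finrank F V - 2) := by
  obtain ⟨j, hj⟩ := pow_dvd_ncard_diff hCI h (Ω := Ω)
  have he' : e' ≠ 0 := h.ne_zero 1
  have h1 : (Fx F Ω e' \ Fx F Ω e).ncard ≤ φ := by
    rw [← ncard_Fx hn φ hfix hCI he']
    exact Set.ncard_le_ncard Set.sdiff_subset (Set.toFinite _)
  have hq : 2 ≤ Nat.card F := Finite.one_lt_card
  have h2 : theta (Nat.card F) (finrank F V - 1) < 2 * Nat.card F ^ (finrank F V - 2) := by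
    have : finrank F V - 1 = (finrank F V - 2) + 1 := by omega
    rw [this, theta_succ]
    have := theta_lt_pow hq (finrank F V - 2)
    omega
  have h3 : j < 2 := by
    by_contra hcon
    have hcon : 2 ≤ j := by omega
    have : 2 * Nat.card F ^ (finrank F V - 2) ≤ Nat.card F ^ (finrank F V - 2) * j := by
      nlinarith
    omega
  interval_cases j
  · left
    rw [hj, mul_zero]
  · right
    rw [hj, mul_one]

end two

/-! ## the case `j = 0` -/

section cases

variable {Ω : Type*} [MulAction (SpecialLinearGroup F V) Ω]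

theorem apply_ne_zero (g : SpecialLinearGroup F V) {e : V} (he : e ≠ 0) : g e ≠ 0 :=
  (LinearEquiv.map_ne_zero_iff g.val).2 he

theorem false_of_zero [Finite F] [FiniteDimensional F V] [Finite Ω]
    [IsPretransitive (SpecialLinearGroup F V) Ω]
    (hn : 3 ≤ finrank F V) (φ : ℕ) (hφ : 1 ≤ φ)
    (hN : Nat.card Ω = φ + Nat.card F ^ (finrank F V - 1))
    (hfix : ∀ (e : V) (r : Dual F V), e ≠ 0 → r ≠ 0 → r e = 0 →
      Nat.card (fixedBy Ω (tv e r)) = φ)
    (hCI : ∀ (e : V), e ≠ 0 → ∀ ω : Ω, (∀ r : Dual F V, r e = 0 → tv e r • ω = ω) ∨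
      (∀ r : Dual F V, r e = 0 → r ≠ 0 → tv e r • ω ≠ ω))
    (h0 : ∀ e e' : V, LinearIndependent F ![e, e'] → (Fx F Ω e' \ Fx F Ω e).ncard = 0) :
    False := by
  have hpos : 0 < finrank F V := by omega
  obtain ⟨e₀, he₀⟩ := (Module.finrank_pos_iff_exists_ne_zero (R := F) (M := V)).1 hpos
  have hsub : ∀ g : SpecialLinearGroup F V, Fx F Ω (g e₀) ⊆ Fx F Ω e₀ := by
    intro g
    by_cases hind : LinearIndependent F ![e₀, g e₀]
    · have := h0 _ _ hind
      rw [Set.ncard_eq_zero (Set.toFinite _), Set.sdiff_eq_empty] at this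
      exact this
    · rw [LinearIndependent.pair_iff' he₀] at hind
      push Not at hind
      obtain ⟨a, ha⟩ := hind
      have ha0 : a ≠ 0 := by
        rintro rfl
        rw [zero_smul] at ha
        exact apply_ne_zero g he₀ ha.symm
      have h2 := Fx_smul (Ω := Ω) ha0 e₀
      rw [ha] at h2
      exact h2.le
  have hcard : (Fx F Ω e₀).ncard = φ := ncard_Fx hn φ hfix hCI he₀
  have hne : (Fx F Ω e₀).Nonempty := by
    rw [← Set.ncard_pos (Set.toFinite _), hcard]
    exact hφ
  obtain ⟨ω₀, hω₀⟩ := hne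
  have huniv : Fx F Ω e₀ = Set.univ := by
    rw [Set.eq_univ_iff_forall]
    intro ω
    obtain ⟨g, rfl⟩ := exists_smul_eq (SpecialLinearGroup F V) ω₀ ω
    exact hsub g (smul_mem_Fx g hω₀)
  rw [huniv, Set.ncard_univ, hN] at hcard
  have : 0 < Nat.card F ^ (finrank F V - 1) := Nat.pow_pos Nat.card_pos
  omega

/-! ## the case `j = 1`: double counting -/

theorem arith_final {q m φ κ N t : ℕ} (hq : 2 ≤ q)
    (hN : N = φ + q ^ (m + 1))
    (hc1 : (q ^ (m + 2) - 1) * φ = N * κ)
    (hc2 : (q ^ (m + 2) - q) * q ^ m = (N - φ) * κ)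
    (ht : t * (q - 1) + 1 = q ^ (m + 1)) (hlt : φ < t) : False := by
  obtain ⟨u, rfl⟩ : ∃ u, q = u + 1 := ⟨q - 1, by omega⟩
  have hP : 0 < (u + 1) ^ m := Nat.pow_pos (by omega)
  obtain ⟨b, hb⟩ : ∃ b, (u + 1) ^ (m + 1) = b + 1 :=
    ⟨(u + 1) ^ (m + 1) - 1, by have : 0 < (u + 1) ^ (m + 1) := Nat.pow_pos (by omega); omega⟩
  have e1 : (u + 1) ^ (m + 2) = (b * u + b + u) + 1 := by
    rw [pow_succ, hb]; ring
  have e2 : (u + 1) ^ (m + 2) = b * (u + 1) + (u + 1) := by
    rw [pow_succ, hb]; ring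
  have e3 : (u + 1) ^ m * (u + 1) = b + 1 := by rw [← pow_succ, hb]
  rw [e1, Nat.add_sub_cancel] at hc1
  rw [e2, Nat.add_sub_cancel] at hc2
  rw [hN, hb] at hc1 hc2
  rw [Nat.add_sub_cancel_left] at hc2
  rw [Nat.add_sub_cancel, hb] at ht
  have hκ : κ = b := by
    have : (b + 1) * κ = (b + 1) * b := by
      rw [← hc2]
      calc b * (u + 1) * (u + 1) ^ m = b * ((u + 1) ^ m * (u + 1)) := by ring
        _ = (b + 1) * b := by rw [e3]; ring
    exact Nat.eq_of_mul_eq_mul_left (by omega) this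
  subst hκ
  have htu : t * u = κ := by omega
  have h5 : (κ + 1) * (u * φ) = (κ + 1) * κ := by
    have : (κ * u + κ + u) * φ = (φ + (κ + 1)) * κ := hc1
    nlinarith [this]
  have h6 : u * φ = κ := Nat.eq_of_mul_eq_mul_left (by omega) h5
  have hu : 0 < u := by omega
  have h7 : u * φ = u * t := by rw [h6, ← htu, mul_comm]
  have := Nat.eq_of_mul_eq_mul_left hu h7
  omega

theorem false_of_pos [Finite F] [FiniteDimensional F V] [Finite Ω]
    [IsPretransitive (SpecialLinearGroup F V) Ω]
    (hn : 3 ≤ finrank F V) (φ : ℕ)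
    (hN : Nat.card Ω = φ + Nat.card F ^ (finrank F V - 1))
    (hφlt : φ < theta (Nat.card F) (finrank F V - 1))
    (hfix : ∀ (e : V) (r : Dual F V), e ≠ 0 → r ≠ 0 → r e = 0 →
      Nat.card (fixedBy Ω (tv e r)) = φ)
    (hCI : ∀ (e : V), e ≠ 0 → ∀ ω : Ω, (∀ r : Dual F V, r e = 0 → tv e r • ω = ω) ∨
      (∀ r : Dual F V, r e = 0 → r ≠ 0 → tv e r • ω ≠ ω))
    (h1 : ∀ e e' : V, LinearIndependent F ![e, e'] →
      (Fx F Ω e' \ Fx F Ω e).ncard = Nat.card F ^ (finrank F V - 2)) :
    False := by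
  classical
  have : Finite V := Module.finite_of_finite F
  have := Fintype.ofFinite V
  have := Fintype.ofFinite Ω
  have := Fintype.ofFinite F
  have hpos : 0 < finrank F V := by omega
  obtain ⟨e₀, he₀⟩ := (Module.finrank_pos_iff_exists_ne_zero (R := F) (M := V)).1 hpos
  set W : Finset V := Finset.univ.filter (fun e => e ≠ 0) with hW
  let K : Ω → Finset V := fun ω => W.filter (fun e => ω ∈ Fx F Ω e)
  let A : V → Finset Ω := fun e => Finset.univ.filter (fun ω => ω ∈ Fx F Ω e)
  have hA : ∀ e, e ≠ 0 → (A e).card = φ := by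
    intro e he
    rw [← ncard_Fx hn φ hfix hCI he, ← Set.ncard_coe_finset]
    congr 1
    ext ω
    simp [A]
  have hK1 : ∀ (g : SpecialLinearGroup F V) (ω : Ω), (K ω).card ≤ (K (g • ω)).card := by
    intro g ω
    apply Finset.card_le_card_of_injOn (fun e => g e)
    · intro e he
      simp only [K, W, Finset.coe_filter, Finset.mem_filter, Finset.mem_univ, true_and,
        Set.mem_ofPred_eq] at he ⊢
      exact ⟨apply_ne_zero g he.1, smul_mem_Fx g he.2⟩
    · intro x _ y _ hxy
      exact g.val.injective hxy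
  have hNpos : 0 < Nat.card Ω := by
    rw [hN]
    have : 0 < Nat.card F ^ (finrank F V - 1) := Nat.pow_pos Nat.card_pos
    omega
  obtain ⟨ω₀⟩ : Nonempty Ω := (Nat.card_pos_iff.1 hNpos).1
  have hK : ∀ ω, (K ω).card = (K ω₀).card := by
    intro ω
    obtain ⟨g, rfl⟩ := exists_smul_eq (SpecialLinearGroup F V) ω₀ ω
    apply le_antisymm
    · have := hK1 g⁻¹ (g • ω₀)
      rwa [inv_smul_smul] at this
    · exact hK1 g ω₀
  set κ := (K ω₀).card with hκ
  -- first count
  have hc1 : W.card * φ = Fintype.card Ω * κ := by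
    have := Finset.sum_card_bipartiteAbove_eq_sum_card_bipartiteBelow (s := W)
      (t := (Finset.univ : Finset Ω)) (r := fun e ω => ω ∈ Fx F Ω e)
    have hl : ∀ a ∈ W, ((Finset.univ : Finset Ω).bipartiteAbove
        (fun e ω => ω ∈ Fx F Ω e) a).card = φ := by
      intro a ha
      exact hA a (by simpa [W] using ha)
    have hr : ∀ b ∈ (Finset.univ : Finset Ω),
        (W.bipartiteBelow (fun e ω => ω ∈ Fx F Ω e) b).card = κ := by
      intro b _
      exact hK b
    rw [Finset.sum_congr rfl hl, Finset.sum_congr rfl hr, Finset.sum_const, Finset.sum_const,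
      smul_eq_mul, smul_eq_mul, Finset.card_univ] at this
    exact this
  -- second count
  have hc2 : (Fintype.card V - Fintype.card F) * Nat.card F ^ (finrank F V - 2) =
      (Fintype.card Ω - φ) * κ := by
    have := Finset.sum_card_bipartiteAbove_eq_sum_card_bipartiteBelow (s := W)
      (t := (Finset.univ \ A e₀ : Finset Ω)) (r := fun e ω => ω ∈ Fx F Ω e)
    have hr : ∀ b ∈ (Finset.univ \ A e₀ : Finset Ω),
        (W.bipartiteBelow (fun e ω => ω ∈ Fx F Ω e) b).card = κ := fun b _ => hK b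
    have hl : ∀ a ∈ W, ((Finset.univ \ A e₀ : Finset Ω).bipartiteAbove
        (fun e ω => ω ∈ Fx F Ω e) a).card =
        if LinearIndependent F ![e₀, a] then Nat.card F ^ (finrank F V - 2) else 0 := by
      intro a ha
      have ha0 : a ≠ 0 := by simpa [W] using ha
      have hset : (((Finset.univ \ A e₀ : Finset Ω).bipartiteAbove
          (fun e ω => ω ∈ Fx F Ω e) a : Finset Ω) : Set Ω) = Fx F Ω a \ Fx F Ω e₀ := by
        ext ω
        simp only [Finset.bipartiteAbove, A, Finset.coe_filter, Finset.mem_sdiff,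
          Finset.mem_univ, true_and, Finset.mem_filter, Set.mem_ofPred_eq, Set.mem_sdiff]
        tauto
      rw [← Set.ncard_coe_finset, hset]
      split_ifs with hind
      · exact h1 _ _ hind
      · rw [LinearIndependent.pair_iff' he₀] at hind
        push Not at hind
        obtain ⟨c, hc⟩ := hind
        have hc0 : c ≠ 0 := by
          rintro rfl
          rw [zero_smul] at hc
          exact ha0 hc.symm
        rw [← hc, Fx_smul hc0, Set.sdiff_self, Set.ncard_empty]
    rw [Finset.sum_congr rfl hl, Finset.sum_congr rfl hr, Finset.sum_const, smul_eq_mul,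
      ← Finset.sum_filter, Finset.sum_const, smul_eq_mul] at this
    have hcard1 : (W.filter (fun a => LinearIndependent F ![e₀, a])).card =
        Fintype.card V - Fintype.card F := by
      have h3 : W.filter (fun a => LinearIndependent F ![e₀, a]) =
          Finset.univ \ (Finset.univ.image (fun c : F => c • e₀)) := by
        ext a
        simp only [W, Finset.mem_filter, Finset.mem_univ, true_and, Finset.mem_sdiff,
          Finset.mem_image, not_exists]
        rw [LinearIndependent.pair_iff' he₀]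
        constructor
        · rintro ⟨_, h⟩
          exact h
        · intro h
          refine ⟨?_, h⟩
          rintro rfl
          exact h 0 (zero_smul _ _)
      rw [h3, Finset.card_univ_sdiff,
        Finset.card_image_of_injective _ (smul_left_injective F he₀), Finset.card_univ]
    have hcard2 : (Finset.univ \ A e₀ : Finset Ω).card = Fintype.card Ω - φ := by
      rw [Finset.card_univ_sdiff, hA e₀ he₀]
    rw [hcard1, hcard2] at this
    exact this
  -- arithmetic
  have hV : Fintype.card V = Nat.card F ^ finrank F V := by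
    rw [Nat.card_eq_fintype_card]
    exact Module.card_eq_pow_finrank (K := F) (V := V)
  have hWc : W.card = Nat.card F ^ finrank F V - 1 := by
    rw [hW, Finset.filter_ne', Finset.card_erase_of_mem (Finset.mem_univ _), Finset.card_univ, hV]
  have hq : 2 ≤ Nat.card F := Finite.one_lt_card
  obtain ⟨m, hm⟩ : ∃ m, finrank F V = m + 2 := ⟨finrank F V - 2, by omega⟩
  rw [hm] at hV hWc hc2 hN hφlt
  simp only [Nat.add_sub_cancel, show m + 2 - 1 = m + 1 from rfl] at hc2 hN hφlt
  rw [hWc] at hc1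
  rw [hV, ← Nat.card_eq_fintype_card (α := F), ← Nat.card_eq_fintype_card (α := Ω)] at hc2
  rw [← Nat.card_eq_fintype_card (α := Ω)] at hc1
  rcases theta_mul (Nat.card F) (m + 1) with ht | ht
  · exact arith_final hq hN hc1 hc2 ht hφlt
  · omega

end cases

/-- **[LEMB]** of helper99's S2140 sheet (statement exactly as on the sheet). -/
theorem lemB [Finite F] [FiniteDimensional F V] (hn : 3 ≤ finrank F V) {Ω : Type*} [Finite Ω]
    [MulAction (SpecialLinearGroup F V) Ω] [IsPretransitive (SpecialLinearGroup F V) Ω]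
    (φ : ℕ) (hφ : 1 ≤ φ) (hN : Nat.card Ω = φ + Nat.card F ^ (finrank F V - 1))
    (hφlt : φ < theta (Nat.card F) (finrank F V - 1))
    (hfix : ∀ (e : V) (r : Dual F V), e ≠ 0 → r ≠ 0 → r e = 0 →
      Nat.card (fixedBy Ω (tv e r)) = φ)
    (hCI : ∀ (e : V), e ≠ 0 → ∀ ω : Ω, (∀ r : Dual F V, r e = 0 → tv e r • ω = ω) ∨
      (∀ r : Dual F V, r e = 0 → r ≠ 0 → tv e r • ω ≠ ω)) : False := by
  by_cases h0 : ∀ e e' : V, LinearIndependent F ![e, e'] → (Fx F Ω e' \ Fx F Ω e).ncard = 0
  · exact false_of_zero hn φ hφ hN hfix hCI h0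
  · push Not at h0
    obtain ⟨f, f', hf, hne⟩ := h0
    apply false_of_pos hn φ hN hφlt hfix hCI
    intro e e' h
    rw [ncard_diff_eq h hf]
    rcases ncard_diff_cases hn φ hφlt hfix hCI hf with h2 | h2
    · exact absurd h2 hne
    · exact h2

end Cfsg.Agent.Lib.Helper87.MinIdxLemB
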