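import Mathlib
import Cfsg.Agent.Lib.Helper29.OddProdDefs
import Cfsg.Agent.Lib.Helper29.OddProdIns
import Cfsg.Agent.Lib.Helper29.OddProdSpec

/-!
# S3265 module `[LIFT-C]` (helper87): lifting along the contraction of `a - b = c - d = e - f`
-/

set_option autoImplicit false
set_option linter.unusedSectionVars false

namespace Cfsg.Agent.Lib.Helper87.OddProd
open Equiv Cfsg.Agent.Lib.Helper29.OddProd

variable {α : Type*} [DecidableEq α] [Fintype α]

/-- an identity between products of transpositions of six distinct points -/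
theorem six_points_identity {a b c d e f : α} (h : [a, b, c, d, e, f].Nodup) :
    swap a b * swap c d * swap e f * (swap b c * swap d e) =
      swap a f * (swap b d * swap d a) * (swap e c * swap c f) := by
  simp only [List.nodup_cons, List.mem_cons, not_or, List.not_mem_nil, List.nodup_nil,
    not_false_eq_true, and_true] at h
  obtain ⟨⟨hab, hac, had, hae, haf⟩, ⟨hbc, hbd, hbe, hbf⟩, ⟨hcd, hce, hcf⟩, ⟨hde, hdf⟩, hef⟩ := h
  have hba := Ne.symm hab
  have hca := Ne.symm hac
  have hda := Ne.symm had
  have hea := Ne.symm hae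
  have hfa := Ne.symm haf
  have hcb := Ne.symm hbc
  have hdb := Ne.symm hbd
  have heb := Ne.symm hbe
  have hfb := Ne.symm hbf
  have hdc := Ne.symm hcd
  have hec := Ne.symm hce
  have hfc := Ne.symm hcf
  have hed := Ne.symm hde
  have hfd := Ne.symm hdf
  have hfe := Ne.symm hef
  ext p
  simp only [Perm.mul_apply]
  by_cases hpa : p = a
  · subst hpa
    simp [Equiv.swap_apply_of_ne_of_ne, *]
  by_cases hpb : p = b
  · subst hpb
    simp [Equiv.swap_apply_of_ne_of_ne, *]
  by_cases hpc : p = c
  · subst hpc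
    simp [Equiv.swap_apply_of_ne_of_ne, *]
  by_cases hpd : p = d
  · subst hpd
    simp [Equiv.swap_apply_of_ne_of_ne, *]
  by_cases hpe : p = e
  · subst hpe
    simp [Equiv.swap_apply_of_ne_of_ne, *]
  by_cases hpf : p = f
  · subst hpf
    simp [Equiv.swap_apply_of_ne_of_ne, *]
  simp [Equiv.swap_apply_of_ne_of_ne, *]

/-- MODULE [LIFT-C] -/
theorem lift_c : SpecLiftC α := by
  intro x0 z' a b c d e f hnd hx0 hz' hz'fix hodd
  have hnd' := hnd
  simp only [List.nodup_cons, List.mem_cons, not_or, List.not_mem_nil, List.nodup_nil,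
    not_false_eq_true, and_true] at hnd'
  obtain ⟨⟨hab, hac, had, hae, haf⟩, ⟨hbc, hbd, hbe, hbf⟩, ⟨hcd, hce, hcf⟩, ⟨hde, hdf⟩, hef⟩ := hnd'
  have hzb : z' b = b := hz'fix b (by simp)
  have hzc : z' c = c := hz'fix c (by simp)
  have hzd : z' d = d := hz'fix d (by simp)
  have hze : z' e = e := hz'fix e (by simp)
  have hxa : x0 a = a := hx0 a (by simp)
  have hxb : x0 b = b := hx0 b (by simp)
  have hxc : x0 c = c := hx0 c (by simp)
  have hxd : x0 d = d := hx0 d (by simp)
  have hxe : x0 e = e := hx0 e (by simp)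
  have hxf : x0 f = f := hx0 f (by simp)
  obtain ⟨a', ha'⟩ : ∃ a', a' = z' a := ⟨_, rfl⟩
  obtain ⟨f', hf'⟩ : ∃ f', f' = z' f := ⟨_, rfl⟩
  have hza' : z' a' = a := by rw [ha']; exact inv_apply_apply hz' a
  have hzf' : z' f' = f := by rw [hf']; exact inv_apply_apply hz' f
  -- `a'`, `f'` differ from `b, c, d, e`
  have hne : ∀ q p : α, z' p = p → q ≠ p → z' q ≠ p := by
    intro q p hp hqp h
    apply hqp
    apply z'.injective
    rw [h, hp]
  have hba' : b ≠ a' := by rw [ha']; exact (hne a b hzb hab).symm
  have hca' : c ≠ a' := by rw [ha']; exact (hne a c hzc hac).symm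
  have hda' : d ≠ a' := by rw [ha']; exact (hne a d hzd had).symm
  have hea' : e ≠ a' := by rw [ha']; exact (hne a e hze hae).symm
  have hbf' : b ≠ f' := by rw [hf']; exact (hne f b hzb (Ne.symm hbf)).symm
  have hcf' : c ≠ f' := by rw [hf']; exact (hne f c hzc (Ne.symm hcf)).symm
  have hdf' : d ≠ f' := by rw [hf']; exact (hne f d hzd (Ne.symm hdf)).symm
  have hef' : e ≠ f' := by rw [hf']; exact (hne f e hze (Ne.symm hef)).symm
  -- conjugation by `z'`
  have hconj : ∀ x y : α, z' * swap x y = swap (z' x) (z' y) * z' := by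
    intro x y
    rw [Equiv.swap_apply_apply z' x y]
    group
  have hconj' : ∀ (x y : α) (w : Perm α), z' * (swap x y * w) = swap (z' x) (z' y) * (z' * w) := by
    intro x y w
    rw [← mul_assoc, hconj, mul_assoc]
  have hmain : x0 * swap a b * swap c d * swap e f * (z' * swap b c * swap d e) =
      (x0 * swap a f * z') * (swap b d * swap d a') * (swap e c * swap c f') := by
    have h1 : z' * (swap b d * (swap d a' * (swap e c * swap c f'))) =
        swap b d * (swap d a * (swap e c * (swap c f * z'))) := by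
      rw [hconj', hconj', hconj', hconj, hzb, hzd, hza', hze, hzc, hzf']
    have h2 : z' * (swap b c * swap d e) = swap b c * (swap d e * z') := by
      rw [hconj', hconj, hzb, hzc, hzd, hze]
    have h3 := six_points_identity hnd
    calc x0 * swap a b * swap c d * swap e f * (z' * swap b c * swap d e)
        = x0 * (swap a b * swap c d * swap e f) * (z' * (swap b c * swap d e)) := by
          simp only [mul_assoc]
      _ = x0 * (swap a b * swap c d * swap e f) * (swap b c * (swap d e * z')) := by rw [h2]
      _ = x0 * (swap a b * swap c d * swap e f * (swap b c * swap d e)) * z' := by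
          simp only [mul_assoc]
      _ = x0 * (swap a f * (swap b d * swap d a) * (swap e c * swap c f)) * z' := by rw [h3]
      _ = x0 * swap a f * (swap b d * (swap d a * (swap e c * (swap c f * z')))) := by
          simp only [mul_assoc]
      _ = x0 * swap a f * (z' * (swap b d * (swap d a' * (swap e c * swap c f')))) := by rw [h1]
      _ = (x0 * swap a f * z') * (swap b d * swap d a') * (swap e c * swap c f') := by
          simp only [mul_assoc]
  rw [hmain]
  -- first insertion
  have hσb : (x0 * swap a f * z') b = b := by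
    rw [Perm.mul_apply, Perm.mul_apply, hzb, Equiv.swap_apply_of_ne_of_ne (Ne.symm hab) hbf, hxb]
  have hσd : (x0 * swap a f * z') d = d := by
    rw [Perm.mul_apply, Perm.mul_apply, hzd, Equiv.swap_apply_of_ne_of_ne (Ne.symm had) hdf, hxd]
  have hσe : (x0 * swap a f * z') e = e := by
    rw [Perm.mul_apply, Perm.mul_apply, hze, Equiv.swap_apply_of_ne_of_ne (Ne.symm hae) hef, hxe]
  have hσc : (x0 * swap a f * z') c = c := by
    rw [Perm.mul_apply, Perm.mul_apply, hzc, Equiv.swap_apply_of_ne_of_ne (Ne.symm hac) hcf, hxc]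
  have hodd1 := odd_insert (x0 * swap a f * z') b d a' hbd hba' hda' hσb hσd hodd
  have hse : (swap b d * swap d a') e = e := by
    rw [Perm.mul_apply, Equiv.swap_apply_of_ne_of_ne (Ne.symm hde) hea',
      Equiv.swap_apply_of_ne_of_ne (Ne.symm hbe) (Ne.symm hde)]
  have hsc : (swap b d * swap d a') c = c := by
    rw [Perm.mul_apply, Equiv.swap_apply_of_ne_of_ne hcd hca',
      Equiv.swap_apply_of_ne_of_ne (Ne.symm hbc) hcd]
  have hσ'e : (x0 * swap a f * z' * (swap b d * swap d a')) e = e := by
    rw [Perm.mul_apply, hse, hσe]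
  have hσ'c : (x0 * swap a f * z' * (swap b d * swap d a')) c = c := by
    rw [Perm.mul_apply, hsc, hσc]
  exact odd_insert _ e c f' (Ne.symm hce) hef' hcf' hσ'e hσ'c hodd1

end Cfsg.Agent.Lib.Helper87.OddProd
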