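import Mathlib
import Cfsg.Agent.Lib.Helper29.OddProdDefs
import Cfsg.Agent.Lib.Helper29.OddProdIns
import Cfsg.Agent.Lib.Helper29.OddProdSpec

/-!
# S3265 module `[RED-C]` (helper87): the 5-edge contraction
-/

set_option autoImplicit false
set_option linter.unusedSectionVars false

namespace Cfsg.Agent.Lib.Helper87.OddProd
open Equiv Cfsg.Agent.Lib.Helper29.OddProd

variable {α : Type*} [DecidableEq α] [Fintype α]

/-- removing the 2-cycle `(a b)` of an involution: all the bookkeeping at once -/
theorem rm_pack {x : Perm α} (hx : x * x = 1) {a b : α} (hab : x a = b) (hne : a ≠ b) :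
    (x * swap a b) * (x * swap a b) = 1 ∧ (x * swap a b) a = a ∧ (x * swap a b) b = b ∧
    (∀ p, p ≠ a → p ≠ b → (x * swap a b) p = x p) ∧
    (x * swap a b).support.card + 2 = x.support.card ∧ (x * swap a b).support ⊆ x.support := by
  subst hab
  exact ⟨rm_mul_self hx a, rm_apply_left hx a, rm_apply_right a,
    fun p h1 h2 => rm_apply_of_ne h1 h2, card_support_rm hx (Ne.symm hne), support_rm_subset hx a⟩

theorem mul_swap_cancel (σ : Perm α) (a b : α) : σ * swap a b * swap a b = σ := by
  rw [mul_assoc, Equiv.swap_mul_self, mul_one]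

theorem swap_comm_of_ne {a b c d : α} (hca : c ≠ a) (hcb : c ≠ b) (hda : d ≠ a) (hdb : d ≠ b) :
    swap a b * swap c d = swap c d * swap a b :=
  commute_swap_of_fixed (σ := swap a b) (Equiv.swap_apply_of_ne_of_ne hca hcb)
    (Equiv.swap_apply_of_ne_of_ne hda hdb)

/-- MODULE [RED-C] -/
theorem red_c (hD4 : SpecD4 α) (hLC : SpecLiftC α) (x y : Perm α) (h : Inst x y)
    (hint : ∀ p, x p ≠ p ↔ y p ≠ p) (hne : ∀ p, x p ≠ p → x p ≠ y p) (a : α) (ha : x a ≠ a)
    (he : y (x (y (x a))) ≠ a) (ih : IH x) : Sol ∅ x y := by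
  have hx := h.hx
  have hy := h.hy
  have hxx : ∀ p, x (x p) = p := inv_apply_apply hx
  have hyy : ∀ p, y (y p) = p := inv_apply_apply hy
  obtain ⟨b, hb⟩ : ∃ b, b = x a := ⟨_, rfl⟩
  obtain ⟨c, hc⟩ : ∃ c, c = y b := ⟨_, rfl⟩
  obtain ⟨d, hd⟩ : ∃ d, d = x c := ⟨_, rfl⟩
  obtain ⟨e, he'⟩ : ∃ e, e = y d := ⟨_, rfl⟩
  obtain ⟨f, hf⟩ : ∃ f, f = x e := ⟨_, rfl⟩
  have xa : x a = b := hb.symm
  have xb : x b = a := by rw [hb, hxx]
  have yb : y b = c := hc.symm
  have yc : y c = b := by rw [hc, hyy]
  have xc : x c = d := hd.symm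
  have xd : x d = c := by rw [hd, hxx]
  have yd : y d = e := he'.symm
  have ye : y e = d := by rw [he', hyy]
  have xe : x e = f := hf.symm
  have xf : x f = e := by rw [hf, hxx]
  -- distinctness
  have hab : a ≠ b := fun h => ha (by rw [xa, ← h])
  have hxb : x b ≠ b := by rw [xb]; exact hab
  have hbc : b ≠ c := by
    have := (hint b).mp hxb
    rw [yb] at this
    exact this.symm
  have hac : a ≠ c := by
    have := hne b hxb
    rwa [xb, yb] at this
  have hcd : c ≠ d := by
    have : x c ≠ c := (hint c).mpr (by rw [yc]; exact hbc)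
    rw [xc] at this
    exact this.symm
  have had : a ≠ d := by
    intro h
    apply hbc
    apply x.injective
    rw [xb, xc, h]
  have hbd : b ≠ d := by
    intro h
    apply hac
    rw [← xb, ← xd, h]
  have hde : d ≠ e := by
    have : y d ≠ d := (hint d).mp (by rw [xd]; exact hcd)
    rw [yd] at this
    exact this.symm
  have hce : c ≠ e := by
    intro h
    apply hbd
    rw [← yc, ← ye, h]
  have hbe : b ≠ e := by
    intro h
    apply hcd
    rw [← yb, ← ye, h]
  have hae : a ≠ e := by
    intro h
    apply he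
    rw [xa, yb, xc, yd, ← h]
  have hef : e ≠ f := by
    have : x e ≠ e := (hint e).mpr (by rw [ye]; exact hde)
    rw [xe] at this
    exact this.symm
  have haf : a ≠ f := by
    intro h
    apply hbe
    rw [← xa, ← xf, h]
  have hbf : b ≠ f := by
    intro h
    apply hae
    rw [← xb, ← xf, h]
  have hcf : c ≠ f := by
    intro h
    apply hde
    rw [← xc, ← xf, h]
  have hdf : d ≠ f := by
    intro h
    apply hce
    rw [← xd, ← xf, h]
  have hnd : [a, b, c, d, e, f].Nodup := by
    simp only [List.nodup_cons, List.mem_cons, not_or, List.not_mem_nil, List.nodup_nil,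
      not_false_eq_true, and_true]
    exact ⟨⟨hab, hac, had, hae, haf⟩, ⟨hbc, hbd, hbe, hbf⟩, ⟨hcd, hce, hcf⟩, ⟨hde, hdf⟩, hef⟩
  -- removing the red edges
  obtain ⟨hx1, x1e, x1f, x1o, x1card, x1sub⟩ := rm_pack hx xe hef
  have x1c : (x * swap e f) c = d := by rw [x1o c hce hcf, xc]
  obtain ⟨hx2, x2c, x2d, x2o, x2card, x2sub⟩ := rm_pack hx1 x1c hcd
  have x2a : (x * swap e f * swap c d) a = b := by rw [x2o a hac had, x1o a hae haf, xa]
  obtain ⟨hx0, x0a, x0b, x0o, x0card, x0sub⟩ := rm_pack hx2 x2a hab
  obtain ⟨x0, hx0def⟩ : ∃ x0, x0 = x * swap e f * swap c d * swap a b := ⟨_, rfl⟩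
  rw [← hx0def] at hx0 x0a x0b x0o x0card x0sub
  have x0c : x0 c = c := by rw [x0o c hac.symm hbc.symm, x2c]
  have x0d : x0 d = d := by rw [x0o d had.symm hbd.symm, x2d]
  have x0e : x0 e = e := by rw [x0o e hae.symm hbe.symm, x2o e hce.symm hde.symm, x1e]
  have x0f : x0 f = f := by rw [x0o f haf.symm hbf.symm, x2o f hcf.symm hdf.symm, x1f]
  have hxeq : x0 * swap a b * swap c d * swap e f = x := by
    rw [hx0def, mul_swap_cancel, mul_swap_cancel, mul_swap_cancel]
  have hx0fix : ∀ p ∈ [a, b, c, d, e, f], x0 p = p := by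
    intro p hp
    simp only [List.mem_cons, List.not_mem_nil, or_false] at hp
    rcases hp with rfl | rfl | rfl | rfl | rfl | rfl
    · exact x0a
    · exact x0b
    · exact x0c
    · exact x0d
    · exact x0e
    · exact x0f
  -- removing the blue edges
  obtain ⟨hy1, y1d, y1e, y1o, y1card, y1sub⟩ := rm_pack hy yd hde
  have y1b : (y * swap d e) b = c := by rw [y1o b hbd hbe, yb]
  obtain ⟨hy', y'b, y'c, y'o, y'card, y'sub⟩ := rm_pack hy1 y1b hbc
  obtain ⟨y', hy'def⟩ : ∃ y', y' = y * swap d e * swap b c := ⟨_, rfl⟩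
  rw [← hy'def] at hy' y'b y'c y'o y'card y'sub
  have y'd : y' d = d := by rw [y'o d hbd.symm hcd.symm, y1d]
  have y'e : y' e = e := by rw [y'o e hbe.symm hce.symm, y1e]
  have hyeq : y' * swap b c * swap d e = y := by
    rw [hy'def, mul_swap_cancel, mul_swap_cancel]
  have hy'fix : ∀ p ∈ [b, c, d, e], y' p = p := by
    intro p hp
    simp only [List.mem_cons, List.not_mem_nil, or_false] at hp
    rcases hp with rfl | rfl | rfl | rfl
    · exact y'b
    · exact y'c
    · exact y'd
    · exact y'e
  -- the contracted pair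
  have hx' : (x0 * swap a f) * (x0 * swap a f) = 1 := mul_swap_mul_self hx0 x0a x0f
  have hx'card : (x0 * swap a f).support.card = x0.support.card + 2 :=
    card_support_mul_swap haf x0a x0f
  have hx'supp : (x0 * swap a f).support = x0.support ∪ {a, f} := support_mul_swap haf x0a x0f
  have hbal := h.bal
  have hinst : Inst (x0 * swap a f) y' := ⟨hx', hy', by omega⟩
  have hlt : (x0 * swap a f).support.card < x.support.card := by omega
  by_cases hE : Exc (x0 * swap a f) y'
  · have := hD4 x0 y' a b c d e f hnd hx0fix hy'fix hx0 hy' hE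
    rwa [hxeq, hyeq] at this
  · obtain ⟨z', hz', hzs, hzc, ho1, ho2⟩ := ih _ _ hinst hlt hE
    have hzfix : ∀ p, (x0 * swap a f) p = p → y' p = p → z' p = p := by
      intro p h1 h2
      by_contra h3
      have h4 := hzs (Perm.mem_support.mpr h3)
      simp only [Finset.mem_union, Perm.mem_support, Finset.notMem_empty, or_false] at h4
      rcases h4 with h4 | h4
      · exact h4 h1
      · exact h4 h2
    have x'b : (x0 * swap a f) b = b := by rw [mul_swap_apply_of_ne hab.symm hbf, x0b]
    have x'c : (x0 * swap a f) c = c := by rw [mul_swap_apply_of_ne hac.symm hcf, x0c]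
    have x'd : (x0 * swap a f) d = d := by rw [mul_swap_apply_of_ne had.symm hdf, x0d]
    have x'e : (x0 * swap a f) e = e := by rw [mul_swap_apply_of_ne hae.symm hef, x0e]
    have zb : z' b = b := hzfix b x'b y'b
    have zc : z' c = c := hzfix c x'c y'c
    have zd : z' d = d := hzfix d x'd y'd
    have ze : z' e = e := hzfix e x'e y'e
    have hz'fix : ∀ p ∈ [b, c, d, e], z' p = p := by
      intro p hp
      simp only [List.mem_cons, List.not_mem_nil, or_false] at hp
      rcases hp with rfl | rfl | rfl | rfl
      · exact zb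
      · exact zc
      · exact zd
      · exact ze
    have z1d : (z' * swap b c) d = d := by rw [mul_swap_apply_of_ne hbd.symm hcd.symm, zd]
    have z1e : (z' * swap b c) e = e := by rw [mul_swap_apply_of_ne hbe.symm hce.symm, ze]
    refine ⟨z' * swap b c * swap d e, ?_, ?_, ?_, ?_, ?_⟩
    · exact mul_swap_mul_self (mul_swap_mul_self hz' zb zc) z1d z1e
    · rw [support_mul_swap hde z1d z1e, support_mul_swap hbc zb zc]
      intro p hp
      simp only [Finset.mem_union, Finset.mem_insert, Finset.mem_singleton, Perm.mem_support,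
        Finset.notMem_empty, or_false] at hp ⊢
      rcases hp with (hp | rfl | rfl) | rfl | rfl
      · have h4 := hzs (Perm.mem_support.mpr hp)
        simp only [Finset.mem_union, Finset.notMem_empty, or_false] at h4
        rcases h4 with h4 | h4
        · left
          rw [hx'supp] at h4
          simp only [Finset.mem_union, Finset.mem_insert, Finset.mem_singleton] at h4
          rcases h4 with h4 | rfl | rfl
          · exact Perm.mem_support.mp (x1sub (x2sub (x0sub h4)))
          · exact ha
          · rw [xf]; exact hef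
        · right
          exact Perm.mem_support.mp (y1sub (y'sub h4))
      · left; exact hxb
      · left; rw [xc]; exact hcd.symm
      · left; rw [xd]; exact hcd
      · left; rw [xe]; exact hef.symm
    · rw [card_support_mul_swap hde z1d z1e, card_support_mul_swap hbc zb zc, hzc]
      omega
    · have := hLC x0 z' a b c d e f hnd hx0fix hz' hz'fix ho1
      rwa [hxeq] at this
    · have c1 : y' * swap b c = swap b c * y' := commute_swap_of_fixed y'b y'c
      have c2 : y' * swap d e = swap d e * y' := commute_swap_of_fixed y'd y'e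
      have c3 : swap b c * swap d e = swap d e * swap b c :=
        swap_comm_of_ne hbd.symm hcd.symm hbe.symm hce.symm
      have : z' * swap b c * swap d e * y = z' * y' := by
        calc z' * swap b c * swap d e * y
            = z' * swap b c * swap d e * (y' * swap b c * swap d e) := by rw [hyeq]
          _ = z' * swap b c * (swap d e * y') * swap b c * swap d e := by simp only [mul_assoc]
          _ = z' * swap b c * (y' * swap d e) * swap b c * swap d e := by rw [c2]
          _ = z' * (swap b c * y') * (swap d e * swap b c) * swap d e := by simp only [mul_assoc]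
          _ = z' * (y' * swap b c) * (swap b c * swap d e) * swap d e := by rw [c1, c3]
          _ = z' * y' * (swap b c * swap b c) * (swap d e * swap d e) := by simp only [mul_assoc]
          _ = z' * y' := by rw [Equiv.swap_mul_self, Equiv.swap_mul_self, mul_one, mul_one]
      rw [this]
      exact ho2

end Cfsg.Agent.Lib.Helper87.OddProd
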