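import Mathlib
import Cfsg.Agent.Lib.Helper29.OddProdDefs
import Cfsg.Agent.Lib.Helper29.OddProdIns
import Cfsg.Agent.Lib.Helper29.OddProdSpec
import Cfsg.Agent.Lib.Helper87.OddProdRedC

/-!
# S3265 module `[RED-A]` (helper87): all components are 4-cycles, at least two of them
-/

set_option autoImplicit false
set_option linter.unusedSectionVars false
set_option linter.unusedVariables false

namespace Cfsg.Agent.Lib.Helper87.OddProd
open Equiv Cfsg.Agent.Lib.Helper29.OddProd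

variable {α : Type*} [DecidableEq α] [Fintype α]

/-- the structure of a 4-cycle component `a - a1 = a2 - a3 = a` -/
theorem comp4 {x y : Perm α} (hx : x * x = 1) (hy : y * y = 1) (hint : ∀ p, x p ≠ p ↔ y p ≠ p)
    (hne : ∀ p, x p ≠ p → x p ≠ y p) (hC : ∀ p, x p ≠ p → y (x (y (x p))) = p) (a : α)
    (ha : x a ≠ a) :
    ∃ a1 a2 a3 : α, a1 = x a ∧ a2 = y (x a) ∧ a3 = x (y (x a)) ∧
      x a = a1 ∧ x a1 = a ∧ y a1 = a2 ∧ y a2 = a1 ∧ x a2 = a3 ∧ x a3 = a2 ∧ y a3 = a ∧ y a = a3 ∧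
      a ≠ a1 ∧ a ≠ a2 ∧ a ≠ a3 ∧ a1 ≠ a2 ∧ a1 ≠ a3 ∧ a2 ≠ a3 := by
  have hxx : ∀ p, x (x p) = p := inv_apply_apply hx
  have hyy : ∀ p, y (y p) = p := inv_apply_apply hy
  refine ⟨x a, y (x a), x (y (x a)), rfl, rfl, rfl, ?_⟩
  obtain ⟨b, hb⟩ : ∃ b, b = x a := ⟨_, rfl⟩
  have hCa := hC a ha
  rw [← hb] at hCa ⊢
  obtain ⟨c, hc⟩ : ∃ c, c = y b := ⟨_, rfl⟩
  rw [← hc] at hCa ⊢
  obtain ⟨d, hd⟩ : ∃ d, d = x c := ⟨_, rfl⟩
  rw [← hd] at hCa ⊢
  have xa : x a = b := hb.symm
  have xb : x b = a := by rw [hb, hxx]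
  have yb : y b = c := hc.symm
  have yc : y c = b := by rw [hc, hyy]
  have xc : x c = d := hd.symm
  have xd : x d = c := by rw [hd, hxx]
  have yd : y d = a := hCa
  have ya : y a = d := by rw [← hCa, hyy]
  have hab : a ≠ b := fun h => ha (by rw [xa, ← h])
  have hxb : x b ≠ b := by rw [xb]; exact hab
  have hbc : b ≠ c := by
    have := (hint b).mp hxb
    rw [yb] at this
    exact this.symm
  have hac : a ≠ c := by
    have := hne b hxb
    rwa [xb, yb] at this
  have hcd : c ≠ d := by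
    have : x c ≠ c := (hint c).mpr (by rw [yc]; exact hbc)
    rw [xc] at this
    exact this.symm
  have had : a ≠ d := by
    intro h
    apply hbc
    apply x.injective
    rw [xb, xc, h]
  have hbd : b ≠ d := by
    intro h
    apply hac
    rw [← xb, ← xd, h]
  exact ⟨rfl, xb, rfl, yc, rfl, xd, yd, ya, hab, hac, had, hbc, hbd, hcd⟩

/-- a permutation fixing six points commutes with a product of three swaps of them -/
theorem commute_three_swaps {σ : Perm α} {p q r s t u : α} (hp : σ p = p) (hq : σ q = q)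
    (hr : σ r = r) (hs : σ s = s) (ht : σ t = t) (hu : σ u = u) :
    σ * (swap p q * swap r s * swap t u) = (swap p q * swap r s * swap t u) * σ := by
  have c1 := commute_swap_of_fixed hp hq
  have c2 := commute_swap_of_fixed hr hs
  have c3 := commute_swap_of_fixed ht hu
  calc σ * (swap p q * swap r s * swap t u)
      = (σ * swap p q) * swap r s * swap t u := by simp only [mul_assoc]
    _ = swap p q * (σ * swap r s) * swap t u := by rw [c1]; simp only [mul_assoc]
    _ = swap p q * swap r s * (σ * swap t u) := by rw [c2]; simp only [mul_assoc]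
    _ = (swap p q * swap r s * swap t u) * σ := by rw [c3]; simp only [mul_assoc]

/-- the product of the six swaps occurring in `z * y` has order dividing 3 -/
theorem red_a_T_pow {a0 a1 a2 a3 b1 b2 : α} (hnd : [a0, a1, a2, a3, b1, b2].Nodup) :
    ((swap a2 a3 * swap b1 a0 * swap a1 b2) * (swap b1 b2 * swap a3 a0 * swap a1 a2)) ^ 3 = 1 := by
  simp only [List.nodup_cons, List.mem_cons, not_or, List.not_mem_nil, List.nodup_nil,
    not_false_eq_true, and_true] at hnd
  obtain ⟨⟨h01, h02, h03, h05, h06⟩, ⟨h12, h13, h15, h16⟩, ⟨h23, h25, h26⟩, ⟨h35, h36⟩, h56⟩ := hnd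
  have h10 := Ne.symm h01
  have h20 := Ne.symm h02
  have h30 := Ne.symm h03
  have h50 := Ne.symm h05
  have h60 := Ne.symm h06
  have h21 := Ne.symm h12
  have h31 := Ne.symm h13
  have h51 := Ne.symm h15
  have h61 := Ne.symm h16
  have h32 := Ne.symm h23
  have h52 := Ne.symm h25
  have h62 := Ne.symm h26
  have h53 := Ne.symm h35
  have h63 := Ne.symm h36
  have h65 := Ne.symm h56
  ext p
  simp only [pow_succ, pow_zero, one_mul, Perm.mul_apply, Perm.one_apply]
  by_cases hp0 : p = a0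
  · subst hp0
    simp [Equiv.swap_apply_of_ne_of_ne, *]
  by_cases hp1 : p = a1
  · subst hp1
    simp [Equiv.swap_apply_of_ne_of_ne, *]
  by_cases hp2 : p = a2
  · subst hp2
    simp [Equiv.swap_apply_of_ne_of_ne, *]
  by_cases hp3 : p = a3
  · subst hp3
    simp [Equiv.swap_apply_of_ne_of_ne, *]
  by_cases hp5 : p = b1
  · subst hp5
    simp [Equiv.swap_apply_of_ne_of_ne, *]
  by_cases hp6 : p = b2
  · subst hp6
    simp [Equiv.swap_apply_of_ne_of_ne, *]
  simp [Equiv.swap_apply_of_ne_of_ne, *]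

/-- MODULE [RED-A] -/
theorem red_a (hLC : SpecLiftC α) (x y : Perm α) (h : Inst x y) (hint : ∀ p, x p ≠ p ↔ y p ≠ p)
    (hne : ∀ p, x p ≠ p → x p ≠ y p) (hC : ∀ p, x p ≠ p → y (x (y (x p))) = p) (a a' : α)
    (ha : x a ≠ a) (ha' : x a' ≠ a') (h1 : a' ≠ a) (h2 : a' ≠ x a) (h3 : a' ≠ y (x a))
    (h4 : a' ≠ x (y (x a))) (ih : IH x) : Sol ∅ x y := by
  have hx := h.hx
  have hy := h.hy
  have hxx : ∀ p, x (x p) = p := inv_apply_apply hx
  have hyy : ∀ p, y (y p) = p := inv_apply_apply hy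
  obtain ⟨a1, a2, a3, ha1, ha2, ha3, xa0, xa1, ya1, ya2, xa2, xa3, ya3, ya0,
    n01, n02, n03, n12, n13, n23⟩ := comp4 hx hy hint hne hC a ha
  obtain ⟨b1, b2, b3, hb1, hb2, hb3, xb0, xb1, yb1, yb2, xb2, xb3, yb3, yb0,
    n45, n46, n47, n56, n57, n67⟩ := comp4 hx hy hint hne hC a' ha'
  rw [← ha1] at h2
  rw [← ha2] at h3
  rw [← ha3] at h4
  obtain ⟨a0, ha0⟩ : ∃ a0, a0 = a := ⟨_, rfl⟩
  obtain ⟨b0, hb0⟩ : ∃ b0, b0 = a' := ⟨_, rfl⟩
  rw [← ha0] at xa0 xa1 ya3 ya0 n01 n02 n03 h1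
  rw [← hb0] at xb0 xb1 yb3 yb0 n45 n46 n47 h1 h2 h3 h4
  clear ha1 ha2 ha3 hb1 hb2 hb3 ha ha' ha0 hb0
  -- the component of `a` is invariant
  have hxA : ∀ p, p ≠ a0 → p ≠ a1 → p ≠ a2 → p ≠ a3 →
      x p ≠ a0 ∧ x p ≠ a1 ∧ x p ≠ a2 ∧ x p ≠ a3 := by
    intro p p0 p1 p2 p3
    refine ⟨fun e => p1 ?_, fun e => p0 ?_, fun e => p3 ?_, fun e => p2 ?_⟩
    · rw [← hxx p, e, xa0]
    · rw [← hxx p, e, xa1]
    · rw [← hxx p, e, xa2]
    · rw [← hxx p, e, xa3]
  have hyA : ∀ p, p ≠ a0 → p ≠ a1 → p ≠ a2 → p ≠ a3 →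
      y p ≠ a0 ∧ y p ≠ a1 ∧ y p ≠ a2 ∧ y p ≠ a3 := by
    intro p p0 p1 p2 p3
    refine ⟨fun e => p3 ?_, fun e => p2 ?_, fun e => p1 ?_, fun e => p0 ?_⟩
    · rw [← hyy p, e, ya0]
    · rw [← hyy p, e, ya1]
    · rw [← hyy p, e, ya2]
    · rw [← hyy p, e, ya3]
  have n40 : b0 ≠ a0 := h1
  have n41 : b0 ≠ a1 := h2
  have n42 : b0 ≠ a2 := h3
  have n43 : b0 ≠ a3 := h4
  obtain ⟨n50, n51, n52, n53⟩ := hxA b0 n40 n41 n42 n43
  rw [xb0] at n50 n51 n52 n53
  obtain ⟨n60, n61, n62, n63⟩ := hyA b1 n50 n51 n52 n53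
  rw [yb1] at n60 n61 n62 n63
  obtain ⟨n70, n71, n72, n73⟩ := hxA b2 n60 n61 n62 n63
  rw [xb2] at n70 n71 n72 n73
  have n10 := Ne.symm n01
  have n20 := Ne.symm n02
  have n30 := Ne.symm n03
  have n21 := Ne.symm n12
  have n31 := Ne.symm n13
  have n32 := Ne.symm n23
  have n04 := Ne.symm n40
  have n14 := Ne.symm n41
  have n24 := Ne.symm n42
  have n34 := Ne.symm n43
  have n54 := Ne.symm n45
  have n64 := Ne.symm n46
  have n74 := Ne.symm n47
  have n05 := Ne.symm n50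
  have n15 := Ne.symm n51
  have n25 := Ne.symm n52
  have n35 := Ne.symm n53
  have n65 := Ne.symm n56
  have n75 := Ne.symm n57
  have n06 := Ne.symm n60
  have n16 := Ne.symm n61
  have n26 := Ne.symm n62
  have n36 := Ne.symm n63
  have n76 := Ne.symm n67
  have n07 := Ne.symm n70
  have n17 := Ne.symm n71
  have n27 := Ne.symm n72
  have n37 := Ne.symm n73
  -- removing the red edges
  obtain ⟨hX1, X1b2, X1b3, X1o, X1card, X1sub⟩ := rm_pack hx xb2 n67
  have X1a0 : (x * swap b2 b3) a0 = a1 := by rw [X1o a0 n06 n07, xa0]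
  obtain ⟨hX2, X2a0, X2a1, X2o, X2card, X2sub⟩ := rm_pack hX1 X1a0 n01
  have X2b0 : (x * swap b2 b3 * swap a0 a1) b0 = b1 := by
    rw [X2o b0 n40 n41, X1o b0 n46 n47, xb0]
  obtain ⟨hX3, X3b0, X3b1, X3o, X3card, X3sub⟩ := rm_pack hX2 X2b0 n45
  have X3a2 : (x * swap b2 b3 * swap a0 a1 * swap b0 b1) a2 = a3 := by
    rw [X3o a2 n24 n25, X2o a2 n20 n21, X1o a2 n26 n27, xa2]
  obtain ⟨hx0, x0a2, x0a3, x0o, x0card, x0sub⟩ := rm_pack hX3 X3a2 n23
  obtain ⟨x0, hx0def⟩ : ∃ x0, x0 = x * swap b2 b3 * swap a0 a1 * swap b0 b1 * swap a2 a3 :=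
    ⟨_, rfl⟩
  rw [← hx0def] at hx0 x0a2 x0a3 x0o x0card x0sub
  have x0b0 : x0 b0 = b0 := by rw [x0o b0 n42 n43, X3b0]
  have x0b1 : x0 b1 = b1 := by rw [x0o b1 n52 n53, X3b1]
  have x0a0 : x0 a0 = a0 := by rw [x0o a0 n02 n03, X3o a0 n04 n05, X2a0]
  have x0a1 : x0 a1 = a1 := by rw [x0o a1 n12 n13, X3o a1 n14 n15, X2a1]
  have x0b2 : x0 b2 = b2 := by
    rw [x0o b2 n62 n63, X3o b2 n64 n65, X2o b2 n60 n61, X1b2]
  have x0b3 : x0 b3 = b3 := by
    rw [x0o b3 n72 n73, X3o b3 n74 n75, X2o b3 n70 n71, X1b3]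
  have hxeq : x0 * swap a2 a3 * swap b0 b1 * swap a0 a1 * swap b2 b3 = x := by
    rw [hx0def, mul_swap_cancel, mul_swap_cancel, mul_swap_cancel, mul_swap_cancel]
  -- removing the blue edges
  obtain ⟨hY1, Y1a1, Y1a2, Y1o, Y1card, Y1sub⟩ := rm_pack hy ya1 n12
  have Y1a3 : (y * swap a1 a2) a3 = a0 := by rw [Y1o a3 n31 n32, ya3]
  obtain ⟨hY2, Y2a3, Y2a0, Y2o, Y2card, Y2sub⟩ := rm_pack hY1 Y1a3 n30
  have Y2b1 : (y * swap a1 a2 * swap a3 a0) b1 = b2 := by
    rw [Y2o b1 n53 n50, Y1o b1 n51 n52, yb1]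
  obtain ⟨hy', y'b1, y'b2, y'o, y'card, y'sub⟩ := rm_pack hY2 Y2b1 n56
  obtain ⟨y', hy'def⟩ : ∃ y', y' = y * swap a1 a2 * swap a3 a0 * swap b1 b2 := ⟨_, rfl⟩
  rw [← hy'def] at hy' y'b1 y'b2 y'o y'card y'sub
  have y'a3 : y' a3 = a3 := by rw [y'o a3 n35 n36, Y2a3]
  have y'a0 : y' a0 = a0 := by rw [y'o a0 n05 n06, Y2a0]
  have y'a1 : y' a1 = a1 := by rw [y'o a1 n15 n16, Y2o a1 n13 n10, Y1a1]
  have y'a2 : y' a2 = a2 := by rw [y'o a2 n25 n26, Y2o a2 n23 n20, Y1a2]
  have y'b0 : y' b0 = b3 := by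
    rw [y'o b0 n45 n46, Y2o b0 n43 n40, Y1o b0 n41 n42, yb0]
  have y'b3 : y' b3 = b0 := by
    rw [y'o b3 n75 n76, Y2o b3 n73 n70, Y1o b3 n71 n72, yb3]
  have hyeq : y' * swap b1 b2 * swap a3 a0 * swap a1 a2 = y := by
    rw [hy'def, mul_swap_cancel, mul_swap_cancel, mul_swap_cancel]
  -- the contracted pair
  have hx' : (x0 * swap b0 b3) * (x0 * swap b0 b3) = 1 := mul_swap_mul_self hx0 x0b0 x0b3
  have hx'card : (x0 * swap b0 b3).support.card = x0.support.card + 2 :=
    card_support_mul_swap n47 x0b0 x0b3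
  have hx'supp : (x0 * swap b0 b3).support = x0.support ∪ {b0, b3} :=
    support_mul_swap n47 x0b0 x0b3
  have x'b0 : (x0 * swap b0 b3) b0 = b3 := mul_swap_apply_left x0b3
  have x'b3 : (x0 * swap b0 b3) b3 = b0 := mul_swap_apply_right x0b0
  have hbal := h.bal
  have hinst : Inst (x0 * swap b0 b3) y' := ⟨hx', hy', by omega⟩
  have hlt : (x0 * swap b0 b3).support.card < x.support.card := by omega
  -- never exceptional
  have hE : ¬ Exc (x0 * swap b0 b3) y' := by
    rintro ⟨hE1, hE2, hE3⟩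
    obtain ⟨p, hp⟩ : ∃ p, (x0 * swap b0 b3) p ≠ y' p := by
      by_contra hcon
      push Not at hcon
      exact hE3 (Perm.ext hcon)
    obtain ⟨X, hX⟩ : ∃ X, X = x0 * swap b0 b3 := ⟨_, rfl⟩
    rw [← hX] at hE1 hE2 hp x'b0 x'b3 hx'
    have hXX : ∀ q, X (X q) = q := inv_apply_apply hx'
    have hYY : ∀ q, y' (y' q) = q := inv_apply_apply hy'
    have hpb0 : p ≠ b0 := by
      intro e
      rw [e, x'b0, y'b0] at hp
      exact hp rfl
    have hpb3 : p ≠ b3 := by
      intro e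
      rw [e, x'b3, y'b3] at hp
      exact hp rfl
    have hmem : ∀ q, q ∈ X.support ↔ q ∈ y'.support := fun q => by rw [hE2]
    have hXp : X p ≠ p := by
      intro e
      have : p ∉ X.support := by rw [Perm.mem_support]; exact fun h => h e
      rw [hmem, Perm.mem_support, not_not] at this
      rw [e, this] at hp
      exact hp rfl
    have hYp : y' p ≠ p := by
      have : p ∈ X.support := Perm.mem_support.mpr hXp
      rw [hmem] at this
      exact Perm.mem_support.mp this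
    have hXpb0 : X p ≠ b0 := by
      intro e
      apply hpb3
      rw [← hXX p, e, x'b0]
    have hXpb3 : X p ≠ b3 := by
      intro e
      apply hpb0
      rw [← hXX p, e, x'b3]
    have hYpb0 : y' p ≠ b0 := by
      intro e
      apply hpb3
      rw [← hYY p, e, y'b0]
    have hYpb3 : y' p ≠ b3 := by
      intro e
      apply hpb0
      rw [← hYY p, e, y'b3]
    have hsub : ({b0, b3, p, X p, y' p} : Finset α) ⊆ X.support := by
      intro q hq
      simp only [Finset.mem_insert, Finset.mem_singleton] at hq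
      rcases hq with rfl | rfl | rfl | rfl | rfl
      · rw [Perm.mem_support, x'b0]; exact n74
      · rw [Perm.mem_support, x'b3]; exact n47
      · exact Perm.mem_support.mpr hXp
      · rw [Perm.mem_support, hXX]; exact hXp.symm
      · rw [hmem, Perm.mem_support, hYY]; exact hYp.symm
    have hcard : ({b0, b3, p, X p, y' p} : Finset α).card = 5 := by
      rw [Finset.card_insert_of_notMem, Finset.card_insert_of_notMem,
        Finset.card_insert_of_notMem, Finset.card_insert_of_notMem, Finset.card_singleton]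
      · simp only [Finset.mem_singleton]; exact hp
      · simp only [Finset.mem_insert, Finset.mem_singleton, not_or]
        exact ⟨hXp.symm, hYp.symm⟩
      · simp only [Finset.mem_insert, Finset.mem_singleton, not_or]
        exact ⟨hpb3.symm, hXpb3.symm, hYpb3.symm⟩
      · simp only [Finset.mem_insert, Finset.mem_singleton, not_or]
        exact ⟨n47, hpb0.symm, hXpb0.symm, hYpb0.symm⟩
    have := Finset.card_le_card hsub
    omega
  obtain ⟨z', hz', hzs, hzc, ho1, ho2⟩ := ih _ _ hinst hlt hE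
  have hzfix : ∀ p, (x0 * swap b0 b3) p = p → y' p = p → z' p = p := by
    intro p h1 h2
    by_contra h3
    have h4 := hzs (Perm.mem_support.mpr h3)
    simp only [Finset.mem_union, Perm.mem_support, Finset.notMem_empty, or_false] at h4
    rcases h4 with h4 | h4
    · exact h4 h1
    · exact h4 h2
  have x'a0 : (x0 * swap b0 b3) a0 = a0 := by rw [mul_swap_apply_of_ne n04 n07, x0a0]
  have x'a1 : (x0 * swap b0 b3) a1 = a1 := by rw [mul_swap_apply_of_ne n14 n17, x0a1]
  have x'a2 : (x0 * swap b0 b3) a2 = a2 := by rw [mul_swap_apply_of_ne n24 n27, x0a2]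
  have x'a3 : (x0 * swap b0 b3) a3 = a3 := by rw [mul_swap_apply_of_ne n34 n37, x0a3]
  have x'b1 : (x0 * swap b0 b3) b1 = b1 := by rw [mul_swap_apply_of_ne n54 n57, x0b1]
  have x'b2 : (x0 * swap b0 b3) b2 = b2 := by rw [mul_swap_apply_of_ne n64 n67, x0b2]
  have za0 : z' a0 = a0 := hzfix a0 x'a0 y'a0
  have za1 : z' a1 = a1 := hzfix a1 x'a1 y'a1
  have za2 : z' a2 = a2 := hzfix a2 x'a2 y'a2
  have za3 : z' a3 = a3 := hzfix a3 x'a3 y'a3
  have zb1 : z' b1 = b1 := hzfix b1 x'b1 y'b1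
  have zb2 : z' b2 = b2 := hzfix b2 x'b2 y'b2
  -- `Z = z' * swap a2 a3`
  have hZ : (z' * swap a2 a3) * (z' * swap a2 a3) = 1 := mul_swap_mul_self hz' za2 za3
  have Za0 : (z' * swap a2 a3) a0 = a0 := by rw [mul_swap_apply_of_ne n02 n03, za0]
  have Za1 : (z' * swap a2 a3) a1 = a1 := by rw [mul_swap_apply_of_ne n12 n13, za1]
  have Zb1 : (z' * swap a2 a3) b1 = b1 := by rw [mul_swap_apply_of_ne n52 n53, zb1]
  have Zb2 : (z' * swap a2 a3) b2 = b2 := by rw [mul_swap_apply_of_ne n62 n63, zb2]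
  have Z1a1 : (z' * swap a2 a3 * swap b1 a0) a1 = a1 := by
    rw [mul_swap_apply_of_ne n15 n10, Za1]
  have Z1b2 : (z' * swap a2 a3 * swap b1 a0) b2 = b2 := by
    rw [mul_swap_apply_of_ne n65 n60, Zb2]
  refine ⟨z' * swap a2 a3 * swap b1 a0 * swap a1 b2, ?_, ?_, ?_, ?_, ?_⟩
  · exact mul_swap_mul_self (mul_swap_mul_self hZ Zb1 Za0) Z1a1 Z1b2
  · rw [support_mul_swap n16 Z1a1 Z1b2, support_mul_swap n50 Zb1 Za0,
      support_mul_swap n23 za2 za3]
    intro p hp
    simp only [Finset.mem_union, Finset.mem_insert, Finset.mem_singleton, Perm.mem_support,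
      Finset.notMem_empty, or_false] at hp ⊢
    rcases hp with ((hp | rfl | rfl) | rfl | rfl) | rfl | rfl
    · have h4 := hzs (Perm.mem_support.mpr hp)
      simp only [Finset.mem_union, Finset.notMem_empty, or_false] at h4
      rcases h4 with h4 | h4
      · left
        rw [hx'supp] at h4
        simp only [Finset.mem_union, Finset.mem_insert, Finset.mem_singleton] at h4
        rcases h4 with h4 | rfl | rfl
        · exact Perm.mem_support.mp (X1sub (X2sub (X3sub (x0sub h4))))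
        · rw [xb0]; exact n54
        · rw [xb3]; exact n67
      · right
        exact Perm.mem_support.mp (Y1sub (Y2sub (y'sub h4)))
    · left; rw [xa2]; exact n32
    · left; rw [xa3]; exact n23
    · left; rw [xb1]; exact n45
    · left; rw [xa0]; exact n10
    · left; rw [xa1]; exact n01
    · left; rw [xb2]; exact n76
  · rw [card_support_mul_swap n16 Z1a1 Z1b2, card_support_mul_swap n50 Zb1 Za0,
      card_support_mul_swap n23 za2 za3, hzc]
    omega
  · -- `x * z` via [LIFT-C]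
    have hnd : [b0, b1, a0, a1, b2, b3].Nodup := by
      simp only [List.nodup_cons, List.mem_cons, not_or, List.not_mem_nil, List.nodup_nil,
        not_false_eq_true, and_true]
      exact ⟨⟨n45, n40, n41, n46, n47⟩, ⟨n50, n51, n56, n57⟩, ⟨n01, n06, n07⟩, ⟨n16, n17⟩, n67⟩
    have hX0fix : ∀ p ∈ [b0, b1, a0, a1, b2, b3], (x0 * swap a2 a3) p = p := by
      intro p hp
      simp only [List.mem_cons, List.not_mem_nil, or_false] at hp
      rcases hp with rfl | rfl | rfl | rfl | rfl | rfl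
      · rw [mul_swap_apply_of_ne n42 n43, x0b0]
      · rw [mul_swap_apply_of_ne n52 n53, x0b1]
      · rw [mul_swap_apply_of_ne n02 n03, x0a0]
      · rw [mul_swap_apply_of_ne n12 n13, x0a1]
      · rw [mul_swap_apply_of_ne n62 n63, x0b2]
      · rw [mul_swap_apply_of_ne n72 n73, x0b3]
    have hZfix : ∀ p ∈ [b1, a0, a1, b2], (z' * swap a2 a3) p = p := by
      intro p hp
      simp only [List.mem_cons, List.not_mem_nil, or_false] at hp
      rcases hp with rfl | rfl | rfl | rfl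
      · exact Zb1
      · exact Za0
      · exact Za1
      · exact Zb2
    have hodd : Odd (orderOf (x0 * swap a2 a3 * swap b0 b3 * (z' * swap a2 a3))) := by
      have c1 : z' * swap a2 a3 = swap a2 a3 * z' := commute_swap_of_fixed za2 za3
      have c2 : swap a2 a3 * swap b0 b3 = swap b0 b3 * swap a2 a3 :=
        swap_comm_of_ne n42 n43 n72 n73
      have : x0 * swap a2 a3 * swap b0 b3 * (z' * swap a2 a3) = x0 * swap b0 b3 * z' := by
        calc x0 * swap a2 a3 * swap b0 b3 * (z' * swap a2 a3)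
            = x0 * (swap a2 a3 * swap b0 b3) * (z' * swap a2 a3) := by simp only [mul_assoc]
          _ = x0 * (swap b0 b3 * swap a2 a3) * (swap a2 a3 * z') := by rw [c1, c2]
          _ = x0 * swap b0 b3 * (swap a2 a3 * swap a2 a3) * z' := by simp only [mul_assoc]
          _ = x0 * swap b0 b3 * z' := by rw [Equiv.swap_mul_self, mul_one]
      rw [this]
      exact ho1
    have := hLC (x0 * swap a2 a3) (z' * swap a2 a3) b0 b1 a0 a1 b2 b3 hnd hX0fix hZ hZfix hodd
    rwa [hxeq] at this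
  · -- `z * y`
    have hzy : ∀ p, z' p = p → y' p = p → (z' * y') p = p := by
      intro p h1 h2
      rw [Perm.mul_apply, h2, h1]
    have cy : y' * (swap a2 a3 * swap b1 a0 * swap a1 b2) =
        (swap a2 a3 * swap b1 a0 * swap a1 b2) * y' :=
      commute_three_swaps y'a2 y'a3 y'b1 y'a0 y'a1 y'b2
    have cT : (z' * y') * ((swap a2 a3 * swap b1 a0 * swap a1 b2) *
        (swap b1 b2 * swap a3 a0 * swap a1 a2)) =
        ((swap a2 a3 * swap b1 a0 * swap a1 b2) * (swap b1 b2 * swap a3 a0 * swap a1 a2)) *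
          (z' * y') := by
      have e1 := commute_three_swaps (σ := z' * y') (hzy a2 za2 y'a2) (hzy a3 za3 y'a3)
        (hzy b1 zb1 y'b1) (hzy a0 za0 y'a0) (hzy a1 za1 y'a1) (hzy b2 zb2 y'b2)
      have e2 := commute_three_swaps (σ := z' * y') (hzy b1 zb1 y'b1) (hzy b2 zb2 y'b2)
        (hzy a3 za3 y'a3) (hzy a0 za0 y'a0) (hzy a1 za1 y'a1) (hzy a2 za2 y'a2)
      rw [← mul_assoc, e1, mul_assoc, e2, ← mul_assoc]
    have hTnd : [a0, a1, a2, a3, b1, b2].Nodup := by
      simp only [List.nodup_cons, List.mem_cons, not_or, List.not_mem_nil, List.nodup_nil,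
        not_false_eq_true, and_true]
      exact ⟨⟨n01, n02, n03, n05, n06⟩, ⟨n12, n13, n15, n16⟩, ⟨n23, n25, n26⟩, ⟨n35, n36⟩, n56⟩
    have hT := red_a_T_pow hTnd
    have : z' * swap a2 a3 * swap b1 a0 * swap a1 b2 * y = (z' * y') *
        ((swap a2 a3 * swap b1 a0 * swap a1 b2) * (swap b1 b2 * swap a3 a0 * swap a1 a2)) := by
      calc z' * swap a2 a3 * swap b1 a0 * swap a1 b2 * y
          = z' * swap a2 a3 * swap b1 a0 * swap a1 b2 *
              (y' * swap b1 b2 * swap a3 a0 * swap a1 a2) := by rw [hyeq]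
        _ = z' * ((swap a2 a3 * swap b1 a0 * swap a1 b2) * y') *
              (swap b1 b2 * swap a3 a0 * swap a1 a2) := by simp only [mul_assoc]
        _ = z' * (y' * (swap a2 a3 * swap b1 a0 * swap a1 b2)) *
              (swap b1 b2 * swap a3 a0 * swap a1 a2) := by rw [cy]
        _ = (z' * y') * ((swap a2 a3 * swap b1 a0 * swap a1 b2) *
              (swap b1 b2 * swap a3 a0 * swap a1 a2)) := by simp only [mul_assoc]
    rw [this]
    exact odd_orderOf_mul_of_commute cT ho2 hT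

end Cfsg.Agent.Lib.Helper87.OddProd
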