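/-
helper87: fusion systems over a nonabelian `p`-group `S` (`p` odd) with a unique abelian subgroup `A` of index `p`, when
`A` is not essential and `O_p(F) = 1`: `Z(S) ≤ [S, S]` and `S` has maximal class (after Oliver).
All declarations live in `Cfsg.Agent.Lib.Helper87`.
-/
import Cfsg.Agent.Lib.Helper87.OliverIndexP2
import Cfsg.Agent.Lib.Helper87.OliverTau
import Cfsg.Agent.Lib.Helper87.FusionAgree
import Cfsg.Agent.Lib.Helper87.FusionFrattini
import Cfsg.Agent.Lib.Helper85.FusionNormal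

set_option autoImplicit false

namespace Cfsg.Agent.Lib.Helper87

open Cfsg Cfsg.FusionSystem

section General

variable {Ω : Type*} [Group Ω] {S : Subgroup Ω}

/-- `Z(S)` seen inside `S`. -/
theorem centralizerIn_subgroupOf_self : (centralizerIn S S).subgroupOf S = Subgroup.center ↥S := by
  ext z
  rw [Subgroup.mem_subgroupOf, Subgroup.mem_center_iff]
  constructor
  · intro hz g
    exact Subtype.ext (Subgroup.mem_centralizer_iff.1 hz.2 g g.2)
  · intro hz
    refine ⟨z.2, ?_⟩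
    show (z : Ω) ∈ Subgroup.centralizer (S : Set Ω)
    rw [Subgroup.mem_centralizer_iff]
    intro g hg
    exact congrArg Subtype.val (hz ⟨g, hg⟩)

theorem coe_mem_center_iff (z : S) : (z : Ω) ∈ centralizerIn S S ↔ z ∈ Subgroup.center ↥S := by
  rw [← centralizerIn_subgroupOf_self, Subgroup.mem_subgroupOf]

/-- Automorphisms of `S` preserve `Z(S)`. -/
theorem aut_mem_center_iff (β : MulAut S) (z : S) :
    ((β z : S) : Ω) ∈ centralizerIn S S ↔ (z : Ω) ∈ centralizerIn S S := by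
  rw [coe_mem_center_iff, coe_mem_center_iff]
  have h := (Subgroup.characteristic_iff_comap_eq.1 (inferInstance : (Subgroup.center ↥S).Characteristic)) β
  conv_rhs => rw [← h]
  rfl

/-- Automorphisms of `P` preserve (the image of) `Z(P)`. -/
theorem aut_mem_of_center_map {P Z : Subgroup Ω} (h : (Subgroup.center ↥P).map P.subtype = Z) (α : MulAut P)
    (y : P) : ((α y : P) : Ω) ∈ Z ↔ (y : Ω) ∈ Z := by
  rw [← h]
  have h1 : ∀ y : P, (y : Ω) ∈ (Subgroup.center ↥P).map P.subtype ↔ y ∈ Subgroup.center ↥P := fun y =>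
    Subgroup.mem_map_iff_mem P.subtype_injective
  rw [h1, h1]
  have h := (Subgroup.characteristic_iff_comap_eq.1 (inferInstance : (Subgroup.center ↥P).Characteristic)) α
  conv_rhs => rw [← h]
  rfl

/-- Automorphisms of `S` preserve `[S, S]`. -/
theorem aut_mem_commutator_iff (β : MulAut S) (z : S) :
    ((β z : S) : Ω) ∈ ⁅S, S⁆ ↔ (z : Ω) ∈ ⁅S, S⁆ := by
  rw [← commutator_map_subtype]
  have h1 : ∀ y : S, (y : Ω) ∈ (commutator ↥S).map S.subtype ↔ y ∈ commutator ↥S := fun y =>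
    Subgroup.mem_map_iff_mem S.subtype_injective
  rw [h1, h1]
  have h := (Subgroup.characteristic_iff_comap_eq.1 (inferInstance : (commutator ↥S).Characteristic)) β
  conv_rhs => rw [← h]
  rfl

/-- If a Sylow `p`-subgroup has order `p`, every `p`-subgroup containing `t ≠ 1` is `⟨t⟩`. -/
theorem le_zpowers_of_sylow_card_prime {G : Type*} [Group G] [Finite G] {p : ℕ} [Fact p.Prime] (R : Sylow p G)
    (hR : Nat.card (R : Subgroup G) = p) {t : G} (ht : t ≠ 1) (K : Subgroup G) (hK : IsPGroup p K)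
    (htK : t ∈ K) : K ≤ Subgroup.zpowers t := by
  obtain ⟨c, hc⟩ := exists_conj_mem_sylow R hK
  intro k hk
  have h1 : c * t * c⁻¹ ∈ (R : Subgroup G) := hc t htK
  have h2 : c * k * c⁻¹ ∈ (R : Subgroup G) := hc k hk
  have hne : (⟨c * t * c⁻¹, h1⟩ : (R : Subgroup G)) ≠ 1 := by
    intro h
    apply ht
    have h3 : c * t * c⁻¹ = 1 := congrArg Subtype.val h
    exact conj_eq_one_iff.1 h3
  obtain ⟨i, hi⟩ := Subgroup.mem_zpowers_iff.1
    (mem_zpowers_of_prime_card hR hne (g' := (⟨c * k * c⁻¹, h2⟩ : (R : Subgroup G))))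
  have h3 : (c * t * c⁻¹) ^ i = c * k * c⁻¹ := by
    have := congrArg Subtype.val hi
    simpa using this
  rw [conj_zpow] at h3
  rw [Subgroup.mem_zpowers_iff]
  refine ⟨i, ?_⟩
  have h4 : c⁻¹ * (c * t ^ i * c⁻¹) * c = c⁻¹ * (c * k * c⁻¹) * c := by rw [h3]
  have e1 : c⁻¹ * (c * t ^ i * c⁻¹) * c = t ^ i := by group
  have e2 : c⁻¹ * (c * k * c⁻¹) * c = k := by group
  rw [e1, e2] at h4
  exact h4

end General

section Rigid

variable {Ω : Type*} [Group Ω] {S : Subgroup Ω} [Finite S] {p : ℕ} [Fact p.Prime]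

/-- `S` is fully normalized in any fusion system over `S`. -/
theorem isFullyNormalized_self (F : FusionSystem S) : F.IsFullyNormalized S := by
  refine ⟨le_rfl, fun Q _ => ?_⟩
  have h1 : normalizerIn S Q ≤ normalizerIn S S := fun g hg => ⟨hg.1, Subgroup.le_normalizer hg.1⟩
  have : Finite (normalizerIn S S) := finite_of_le (inf_le_left : normalizerIn S S ≤ S)
  exact Subgroup.card_le_of_le h1

omit [Finite S] in
/-- `Inn(S) = Aut_S(S)` is normal in `Aut_F(S)`. -/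
theorem autInducedBy_self_normal (F : FusionSystem S) :
    ((autInducedBy S S).subgroupOf (F.autGroup S)).Normal := by
  constructor
  intro n hn g
  rw [Subgroup.mem_subgroupOf] at hn ⊢
  obtain ⟨k, hk, hkn⟩ := mem_autInducedBy_iff.1 hn
  rw [mem_autInducedBy_iff]
  refine ⟨((g : MulAut S) ⟨k, hk⟩ : S), ((g : MulAut S) ⟨k, hk⟩ : S).2, fun x => ?_⟩
  show (((g : MulAut S) ((n : MulAut S) ((g : MulAut S)⁻¹ x)) : S) : Ω) = _
  have h1 : (n : MulAut S) ((g : MulAut S)⁻¹ x) = ⟨k, hk⟩ * ((g : MulAut S)⁻¹ x) * ⟨k, hk⟩⁻¹ :=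
    Subtype.ext (hkn _)
  rw [h1, map_mul, map_mul, map_inv, MulAut.apply_inv_self]
  rfl

/-- **Rigidity.** An element of `Aut_F(S)` stabilizing a chain `Z ≥ Z0 ≥ 1` of central subgroups (`Z0` of exponent `p`)
acts trivially on `Z`, as `Out_F(S)` is a `p'`-group. -/
theorem aut_rigid_of_chain (F : FusionSystem S) (hS : IsPGroup p S) (hF : F.IsSaturated p) (Z Z0 : Subgroup Ω)
    (hZ : Z ≤ centralizerIn S S) (hZ0 : ∀ u ∈ Z0, u ^ p = 1) {γ : MulAut S} (hγ : γ ∈ F.autGroup S)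
    (h1 : ∀ z : S, (z : Ω) ∈ Z → (z : Ω)⁻¹ * (γ z : S) ∈ Z0) (h2 : ∀ u : S, (u : Ω) ∈ Z0 → γ u = u) :
    ∀ z : S, (z : Ω) ∈ Z → γ z = z := by
  have hp : p.Prime := Fact.out
  set Fx : Subgroup (MulAut S) := fixingSubgroup (MulAut S) {z : S | (z : Ω) ∈ Z} with hFx
  have hmemFx : ∀ δ : MulAut S, δ ∈ Fx ↔ ∀ z : S, (z : Ω) ∈ Z → δ z = z := by
    intro δ
    rw [hFx, mem_fixingSubgroup_iff]
    rfl
  -- `γ ^ p` fixes `Z`
  have hpow : γ ^ p ∈ Fx := by
    rw [hmemFx]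
    intro z hz
    have hu : ((z⁻¹ * γ z : S) : Ω) ∈ Z0 := h1 z hz
    have e : γ z = z * (z⁻¹ * γ z) := by group
    have h3 := pow_apply_mul_pow' γ z (z⁻¹ * γ z) e (h2 _ hu) p
    rw [h3]
    have h4 : (z⁻¹ * γ z) ^ p = 1 := by
      apply Subtype.ext
      have := hZ0 _ hu
      simpa using this
    rw [h4, mul_one]
  -- `γ ^ m` fixes `Z`
  obtain ⟨-, R, hR⟩ := (fullyAutomized_receptive_of_fullyNormalized F hS hF (isFullyNormalized_self F)).1
  have hRn : (R : Subgroup (F.autGroup S)).Normal := by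
    rw [hR]; exact autInducedBy_self_normal F
  set m : ℕ := (R : Subgroup (F.autGroup S)).index with hm
  have hpm : ¬ p ∣ m := R.not_dvd_index
  have hpowm : γ ^ m ∈ Fx := by
    have h3 : (⟨γ, hγ⟩ : F.autGroup S) ^ m ∈ (R : Subgroup (F.autGroup S)) :=
      Subgroup.pow_index_mem _ _
    rw [hR, Subgroup.mem_subgroupOf] at h3
    obtain ⟨k, hk, hkγ⟩ := mem_autInducedBy_iff.1 h3
    rw [hmemFx]
    intro z hz
    apply Subtype.ext
    have h4 := hkγ z
    have h5 : (((⟨γ, hγ⟩ : F.autGroup S) ^ m : F.autGroup S) : MulAut S) = γ ^ m := by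
      simp
    rw [h5] at h4
    rw [h4]
    exact conj_center_eq (hZ hz) hk
  have hcop : Nat.Coprime m p := (Nat.Coprime.symm ((Nat.Prime.coprime_iff_not_dvd hp).2 hpm))
  have hg : (1 : ℤ) = m * Nat.gcdA m p + p * Nat.gcdB m p := by
    have := Nat.gcd_eq_gcd_ab m p
    rw [hcop.gcd_eq_one] at this
    exact_mod_cast this
  have hγFx : γ ∈ Fx := by
    have e : γ = (γ ^ m) ^ (Nat.gcdA m p) * (γ ^ p) ^ (Nat.gcdB m p) := by
      rw [← zpow_natCast, ← zpow_natCast, ← zpow_mul, ← zpow_mul, ← zpow_add, ← hg, zpow_one]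
    rw [e]
    exact Fx.mul_mem (Fx.zpow_mem hpowm _) (Fx.zpow_mem hpow _)
  exact (hmemFx γ).1 hγFx

end Rigid

section Ctx

variable {Ω : Type*} [Group Ω] {S : Subgroup Ω} [Finite S] {p : ℕ} [Fact p.Prime] {A : Subgroup Ω}
  {F : FusionSystem S}

/-- Standing hypotheses: `p` odd, `S` nonabelian with a unique abelian subgroup `A` of index `p`, `F` saturated over `S`
and `A` not essential. -/
structure OliverCtx (p : ℕ) (S A : Subgroup Ω) (F : FusionSystem S) : Prop where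
  data : IndexPData p S A
  sat : F.IsSaturated p
  odd : p ≠ 2
  uniq : ∀ B : Subgroup Ω, B ≤ S → (∀ y ∈ B, ∀ z ∈ B, y * z = z * y) → B.relIndex S = p → B = A
  notEss : ¬ F.IsEssential p A

omit [Finite S] [Fact p.Prime] in
theorem OliverCtx.ne (c : OliverCtx p S A F) {P : Subgroup Ω} (hP : F.IsEssential p P) : P ≠ A :=
  fun h => c.notEss (h ▸ hP)

omit [Finite S] [Fact p.Prime] in
theorem OliverCtx.center_le (_c : OliverCtx p S A F) {P : Subgroup Ω} (hP : F.IsEssential p P) :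
    centralizerIn S S ≤ P := center_le_of_centric F hP.1

/-- Abelian essential subgroups: `P ∩ A = Z(S)` has index `p` in `P`. -/
theorem OliverCtx.abelian_facts (c : OliverCtx p S A F) {P : Subgroup Ω} (hP : F.IsEssential p P)
    (hab : ∀ y ∈ P, ∀ z ∈ P, y * z = z * y) :
    P ⊓ A = centralizerIn S S ∧ (centralizerIn S S).relIndex P = p ∧
      Nat.card (centralizerIn S S) * p = Nat.card P := by
  have hPA := c.ne hP
  have hPS : P ≤ S := hP.1.1
  have hnle := (c.data.essential_key F c.sat hP hPA).1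
  have hinf := c.data.inf_eq_center_of_comm F hP.1 hnle hab
  have hrel := c.data.relIndex_of_not_le hPS hnle
  have hrel' : (centralizerIn S S).relIndex P = p := by
    rw [← hinf, Subgroup.inf_relIndex_left, hrel]
  refine ⟨hinf, hrel', ?_⟩
  have := card_mul_relIndex' (c.center_le hP)
  rw [hrel'] at this
  exact this

/-- Nonabelian essential subgroups: `Z(P) = Z(S)` and `|P| = p² |Z(S)|`. -/
theorem OliverCtx.nonab_facts (c : OliverCtx p S A F) {P : Subgroup Ω} (hP : F.IsEssential p P)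
    (hnab : ¬ ∀ y ∈ P, ∀ z ∈ P, y * z = z * y) :
    (Subgroup.center ↥P).map P.subtype = centralizerIn S S ∧
      Nat.card (centralizerIn S S) * p ^ 2 = Nat.card P := by
  have hPA := c.ne hP
  have hPS : P ≤ S := hP.1.1
  have hnle := (c.data.essential_key F c.sat hP hPA).1
  obtain ⟨h1, -, -, h4, -⟩ := c.data.essential_nonab F c.sat hP hPA hnab
  refine ⟨h1, ?_⟩
  have hrel := c.data.relIndex_of_not_le hPS hnle
  have e1 := card_mul_relIndex' (le_inf (c.center_le hP) c.data.center_le : centralizerIn S S ≤ P ⊓ A)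
  rw [h4] at e1
  have e2 := card_mul_relIndex' (inf_le_left : P ⊓ A ≤ P)
  rw [Subgroup.inf_relIndex_left, hrel] at e2
  rw [← e2, ← e1]
  ring

/-- **Part 1.** If `O_p(F) = 1`, some essential subgroup is abelian. -/
theorem OliverCtx.exists_abelian_essential (c : OliverCtx p S A F) (hcore : F.core = ⊥) :
    ∃ P : Subgroup Ω, F.IsEssential p P ∧ ∀ y ∈ P, ∀ z ∈ P, y * z = z * y := by
  by_contra hcon
  push Not at hcon
  have hS := c.data.pgroup
  have hnorm : F.IsNormal (centralizerIn S S) := by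
    apply Cfsg.Agent.Lib.Helper84.isNormal_of_forall_essential F hS c.sat
    rintro P (rfl | hP)
    · refine ⟨inf_le_left, fun α _ => ?_⟩
      rw [centralizerIn_subgroupOf_self]
      exact Subgroup.characteristic_iff_map_eq.1 inferInstance α
    · have hnab : ¬ ∀ y ∈ P, ∀ z ∈ P, y * z = z * y := by
        intro h
        obtain ⟨y, hy, z, hz, hne⟩ := hcon P hP
        exact hne (h y hy z hz)
      obtain ⟨h1, -⟩ := c.nonab_facts hP hnab
      refine ⟨c.center_le hP, fun α _ => ?_⟩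
      have h2 : (centralizerIn S S).subgroupOf P = Subgroup.center ↥P := by
        rw [← h1]
        exact Subgroup.comap_map_eq_self_of_injective P.subtype_injective _
      rw [h2]
      exact Subgroup.characteristic_iff_map_eq.1 inferInstance α
  have hle : centralizerIn S S ≤ ⊥ := hcore ▸ Cfsg.Agent.Lib.Helper85.le_core_of_isNormal F hnorm
  obtain ⟨s, hs, s', hs', hne⟩ := c.data.nonab
  have hnt : Nontrivial ↥S := by
    refine ⟨⟨s, hs⟩, ⟨s', hs'⟩, fun h => hne ?_⟩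
    have := congrArg Subtype.val h
    simp only at this
    rw [this]
  have hcnt : Nontrivial (Subgroup.center ↥S) := hS.center_nontrivial
  obtain ⟨⟨z, hz⟩, hz1⟩ := exists_ne (1 : Subgroup.center ↥S)
  apply hz1
  have h3 : (z : Ω) ∈ centralizerIn S S := (coe_mem_center_iff z).2 hz
  have h4 : (z : Ω) = 1 := Subgroup.mem_bot.1 (hle h3)
  apply Subtype.ext
  apply Subtype.ext
  exact h4

/-- Essential subgroups have order at most `p² |Z(S)|`. -/
theorem OliverCtx.card_essential_le (c : OliverCtx p S A F) {P : Subgroup Ω} (hP : F.IsEssential p P) :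
    Nat.card P ≤ Nat.card (centralizerIn S S) * p ^ 2 := by
  have hp : p.Prime := Fact.out
  by_cases hab : ∀ y ∈ P, ∀ z ∈ P, y * z = z * y
  · rw [← (c.abelian_facts hP hab).2.2, pow_two, ← mul_assoc]
    exact Nat.le_mul_of_pos_right _ hp.pos
  · rw [(c.nonab_facts hP hab).2]

/-- Maps with source of order `> p² |Z(S)|` are restrictions of elements of `Aut_F(S)`. -/
theorem OliverCtx.restrict_of_large (c : OliverCtx p S A F) {R : Subgroup Ω} {φ : R →* Ω} (hφ : φ ∈ F.Hom R)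
    (hR : Nat.card (centralizerIn S S) * p ^ 2 < Nat.card R) :
    ∃ β ∈ F.autGroup S, ∀ (y : R) (hy : (y : Ω) ∈ S), φ y = ((β ⟨y, hy⟩ : S) : Ω) := by
  have hess : ∀ P : Subgroup Ω, F.IsEssential p P → Nat.card (centralizerIn S S) * p ^ 2 < Nat.card P →
      ∀ α ∈ F.autGroup P,
      (∃ β ∈ F.autGroup S, ∀ (y : P) (hy : (y : Ω) ∈ S), (y : Ω) ∈ (⊤ : Subgroup Ω) →
        ((α y : P) : Ω) = ((β ⟨y, hy⟩ : S) : Ω)) ∧
        ∀ y : P, (y : Ω) ∈ (⊤ : Subgroup Ω) ↔ ((α y : P) : Ω) ∈ (⊤ : Subgroup Ω) := by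
    intro P hP hN
    exact absurd hN (not_lt.2 (c.card_essential_le hP))
  obtain ⟨⟨β, hβ, h⟩, -⟩ := agree_of_large F c.data.pgroup c.sat ⊤ _ (fun _ _ _ => by simp) hess hφ hR
  exact ⟨β, hβ, fun y hy => h y hy (Subgroup.mem_top _)⟩

/-- Automorphisms of nonabelian essential subgroups agree on `Z(S)` with elements of `Aut_F(S)`. -/
theorem OliverCtx.nonab_agree (c : OliverCtx p S A F) {P : Subgroup Ω} (hP : F.IsEssential p P)
    (hnab : ¬ ∀ y ∈ P, ∀ z ∈ P, y * z = z * y) {α : MulAut P} (hα : α ∈ F.autGroup P) :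
    ∃ β ∈ F.autGroup S, ∀ (y : P) (hy : (y : Ω) ∈ S), (y : Ω) ∈ centralizerIn S S →
      ((α y : P) : Ω) = ((β ⟨y, hy⟩ : S) : Ω) := by
  have hS := c.data.pgroup
  have hPS : P ≤ S := hP.1.1
  have hPne : P ≠ S := Cfsg.Agent.Lib.Helper88.ne_top_of_essential F c.sat hP
  obtain ⟨hPa, hPr⟩ := fullyAutomized_receptive_of_fullyNormalized F hS c.sat hP.2.1
  obtain ⟨g, hgN, hgP⟩ := exists_mem_normalizerIn_not_mem hS hPS hPne
  obtain ⟨hcen, hcard⟩ := c.nonab_facts hP hnab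
  set D : Subgroup (MulAut P) := fixingSubgroup (MulAut P) {y : P | (y : Ω) ∈ centralizerIn S S} with hD
  have hmemD : ∀ δ : MulAut P, δ ∈ D ↔ ∀ y : P, (y : Ω) ∈ centralizerIn S S → δ y = y := by
    intro δ
    rw [hD, mem_fixingSubgroup_iff]
    rfl
  have hDn : ∀ α ∈ F.autGroup P, ∀ β ∈ D, α * β * α⁻¹ ∈ D := by
    intro α _ β hβ
    rw [hmemD] at hβ ⊢
    intro y hy
    show α (β (α⁻¹ y)) = y
    rw [hβ _ ((aut_mem_of_center_map hcen α⁻¹ y).2 hy), MulAut.apply_inv_self]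
  have hgD : conjAut P g hgN.2 ∈ D := by
    rw [hmemD]
    intro y hy
    apply Subtype.ext
    rw [conjAut_apply]
    exact conj_center_eq hy hgN.1
  obtain ⟨δ, hδ, X, ψ, hψ, hPX, hXN, hgX, hext⟩ :=
    exists_frattini_extension F hS hPa hPr D hDn α hα g hgN hgD
  have hXS : X ≤ S := hom_le F hψ
  have hfinX : Finite X := finite_of_le hXS
  have hlt : Nat.card P < Nat.card X := by
    by_contra hle
    push Not at hle
    have := Subgroup.eq_of_le_of_card_ge hPX hle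
    exact hgP (this ▸ hgX)
  rw [← hcard] at hlt
  obtain ⟨β, hβ, hβψ⟩ := c.restrict_of_large hψ hlt
  refine ⟨β, hβ, fun y hy hyZ => ?_⟩
  rw [← hβψ ⟨y, hPX y.2⟩ hy, hext y y.2 (hPX y.2)]
  show ((α y : P) : Ω) = ((δ (α y) : P) : Ω)
  rw [(hmemD δ).1 hδ _ ((aut_mem_of_center_map hcen α y).2 hyZ)]

/-- Maps with source of order `> p |Z(S)|` agree on `Z(S)` with elements of `Aut_F(S)`. -/
theorem OliverCtx.agree_of_large (c : OliverCtx p S A F) {R : Subgroup Ω} {φ : R →* Ω} (hφ : φ ∈ F.Hom R)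
    (hR : Nat.card (centralizerIn S S) * p < Nat.card R) :
    ∃ β ∈ F.autGroup S, ∀ (y : R) (hy : (y : Ω) ∈ S), (y : Ω) ∈ centralizerIn S S →
      φ y = ((β ⟨y, hy⟩ : S) : Ω) := by
  refine (Cfsg.Agent.Lib.Helper87.agree_of_large F c.data.pgroup c.sat (centralizerIn S S) _
    (fun β _ y => aut_mem_center_iff β y) ?_ hφ hR).1
  intro P hP hN α hα
  have hnab : ¬ ∀ y ∈ P, ∀ z ∈ P, y * z = z * y := by
    intro hab
    rw [(c.abelian_facts hP hab).2.2] at hN
    exact lt_irrefl _ hN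
  exact ⟨c.nonab_agree hP hnab hα, fun y => (aut_mem_of_center_map (c.nonab_facts hP hnab).1 α y).symm⟩

/-- `Z ∩ α(Z)` for `α ∈ Aut(P)`, seen inside `Ω`. -/
def Dsub (Z P : Subgroup Ω) (α : MulAut P) : Subgroup Ω :=
  ((Z.subgroupOf P) ⊓ (Z.subgroupOf P).map α.toMonoidHom).map P.subtype

omit [Finite S] [Fact p.Prime] in
theorem Dsub_le (Z P : Subgroup Ω) (α : MulAut P) : Dsub Z P α ≤ Z := by
  rintro _ ⟨d, hd, rfl⟩
  exact hd.1

/-- **The abelian essential subgroups.** For an abelian essential `P` and `α ∈ Aut_F(P)` moving `Z = Z(S)`, with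
`D = Z ∩ α(Z)`: `Z = D × Z₀` (where `Z₀ = Z ∩ [S, S]`), and some `β ∈ Aut_F(S)` is the identity on `D` and inverts `Z₀`. -/
theorem OliverCtx.abelian_key (c : OliverCtx p S A F) {P : Subgroup Ω} (hP : F.IsEssential p P)
    (hab : ∀ y ∈ P, ∀ z ∈ P, y * z = z * y) {α : MulAut P} (hα : α ∈ F.autGroup P)
    (hmove : ¬ ∀ y : P, α y ∈ (centralizerIn S S).subgroupOf P ↔ y ∈ (centralizerIn S S).subgroupOf P) :
    ∃ β ∈ F.autGroup S, (∀ d : S, (d : Ω) ∈ Dsub (centralizerIn S S) P α → β d = d) ∧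
      (∀ u : S, (u : Ω) ∈ centralizerIn S S ⊓ ⁅S, S⁆ → β u = u⁻¹) ∧
      (centralizerIn S S ⊓ ⁅S, S⁆) ⊓ Dsub (centralizerIn S S) P α = ⊥ ∧
      centralizerIn S S ≤ Dsub (centralizerIn S S) P α ⊔ (centralizerIn S S ⊓ ⁅S, S⁆) := by
  have hp : p.Prime := Fact.out
  have hS := c.data.pgroup
  have hPS : P ≤ S := hP.1.1
  have hPA := c.ne hP
  have hfinP : Finite P := finite_of_le hPS
  have hPp : IsPGroup p P := hS.to_le hPS
  obtain ⟨hinf, hrelZ, hcardP⟩ := c.abelian_facts hP hab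
  have hZP : centralizerIn S S ≤ P := c.center_le hP
  have hnle := (c.data.essential_key F c.sat hP hPA).1
  have hTrel := (c.data.essential_key F c.sat hP hPA).2.2
  have h2A := c.data.Z2_le_A F c.sat c.uniq hP hPA
  have hrel2 := c.data.relIndex_center_Z2 F c.sat h2A hP hPA
  obtain ⟨x, hxP, hxA⟩ := SetLike.not_le_iff_exists.1 hnle
  have hcard0 : Nat.card ↥(centralizerIn S S ⊓ ⁅S, S⁆) = p := by
    have := c.data.card_center_inf_commutator (hPS hxP) hxA h2A
    rw [hrel2] at this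
    exact this
  -- an element of `Z₂ ∖ Z`
  obtain ⟨y, hy2, hyZ⟩ : ∃ y ∈ (upperCentralSeries ↥S 2).map S.subtype, y ∉ centralizerIn S S := by
    by_contra hcon
    push Not at hcon
    have : (centralizerIn S S).relIndex ((upperCentralSeries ↥S 2).map S.subtype) = 1 :=
      Subgroup.relIndex_eq_one.2 hcon
    rw [hrel2] at this
    exact hp.one_lt.ne' this
  have hyA : y ∈ A := h2A hy2
  have hyS : y ∈ S := Z2_le hy2
  have hyN : y ∈ Subgroup.normalizer (P : Set Ω) := mem_normalizer_of_mem_Z2 hPS hZP hy2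
  set t : MulAut P := conjAut P y hyN with ht
  have htS : t ∈ autInducedBy S P := mem_autInducedBy_iff.2 ⟨y, hyS, fun _ => rfl⟩
  have htG : t ∈ F.autGroup P := autInducedBy_le_autGroup F hPS htS
  set Zs : Subgroup P := (centralizerIn S S).subgroupOf P with hZs
  set Z0 : Subgroup P := (centralizerIn S S ⊓ ⁅S, S⁆).subgroupOf P with hZ0
  have hfix : ∀ u : P, t u = u ↔ u ∈ Zs := by
    intro u
    constructor
    · intro hu
      have h1 : y * (u : Ω) * y⁻¹ = u := congrArg Subtype.val hu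
      have h2 : y * (u : Ω) = u * y := by
        calc y * (u : Ω) = y * u * y⁻¹ * y := by group
          _ = u * y := by rw [h1]
      by_contra huZ
      have huA : (u : Ω) ∉ A := by
        intro huA
        apply huZ
        show (u : Ω) ∈ centralizerIn S S
        rw [← hinf]
        exact ⟨u.2, huA⟩
      exact hyZ (c.data.mem_center_of_comm hyA (hPS u.2) huA h2)
    · intro hu
      apply Subtype.ext
      rw [conjAut_apply]
      exact conj_center_eq hu hyS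
  have hcomm : ∀ u : P, u⁻¹ * t u ∈ Z0 := by
    intro u
    have huS : (u : Ω) ∈ S := hPS u.2
    have cZ : y * (u : Ω) * y⁻¹ * (u : Ω)⁻¹ ∈ centralizerIn S S := (mem_Z2_iff.1 hy2).2 u huS
    have e : (u : Ω)⁻¹ * (y * u * y⁻¹) = (u : Ω)⁻¹ * (y * u * y⁻¹ * (u : Ω)⁻¹) * (u : Ω)⁻¹⁻¹ := by group
    have e2 : (u : Ω)⁻¹ * (y * u * y⁻¹) = y * (u : Ω) * y⁻¹ * (u : Ω)⁻¹ := by
      rw [e, conj_center_eq cZ (S.inv_mem huS)]
    show (u : Ω)⁻¹ * (y * u * y⁻¹) ∈ centralizerIn S S ⊓ ⁅S, S⁆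
    rw [e2]
    refine ⟨cZ, ?_⟩
    exact Subgroup.commutator_mem_commutator hyS huS
  have hidx : Zs.index = p := hrelZ
  have hZ0card : Nat.card Z0 = p := by
    rw [← hcard0]
    exact Nat.card_congr (Subgroup.subgroupOfEquivOfLe (inf_le_left.trans hZP)).toEquiv
  have hle : Z0 ≤ Zs := fun u hu => hu.1
  obtain ⟨hPa, hPr⟩ := fullyAutomized_receptive_of_fullyNormalized F hS c.sat hP.2.1
  have ht1 : t ≠ 1 := by
    intro h
    apply hxA
    have h1 : (⟨x, hxP⟩ : P) ∈ Zs := (hfix _).1 (by rw [h]; rfl)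
    exact c.data.center_le h1
  have hTmax : ∀ K : Subgroup (MulAut P), K ≤ F.autGroup P → IsPGroup p K → t ∈ K → K ≤ Subgroup.zpowers t := by
    intro K hKG hK htK
    obtain ⟨-, R, hR⟩ := hPa
    have hInn : Inn P = ⊥ := by
      rw [eq_bot_iff]
      rintro _ ⟨g, rfl⟩
      rw [Subgroup.mem_bot]
      ext u
      show ((g * u * g⁻¹ : P) : Ω) = u
      have := hab g g.2 u u.2
      push_cast
      rw [this]
      group
    have hRcard : Nat.card (R : Subgroup (F.autGroup P)) = p := by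
      rw [hR]
      rw [Nat.card_congr (Subgroup.subgroupOfEquivOfLe (autInducedBy_le_autGroup F hPS)).toEquiv]
      rw [← hTrel, hInn, Subgroup.relIndex_bot_left]
    have htG1 : (⟨t, htG⟩ : F.autGroup P) ≠ 1 := fun h => ht1 (congrArg Subtype.val h)
    have hle' := le_zpowers_of_sylow_card_prime R hRcard htG1 (K.subgroupOf (F.autGroup P)) hK.comap_subtype
      (Subgroup.mem_subgroupOf.2 htK)
    intro k hk
    have h1 : (⟨k, hKG hk⟩ : F.autGroup P) ∈ K.subgroupOf (F.autGroup P) := Subgroup.mem_subgroupOf.2 hk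
    obtain ⟨i, hi⟩ := Subgroup.mem_zpowers_iff.1 (hle' h1)
    rw [Subgroup.mem_zpowers_iff]
    refine ⟨i, ?_⟩
    have := congrArg Subtype.val hi
    simpa using this
  have hab' : ∀ a b : P, a * b = b * a := fun a b => Subtype.ext (hab a a.2 b b.2)
  obtain ⟨τ, hτG, hτt, hτD, hτ0, hdisj, hsup⟩ :=
    tau_exists hPp hab' (F.autGroup P) Zs Z0 hidx hZ0card hle t htG hfix hcomm hTmax α hα hmove
  -- extend `τ`
  obtain ⟨X, ψ, hψ, hPX, hXN, hext, hXg⟩ := exists_extension_aut F hPS hPr τ hτG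
  have hyX : y ∈ X := by
    apply hXg y ⟨hyS, hyN⟩
    have : τ * conjAut P y hyN * τ⁻¹ = t := by
      rw [← ht, hτt, mul_inv_cancel_right]
    rw [this]
    exact htS
  have hyP : y ∉ P := fun h => hyZ (hinf ▸ ⟨h, hyA⟩)
  have hXS : X ≤ S := hom_le F hψ
  have hfinX : Finite X := finite_of_le hXS
  have hlt : Nat.card P < Nat.card X := by
    by_contra hle
    push Not at hle
    have := Subgroup.eq_of_le_of_card_ge hPX hle
    exact hyP (this ▸ hyX)
  rw [← hcardP] at hlt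
  obtain ⟨β, hβ, hβψ⟩ := c.agree_of_large hψ hlt
  have hβτ : ∀ (z : Ω) (hz : z ∈ centralizerIn S S),
      ((β ⟨z, hz.1⟩ : S) : Ω) = ((τ ⟨z, hZP hz⟩ : P) : Ω) := by
    intro z hz
    rw [← hβψ ⟨z, hPX (hZP hz)⟩ hz.1 hz, hext z (hZP hz) (hPX (hZP hz))]
  refine ⟨β, hβ, ?_, ?_, ?_, ?_⟩
  · intro d hdD
    obtain ⟨d', hd', hdd⟩ := hdD
    have hd'' : d' ∈ Zs ⊓ Zs.map α.toMonoidHom := hd'
    have hdd' : (d' : Ω) = d := hdd
    have hdZ : (d : Ω) ∈ centralizerIn S S := by rw [← hdd']; exact hd''.1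
    apply Subtype.ext
    have h1 := hβτ (d : Ω) hdZ
    have h2 : (⟨(d : Ω), hZP hdZ⟩ : P) = d' := Subtype.ext hdd'.symm
    rw [h2, hτD d' hd'', hdd'] at h1
    exact h1
  · rintro ⟨u, huS⟩ hu
    apply Subtype.ext
    rw [hβτ u hu.1]
    have := hτ0 ⟨u, hZP hu.1⟩ hu
    rw [this]
    rfl
  · rw [Subgroup.eq_bot_iff_forall]
    rintro _ ⟨hv0, d, hd, rfl⟩
    have h1 : d ∈ Z0 ⊓ (Zs ⊓ Zs.map α.toMonoidHom) := ⟨hv0, hd⟩
    rw [hdisj, Subgroup.mem_bot] at h1
    rw [h1]; rfl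
  · intro z hz
    have h1 : (⟨z, hZP hz⟩ : P) ∈ (Zs ⊓ Zs.map α.toMonoidHom) ⊔ Z0 := hsup hz
    have h2 : z ∈ ((Zs ⊓ Zs.map α.toMonoidHom) ⊔ Z0).map P.subtype := ⟨_, h1, rfl⟩
    rw [Subgroup.map_sup] at h2
    have h3 : Z0.map P.subtype ≤ centralizerIn S S ⊓ ⁅S, S⁆ := by
      rintro _ ⟨u, hu, rfl⟩
      exact hu
    exact (sup_le_sup_left h3 _) h2

/-- An element of `Aut_F(S)` acting trivially on `Z(S) / Z₀` and inverting `Z₀ = Z(S) ∩ [S, S]`. -/
def IsInverting (F : FusionSystem S) (β : MulAut S) : Prop :=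
  β ∈ F.autGroup S ∧
    (∀ z : S, (z : Ω) ∈ centralizerIn S S → ((z⁻¹ * β z : S) : Ω) ∈ centralizerIn S S ⊓ ⁅S, S⁆) ∧
    ∀ u : S, (u : Ω) ∈ centralizerIn S S ⊓ ⁅S, S⁆ → β u = u⁻¹

omit [Finite S] [Fact p.Prime] in
/-- Automorphisms of `S` preserve `Z₀`. -/
theorem aut_mem_Z0_iff (β : MulAut S) (z : S) :
    ((β z : S) : Ω) ∈ centralizerIn S S ⊓ ⁅S, S⁆ ↔ (z : Ω) ∈ centralizerIn S S ⊓ ⁅S, S⁆ := by
  rw [Subgroup.mem_inf, Subgroup.mem_inf, aut_mem_center_iff, aut_mem_commutator_iff]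

/-- An element of odd prime-power-free order dividing `p` and `2` is trivial. -/
theorem eq_one_of_sq_of_pow_prime {G : Type*} [Group G] (hp2 : p ≠ 2) {u : G} (h2 : u * u = 1) (hpu : u ^ p = 1) :
    u = 1 := by
  have hp : p.Prime := Fact.out
  have hodd : p % 2 = 1 := by
    rcases hp.eq_two_or_odd with h | h
    · exact absurd h hp2
    · exact h
  have e : p = 2 * (p / 2) + 1 := by omega
  rw [e, pow_succ, pow_mul, pow_two, h2, one_pow, one_mul] at hpu
  exact hpu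

/-- Packaged form of `abelian_key`. -/
theorem OliverCtx.abelian_key' (c : OliverCtx p S A F) {P : Subgroup Ω} (hP : F.IsEssential p P)
    (hab : ∀ y ∈ P, ∀ z ∈ P, y * z = z * y) {α : MulAut P} (hα : α ∈ F.autGroup P)
    (hmove : ¬ ∀ y : P, α y ∈ (centralizerIn S S).subgroupOf P ↔ y ∈ (centralizerIn S S).subgroupOf P) :
    ∃ β : MulAut S, IsInverting F β ∧ (∀ v : S, (v : Ω) ∈ centralizerIn S S →
      (β v = v ↔ (v : Ω) ∈ Dsub (centralizerIn S S) P α)) ∧
      (Dsub (centralizerIn S S) P α = ⊥ → centralizerIn S S ≤ ⁅S, S⁆) := by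
  have hPS : P ≤ S := hP.1.1
  have hPA := c.ne hP
  have hnle := (c.data.essential_key F c.sat hP hPA).1
  have h2A := c.data.Z2_le_A F c.sat c.uniq hP hPA
  have hrel2 := c.data.relIndex_center_Z2 F c.sat h2A hP hPA
  obtain ⟨x, hxP, hxA⟩ := SetLike.not_le_iff_exists.1 hnle
  have hcard0 : Nat.card ↥(centralizerIn S S ⊓ ⁅S, S⁆) = p := by
    have := c.data.card_center_inf_commutator (hPS hxP) hxA h2A
    rw [hrel2] at this
    exact this
  have hexp : ∀ u : S, (u : Ω) ∈ centralizerIn S S ⊓ ⁅S, S⁆ → u ^ p = 1 := by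
    intro u hu
    have h1 : (⟨(u : Ω), hu⟩ : ↥(centralizerIn S S ⊓ ⁅S, S⁆)) ^ p = 1 := by
      rw [← hcard0]; exact pow_card_eq_one'
    apply Subtype.ext
    have := congrArg Subtype.val h1
    simpa using this
  obtain ⟨β, hβ, hβD, hβ0, hdisj, hsup⟩ := c.abelian_key hP hab hα hmove
  have hDZ := Dsub_le (centralizerIn S S) P α
  -- decomposition
  have hdec : ∀ v : S, (v : Ω) ∈ centralizerIn S S → ∃ d u : S, (d : Ω) ∈ Dsub (centralizerIn S S) P α ∧
      (u : Ω) ∈ centralizerIn S S ⊓ ⁅S, S⁆ ∧ v = d * u := by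
    intro v hv
    have hnorm : ∀ k ∈ centralizerIn S S ⊓ ⁅S, S⁆, ∀ h ∈ Dsub (centralizerIn S S) P α, k * h * k⁻¹ ∈
        Dsub (centralizerIn S S) P α := by
      intro k hk h hh
      rw [conj_center_eq (hDZ hh) hk.1.1]
      exact hh
    obtain ⟨d, hd, u, hu, hvdu⟩ := exists_mul_of_mem_sup hnorm (hsup hv)
    exact ⟨⟨d, (hDZ hd).1⟩, ⟨u, hu.1.1⟩, hd, hu, Subtype.ext hvdu⟩
  have hβv : ∀ d u : S, (d : Ω) ∈ Dsub (centralizerIn S S) P α → (u : Ω) ∈ centralizerIn S S ⊓ ⁅S, S⁆ →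
      β (d * u) = d * u⁻¹ := by
    intro d u hd hu
    rw [map_mul, hβD d hd, hβ0 u hu]
  refine ⟨β, ⟨hβ, ?_, hβ0⟩, ?_, ?_⟩
  · intro v hv
    obtain ⟨d, u, hd, hu, rfl⟩ := hdec v hv
    rw [hβv d u hd hu]
    have e : (d * u)⁻¹ * (d * u⁻¹) = u⁻¹ * u⁻¹ := by group
    rw [e]
    exact Subgroup.mul_mem _ (Subgroup.inv_mem _ hu) (Subgroup.inv_mem _ hu)
  · intro v hv
    constructor
    · intro hfix
      obtain ⟨d, u, hd, hu, rfl⟩ := hdec v hv
      rw [hβv d u hd hu] at hfix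
      have h1 : u⁻¹ = u := mul_left_cancel hfix
      have h2 : u * u = 1 := by
        nth_rewrite 1 [← h1]
        exact inv_mul_cancel u
      have h3 : u = 1 := eq_one_of_sq_of_pow_prime c.odd h2 (hexp u hu)
      rw [h3, mul_one]
      exact hd
    · intro hvD
      exact hβD v hvD
  · intro hbot
    rw [hbot, bot_sup_eq] at hsup
    exact hsup.trans inf_le_right

end Ctx

end Cfsg.Agent.Lib.Helper87
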