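/-
helper87: continuation of `OliverIndexP3`: the subgroup `Z₁` of `Z(S)` fixed by the "inverting" elements of `Aut_F(S)` is
normal in `F`; hence `Z(S) ≤ [S, S]` when `O_p(F) = 1`.
All declarations live in `Cfsg.Agent.Lib.Helper87`.
-/
import Cfsg.Agent.Lib.Helper87.OliverIndexP3

set_option autoImplicit false

namespace Cfsg.Agent.Lib.Helper87

open Cfsg Cfsg.FusionSystem

section Zone

variable {Ω : Type*} [Group Ω] {S : Subgroup Ω} [Finite S] {p : ℕ} [Fact p.Prime] {A : Subgroup Ω}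
  {F : FusionSystem S}

omit [Finite S] in
/-- The automorphisms of `S` acting trivially on `Z(S) / Z₀`. -/
def quotTriv (S : Subgroup Ω) : Subgroup (MulAut S) where
  carrier := {γ | ∀ z : S, (z : Ω) ∈ centralizerIn S S →
    ((z⁻¹ * γ z : S) : Ω) ∈ centralizerIn S S ⊓ ⁅S, S⁆}
  one_mem' := by
    intro z _
    have : z⁻¹ * (1 : MulAut S) z = 1 := by simp
    rw [this]
    exact Subgroup.one_mem _
  mul_mem' := by
    intro γ δ hγ hδ z hz
    have e : z⁻¹ * (γ * δ) z = (z⁻¹ * γ z) * γ (z⁻¹ * δ z) := by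
      rw [map_mul, map_inv]
      show z⁻¹ * γ (δ z) = _
      group
    rw [e]
    exact Subgroup.mul_mem _ (hγ z hz) ((aut_mem_Z0_iff γ _).2 (hδ z hz))
  inv_mem' := by
    intro γ hγ z hz
    have hz' : ((γ⁻¹ z : S) : Ω) ∈ centralizerIn S S := (aut_mem_center_iff γ⁻¹ z).2 hz
    have h1 := hγ (γ⁻¹ z) hz'
    rw [MulAut.apply_inv_self] at h1
    have e : z⁻¹ * γ⁻¹ z = ((γ⁻¹ z)⁻¹ * z)⁻¹ := by group
    rw [e]
    exact Subgroup.inv_mem _ h1

/-- Two inverting automorphisms agree on `Z(S)`. -/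
theorem inverting_agree (hS : IsPGroup p S) (hF : F.IsSaturated p)
    (hexp : ∀ u ∈ centralizerIn S S ⊓ ⁅S, S⁆, u ^ p = 1) {β β' : MulAut S} (hβ : IsInverting F β)
    (hβ' : IsInverting F β') : ∀ z : S, (z : Ω) ∈ centralizerIn S S → β z = β' z := by
  set γ : MulAut S := β'⁻¹ * β with hγdef
  have hγ : γ ∈ F.autGroup S := (F.autGroup S).mul_mem ((F.autGroup S).inv_mem hβ'.1) hβ.1
  have hβq : β ∈ quotTriv S := hβ.2.1
  have hβ'q : β' ∈ quotTriv S := hβ'.2.1
  have hγq : γ ∈ quotTriv S := (quotTriv S).mul_mem ((quotTriv S).inv_mem hβ'q) hβq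
  have h2 : ∀ u : S, (u : Ω) ∈ centralizerIn S S ⊓ ⁅S, S⁆ → γ u = u := by
    intro u hu
    have h3 : β' u⁻¹ = u := by rw [map_inv, hβ'.2.2 u hu, inv_inv]
    have h4 : β'⁻¹ u = u⁻¹ := by
      rw [← h3, MulAut.inv_apply_self, h3]
    show β'⁻¹ (β u) = u
    rw [hβ.2.2 u hu, map_inv, h4, inv_inv]
  have h5 := aut_rigid_of_chain F hS hF (centralizerIn S S) (centralizerIn S S ⊓ ⁅S, S⁆) le_rfl hexp hγ
    (fun z hz => hγq z hz) h2
  intro z hz
  have h6 : β'⁻¹ (β z) = z := h5 z hz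
  have h7 := congrArg (fun y => β' y) h6
  simpa using h7

/-- `Z₁`: the elements of `Z(S)` fixed by every inverting automorphism. -/
def Zone (F : FusionSystem S) : Subgroup Ω where
  carrier := {z | z ∈ centralizerIn S S ∧ ∀ (hz : z ∈ S) (β : MulAut S), IsInverting F β → β ⟨z, hz⟩ = ⟨z, hz⟩}
  one_mem' := ⟨Subgroup.one_mem _, fun _ β _ => map_one β⟩
  mul_mem' := by
    rintro a b ⟨ha, ha'⟩ ⟨hb, hb'⟩
    refine ⟨Subgroup.mul_mem _ ha hb, fun hz β hβ => ?_⟩
    have e : (⟨a * b, hz⟩ : S) = ⟨a, ha.1⟩ * ⟨b, hb.1⟩ := rfl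
    rw [e, map_mul, ha' ha.1 β hβ, hb' hb.1 β hβ]
  inv_mem' := by
    rintro a ⟨ha, ha'⟩
    refine ⟨Subgroup.inv_mem _ ha, fun hz β hβ => ?_⟩
    have e : (⟨a⁻¹, hz⟩ : S) = (⟨a, ha.1⟩ : S)⁻¹ := rfl
    rw [e, map_inv, ha' ha.1 β hβ]

omit [Finite S] in
theorem Zone_le (F : FusionSystem S) : Zone F ≤ centralizerIn S S := fun _ hz => hz.1

omit [Finite S] in
theorem mem_Zone_iff (F : FusionSystem S) (v : S) :
    (v : Ω) ∈ Zone F ↔ (v : Ω) ∈ centralizerIn S S ∧ ∀ β : MulAut S, IsInverting F β → β v = v := by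
  constructor
  · rintro ⟨h1, h2⟩
    exact ⟨h1, fun β hβ => h2 v.2 β hβ⟩
  · rintro ⟨h1, h2⟩
    exact ⟨h1, fun _ β hβ => h2 β hβ⟩

omit [Finite S] in
/-- `Z₁` is invariant under `Aut_F(S)`. -/
theorem Zone_aut_mem {α : MulAut S} (hα : α ∈ F.autGroup S) {v : S} (hv : (v : Ω) ∈ Zone F) :
    ((α v : S) : Ω) ∈ Zone F := by
  rw [mem_Zone_iff] at hv ⊢
  refine ⟨(aut_mem_center_iff α v).2 hv.1, fun β hβ => ?_⟩
  have hinv : IsInverting F (α⁻¹ * β * α) := by
    refine ⟨(F.autGroup S).mul_mem ((F.autGroup S).mul_mem ((F.autGroup S).inv_mem hα) hβ.1) hα, ?_, ?_⟩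
    · intro z hz
      have h1 := hβ.2.1 (α z) ((aut_mem_center_iff α z).2 hz)
      have e : z⁻¹ * (α⁻¹ * β * α) z = α⁻¹ ((α z)⁻¹ * β (α z)) := by
        rw [map_mul, map_inv, MulAut.inv_apply_self]
        rfl
      rw [e]
      exact (aut_mem_Z0_iff α⁻¹ _).2 h1
    · intro u hu
      have h1 := hβ.2.2 (α u) ((aut_mem_Z0_iff α u).2 hu)
      show α⁻¹ (β (α u)) = u⁻¹
      rw [h1, map_inv, MulAut.inv_apply_self]
  have h2 : α⁻¹ (β (α v)) = v := hv.2 _ hinv
  have h3 := congrArg (fun y => α y) h2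
  simpa using h3

/-- An automorphism mapping a finite subgroup into itself maps it onto itself. -/
theorem map_eq_of_forall_mem {Q : Type*} [Group Q] [Finite Q] (H : Subgroup Q) (g : MulAut Q)
    (h : ∀ z ∈ H, g z ∈ H) : H.map g.toMonoidHom = H := by
  have hle : H.map g.toMonoidHom ≤ H := by
    rintro _ ⟨z, hz, rfl⟩
    exact h z hz
  have hcard : Nat.card (H.map g.toMonoidHom) = Nat.card H :=
    Subgroup.card_map_of_injective g.injective
  exact Subgroup.eq_of_le_of_card_ge hle hcard.ge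

/-- `|Z₀| = p` as soon as some essential subgroup exists. -/
theorem OliverCtx.card_Z0 (c : OliverCtx p S A F) {P : Subgroup Ω} (hP : F.IsEssential p P) :
    Nat.card ↥(centralizerIn S S ⊓ ⁅S, S⁆) = p := by
  have hPS : P ≤ S := hP.1.1
  have hPA := c.ne hP
  have hnle := (c.data.essential_key F c.sat hP hPA).1
  have h2A := c.data.Z2_le_A F c.sat c.uniq hP hPA
  have hrel2 := c.data.relIndex_center_Z2 F c.sat h2A hP hPA
  obtain ⟨x, hxP, hxA⟩ := SetLike.not_le_iff_exists.1 hnle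
  have := c.data.card_center_inf_commutator (hPS hxP) hxA h2A
  rw [hrel2] at this
  exact this

theorem OliverCtx.Z0_exp (c : OliverCtx p S A F) {P : Subgroup Ω} (hP : F.IsEssential p P) :
    ∀ u ∈ centralizerIn S S ⊓ ⁅S, S⁆, u ^ p = 1 := by
  intro u hu
  have h1 : (⟨u, hu⟩ : ↥(centralizerIn S S ⊓ ⁅S, S⁆)) ^ p = 1 := by
    rw [← c.card_Z0 hP]; exact pow_card_eq_one'
  have := congrArg Subtype.val h1
  simpa using this

/-- For an abelian essential `P` and `α ∈ Aut_F(P)` moving `Z(S)`: `Z(S) ∩ α(Z(S)) = Z₁`. -/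
theorem OliverCtx.Dsub_eq_Zone (c : OliverCtx p S A F) {P : Subgroup Ω} (hP : F.IsEssential p P)
    (hab : ∀ y ∈ P, ∀ z ∈ P, y * z = z * y) {α : MulAut P} (hα : α ∈ F.autGroup P)
    (hmove : ¬ ∀ y : P, α y ∈ (centralizerIn S S).subgroupOf P ↔ y ∈ (centralizerIn S S).subgroupOf P) :
    Dsub (centralizerIn S S) P α = Zone F := by
  obtain ⟨β, hβinv, hβiff, -⟩ := c.abelian_key' hP hab hα hmove
  have hexp := c.Z0_exp hP
  ext v
  constructor
  · intro hv
    have hvZ := Dsub_le _ _ _ hv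
    refine ⟨hvZ, fun hvS β' hβ' => ?_⟩
    rw [← inverting_agree c.data.pgroup c.sat hexp hβinv hβ' ⟨v, hvS⟩ hvZ]
    exact (hβiff ⟨v, hvS⟩ hvZ).2 hv
  · rintro ⟨hvZ, hv⟩
    exact (hβiff ⟨v, hvZ.1⟩ hvZ).1 (hv hvZ.1 β hβinv)

/-- Elements of `Z₁` lie in every `Aut_F(P)`-translate of `Z(S)`, `P` abelian essential. -/
theorem OliverCtx.Zone_mem_map (c : OliverCtx p S A F) {P : Subgroup Ω} (hP : F.IsEssential p P)
    (hab : ∀ y ∈ P, ∀ z ∈ P, y * z = z * y) {h : MulAut P} (hh : h ∈ F.autGroup P) (v : P)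
    (hv : (v : Ω) ∈ Zone F) : v ∈ ((centralizerIn S S).subgroupOf P).map h.toMonoidHom := by
  by_cases hmove : ∀ y : P, h y ∈ (centralizerIn S S).subgroupOf P ↔ y ∈ (centralizerIn S S).subgroupOf P
  · refine ⟨h⁻¹ v, ?_, MulAut.apply_inv_self _ h v⟩
    rw [SetLike.mem_coe, ← hmove, MulAut.apply_inv_self]
    exact Zone_le F hv
  · rw [← c.Dsub_eq_Zone hP hab hh hmove] at hv
    obtain ⟨d, hd, hdv⟩ := hv
    have : d = v := Subtype.ext hdv
    rw [← this]
    exact hd.2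

/-- **`Z₁` is normal in `F`.** -/
theorem OliverCtx.Zone_isNormal (c : OliverCtx p S A F) : F.IsNormal (Zone F) := by
  have hS := c.data.pgroup
  apply Cfsg.Agent.Lib.Helper84.isNormal_of_forall_essential F hS c.sat
  rintro P (rfl | hP)
  · refine ⟨(Zone_le F).trans inf_le_left, fun α hα => ?_⟩
    apply map_eq_of_forall_mem
    intro v hv
    exact Zone_aut_mem hα hv
  · have hPS : P ≤ S := hP.1.1
    have hfinP : Finite P := finite_of_le hPS
    have hZP := c.center_le hP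
    refine ⟨(Zone_le F).trans hZP, fun α hα => ?_⟩
    apply map_eq_of_forall_mem
    intro v hv
    have hvZ : (v : Ω) ∈ centralizerIn S S := Zone_le F hv
    show ((α v : P) : Ω) ∈ Zone F
    by_cases hab : ∀ y ∈ P, ∀ z ∈ P, y * z = z * y
    · -- abelian case
      have hPA := c.ne hP
      obtain ⟨-, ⟨α₀, hα₀, hmove₀⟩, -⟩ := c.data.essential_key F c.sat hP hPA
      have hinf := (c.abelian_facts hP hab).1
      have hsub : A.subgroupOf P = (centralizerIn S S).subgroupOf P := by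
        ext y
        rw [Subgroup.mem_subgroupOf, Subgroup.mem_subgroupOf, ← hinf]
        exact ⟨fun hy => ⟨y.2, hy⟩, fun hy => hy.2⟩
      rw [hsub] at hmove₀
      obtain ⟨z, hz, hzv⟩ := c.Zone_mem_map hP hab ((F.autGroup P).inv_mem hα) v hv
      obtain ⟨z', hz', hz'v⟩ := c.Zone_mem_map hP hab
        ((F.autGroup P).mul_mem ((F.autGroup P).inv_mem hα) hα₀) v hv
      have h1 : α v = z := by
        rw [← hzv]
        exact MulAut.apply_inv_self _ α z
      have h2 : α v = α₀ z' := by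
        rw [← hz'v]
        show α (α⁻¹ (α₀ z')) = α₀ z'
        exact MulAut.apply_inv_self _ α _
      rw [← c.Dsub_eq_Zone hP hab hα₀ hmove₀]
      refine ⟨α v, ⟨?_, ?_⟩, rfl⟩
      · rw [h1]; exact hz
      · rw [h2]; exact ⟨z', hz', rfl⟩
    · -- nonabelian case
      obtain ⟨β, hβ, hβα⟩ := c.nonab_agree hP hab hα
      rw [hβα v (hPS v.2) hvZ]
      exact Zone_aut_mem hβ hv

/-- **`Z(S) ≤ [S, S]` and `|Z(S)| = p`** when `O_p(F) = 1`. -/
theorem OliverCtx.center_le_commutator (c : OliverCtx p S A F) (hcore : F.core = ⊥) :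
    centralizerIn S S ≤ ⁅S, S⁆ ∧ Nat.card (centralizerIn S S) = p := by
  obtain ⟨P, hP, hab⟩ := c.exists_abelian_essential hcore
  have hPA := c.ne hP
  obtain ⟨-, ⟨α₀, hα₀, hmove₀⟩, -⟩ := c.data.essential_key F c.sat hP hPA
  have hinf := (c.abelian_facts hP hab).1
  have hsub : A.subgroupOf P = (centralizerIn S S).subgroupOf P := by
    ext y
    rw [Subgroup.mem_subgroupOf, Subgroup.mem_subgroupOf, ← hinf]
    exact ⟨fun hy => ⟨y.2, hy⟩, fun hy => hy.2⟩
  rw [hsub] at hmove₀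
  have hZone : Zone F = ⊥ := by
    rw [eq_bot_iff, ← hcore]
    exact Cfsg.Agent.Lib.Helper85.le_core_of_isNormal F c.Zone_isNormal
  obtain ⟨β, -, -, h3⟩ := c.abelian_key' hP hab hα₀ hmove₀
  have hle := h3 (by rw [c.Dsub_eq_Zone hP hab hα₀ hmove₀, hZone])
  refine ⟨hle, ?_⟩
  have := c.card_Z0 hP
  rw [inf_eq_left.2 hle] at this
  exact this

end Zone

end Cfsg.Agent.Lib.Helper87
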