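/-
helper87: the nonabelian pearl.  A nonabelian essential subgroup `E` of order `p ^ 3` (`p` odd) of a saturated fusion
system over `S` has exponent `p`, satisfies `Z(E) = Z(S)`, and contains an element `x` with `x ^ p = 1` and
`|C_S(x)| = p ^ 2` (module of S5238, nonabelian case of [PEARL]).
All declarations live in `Cfsg.Agent.Lib.Helper87`.
-/
import Mathlib
import Cfsg.Agent.Lib.Helper87.OliverIndexP
import Cfsg.Agent.Lib.Helper87.ThompsonSub
import Cfsg.Agent.Lib.Helper86.Transvection
import Cfsg.Agent.Lib.Helper86.EssChain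
import Cfsg.Agent.Lib.Helper88.FusionEssential
import Cfsg.Agent.Lib.Helper24.MetaCore
import Cfsg.Agent.Lib.Helper73.Suzuki

set_option autoImplicit false

namespace Cfsg.Agent.Lib.Helper87

open Cfsg Cfsg.FusionSystem
open scoped commutatorElement

section Cube

variable {E : Type*} [Group E] [Finite E] {p : ℕ} [hp : Fact p.Prime]

/-- The centre of a nonabelian group of order `p ^ 3` has order `p`. -/
theorem card_center_of_nonab_cube (hc : Nat.card E = p ^ 3) (hna : ¬ IsMulCommutative E) :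
    Nat.card (Subgroup.center E) = p := by
  have hp1 := hp.out.one_lt
  have hE : IsPGroup p E := IsPGroup.of_card hc
  have hnt : Nontrivial E := by
    apply (Finite.one_lt_card_iff_nontrivial).mp
    rw [hc]; exact Nat.one_lt_pow (by norm_num) hp1
  have hZnt := hE.center_nontrivial
  have h1 : Nat.card (Subgroup.center E) ∣ p ^ 3 := by
    rw [← hc]; exact Subgroup.card_subgroup_dvd_card _
  obtain ⟨k, hk, hkc⟩ := (Nat.dvd_prime_pow hp.out).mp h1
  have hidx : Nat.card (E ⧸ Subgroup.center E) * p ^ k = p ^ 3 := by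
    rw [← hkc, ← hc, ← Subgroup.index_eq_card, mul_comm]
    exact Subgroup.card_mul_index _
  interval_cases k
  · exfalso
    rw [pow_zero] at hkc
    have := (Nat.card_eq_one_iff_unique.mp hkc).1
    exact not_subsingleton _ this
  · simpa using hkc
  · exfalso
    have h2 : Nat.card (E ⧸ Subgroup.center E) = p := by
      have : Nat.card (E ⧸ Subgroup.center E) * p ^ 2 = p * p ^ 2 := by rw [hidx]; ring
      exact Nat.eq_of_mul_eq_mul_right (by positivity) this
    have hcyc : IsCyclic (E ⧸ Subgroup.center E) := isCyclic_of_prime_card h2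
    apply hna
    exact MonoidHom.isMulCommutative_of_isCyclic_of_ker_le_center (QuotientGroup.mk' (Subgroup.center E))
      (by rw [QuotientGroup.ker_mk'])
  · exfalso
    have h2 : Subgroup.center E = ⊤ := by
      apply Subgroup.eq_top_of_card_eq
      rw [hkc, hc]
    apply hna
    refine ⟨⟨fun a b => ?_⟩⟩
    have : b ∈ Subgroup.center E := by rw [h2]; exact Subgroup.mem_top b
    exact (Subgroup.mem_center_iff.mp this a)

/-- Commutators are central in a group of order `p ^ 3`. -/
theorem comm_mem_center_of_cube (hc : Nat.card E = p ^ 3) (a b : E) : ⁅a, b⁆ ∈ Subgroup.center E := by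
  by_cases hna : IsMulCommutative E
  · have : ⁅a, b⁆ = 1 := by
      rw [commutatorElement_eq_one_iff_mul_comm]
      exact hna.is_comm.comm a b
    rw [this]; exact Subgroup.one_mem _
  · have hZ := card_center_of_nonab_cube hc hna
    have hidx : Nat.card (E ⧸ Subgroup.center E) = p ^ 2 := by
      have h1 : Nat.card (Subgroup.center E) * Nat.card (E ⧸ Subgroup.center E) = p ^ 3 := by
        rw [← hc, ← Subgroup.index_eq_card]
        exact Subgroup.card_mul_index _
      rw [hZ] at h1
      have : p * Nat.card (E ⧸ Subgroup.center E) = p * p ^ 2 := by rw [h1]; ring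
      exact Nat.eq_of_mul_eq_mul_left hp.out.pos this
    have hcomm := Cfsg.Agent.Lib.Helper73.comm_of_card_prime_pow_le_two (le_refl 2) hidx
    rw [← QuotientGroup.eq_one_iff]
    show (QuotientGroup.mk' (Subgroup.center E)) ⁅a, b⁆ = 1
    rw [map_commutatorElement, commutatorElement_eq_one_iff_mul_comm]
    exact hcomm _ _

/-- The chain `E > K > Z > 1`. -/
def chain4 (K Z : Subgroup E) : ℕ → Subgroup E
  | 0 => ⊤
  | 1 => K
  | 2 => Z
  | _ => ⊥

/-- A nonabelian group of order `p ^ 3` (`p` odd) with a group `A` of automorphisms such that `A / Inn` has a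
strongly `p`-embedded subgroup has exponent `p`. -/
theorem pow_eq_one_of_spe_cube (hp2 : p ≠ 2) (hc : Nat.card E = p ^ 3) (hna : ¬ IsMulCommutative E)
    (A : Subgroup (MulAut E)) [hn : ((Cfsg.Inn E).subgroupOf A).Normal]
    (M : Subgroup (A ⧸ (Cfsg.Inn E).subgroupOf A)) (hM : IsStronglyPEmbedded p M) (x : E) : x ^ p = 1 := by
  by_contra hx
  have hp1 := hp.out.one_lt
  have hE : IsPGroup p E := IsPGroup.of_card hc
  have hZ := card_center_of_nonab_cube hc hna
  have hcen : ∀ x y z : E, Commute ⁅x, y⁆ z := fun x y z =>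
    (Subgroup.mem_center_iff.mp (comm_mem_center_of_cube hc x y) z).symm
  have hZp : ∀ z ∈ Subgroup.center E, z ^ p = 1 := by
    intro z hz
    have := pow_card_eq_one' (G := Subgroup.center E) (x := ⟨z, hz⟩)
    rw [hZ] at this
    exact congrArg Subtype.val this
  have hexp : ∀ x y : E, ⁅x, y⁆ ^ p = 1 := fun x y => hZp _ (comm_mem_center_of_cube hc x y)
  have hdvd : p ∣ p.choose 2 := by
    apply Nat.Prime.dvd_choose_self hp.out (by norm_num)
    have := hp.out.two_le
    omega
  set φ := Cfsg.Agent.Lib.Helper24.powHom hcen p hexp p hdvd with hφ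
  have hφa : ∀ y, φ y = y ^ p := fun y => rfl
  have hrange : φ.range ≤ Subgroup.center E := by
    rintro _ ⟨y, rfl⟩
    rw [hφa, Subgroup.mem_center_iff]
    intro g
    have h1 : ⁅g, y ^ p⁆ = ⁅g, y⁆ ^ p :=
      Cfsg.Agent.Lib.Helper24.commutatorElement_pow_right_of_commute y g (hcen g y y) p
    rw [hexp] at h1
    exact (commutatorElement_eq_one_iff_mul_comm.mp h1)
  set K := φ.ker with hK
  have hKtop : K ≠ ⊤ := by
    intro h
    apply hx
    have : x ∈ K := by rw [h]; exact Subgroup.mem_top x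
    exact this
  -- `|K| = p ^ 2`
  have hcardK : Nat.card K = p ^ 2 := by
    have h1 : Nat.card K ∣ p ^ 3 := by rw [← hc]; exact Subgroup.card_subgroup_dvd_card _
    obtain ⟨k, hk, hkc⟩ := (Nat.dvd_prime_pow hp.out).mp h1
    have h2 : Nat.card φ.range ∣ p := by
      rw [← hZ]; exact Subgroup.card_dvd_of_le hrange
    have h3 : Nat.card K * Nat.card φ.range = p ^ 3 := by
      rw [← hc, hK]
      have := Subgroup.card_mul_index φ.ker
      rw [Subgroup.index_ker] at this
      exact this
    have h4 : Nat.card φ.range ≤ p := Nat.le_of_dvd hp.out.pos h2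
    have hk3 : k ≠ 3 := by
      rintro rfl
      apply hKtop
      apply Subgroup.eq_top_of_card_eq
      rw [hkc, hc]
    have hk2 : 2 ≤ k := by
      by_contra hlt
      have hk1 : k ≤ 1 := by omega
      have h5 : p ^ k ≤ p ^ 1 := Nat.pow_le_pow_right hp.out.pos hk1
      rw [hkc] at h3
      have h6 : p ^ 3 ≤ p ^ 1 * p := by
        rw [← h3]; exact Nat.mul_le_mul h5 h4
      have h7 : p ^ 1 * p = p ^ 2 := by ring
      rw [h7] at h6
      have := (Nat.pow_le_pow_iff_right hp1).mp h6
      omega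
    have : k = 2 := by omega
    rw [hkc, this]
  have hZK : Subgroup.center E ≤ K := by
    intro z hz
    show φ z = 1
    rw [hφa]; exact hZp z hz
  refine Cfsg.Agent.Lib.Helper86.false_of_chain hE A M hM 3 (chain4 K (Subgroup.center E)) rfl rfl ?_ ?_ ?_
  · intro j hj
    match j, hj with
    | 0, _ => exact (inferInstance : (⊤ : Subgroup E).Normal)
    | 1, _ => exact (inferInstance : φ.ker.Normal)
    | 2, _ => exact (inferInstance : (Subgroup.center E).Normal)
    | 3, _ => exact (inferInstance : (⊥ : Subgroup E).Normal)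
  · intro j hj
    match j, hj with
    | 0, _ =>
      show K.relIndex ⊤ = p
      rw [Subgroup.relIndex_top_right]
      have h1 := Subgroup.card_mul_index K
      rw [hcardK, hc] at h1
      have : p ^ 2 * K.index = p ^ 2 * p := by rw [h1]; ring
      exact Nat.eq_of_mul_eq_mul_left (by positivity) this
    | 1, _ =>
      show (Subgroup.center E).relIndex K = p
      have h1 := Subgroup.relIndex_mul_index hZK
      have h2 := Subgroup.card_mul_index K
      have h3 := Subgroup.card_mul_index (Subgroup.center E)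
      rw [hcardK, hc] at h2
      rw [hZ, hc] at h3
      have h4 : K.index = p := by
        have : p ^ 2 * K.index = p ^ 2 * p := by rw [h2]; ring
        exact Nat.eq_of_mul_eq_mul_left (by positivity) this
      have h5 : (Subgroup.center E).index = p ^ 2 := by
        have : p * (Subgroup.center E).index = p * p ^ 2 := by rw [h3]; ring
        exact Nat.eq_of_mul_eq_mul_left hp.out.pos this
      rw [h4, h5] at h1
      have : (Subgroup.center E).relIndex K * p = p * p := by rw [h1]; ring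
      exact Nat.eq_of_mul_eq_mul_right hp.out.pos this
    | 2, _ =>
      show (⊥ : Subgroup E).relIndex (Subgroup.center E) = p
      rw [Subgroup.relIndex_bot_left, hZ]
  · intro j hj α _ y hy
    match j, hj, hy with
    | 0, _, _ => exact Subgroup.mem_top _
    | 1, _, hy =>
      show φ (α y) = 1
      have h1 : φ y = 1 := hy
      rw [hφa] at h1 ⊢
      rw [← map_pow, h1, map_one]
    | 2, _, hy =>
      show α y ∈ Subgroup.center E
      have hy : y ∈ Subgroup.center E := hy
      rw [Subgroup.mem_center_iff] at hy ⊢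
      intro g
      have := hy (α⁻¹ g)
      have h2 := congrArg α this
      rw [map_mul, map_mul, MulAut.apply_inv_self] at h2
      exact h2
    | 3, _, hy =>
      show α y ∈ (⊥ : Subgroup E)
      have h1 : y = 1 := hy
      rw [h1, map_one]; exact Subgroup.one_mem _

end Cube

/-- A nonabelian finite `p`-group has an element of the second centre outside the centre. -/
theorem exists_second_center {G : Type*} [Group G] [Finite G] {p : ℕ} [hp : Fact p.Prime] (hG : IsPGroup p G)
    (hna : ∃ a b : G, a * b ≠ b * a) :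
    ∃ w : G, w ∉ Subgroup.center G ∧ ∀ s : G, ⁅w, s⁆ ∈ Subgroup.center G := by
  obtain ⟨a, b, hab⟩ := hna
  have hQ : IsPGroup p (G ⧸ Subgroup.center G) := hG.to_quotient _
  have hnt : Nontrivial (G ⧸ Subgroup.center G) := by
    refine ⟨⟨(a : G ⧸ Subgroup.center G), 1, ?_⟩⟩
    intro h
    have h1 : a ∈ Subgroup.center G := (QuotientGroup.eq_one_iff a).mp h
    exact hab (Subgroup.mem_center_iff.mp h1 b).symm
  have hZ := hQ.center_nontrivial
  obtain ⟨⟨q, hq⟩, hq1⟩ := exists_ne (1 : Subgroup.center (G ⧸ Subgroup.center G))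
  obtain ⟨w, rfl⟩ := QuotientGroup.mk_surjective q
  refine ⟨w, ?_, fun s => ?_⟩
  · intro hw
    apply hq1
    apply Subtype.ext
    exact (QuotientGroup.eq_one_iff w).mpr hw
  · rw [← QuotientGroup.eq_one_iff]
    show (QuotientGroup.mk' (Subgroup.center G)) ⁅w, s⁆ = 1
    rw [map_commutatorElement, commutatorElement_eq_one_iff_mul_comm]
    exact (Subgroup.mem_center_iff.mp hq _).symm

/-- In a finite `p`-group, a subgroup strictly above a subgroup of order at least `p ^ k` has order at least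
`p ^ (k + 1)`. -/
theorem pow_succ_le_card_of_lt {G : Type*} [Group G] {p : ℕ} [hp : Fact p.Prime] {A B : Subgroup G} [Finite B]
    (hB : IsPGroup p B) (hlt : A < B) (k : ℕ) (hA : p ^ k ≤ Nat.card A) : p ^ (k + 1) ≤ Nat.card B := by
  have hp1 := hp.out.one_lt
  have hfinA : Finite A := Finite.of_injective (Subgroup.inclusion hlt.le) (Subgroup.inclusion_injective hlt.le)
  have hAp : IsPGroup p A := hB.to_le hlt.le
  obtain ⟨a, ha⟩ := IsPGroup.iff_card.1 hAp
  obtain ⟨b, hb⟩ := IsPGroup.iff_card.1 hB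
  have h1 : Nat.card A < Nat.card B := by
    by_contra hle
    exact hlt.ne (Subgroup.eq_of_le_of_card_ge hlt.le (not_lt.mp hle))
  rw [ha] at hA h1
  rw [hb] at h1 ⊢
  have h2 : k ≤ a := (Nat.pow_le_pow_iff_right hp1).mp hA
  have h3 : a < b := (Nat.pow_lt_pow_iff_right hp1).mp h1
  exact Nat.pow_le_pow_right hp.out.pos (by omega)

section Fusion

variable {Ω : Type*} [Group Ω] {S : Subgroup Ω} [Finite S]

omit [Finite S] in
theorem center_iff_centralizerIn (z : S) : z ∈ Subgroup.center ↥S ↔ (z : Ω) ∈ centralizerIn S S := by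
  rw [Subgroup.mem_center_iff]
  constructor
  · intro h
    refine ⟨z.2, ?_⟩
    show (z : Ω) ∈ Subgroup.centralizer (S : Set Ω)
    rw [Subgroup.mem_centralizer_iff]
    intro s hs
    exact congrArg Subtype.val (h ⟨s, hs⟩)
  · intro h g
    apply Subtype.ext
    exact Subgroup.mem_centralizer_iff.1 h.2 g g.2

/-- **The nonabelian pearl.** A nonabelian essential subgroup `E` of order `p ^ 3` (`p` odd) of a saturated fusion
system over `S` contains an element `x` of order dividing `p` with `|C_S(x)| = p ^ 2`. -/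
theorem pearl_nonab_element (p : ℕ) [hp : Fact p.Prime] (hS : IsPGroup p S) (F : Cfsg.FusionSystem S)
    (hF : F.IsSaturated p) (hp2 : p ≠ 2) (E : Subgroup Ω) (hE : F.IsEssential p E)
    (hc : Nat.card E = p ^ 3) (hna : ¬ IsMulCommutative ↥E) :
    ∃ x : S, x ^ p = 1 ∧ Nat.card (Subgroup.centralizer ({x} : Set S)) = p ^ 2 := by
  classical
  have hp1 := hp.out.one_lt
  have hEne : E ≠ S := Cfsg.Agent.Lib.Helper88.ne_top_of_essential F hF hE
  obtain ⟨hcen, hfn, hN, M, hM⟩ := hE
  have hES : E ≤ S := hcen.1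
  have hfinE : Finite E := finite_of_le hES
  have hEp : IsPGroup p E := hS.to_le hES
  have hexpE : ∀ e : E, e ^ p = 1 := fun e => pow_eq_one_of_spe_cube hp2 hc hna (F.autGroup E) M hM e
  set Z := centralizerIn S S with hZdef
  have hZS : Z ≤ S := inf_le_left
  have hZE : Z ≤ E := center_le_of_centric F hcen
  have hZcomm : ∀ z ∈ Z, ∀ s ∈ S, s * z = z * s := fun z hz s hs =>
    Subgroup.mem_centralizer_iff.1 hz.2 s hs
  have hfinZ : Finite Z := finite_of_le hZS
  -- two noncommuting elements of `E`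
  have hnc : ∃ a ∈ E, ∃ b ∈ E, a * b ≠ b * a := by
    by_contra h
    push Not at h
    apply hna
    exact ⟨⟨fun a b => Subtype.ext (h a a.2 b b.2)⟩⟩
  obtain ⟨a₀, ha₀, b₀, hb₀, hab₀⟩ := hnc
  have hSna : ∃ a b : S, a * b ≠ b * a :=
    ⟨⟨a₀, hES ha₀⟩, ⟨b₀, hES hb₀⟩, fun h => hab₀ (congrArg Subtype.val h)⟩
  have hSnt : Nontrivial S := by
    obtain ⟨a, b, hab⟩ := hSna
    exact ⟨⟨a * b, b * a, hab⟩⟩
  -- `Z(E) = Z(S)`
  have hcardZE := card_center_of_nonab_cube hc hna
  have hZle : Z.subgroupOf E ≤ Subgroup.center E := by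
    intro z hz
    rw [Subgroup.mem_center_iff]
    intro g
    apply Subtype.ext
    exact hZcomm z (Subgroup.mem_subgroupOf.1 hz) g (hES g.2)
  have hZnt : ∃ z ∈ Z, z ≠ 1 := by
    have := hS.center_nontrivial
    obtain ⟨⟨z, hz⟩, hz1⟩ := exists_ne (1 : Subgroup.center S)
    refine ⟨z, (center_iff_centralizerIn z).1 hz, fun h => hz1 ?_⟩
    apply Subtype.ext
    apply Subtype.ext
    exact h
  have hZeq : Z.subgroupOf E = Subgroup.center E := by
    apply Subgroup.eq_of_le_of_card_ge hZle
    rw [hcardZE]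
    have hlt : (⊥ : Subgroup E) < Z.subgroupOf E := by
      rw [bot_lt_iff_ne_bot]
      intro hbot
      obtain ⟨z, hz, hz1⟩ := hZnt
      have : (⟨z, hZE hz⟩ : E) ∈ Z.subgroupOf E := Subgroup.mem_subgroupOf.2 hz
      rw [hbot, Subgroup.mem_bot] at this
      exact hz1 (congrArg Subtype.val this)
    have := pow_succ_le_card_of_lt (p := p) (hEp.to_subgroup (Z.subgroupOf E)) hlt 0 (by simp)
    simpa using this
  have hcardZ : Nat.card Z = p := by
    rw [← Nat.card_congr (Subgroup.subgroupOfEquivOfLe hZE).toEquiv, hZeq, hcardZE]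
  -- elements of `S` acting trivially on `E / Z` lie in `E`
  have hT : ∀ g ∈ S, (∀ e ∈ E, g * e * g⁻¹ * e⁻¹ ∈ Z) → g ∈ E := by
    intro g hgS hg
    have hgconj : ∀ e, e ∈ (E : Set Ω) → g * e * g⁻¹ ∈ (E : Set Ω) := by
      intro e he
      have : g * e * g⁻¹ = (g * e * g⁻¹ * e⁻¹) * e := by group
      rw [this]; exact E.mul_mem (hZE (hg e he)) he
    have hgN : g ∈ Subgroup.normalizer (E : Set Ω) := Subgroup.mem_normalizer_fintype hgconj
    set α : MulAut E := conjAutOfNormalizer E g hgN with hα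
    have hαS : α ∈ autInducedBy S E := mem_autInducedBy_iff.2 ⟨g, hgS, fun y => rfl⟩
    have hαA : α ∈ F.autGroup E := autInducedBy_le_autGroup F hES hαS
    have hinv : ∀ j ≤ 2, ∀ β ∈ F.autGroup E, ∀ x ∈ chain3 (Subgroup.center E) j,
        β x ∈ chain3 (Subgroup.center E) j := by
      intro j hj β _ x hx
      match j, hj, hx with
      | 0, _, _ => exact Subgroup.mem_top _
      | 1, _, hx =>
        show β x ∈ Subgroup.center E
        have hx : x ∈ Subgroup.center E := hx
        rw [Subgroup.mem_center_iff] at hx ⊢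
        intro g
        have := hx (β⁻¹ g)
        have h2 := congrArg β this
        rw [map_mul, map_mul, MulAut.apply_inv_self] at h2
        exact h2
      | 2, _, hx =>
        show β x ∈ (⊥ : Subgroup E)
        have h1 : x = 1 := hx
        rw [h1, map_one]; exact Subgroup.one_mem _
    have hαst : α ∈ chainStab (F.autGroup E) 2 (chain3 (Subgroup.center E)) hinv := by
      refine ⟨hαA, fun j hj r hr => ?_⟩
      match j, hj, hr with
      | 0, _, _ =>
        show r⁻¹ * α r ∈ Subgroup.center E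
        rw [← hZeq, Subgroup.mem_subgroupOf]
        have h1 : g * (r : Ω) * g⁻¹ * (r : Ω)⁻¹ ∈ Z := hg r r.2
        have h2 : (r : Ω) * (g * (r : Ω) * g⁻¹ * (r : Ω)⁻¹) = (g * (r : Ω) * g⁻¹ * (r : Ω)⁻¹) * r :=
          hZcomm _ h1 r (hES r.2)
        have h3 : ((r⁻¹ * α r : E) : Ω) = (r : Ω)⁻¹ * ((g * (r : Ω) * g⁻¹ * (r : Ω)⁻¹) * r) := by
          show (r : Ω)⁻¹ * (g * r * g⁻¹) = _
          group
        rw [h3, ← h2]
        have h4 : (r : Ω)⁻¹ * ((r : Ω) * (g * (r : Ω) * g⁻¹ * (r : Ω)⁻¹)) = g * (r : Ω) * g⁻¹ * (r : Ω)⁻¹ := by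
          group
        rw [h4]; exact h1
      | 1, _, hr =>
        show r⁻¹ * α r ∈ (⊥ : Subgroup E)
        have hr' : r ∈ Z.subgroupOf E := by rw [hZeq]; exact hr
        have h1 : g * (r : Ω) = (r : Ω) * g := hZcomm _ (Subgroup.mem_subgroupOf.1 hr') g hgS
        rw [Subgroup.mem_bot]
        apply Subtype.ext
        show (r : Ω)⁻¹ * (g * r * g⁻¹) = 1
        rw [h1]; group
    have hinn : α ∈ Cfsg.Inn E :=
      Cfsg.Agent.Lib.Helper86.mem_inn_of_mem_chainStab hEp (F.autGroup E) M hM 2 _ rfl rfl hinv α hαst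
    obtain ⟨u, hu⟩ := hinn
    refine mem_of_induces_inner F hcen hgS u.2 (fun y hy => ?_)
    have h1 := congrArg (fun β : MulAut E => ((β ⟨y, hy⟩ : E) : Ω)) hu
    exact h1.symm
  -- the second centre
  set W := (upperCentralSeries ↥S 2).map S.subtype with hWdef
  have hWS : W ≤ S := Z2_le
  have hWE : W ≤ E := by
    intro w hw
    obtain ⟨hwS, hw2⟩ := mem_Z2_iff.1 hw
    exact hT w hwS (fun e he => hw2 e (hES he))
  have hWne : W ≠ E := by
    intro hWE'
    apply hEne
    apply le_antisymm hES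
    intro s hs
    apply hT s hs
    intro e he
    rw [← hWE'] at he
    obtain ⟨-, he2⟩ := mem_Z2_iff.1 he
    have h1 := Z.inv_mem (he2 s hs)
    have h2 : (e * s * e⁻¹ * s⁻¹)⁻¹ = s * e * s⁻¹ * e⁻¹ := by group
    rwa [h2] at h1
  have hZW : Z ≤ W := by
    intro z hz
    refine mem_Z2_iff.2 ⟨hZS hz, fun s hs => ?_⟩
    have h1 : z * s * z⁻¹ * s⁻¹ = 1 := by
      rw [← hZcomm z hz s hs]; group
    rw [h1]; exact Z.one_mem
  obtain ⟨w', hw'1, hw'2⟩ := exists_second_center hS hSna
  have hw'W : (w' : Ω) ∈ W := by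
    refine mem_Z2_iff.2 ⟨w'.2, fun s hs => ?_⟩
    exact (center_iff_centralizerIn _).1 (hw'2 ⟨s, hs⟩)
  have hw'Z : (w' : Ω) ∉ Z := fun h => hw'1 ((center_iff_centralizerIn w').2 h)
  have hfinW : Finite W := finite_of_le hWS
  have hWp : IsPGroup p W := hS.to_le hWS
  have hcardW : p ^ 2 ≤ Nat.card W := by
    have hlt : Z < W := lt_of_le_of_ne hZW (fun h => hw'Z (by rw [h]; exact hw'W))
    exact pow_succ_le_card_of_lt hWp hlt 1 (by rw [hcardZ, pow_one])
  obtain ⟨y, hyE, hyW⟩ := SetLike.exists_of_lt (lt_of_le_of_ne hWE hWne)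
  have hyS : y ∈ S := hES hyE
  -- the centralizer of `y` lies in `E`
  have hCy : ∀ g ∈ S, g * y = y * g → g ∈ E := by
    intro g hgS hgy
    apply hT g hgS
    let Dg : Subgroup Ω :=
      { carrier := {e | e ∈ S ∧ g * e * g⁻¹ * e⁻¹ ∈ Z}
        one_mem' := ⟨S.one_mem, by simp⟩
        mul_mem' := by
          rintro e₁ e₂ ⟨h1S, h1⟩ ⟨h2S, h2⟩
          refine ⟨S.mul_mem h1S h2S, ?_⟩
          have h3 : e₁ * (g * e₂ * g⁻¹ * e₂⁻¹) = (g * e₂ * g⁻¹ * e₂⁻¹) * e₁ := hZcomm _ h2 e₁ h1S
          have h4 : g * (e₁ * e₂) * g⁻¹ * (e₁ * e₂)⁻¹ =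
              (g * e₁ * g⁻¹ * e₁⁻¹) * (e₁ * (g * e₂ * g⁻¹ * e₂⁻¹)) * e₁⁻¹ := by group
          rw [h4, h3]
          have h5 : g * e₁ * g⁻¹ * e₁⁻¹ * (g * e₂ * g⁻¹ * e₂⁻¹ * e₁) * e₁⁻¹ =
              (g * e₁ * g⁻¹ * e₁⁻¹) * (g * e₂ * g⁻¹ * e₂⁻¹) := by group
          rw [h5]
          exact Z.mul_mem h1 h2
        inv_mem' := by
          rintro e ⟨heS, he⟩
          refine ⟨S.inv_mem heS, ?_⟩
          have h3 : e * (g * e * g⁻¹ * e⁻¹)⁻¹ = (g * e * g⁻¹ * e⁻¹)⁻¹ * e := hZcomm _ (Z.inv_mem he) e heS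
          have h4 : g * e⁻¹ * g⁻¹ * e⁻¹⁻¹ = e⁻¹ * ((g * e * g⁻¹ * e⁻¹)⁻¹ * e) := by group
          rw [h4, ← h3]
          have h6 : e⁻¹ * (e * (g * e * g⁻¹ * e⁻¹)⁻¹) = (g * e * g⁻¹ * e⁻¹)⁻¹ := by group
          rw [h6]
          exact Z.inv_mem he }
    have hWD : W ≤ Dg := by
      intro w hw
      obtain ⟨hwS, hw2⟩ := mem_Z2_iff.1 hw
      refine ⟨hwS, ?_⟩
      have h1 := Z.inv_mem (hw2 g hgS)
      have h2 : (w * g * w⁻¹ * g⁻¹)⁻¹ = g * w * g⁻¹ * w⁻¹ := by group
      rwa [h2] at h1
    have hyD : y ∈ Dg := by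
      refine ⟨hyS, ?_⟩
      have : g * y * g⁻¹ * y⁻¹ = 1 := by rw [hgy]; group
      rw [this]; exact Z.one_mem
    have hlt : W < E ⊓ Dg := by
      refine lt_of_le_of_ne (le_inf hWE hWD) (fun h => hyW ?_)
      rw [h]; exact ⟨hyE, hyD⟩
    have hfinED : Finite (E ⊓ Dg : Subgroup Ω) := finite_of_le (inf_le_left.trans hES)
    have hEDp : IsPGroup p (E ⊓ Dg : Subgroup Ω) := hS.to_le (inf_le_left.trans hES)
    have h3 : p ^ 3 ≤ Nat.card (E ⊓ Dg : Subgroup Ω) := pow_succ_le_card_of_lt hEDp hlt 2 hcardW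
    have hEq : E ⊓ Dg = E := Subgroup.eq_of_le_of_card_ge inf_le_left (by rw [hc]; exact h3)
    intro e he
    have : e ∈ E ⊓ Dg := by rw [hEq]; exact he
    exact this.2.2
  -- the element
  refine ⟨⟨y, hyS⟩, ?_, ?_⟩
  · apply Subtype.ext
    have := congrArg Subtype.val (hexpE ⟨y, hyE⟩)
    exact this
  · set C := Subgroup.centralizer ({(⟨y, hyS⟩ : S)} : Set S) with hCdef
    have hmemC : ∀ g : S, g ∈ C ↔ (g : Ω) * y = y * g := by
      intro g
      rw [hCdef, Subgroup.mem_centralizer_iff]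
      constructor
      · intro h
        have := h ⟨y, hyS⟩ (Set.mem_singleton _)
        exact (congrArg Subtype.val this).symm
      · intro h x hx
        rw [Set.mem_singleton_iff] at hx
        subst hx
        apply Subtype.ext
        exact h.symm
    have hCE : C ≤ E.subgroupOf S := by
      intro g hg
      rw [Subgroup.mem_subgroupOf]
      exact hCy g g.2 ((hmemC g).1 hg)
    have hcardES : Nat.card (E.subgroupOf S) = p ^ 3 := by
      rw [Nat.card_congr (Subgroup.subgroupOfEquivOfLe hES).toEquiv, hc]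
    have h1 : Nat.card C ∣ p ^ 3 := by rw [← hcardES]; exact Subgroup.card_dvd_of_le hCE
    obtain ⟨k, hk, hkc⟩ := (Nat.dvd_prime_pow hp.out).mp h1
    have hyZ : y ∉ Z := fun h => hyW (hZW h)
    have hk3 : k ≠ 3 := by
      rintro rfl
      have hCeq : C = E.subgroupOf S := Subgroup.eq_of_le_of_card_ge hCE (by rw [hcardES, hkc])
      apply hyZ
      have : (⟨y, hyE⟩ : E) ∈ Subgroup.center E := by
        rw [Subgroup.mem_center_iff]
        intro e
        have he : (⟨e, hES e.2⟩ : S) ∈ C := by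
          rw [hCeq, Subgroup.mem_subgroupOf]; exact e.2
        apply Subtype.ext
        exact (hmemC _).1 he
      rw [← hZeq] at this
      exact Subgroup.mem_subgroupOf.1 this
    have hk2 : 2 ≤ k := by
      have hlt : Z.subgroupOf S < C := by
        refine lt_of_le_of_ne ?_ ?_
        · intro z hz
          rw [hmemC]
          exact (hZcomm z (Subgroup.mem_subgroupOf.1 hz) y hyS).symm
        · intro h
          apply hyZ
          have : (⟨y, hyS⟩ : S) ∈ C := (hmemC _).2 rfl
          rw [← h] at this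
          exact Subgroup.mem_subgroupOf.1 this
      have hcardZS : Nat.card (Z.subgroupOf S) = p := by
        rw [Nat.card_congr (Subgroup.subgroupOfEquivOfLe hZS).toEquiv, hcardZ]
      have := pow_succ_le_card_of_lt (hS.to_subgroup C) hlt 1 (by rw [hcardZS, pow_one])
      rw [hkc] at this
      exact (Nat.pow_le_pow_iff_right hp1).mp this
    have : k = 2 := by omega
    rw [hkc, this]

end Fusion



end Cfsg.Agent.Lib.Helper87
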