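/-
helper87: two "transvections" `t`, `t'` of a finite elementary abelian `p`-group `V` (`p` odd) with distinct centres
`⟨z⟩`, `⟨z'⟩`, each moving the centre of the other: the group they generate contains an element inverting `z`, `z'`
and commuting with `t` (the central involution of `SL₂(p)` acting on `⟨z, z'⟩`, trivially on a complement).
All declarations live in `Cfsg.Agent.Lib.Helper87`.
-/
import Cfsg.Agent.Lib.Helper87.SL2Inv
import Cfsg.Agent.Lib.Helper87.GenExtra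
import Cfsg.Agent.Lib.Helper73.AutChainTwo

set_option autoImplicit false

namespace Cfsg.Agent.Lib.Helper87

open Cfsg
open Cfsg.Agent.Lib.Helper73 (resAut resAut_apply)

section Stab

variable {R : Type*} [Group R]

/-- The automorphisms stabilizing a subgroup. -/
def stabSub (W : Subgroup R) : Subgroup (MulAut R) where
  carrier := {β | ∀ x, x ∈ W ↔ β x ∈ W}
  one_mem' := fun _ => Iff.rfl
  mul_mem' := fun {β γ} hβ hγ x => (hγ x).trans (hβ (γ x))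
  inv_mem' := fun {β} hβ x => by
    have := hβ (β⁻¹ x)
    rw [MulAut.apply_inv_self] at this
    exact this.symm

theorem mem_stabSub {W : Subgroup R} {β : MulAut R} : β ∈ stabSub W ↔ ∀ x, x ∈ W ↔ β x ∈ W := Iff.rfl

/-- The automorphisms fixing a set pointwise. -/
def fixSub (C : Set R) : Subgroup (MulAut R) where
  carrier := {β | ∀ c ∈ C, β c = c}
  one_mem' := fun _ _ => rfl
  mul_mem' := fun {β γ} hβ hγ c hc => by rw [MulAut.mul_apply, hγ c hc, hβ c hc]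
  inv_mem' := fun {β} hβ c hc => by
    have h1 := hβ c hc
    calc β⁻¹ c = β⁻¹ (β c) := by rw [h1]
      _ = c := MulAut.inv_apply_self _ _ _

theorem mem_fixSub {C : Set R} {β : MulAut R} : β ∈ fixSub C ↔ ∀ c ∈ C, β c = c := Iff.rfl

/-- Positive powers of an automorphism mapping `W` into itself do so too. -/
theorem pow_apply_mem {W : Subgroup R} {β : MulAut R} (h : ∀ x ∈ W, β x ∈ W) (n : ℕ) : ∀ x ∈ W, (β ^ n) x ∈ W := by
  induction n with
  | zero => intro x hx; simpa using hx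
  | succ n ih =>
    intro x hx
    rw [pow_succ, MulAut.mul_apply]
    exact ih _ (h x hx)

/-- An automorphism of finite order mapping `W` into itself stabilizes `W`. -/
theorem mem_stabSub_of_pow_eq_one {W : Subgroup R} {β : MulAut R} (h : ∀ x ∈ W, β x ∈ W) {n : ℕ} (hn : 0 < n)
    (hβ : β ^ n = 1) : β ∈ stabSub W := by
  intro x
  refine ⟨h x, fun hx => ?_⟩
  obtain ⟨m, rfl⟩ : ∃ m, n = m + 1 := Nat.exists_eq_succ_of_ne_zero hn.ne'
  have h1 : (β ^ (m + 1)) x = x := by rw [hβ]; rfl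
  rw [pow_succ, MulAut.mul_apply] at h1
  rw [← h1]
  exact pow_apply_mem h m _ hx

end Stab

section Trans

variable {V : Type*} [CommGroup V] {p : ℕ} [hp : Fact p.Prime]

/-- The "commutator with `t`" endomorphism `v ↦ v⁻¹ t(v)` of a commutative group. -/
def deltaHom (t : MulAut V) : V →* V where
  toFun := fun v => v⁻¹ * t v
  map_one' := by simp
  map_mul' := fun x y => by
    rw [map_mul, mul_inv]
    exact mul_mul_mul_comm _ _ _ _

theorem deltaHom_apply (t : MulAut V) (v : V) : deltaHom t v = v⁻¹ * t v := rfl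

theorem deltaHom_eq_one_iff (t : MulAut V) (v : V) : deltaHom t v = 1 ↔ t v = v := by
  rw [deltaHom_apply, inv_mul_eq_one, eq_comm]

/-- **Two transvections.** -/
theorem exists_inverting_of_transvections [Finite V] (hp2 : p ≠ 2) (hVe : ∀ a : V, a ^ p = 1) (t t' : MulAut V)
    {a b : ℕ} (hta : t ^ p ^ a = 1) (ht'b : t' ^ p ^ b = 1) (z z' : V)
    (htz : ∀ v : V, ∃ k : ℕ, v⁻¹ * t v = z ^ k) (htfix : t z = z) (htne : t z' ≠ z')
    (ht'z : ∀ v : V, ∃ k : ℕ, v⁻¹ * t' v = z' ^ k) (ht'fix : t' z' = z') (ht'ne : t' z ≠ z) :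
    ∃ τ ∈ Subgroup.closure ({t, t'} : Set (MulAut V)), τ z = z⁻¹ ∧ τ * t * τ⁻¹ = t := by
  classical
  have hpp : p.Prime := hp.out
  have hz1 : z ≠ 1 := by
    rintro rfl
    exact ht'ne (map_one _)
  have hz'1 : z' ≠ 1 := by
    rintro rfl
    exact htne (map_one _)
  obtain ⟨Zs, hZsdef⟩ : ∃ Zs : Subgroup V, Zs = Subgroup.zpowers z := ⟨_, rfl⟩
  obtain ⟨Zs', hZs'def⟩ : ∃ Zs' : Subgroup V, Zs' = Subgroup.zpowers z' := ⟨_, rfl⟩
  have hzZs : z ∈ Zs := by rw [hZsdef]; exact Subgroup.mem_zpowers z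
  have hz'Zs' : z' ∈ Zs' := by rw [hZs'def]; exact Subgroup.mem_zpowers z'
  have hZscard : Nat.card Zs = p := by rw [hZsdef]; exact card_zpowers_of_pow_eq_one (hVe z) hz1
  have hZs'card : Nat.card Zs' = p := by rw [hZs'def]; exact card_zpowers_of_pow_eq_one (hVe z') hz'1
  obtain ⟨W, hWdef⟩ : ∃ W : Subgroup V, W = Zs ⊔ Zs' := ⟨_, rfl⟩
  have hZsW : Zs ≤ W := hWdef ▸ le_sup_left
  have hZs'W : Zs' ≤ W := hWdef ▸ le_sup_right
  have hzW : z ∈ W := hZsW hzZs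
  have hz'W : z' ∈ W := hZs'W hz'Zs'
  -- `t`, `t'` map `W` into itself
  have htW : ∀ x ∈ W, t x ∈ W := by
    intro x hx
    obtain ⟨k, hk⟩ := htz x
    have h1 : t x = x * z ^ k := by rw [← hk, mul_inv_cancel_left]
    rw [h1]
    exact W.mul_mem hx (W.pow_mem hzW k)
  have ht'W : ∀ x ∈ W, t' x ∈ W := by
    intro x hx
    obtain ⟨k, hk⟩ := ht'z x
    have h1 : t' x = x * z' ^ k := by rw [← hk, mul_inv_cancel_left]
    rw [h1]
    exact W.mul_mem hx (W.pow_mem hz'W k)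
  have hpa : 0 < p ^ a := pow_pos hpp.pos a
  have hpb : 0 < p ^ b := pow_pos hpp.pos b
  obtain ⟨𝔅, h𝔅def⟩ : ∃ 𝔅 : Subgroup (MulAut V), 𝔅 = Subgroup.closure ({t, t'} : Set (MulAut V)) := ⟨_, rfl⟩
  have ht𝔅 : t ∈ 𝔅 := by rw [h𝔅def]; exact Subgroup.subset_closure (by simp)
  have ht'𝔅 : t' ∈ 𝔅 := by rw [h𝔅def]; exact Subgroup.subset_closure (by simp)
  have h𝔅W : 𝔅 ≤ stabSub W := by
    rw [h𝔅def, Subgroup.closure_le]
    rintro β (rfl | rfl)
    · exact mem_stabSub_of_pow_eq_one htW hpa hta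
    · exact mem_stabSub_of_pow_eq_one ht'W hpb ht'b
  have hinvW : ∀ β ∈ 𝔅, ∀ x ∈ W, β x ∈ W := fun β hβ x hx => (h𝔅W hβ x).1 hx
  -- the fixed points
  obtain ⟨C, hCdef⟩ : ∃ C : Set V, C = {v | t v = v ∧ t' v = v} := ⟨_, rfl⟩
  have h𝔅C : 𝔅 ≤ fixSub C := by
    rw [h𝔅def, Subgroup.closure_le]
    rintro β (rfl | rfl)
    · intro c hc
      rw [hCdef] at hc
      exact hc.1
    · intro c hc
      rw [hCdef] at hc
      exact hc.2
  -- the decomposition `V = C W`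
  have hdec : ∀ v : V, ∃ c ∈ C, ∃ w ∈ W, v = c * w := by
    intro v
    -- first step
    obtain ⟨m, hm⟩ := htz z'
    have hu1 : z ^ m ≠ 1 := by
      intro h
      rw [h, inv_mul_eq_one] at hm
      exact htne hm.symm
    obtain ⟨k, hk⟩ := htz v
    obtain ⟨i, hi⟩ := exists_pow_eq_of_card_prime Zs hZscard (Zs.pow_mem hzZs m) hu1 (Zs.pow_mem hzZs k)
    have h1 : deltaHom t (v * (z' ^ i)⁻¹) = 1 := by
      rw [map_mul, map_inv, map_pow, deltaHom_apply, deltaHom_apply, hk, hm, hi, mul_inv_cancel]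
    rw [deltaHom_eq_one_iff] at h1
    -- second step
    obtain ⟨m', hm'⟩ := ht'z z
    have hu'1 : z' ^ m' ≠ 1 := by
      intro h
      rw [h, inv_mul_eq_one] at hm'
      exact ht'ne hm'.symm
    obtain ⟨k', hk'⟩ := ht'z (v * (z' ^ i)⁻¹)
    obtain ⟨j, hj⟩ := exists_pow_eq_of_card_prime Zs' hZs'card (Zs'.pow_mem hz'Zs' m') hu'1
      (Zs'.pow_mem hz'Zs' k')
    have h2 : deltaHom t' (v * (z' ^ i)⁻¹ * (z ^ j)⁻¹) = 1 := by
      rw [map_mul, map_inv (deltaHom t') (z ^ j), map_pow, deltaHom_apply, deltaHom_apply, hk', hm', hj,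
        mul_inv_cancel]
    rw [deltaHom_eq_one_iff] at h2
    have h3 : t (v * (z' ^ i)⁻¹ * (z ^ j)⁻¹) = v * (z' ^ i)⁻¹ * (z ^ j)⁻¹ := by
      rw [map_mul, h1, map_inv, map_pow, htfix]
    refine ⟨v * (z' ^ i)⁻¹ * (z ^ j)⁻¹, by rw [hCdef]; exact ⟨h3, h2⟩, z ^ j * z' ^ i,
      W.mul_mem (W.pow_mem hzW j) (W.pow_mem hz'W i), ?_⟩
    group
  -- restriction to `W`
  obtain ⟨ρ, hρ⟩ : ∃ ρ : 𝔅 →* MulAut W, ρ = resAut 𝔅 W hinvW := ⟨_, rfl⟩
  have hρ_apply : ∀ (β : 𝔅) (w : W), ((ρ β w : W) : V) = β.1 w := fun β w => by rw [hρ]; rfl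
  obtain ⟨tW, htWdef⟩ : ∃ tW : MulAut W, tW = ρ ⟨t, ht𝔅⟩ := ⟨_, rfl⟩
  obtain ⟨t'W, ht'Wdef⟩ : ∃ t'W : MulAut W, t'W = ρ ⟨t', ht'𝔅⟩ := ⟨_, rfl⟩
  have htW1 : tW ≠ 1 := by
    intro h
    apply htne
    have h1 := congrArg (fun f : MulAut W => ((f ⟨z', hz'W⟩ : W) : V)) h
    simp only [htWdef, hρ_apply, MulAut.one_apply] at h1
    exact h1
  have htWa : tW ^ p ^ a = 1 := by
    rw [htWdef, ← map_pow]
    have : (⟨t, ht𝔅⟩ : 𝔅) ^ p ^ a = 1 := Subtype.ext hta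
    rw [this, map_one]
  have ht'Wb : t'W ^ p ^ b = 1 := by
    rw [ht'Wdef, ← map_pow]
    have : (⟨t', ht'𝔅⟩ : 𝔅) ^ p ^ b = 1 := Subtype.ext ht'b
    rw [this, map_one]
  have hne : t'W ∉ Subgroup.zpowers tW := by
    intro h
    have h1 : Subgroup.zpowers tW ≤ fixSub ({⟨z, hzW⟩} : Set W) := by
      rw [Subgroup.zpowers_le, mem_fixSub]
      intro c hc
      rw [Set.mem_singleton_iff] at hc
      rw [hc]
      apply Subtype.ext
      rw [htWdef, hρ_apply]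
      exact htfix
    have h2 := h1 h
    rw [mem_fixSub] at h2
    have h3 := congrArg Subtype.val (h2 ⟨z, hzW⟩ rfl)
    rw [ht'Wdef, hρ_apply] at h3
    exact ht'ne h3
  have hWc : ∀ x y : W, x * y = y * x := fun x y => mul_comm x y
  have hWe : ∀ x : W, x ^ p = 1 := fun x => Subtype.ext (by simpa using hVe x)
  have hWcard : Nat.card W ≤ p ^ 2 := by
    have hsurj : Function.Surjective (fun xy : Zs × Zs' => (⟨(xy.1 : V) * (xy.2 : V),
        W.mul_mem (hZsW xy.1.2) (hZs'W xy.2.2)⟩ : W)) := by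
      rintro ⟨w, hw⟩
      rw [hWdef, Subgroup.mem_sup] at hw
      obtain ⟨x, hx, y, hy, rfl⟩ := hw
      exact ⟨(⟨x, hx⟩, ⟨y, hy⟩), rfl⟩
    have h1 := Nat.card_le_card_of_surjective _ hsurj
    rw [Nat.card_prod, hZscard, hZs'card] at h1
    rw [pow_two]
    exact h1
  obtain ⟨-, τW, ⟨τ, hτ⟩, hτW⟩ := exists_inverting hp2 hWc hWe hWcard ρ.range tW t'W
    (htWdef ▸ ⟨_, rfl⟩) (ht'Wdef ▸ ⟨_, rfl⟩) htW1 htWa ht'Wb hne
  have hτinv : ∀ w ∈ W, τ.1 w = w⁻¹ := by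
    intro w hw
    have h1 := congrArg Subtype.val (hτW ⟨w, hw⟩)
    rw [← hτ, hρ_apply] at h1
    exact h1
  have hτinv' : ∀ w ∈ W, τ.1⁻¹ w = w⁻¹ := by
    intro w hw
    have h1 := hτinv _ (W.inv_mem hw)
    rw [inv_inv] at h1
    calc τ.1⁻¹ w = τ.1⁻¹ (τ.1 w⁻¹) := by rw [h1]
      _ = w⁻¹ := MulAut.inv_apply_self _ _ _
  have hτC : ∀ c ∈ C, τ.1 c = c := fun c hc => h𝔅C τ.2 c hc
  have hτC' : ∀ c ∈ C, τ.1⁻¹ c = c := fun c hc => h𝔅C (𝔅.inv_mem τ.2) c hc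
  refine ⟨τ.1, h𝔅def ▸ τ.2, hτinv z hzW, ?_⟩
  ext v
  obtain ⟨c, hc, w, hw, rfl⟩ := hdec v
  have hcC := hc
  rw [hCdef] at hc
  rw [MulAut.mul_apply, MulAut.mul_apply, map_mul, map_mul, map_mul, map_mul, hτC' c hcC, hτinv' w hw, hc.1,
    hτC c hcC, hτinv _ (htW _ (W.inv_mem hw)), map_inv, inv_inv]

end Trans

end Cfsg.Agent.Lib.Helper87
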