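import Cfsg.Agent.Lib.Helper53.SpReg.Basic

set_option autoImplicit false

/-!
helper87, module S2281-[CMUL] of helper53's S2281 project: multiplication by `c` on the short
root parameters (`n ≥ 3`), plus the generic commutator lemma used by [CMUL] and [MIX].
-/

namespace Cfsg.Agent.Lib.Helper87.SpReg

open Cfsg.Agent.Lib.Helper53.SpReg

/-- generic commutator computation: if `A * B = X * B * A`, `z` commutes with `w`, `B`
and `w` commutes with `A`, `X`, then `(A z)(w B) = X (w B)(A z)`. -/
theorem comm_rel_aux {G : Type*} [Group G] (A B z w X : G) (hrel : A * B = X * B * A)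
    (hzw : Commute z w) (hzB : Commute z B) (hwA : Commute w A)
    (hwX : Commute w X) : (A * z) * (w * B) = X * ((w * B) * (A * z)) := by
  calc (A * z) * (w * B) = A * (z * w) * B := by group
    _ = A * (w * z) * B := by rw [hzw.eq]
    _ = A * w * (z * B) := by group
    _ = A * w * (B * z) := by rw [hzB.eq]
    _ = (A * w) * B * z := by group
    _ = (w * A) * B * z := by rw [hwA.eq]
    _ = w * (A * B) * z := by group
    _ = w * (X * B * A) * z := by rw [hrel]
    _ = (w * X) * B * A * z := by group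
    _ = (X * w) * B * A * z := by rw [hwX.eq]
    _ = X * ((w * B) * (A * z)) := by group

/-- membership form of `comm_rel_aux` -/
theorem mem_of_comm_rel {G : Type*} [Group G] (H : Subgroup G) (A B z w X : G)
    (hrel : A * B = X * B * A)
    (hzw : Commute z w) (hzB : Commute z B) (hwA : Commute w A)
    (hwX : Commute w X) (hP : A * z ∈ H) (hQ : w * B ∈ H) : X ∈ H := by
  have key := comm_rel_aux A B z w X hrel hzw hzB hwA hwX
  have : X = (A * z) * (w * B) * ((w * B) * (A * z))⁻¹ := by
    rw [key]; group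
  rw [this]
  exact H.mul_mem (H.mul_mem hP hQ) (H.inv_mem (H.mul_mem hQ hP))

variable {F : Type*} [Field F] {G : Type*} [Group G] {n : ℕ} {R : RootSys F G n}
  {H : Subgroup G} {c : F}

theorem cmul_mem (hn : 3 ≤ n) (h : Gen R H c) (k m : ℤ) (hm1 : k - (n : ℤ) < m) (hm2 : m < k - 1)
    (t : F) (ht : R.S (k - (n : ℤ)) m t ∈ H) : R.S (k - 1) m (c * t) ∈ H := by
  have hn' : (3 : ℤ) ≤ (n : ℤ) := by exact_mod_cast hn
  -- E ∈ H
  have hE : R.S (k - 1) k c * R.S (k - 2) (k - 1) (-c) ∈ H := by
    have h0 := h.hE (k - 2) (k - 1)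
    have e1 : k - 1 + 1 = k := by ring
    have e2 : k - 2 + 1 = k - 1 := by ring
    rw [e1, e2] at h0
    exact h0
  have hrel := R.rel_SS (k - 1) k m c t (by omega) (by omega) hm1 (by omega) (by omega)
  -- d commutes with y
  have hdy : Commute (R.S (k - 2) (k - 1) (-c)) (R.S (k - (n : ℤ)) m t) := by
    apply R.SS_comm <;> rw [abs_lt] <;> constructor <;> omega
  have hQ : (1 : G) * R.S (k - (n : ℤ)) m t ∈ H := by rw [one_mul]; exact ht
  exact mem_of_comm_rel H (R.S (k - 1) k c) (R.S (k - (n : ℤ)) m t) (R.S (k - 2) (k - 1) (-c)) 1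
    (R.S (k - 1) m (c * t)) hrel (Commute.one_right _) hdy (Commute.one_left _)
    (Commute.one_left _) hE hQ

end Cfsg.Agent.Lib.Helper87.SpReg
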